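import Cfsg.Prelude.Def_LocalEven
import Cfsg.Prelude.Def_PLocal

set_option autoImplicit false

namespace Cfsg.Agent.Lib.Helper53

open Matrix

section QdBasic

variable {F : Type*} [Field F]

/-- The affine subgroup of `SL₃(F)`: last row `(0,0,1)`. -/
def affSub (F : Type*) [Field F] : Subgroup (Matrix.SpecialLinearGroup (Fin 3) F) where
  carrier := {M | (M : Matrix (Fin 3) (Fin 3) F) 2 0 = 0 ∧
    (M : Matrix (Fin 3) (Fin 3) F) 2 1 = 0 ∧ (M : Matrix (Fin 3) (Fin 3) F) 2 2 = 1}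
  mul_mem' := by
    rintro M N ⟨h0, h1, h2⟩ ⟨k0, k1, k2⟩
    simp only [Set.mem_ofPred_eq, Matrix.SpecialLinearGroup.coe_mul, Matrix.mul_apply,
      Fin.sum_univ_three, h0, h1, h2, k0, k1, k2]
    simp
  one_mem' := by
    simp
  inv_mem' := by
    rintro M ⟨h0, h1, h2⟩
    have hrow : (Pi.single 2 1 : Fin 3 → F) ᵥ* (M : Matrix (Fin 3) (Fin 3) F) = Pi.single 2 1 := by
      rw [Matrix.single_one_vecMul]
      ext j
      fin_cases j <;> simp [Matrix.row, h0, h1, h2]
    have h1' : (M : Matrix (Fin 3) (Fin 3) F) * ((M⁻¹ : Matrix.SpecialLinearGroup (Fin 3) F) : Matrix (Fin 3) (Fin 3) F) = 1 := by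
      rw [← Matrix.SpecialLinearGroup.coe_mul, mul_inv_cancel, Matrix.SpecialLinearGroup.coe_one]
    have hrow' : (Pi.single 2 1 : Fin 3 → F) ᵥ* ((M⁻¹ : Matrix.SpecialLinearGroup (Fin 3) F) : Matrix (Fin 3) (Fin 3) F) = Pi.single 2 1 := by
      conv_lhs => rw [← hrow]
      rw [Matrix.vecMul_vecMul, h1', Matrix.vecMul_one]
    rw [Matrix.single_one_vecMul] at hrow'
    have e0 := congrFun hrow' 0
    have e1 := congrFun hrow' 1
    have e2 := congrFun hrow' 2
    simp [Matrix.row] at e0 e1 e2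
    exact ⟨e0, e1, e2⟩

theorem mem_affSub_iff (M : Matrix.SpecialLinearGroup (Fin 3) F) :
    M ∈ affSub F ↔ (M : Matrix (Fin 3) (Fin 3) F) 2 0 = 0 ∧
    (M : Matrix (Fin 3) (Fin 3) F) 2 1 = 0 ∧ (M : Matrix (Fin 3) (Fin 3) F) 2 2 = 1 := Iff.rfl

theorem qdOver_eq_affSub : Cfsg.qdOver F = affSub F := by
  unfold Cfsg.qdOver
  exact Subgroup.closure_eq (affSub F)

theorem mem_qdOver_iff (M : Matrix.SpecialLinearGroup (Fin 3) F) :
    M ∈ Cfsg.qdOver F ↔ (M : Matrix (Fin 3) (Fin 3) F) 2 0 = 0 ∧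
    (M : Matrix (Fin 3) (Fin 3) F) 2 1 = 0 ∧ (M : Matrix (Fin 3) (Fin 3) F) 2 2 = 1 := by
  rw [qdOver_eq_affSub]; exact Iff.rfl

/-- entries of the last row of an element of `qdOver F` -/
theorem qd_row (M : ↥(Cfsg.qdOver F)) :
    ((M : Matrix.SpecialLinearGroup (Fin 3) F) : Matrix (Fin 3) (Fin 3) F) 2 0 = 0 ∧
    ((M : Matrix.SpecialLinearGroup (Fin 3) F) : Matrix (Fin 3) (Fin 3) F) 2 1 = 0 ∧
    ((M : Matrix.SpecialLinearGroup (Fin 3) F) : Matrix (Fin 3) (Fin 3) F) 2 2 = 1 :=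
  (mem_qdOver_iff _).1 M.2

/-- the matrix of an element of `qdOver F` -/
def qmat (M : ↥(Cfsg.qdOver F)) : Matrix (Fin 3) (Fin 3) F :=
  ((M : Matrix.SpecialLinearGroup (Fin 3) F) : Matrix (Fin 3) (Fin 3) F)

theorem qmat_mul (M N : ↥(Cfsg.qdOver F)) : qmat (M * N) = qmat M * qmat N := by
  simp [qmat]

theorem qmat_one : qmat (1 : ↥(Cfsg.qdOver F)) = 1 := by
  simp [qmat]

theorem qmat_inj {M N : ↥(Cfsg.qdOver F)} (h : qmat M = qmat N) : M = N := by
  apply Subtype.ext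
  apply Subtype.ext
  exact h

theorem qmat_20 (M : ↥(Cfsg.qdOver F)) : qmat M 2 0 = 0 := (qd_row M).1
theorem qmat_21 (M : ↥(Cfsg.qdOver F)) : qmat M 2 1 = 0 := (qd_row M).2.1
theorem qmat_22 (M : ↥(Cfsg.qdOver F)) : qmat M 2 2 = 1 := (qd_row M).2.2

theorem qmat_det (M : ↥(Cfsg.qdOver F)) : (qmat M).det = 1 := M.1.2

theorem qmat_det' (M : ↥(Cfsg.qdOver F)) :
    qmat M 0 0 * qmat M 1 1 - qmat M 0 1 * qmat M 1 0 = 1 := by
  have h := qmat_det M
  rw [Matrix.det_fin_three, qmat_20, qmat_21, qmat_22] at h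
  linear_combination h

/-- entries of a product -/
theorem qmat_mul_apply (M N : ↥(Cfsg.qdOver F)) (i j : Fin 3) :
    qmat (M * N) i j = qmat M i 0 * qmat N 0 j + qmat M i 1 * qmat N 1 j + qmat M i 2 * qmat N 2 j := by
  rw [qmat_mul, Matrix.mul_apply, Fin.sum_univ_three]

/-- build an element of `qdOver F` from entries -/
def qmk (a b c d e f : F) (h : a * d - b * c = 1) : ↥(Cfsg.qdOver F) :=
  ⟨⟨!![a, b, e; c, d, f; 0, 0, 1], by rw [Matrix.det_fin_three]; simp; linear_combination h⟩,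
    (mem_qdOver_iff _).2 ⟨by simp, by simp, by simp⟩⟩

theorem qmat_qmk (a b c d e f : F) (h : a * d - b * c = 1) :
    qmat (qmk a b c d e f h) = !![a, b, e; c, d, f; 0, 0, 1] := rfl

theorem qmat_eq (M : ↥(Cfsg.qdOver F)) :
    qmat M = !![qmat M 0 0, qmat M 0 1, qmat M 0 2; qmat M 1 0, qmat M 1 1, qmat M 1 2; 0, 0, 1] := by
  ext i j
  fin_cases i <;> fin_cases j <;> simp [qmat_20, qmat_21, qmat_22]

/-- linear part, as a function -/
def qlinFun (M : ↥(Cfsg.qdOver F)) : Matrix.SpecialLinearGroup (Fin 2) F :=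
  ⟨!![qmat M 0 0, qmat M 0 1; qmat M 1 0, qmat M 1 1], by
    rw [Matrix.det_fin_two]; simpa using qmat_det' M⟩

theorem qlinFun_coe (M : ↥(Cfsg.qdOver F)) :
    ((qlinFun M : Matrix.SpecialLinearGroup (Fin 2) F) : Matrix (Fin 2) (Fin 2) F) =
      !![qmat M 0 0, qmat M 0 1; qmat M 1 0, qmat M 1 1] := rfl

/-- linear part -/
def qlin : ↥(Cfsg.qdOver F) →* Matrix.SpecialLinearGroup (Fin 2) F where
  toFun := qlinFun
  map_one' := by
    apply Matrix.SpecialLinearGroup.ext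
    intro i j
    rw [qlinFun_coe]
    fin_cases i <;> fin_cases j <;> simp [qmat_one]
  map_mul' M N := by
    apply Matrix.SpecialLinearGroup.ext
    intro i j
    rw [Matrix.SpecialLinearGroup.coe_mul, qlinFun_coe, qlinFun_coe, qlinFun_coe]
    fin_cases i <;> fin_cases j <;>
      simp [qmat_mul_apply, Matrix.mul_apply, Fin.sum_univ_two,
        qmat_20, qmat_21]

theorem qlin_coe (M : ↥(Cfsg.qdOver F)) :
    ((qlin M : Matrix.SpecialLinearGroup (Fin 2) F) : Matrix (Fin 2) (Fin 2) F) =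
      !![qmat M 0 0, qmat M 0 1; qmat M 1 0, qmat M 1 1] := rfl

/-- block-diagonal embedding, as a function -/
def qembFun (A : Matrix.SpecialLinearGroup (Fin 2) F) : ↥(Cfsg.qdOver F) :=
  qmk ((A : Matrix (Fin 2) (Fin 2) F) 0 0) ((A : Matrix (Fin 2) (Fin 2) F) 0 1)
    ((A : Matrix (Fin 2) (Fin 2) F) 1 0) ((A : Matrix (Fin 2) (Fin 2) F) 1 1) 0 0 (by
      have h := A.2
      rw [Matrix.det_fin_two] at h
      exact h)

theorem qmat_qembFun (A : Matrix.SpecialLinearGroup (Fin 2) F) :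
    qmat (qembFun A) = !![(A : Matrix (Fin 2) (Fin 2) F) 0 0, (A : Matrix (Fin 2) (Fin 2) F) 0 1, 0;
      (A : Matrix (Fin 2) (Fin 2) F) 1 0, (A : Matrix (Fin 2) (Fin 2) F) 1 1, 0; 0, 0, 1] := rfl

/-- block-diagonal embedding -/
def qemb : Matrix.SpecialLinearGroup (Fin 2) F →* ↥(Cfsg.qdOver F) where
  toFun := qembFun
  map_one' := by
    apply qmat_inj
    rw [qmat_qembFun, qmat_one]
    ext i j
    fin_cases i <;> fin_cases j <;> simp
  map_mul' A B := by
    apply qmat_inj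
    rw [qmat_mul, qmat_qembFun, qmat_qembFun, qmat_qembFun, Matrix.SpecialLinearGroup.coe_mul]
    ext i j
    fin_cases i <;> fin_cases j <;>
      simp [Matrix.mul_apply, Fin.sum_univ_two, Fin.sum_univ_three]

theorem qmat_qemb (A : Matrix.SpecialLinearGroup (Fin 2) F) :
    qmat (qemb A) = !![(A : Matrix (Fin 2) (Fin 2) F) 0 0, (A : Matrix (Fin 2) (Fin 2) F) 0 1, 0;
      (A : Matrix (Fin 2) (Fin 2) F) 1 0, (A : Matrix (Fin 2) (Fin 2) F) 1 1, 0; 0, 0, 1] := rfl

theorem qlin_qemb (A : Matrix.SpecialLinearGroup (Fin 2) F) : qlin (qemb A) = A := by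
  apply Matrix.SpecialLinearGroup.ext
  intro i j
  rw [qlin_coe, qmat_qemb]
  fin_cases i <;> fin_cases j <;> simp

theorem qlin_surjective : Function.Surjective (qlin (F := F)) := fun A => ⟨qemb A, qlin_qemb A⟩

theorem qemb_injective : Function.Injective (qemb (F := F)) := fun A B h => by
  rw [← qlin_qemb A, ← qlin_qemb B, h]

/-- translation -/
def qtr (u : Fin 2 → F) : ↥(Cfsg.qdOver F) := qmk 1 0 0 1 (u 0) (u 1) (by ring)

theorem qmat_qtr (u : Fin 2 → F) : qmat (qtr u) = !![1, 0, u 0; 0, 1, u 1; 0, 0, 1] := rfl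

theorem qtr_add (u v : Fin 2 → F) : qtr (u + v) = qtr u * qtr v := by
  apply qmat_inj
  rw [qmat_mul, qmat_qtr, qmat_qtr, qmat_qtr]
  ext i j
  fin_cases i <;> fin_cases j <;>
    simp [Matrix.mul_apply, Fin.sum_univ_three, add_comm]

theorem qtr_zero : qtr (0 : Fin 2 → F) = 1 := by
  apply qmat_inj
  rw [qmat_qtr, qmat_one]
  ext i j
  fin_cases i <;> fin_cases j <;> simp

theorem qtr_injective : Function.Injective (qtr (F := F)) := fun u v h => by
  have h' := congrArg qmat h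
  rw [qmat_qtr, qmat_qtr] at h'
  ext i
  fin_cases i
  · simpa using congrFun (congrFun h' 0) 2
  · simpa using congrFun (congrFun h' 1) 2

theorem qlin_qtr (u : Fin 2 → F) : qlin (qtr u) = 1 := by
  apply Matrix.SpecialLinearGroup.ext
  intro i j
  rw [qlin_coe, qmat_qtr]
  fin_cases i <;> fin_cases j <;> simp

/-- the translation part -/
def qtrans (M : ↥(Cfsg.qdOver F)) : Fin 2 → F := ![qmat M 0 2, qmat M 1 2]

/-- every element is translation times block-diagonal -/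
theorem q_decomp (M : ↥(Cfsg.qdOver F)) : M = qtr (qtrans M) * qemb (qlin M) := by
  apply qmat_inj
  rw [qmat_mul, qmat_qtr, qmat_qemb, qlin_coe]
  conv_lhs => rw [qmat_eq M]
  ext i j
  fin_cases i <;> fin_cases j <;>
    simp [Matrix.mul_apply, Fin.sum_univ_three, qtrans]

theorem mem_ker_qlin_iff (M : ↥(Cfsg.qdOver F)) :
    M ∈ (qlin (F := F)).ker ↔ qmat M 0 0 = 1 ∧ qmat M 0 1 = 0 ∧ qmat M 1 0 = 0 ∧ qmat M 1 1 = 1 := by
  rw [MonoidHom.mem_ker]
  constructor
  · intro h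
    have h' := congrArg (fun A : Matrix.SpecialLinearGroup (Fin 2) F => (A : Matrix (Fin 2) (Fin 2) F)) h
    simp only [qlin_coe, Matrix.SpecialLinearGroup.coe_one] at h'
    refine ⟨?_, ?_, ?_, ?_⟩
    · simpa using congrFun (congrFun h' 0) 0
    · simpa using congrFun (congrFun h' 0) 1
    · simpa using congrFun (congrFun h' 1) 0
    · simpa using congrFun (congrFun h' 1) 1
  · rintro ⟨h00, h01, h10, h11⟩
    apply Matrix.SpecialLinearGroup.ext
    intro i j
    rw [qlin_coe, h00, h01, h10, h11]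
    fin_cases i <;> fin_cases j <;> simp

theorem mem_ker_qlin_iff_eq_qtr (M : ↥(Cfsg.qdOver F)) :
    M ∈ (qlin (F := F)).ker ↔ M = qtr (qtrans M) := by
  constructor
  · intro h
    conv_lhs => rw [q_decomp M]
    rw [MonoidHom.mem_ker] at h
    rw [h, map_one, mul_one]
  · intro h
    rw [MonoidHom.mem_ker, h, qlin_qtr]

theorem mem_range_qemb_iff (M : ↥(Cfsg.qdOver F)) :
    M ∈ (qemb (F := F)).range ↔ qmat M 0 2 = 0 ∧ qmat M 1 2 = 0 := by
  constructor
  · rintro ⟨A, rfl⟩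
    rw [qmat_qemb]
    simp
  · rintro ⟨h0, h1⟩
    refine ⟨qlin M, ?_⟩
    conv_rhs => rw [q_decomp M]
    have : qtrans M = 0 := by
      ext i
      fin_cases i <;> simp [qtrans, h0, h1]
    rw [this, qtr_zero, one_mul]

theorem sl2_smul_apply (A : Matrix.SpecialLinearGroup (Fin 2) F) (u : Fin 2 → F) (i : Fin 2) :
    (A • u) i = (A : Matrix (Fin 2) (Fin 2) F) i 0 * u 0 + (A : Matrix (Fin 2) (Fin 2) F) i 1 * u 1 := by
  rw [Matrix.SpecialLinearGroup.smul_def]
  show ((A : Matrix (Fin 2) (Fin 2) F) *ᵥ u) i = _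
  rw [Matrix.mulVec, dotProduct, Fin.sum_univ_two]

/-- build an element of `SL₂(F)` from entries -/
def sl2mk (a b c d : F) (h : a * d - b * c = 1) : Matrix.SpecialLinearGroup (Fin 2) F :=
  ⟨!![a, b; c, d], by rw [Matrix.det_fin_two]; simpa using h⟩

theorem sl2mk_coe (a b c d : F) (h : a * d - b * c = 1) :
    ((sl2mk a b c d h : Matrix.SpecialLinearGroup (Fin 2) F) : Matrix (Fin 2) (Fin 2) F) =
      !![a, b; c, d] := rfl

/-- `SL₂(F)` is transitive on nonzero vectors. -/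
theorem exists_sl2_smul_eq (w : Fin 2 → F) (hw : w ≠ 0) :
    ∃ A : Matrix.SpecialLinearGroup (Fin 2) F, A • (![1, 0] : Fin 2 → F) = w := by
  by_cases h0 : w 0 = 0
  · have h1 : w 1 ≠ 0 := by
      intro h1
      apply hw
      ext i
      fin_cases i
      · exact h0
      · exact h1
    refine ⟨sl2mk (w 0) (-(w 1)⁻¹) (w 1) 0 (by simp [h1]), ?_⟩
    ext i
    rw [sl2_smul_apply, sl2mk_coe]
    fin_cases i <;> simp
  · refine ⟨sl2mk (w 0) 0 (w 1) (w 0)⁻¹ (by simp [h0]), ?_⟩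
    ext i
    rw [sl2_smul_apply, sl2mk_coe]
    fin_cases i <;> simp

/-- A normal `p`-subgroup of `Qd` over a field of characteristic `p` consists of translations. -/
theorem normal_pGroup_le_ker_qlin [Fintype F] {p : ℕ} [Fact p.Prime] [CharP F p]
    (N : Subgroup ↥(Cfsg.qdOver F)) (hN : N.Normal) (hp : IsPGroup p N) :
    N ≤ (qlin (F := F)).ker := by
  classical
  let _ : MulAction N (Fin 2 → F) := MulAction.compHom (Fin 2 → F) ((qlin (F := F)).comp N.subtype)
  have hsmul : ∀ (n : N) (u : Fin 2 → F), n • u = qlin (n : ↥(Cfsg.qdOver F)) • u := fun n u => rfl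
  have hdvd : p ∣ Nat.card (Fin 2 → F) := by
    rw [Nat.card_eq_fintype_card, Fintype.card_fun, Fintype.card_fin]
    obtain ⟨n, hpp, hn⟩ := FiniteField.card F p
    rw [hn]
    exact dvd_pow (dvd_pow_self p n.ne_zero) two_ne_zero
  have h0 : (0 : Fin 2 → F) ∈ MulAction.fixedPoints N (Fin 2 → F) := fun n => by
    rw [hsmul, smul_zero]
  obtain ⟨b, hb, hb0⟩ := hp.exists_fixed_point_of_prime_dvd_card_of_fixed_point (Fin 2 → F) hdvd h0
  have hfix : ∀ M ∈ N, qlin M • b = b := fun M hM => hb ⟨M, hM⟩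
  have hinv : ∀ (A : Matrix.SpecialLinearGroup (Fin 2) F) (u : Fin 2 → F),
      (∀ M ∈ N, qlin M • u = u) → ∀ M ∈ N, qlin M • (A • u) = A • u := by
    intro A u hu M hM
    have h := hu ((qemb A)⁻¹ * M * qemb A) (by simpa using hN.conj_mem M hM (qemb A)⁻¹)
    rw [map_mul, map_mul, map_inv, qlin_qemb, mul_smul, mul_smul, inv_smul_eq_iff] at h
    exact h
  obtain ⟨B, hB⟩ := exists_sl2_smul_eq b (Ne.symm hb0)
  have he : ∀ M ∈ N, qlin M • (![1, 0] : Fin 2 → F) = ![1, 0] := by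
    have : (![1, 0] : Fin 2 → F) = B⁻¹ • b := by rw [← hB, inv_smul_smul]
    rw [this]
    exact hinv B⁻¹ b hfix
  have hall : ∀ w : Fin 2 → F, ∀ M ∈ N, qlin M • w = w := by
    intro w
    by_cases hw : w = 0
    · intro M _
      rw [hw, smul_zero]
    · obtain ⟨A, hA⟩ := exists_sl2_smul_eq w hw
      rw [← hA]
      exact hinv A _ he
  intro M hM
  rw [mem_ker_qlin_iff]
  have e0 := hall ![1, 0] M hM
  have e1 := hall ![0, 1] M hM
  have e00 := congrFun e0 0
  have e01 := congrFun e0 1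
  have e10 := congrFun e1 0
  have e11 := congrFun e1 1
  rw [sl2_smul_apply, qlin_coe] at e00 e01 e10 e11
  simp at e00 e01 e10 e11
  exact ⟨e00, e10, e01, e11⟩

theorem qtr_nsmul (n : ℕ) (u : Fin 2 → F) : qtr (n • u) = qtr u ^ n := by
  induction n with
  | zero => simp [qtr_zero]
  | succ k ih => rw [succ_nsmul, qtr_add, ih, pow_succ]

theorem qtrans_qtr (u : Fin 2 → F) : qtrans (qtr u) = u := by
  ext i
  fin_cases i <;> simp [qtrans, qmat_qtr]

theorem ker_qlin_isPGroup {p : ℕ} [Fact p.Prime] [CharP F p] :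
    IsPGroup p (qlin (F := F)).ker := by
  rintro ⟨M, hM⟩
  refine ⟨1, ?_⟩
  apply Subtype.ext
  rw [pow_one]
  show M ^ p = 1
  rw [(mem_ker_qlin_iff_eq_qtr M).1 hM, ← qtr_nsmul, ← Nat.cast_smul_eq_nsmul F,
    CharP.cast_eq_zero, zero_smul, qtr_zero]

theorem pCore_qdOver_eq_ker [Fintype F] {p : ℕ} [Fact p.Prime] [CharP F p] :
    Cfsg.pCore p ↥(Cfsg.qdOver F) = (qlin (F := F)).ker := by
  apply le_antisymm
  · apply normal_pGroup_le_ker_qlin (p := p)
    · unfold Cfsg.pCore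
      exact Subgroup.sSup_normal _ (fun H hH => hH.1)
    · unfold Cfsg.pCore
      exact Sylow.sSup_of_normal _ (fun H hH => hH.2) (fun H hH => hH.1)
  · exact le_sSup ⟨inferInstance, ker_qlin_isPGroup⟩

/-- conjugation of a translation by a block-diagonal element -/
theorem qemb_mul_qtr (A : Matrix.SpecialLinearGroup (Fin 2) F) (u : Fin 2 → F) :
    qemb A * qtr u = qtr (A • u) * qemb A := by
  apply qmat_inj
  rw [qmat_mul, qmat_mul, qmat_qtr, qmat_qtr, qmat_qemb, sl2_smul_apply, sl2_smul_apply]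
  ext i j
  fin_cases i <;> fin_cases j <;>
    simp [Matrix.mul_apply, Fin.sum_univ_three]

theorem qemb_conj_qtr (A : Matrix.SpecialLinearGroup (Fin 2) F) (u : Fin 2 → F) :
    qemb A * qtr u * (qemb A)⁻¹ = qtr (A • u) := by
  rw [qemb_mul_qtr, mul_inv_cancel_right]

theorem sl2_eq_one_of_smul (A : Matrix.SpecialLinearGroup (Fin 2) F)
    (h : ∀ u : Fin 2 → F, A • u = u) : A = 1 := by
  apply Matrix.SpecialLinearGroup.ext
  intro i j
  have e0 := congrFun (h ![1, 0]) i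
  have e1 := congrFun (h ![0, 1]) i
  rw [sl2_smul_apply] at e0 e1
  rw [Matrix.SpecialLinearGroup.coe_one]
  fin_cases i <;> fin_cases j <;> simp at e0 e1 ⊢ <;> assumption

/-- the additive isomorphism from the translation group to `F²` -/
def qpsi : Additive ↥((qlin (F := F)).ker) ≃+ (Fin 2 → F) where
  toFun v := qtrans ((Additive.toMul v : ↥((qlin (F := F)).ker)) : ↥(Cfsg.qdOver F))
  invFun u := Additive.ofMul ⟨qtr u, by rw [MonoidHom.mem_ker, qlin_qtr]⟩
  left_inv v := by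
    have h := (mem_ker_qlin_iff_eq_qtr _).1 (Additive.toMul v).2
    apply Additive.toMul.injective
    apply Subtype.ext
    exact h.symm
  right_inv u := qtrans_qtr u
  map_add' v w := by
    have hv := (mem_ker_qlin_iff_eq_qtr _).1 (Additive.toMul v).2
    have hw := (mem_ker_qlin_iff_eq_qtr _).1 (Additive.toMul w).2
    show qtrans (((Additive.toMul v : ↥((qlin (F := F)).ker)) : ↥(Cfsg.qdOver F)) *
      ((Additive.toMul w : ↥((qlin (F := F)).ker)) : ↥(Cfsg.qdOver F))) = _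
    conv_lhs => rw [hv, hw, ← qtr_add, qtrans_qtr]

theorem qpsi_apply (v : ↥((qlin (F := F)).ker)) :
    qpsi (Additive.ofMul v) = qtrans (v : ↥(Cfsg.qdOver F)) := rfl

theorem qtrans_mul (M N : ↥(Cfsg.qdOver F)) :
    qtrans (M * N) = qlin M • qtrans N + qtrans M := by
  ext i
  rw [Pi.add_apply, sl2_smul_apply, qlin_coe]
  fin_cases i <;> simp [qtrans, qmat_mul_apply, qmat_22]

theorem qtrans_one : qtrans (1 : ↥(Cfsg.qdOver F)) = 0 := by
  ext i
  fin_cases i <;> simp [qtrans, qmat_one]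

theorem qtrans_qemb (A : Matrix.SpecialLinearGroup (Fin 2) F) : qtrans (qemb A) = 0 := by
  ext i
  fin_cases i <;> simp [qtrans, qmat_qemb]

/-- `Qd` is in bijection with pairs (translation, linear part) -/
def qEquivProd : ↥(Cfsg.qdOver F) ≃ (Fin 2 → F) × Matrix.SpecialLinearGroup (Fin 2) F where
  toFun M := (qtrans M, qlin M)
  invFun x := qtr x.1 * qemb x.2
  left_inv M := (q_decomp M).symm
  right_inv x := by
    apply Prod.ext
    · show qtrans (qtr x.1 * qemb x.2) = x.1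
      rw [qtrans_mul, qtrans_qemb, smul_zero, zero_add, qtrans_qtr]
    · show qlin (qtr x.1 * qemb x.2) = x.2
      rw [map_mul, qlin_qtr, one_mul, qlin_qemb]

/-- the affine action of `Qd` on `F²` -/
def qaff : MulAction ↥(Cfsg.qdOver F) (Fin 2 → F) where
  smul M u := qlin M • u + qtrans M
  one_smul u := by
    show qlin (1 : ↥(Cfsg.qdOver F)) • u + qtrans (1 : ↥(Cfsg.qdOver F)) = u
    rw [map_one, one_smul, qtrans_one, add_zero]
  mul_smul M N u := by
    show qlin (M * N) • u + qtrans (M * N) = qlin M • (qlin N • u + qtrans N) + qtrans M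
    rw [map_mul, mul_smul, qtrans_mul, smul_add, add_assoc]

theorem qaff_faithful (M : ↥(Cfsg.qdOver F))
    (h : ∀ u : Fin 2 → F, qlin M • u + qtrans M = u) : M = 1 := by
  have h0 : qtrans M = 0 := by
    have := h 0
    rwa [smul_zero, zero_add] at this
  have h1 : qlin M = 1 := by
    apply sl2_eq_one_of_smul
    intro u
    have := h u
    rwa [h0, add_zero] at this
  rw [q_decomp M, h0, h1, qtr_zero, map_one, mul_one]

/-- the affine permutation representation of `Qd` -/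
def qaffHom : ↥(Cfsg.qdOver F) →* Equiv.Perm (Fin 2 → F) :=
  @MulAction.toPermHom ↥(Cfsg.qdOver F) (Fin 2 → F) _ qaff

theorem qaffHom_apply (M : ↥(Cfsg.qdOver F)) (u : Fin 2 → F) :
    qaffHom M u = qlin M • u + qtrans M := rfl

theorem qaffHom_injective : Function.Injective (qaffHom (F := F)) := by
  rw [injective_iff_map_eq_one]
  intro M hM
  apply qaff_faithful
  intro u
  rw [← qaffHom_apply, hM]
  rfl

end QdBasic

end Cfsg.Agent.Lib.Helper53
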