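import Mathlib
import Cfsg.Agent.Lib.Lead.ThompsonE

set_option autoImplicit false
open Cfsg
open Cfsg.Agent.Lib.Helper02 Cfsg.Agent.Lib.Helper97 Cfsg.Agent.Lib.Lead

namespace Cfsg.Agent.Lib.Helper53

universe u

/-- abstract hypothesis package for Thompson-type normal `p`-complement theorems:
`hyp H S` is a local hypothesis on a `p`-subgroup `S` of `H`, `Φ H` a global hypothesis
inherited by subgroups and quotients -/
structure NpcHyp (p : ℕ) (hyp : ∀ (H : Type u) [Group H], Subgroup H → Prop)
    (Φ : ∀ (H : Type u) [Group H], Prop) : Prop where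
  of_map : ∀ {H G : Type u} [Group H] [Group G] [Finite G] (f : H →* G), Function.Injective f →
    ∀ R : Subgroup H, IsPGroup p R → hyp G (R.map f) → hyp H R
  loc : ∀ {G : Type u} [Group G] [Finite G] (S : Subgroup G), IsPGroup p S → S ≠ ⊥ →
    (∀ X : Subgroup G, X ≤ S → X ≠ ⊥ →
      Subgroup.normalizer (S : Set G) ≤ Subgroup.normalizer (X : Set G) →
      HasNormalPComplement p ↥(Subgroup.normalizer (X : Set G))) → hyp G S
  quot : ∀ {G : Type u} [Group G] [Finite G] (N : Subgroup G) [N.Normal],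
    (Nat.card N).Coprime p → ∀ P : Sylow p G, hyp G (P : Subgroup G) →
      hyp (G ⧸ N) ((P : Subgroup G).map (QuotientGroup.mk' N))
  phi_sub : ∀ {H G : Type u} [Group H] [Group G] (f : H →* G), Function.Injective f → Φ G → Φ H
  phi_quot : ∀ {G H : Type u} [Group G] [Group H] (f : G →* H), Function.Surjective f → Φ G → Φ H

section Red
variable {p : ℕ} [Fact p.Prime] {hyp : ∀ (H : Type u) [Group H], Subgroup H → Prop}
  {Φ : ∀ (H : Type u) [Group H], Prop}

/-- the induction hypothesis -/
def NIH (p : ℕ) (hyp : ∀ (H : Type u) [Group H], Subgroup H → Prop)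
    (Φ : ∀ (H : Type u) [Group H], Prop) (G : Type u) [Group G] : Prop :=
  ∀ (G' : Type u) [Group G'] [Finite G'], Nat.card G' < Nat.card G → Φ G' →
    ∀ P' : Sylow p G', hyp G' (P' : Subgroup G') → HasNormalPComplement p G'

variable {G : Type u} [Group G] [Finite G]

theorem NpcHyp.conj (h : NpcHyp p hyp Φ) {P : Subgroup G} (hPp : IsPGroup p P) (hP : hyp G P)
    (g : G) : hyp G (P.map (MulAut.conj g).toMonoidHom) := by
  apply h.of_map (MulAut.conj g⁻¹).toMonoidHom (MulAut.conj g⁻¹).injective _ (hPp.map _)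
  have : (P.map (MulAut.conj g).toMonoidHom).map (MulAut.conj g⁻¹).toMonoidHom = P := by
    rw [Subgroup.map_map]
    ext x
    simp only [Subgroup.mem_map, MonoidHom.coe_comp, MulEquiv.coe_toMonoidHom, Function.comp_apply,
      MulAut.conj_apply]
    constructor
    · rintro ⟨y, hy, rfl⟩
      have : g⁻¹ * (g * y * g⁻¹) * g⁻¹⁻¹ = y := by group
      rw [this]; exact hy
    · intro hx
      exact ⟨x, hx, by group⟩
  rw [this]
  exact hP

theorem NpcHyp.sylow (h : NpcHyp p hyp Φ) (P P' : Sylow p G) (hP : hyp G (P : Subgroup G)) :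
    hyp G (P' : Subgroup G) := by
  obtain ⟨g, rfl⟩ := MulAction.exists_smul_eq G P P'
  have := h.conj P.2 hP g
  rw [Sylow.coe_subgroup_smul, Subgroup.pointwise_smul_def]
  exact this

/-- (A) proper subgroups containing a Sylow p-subgroup have a normal p-complement -/
theorem NpcHyp.stepA (h : NpcHyp p hyp Φ) (IH : NIH p hyp Φ G) (hΦ : Φ G)
    (hall : ∀ P' : Sylow p G, hyp G (P' : Subgroup G))
    (M : Subgroup G) (hM : M ≠ ⊤) (P' : Sylow p G) (hPM : (P' : Subgroup G) ≤ M) :
    HasNormalPComplement p ↥M := by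
  apply IH ↥M (card_lt_of_ne_top hM) (h.phi_sub M.subtype M.subtype_injective hΦ) (P'.subtype hPM)
  apply h.of_map M.subtype M.subtype_injective _ (P'.subtype hPM).2
  rw [Sylow.coe_subtype, Subgroup.subgroupOf_map_subtype, inf_of_le_left hPM]
  exact hall P'

/-- (B) in a minimal counterexample `O_p(G) ≠ 1` -/
theorem NpcHyp.stepB (h : NpcHyp p hyp Φ) (IH : NIH p hyp Φ G) (hΦ : Φ G)
    (hall : ∀ P' : Sylow p G, hyp G (P' : Subgroup G))
    (hG : ¬ HasNormalPComplement p G) : pCore p G ≠ ⊥ := by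
  classical
  have hp : p.Prime := Fact.out
  intro hbot
  have hex : ∃ Q : Subgroup G, IsPGroup p Q ∧ Q ≠ ⊥ ∧
      ¬ HasNormalPComplement p ↥(Subgroup.normalizer (Q : Set G)) := by
    by_contra hne
    push Not at hne
    exact hG (Helper41.hasNormalPComplement_of_local hne)
  let 𝒰 := {Q : Subgroup G // IsPGroup p Q ∧ Q ≠ ⊥ ∧
      ¬ HasNormalPComplement p ↥(Subgroup.normalizer (Q.1 : Set G))}
  haveI : Nonempty 𝒰 := let ⟨Q, hQ⟩ := hex; ⟨⟨Q, hQ⟩⟩
  obtain ⟨⟨U, hUp, hUne, hUbad⟩, hmax⟩ := Finite.exists_max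
    (fun Q : 𝒰 => (Nat.card (Subgroup.normalizer (Q.1 : Set G))).factorization p)
  set N := Subgroup.normalizer (U : Set G) with hN
  have hNtop : N ≠ ⊤ := by
    intro h'
    have hUn : U.Normal := Subgroup.normalizer_eq_top_iff.mp h'
    have := Helper81.le_pCore hUn hUp
    rw [hbot] at this
    exact hUne (le_bot_iff.mp this)
  obtain ⟨S'⟩ : Nonempty (Sylow p ↥N) := inferInstance
  set S := (S' : Subgroup ↥N).map N.subtype with hS
  have hSp : IsPGroup p S := S'.2.map _
  have hScard : Nat.card S = p ^ (Nat.card N).factorization p := by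
    rw [hS, Subgroup.card_map_of_injective N.subtype_injective]
    exact S'.card_eq_multiplicity
  have hUS : U ≤ S := by
    haveI : (U.subgroupOf N).Normal := Subgroup.normal_in_normalizer
    have hUp' : IsPGroup p (U.subgroupOf N) := hUp.comap_subtype
    have h1 : U.subgroupOf N ≤ S' := IsPGroup.le_sylow_of_normal hUp' S'
    intro x hx
    refine ⟨⟨x, Subgroup.le_normalizer hx⟩, h1 ?_, rfl⟩
    rw [Subgroup.mem_subgroupOf]
    exact hx
  have hSne : S ≠ ⊥ := fun h' => hUne (le_bot_iff.mp (h' ▸ hUS))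
  have hnh : ¬ hyp ↥N (S' : Subgroup ↥N) :=
    fun h' => hUbad (IH ↥N (card_lt_of_ne_top hNtop)
      (h.phi_sub N.subtype N.subtype_injective hΦ) S' h')
  have hnh' : ¬ hyp G S := fun h' => hnh (h.of_map N.subtype N.subtype_injective _ S'.2 h')
  have hX : ∃ X : Subgroup G, IsPGroup p X ∧ X ≠ ⊥ ∧
      Subgroup.normalizer (S : Set G) ≤ Subgroup.normalizer (X : Set G) ∧
      ¬ HasNormalPComplement p ↥(Subgroup.normalizer (X : Set G)) := by
    by_contra hcon
    push Not at hcon
    apply hnh'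
    apply h.loc S hSp hSne
    intro X hXS hXne hSX
    exact hcon X (hSp.to_le hXS) hXne hSX
  obtain ⟨X, hXp, hXne, hSX, hXbad⟩ := hX
  have hle : (Nat.card (Subgroup.normalizer (X : Set G))).factorization p ≤
      (Nat.card N).factorization p := hmax ⟨X, hXp, hXne, hXbad⟩
  obtain ⟨P', hSP'⟩ := hSp.exists_le_sylow
  by_cases hEq : S = (P' : Subgroup G)
  · apply hUbad
    apply h.stepA IH hΦ hall N hNtop P'
    rw [← hEq]
    exact Subgroup.map_subtype_le _
  · have hlt : S < (P' : Subgroup G) := lt_of_le_of_ne hSP' hEq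
    obtain ⟨x, hxP, hxS, hxN⟩ :=
      Helper69.exists_mem_normalizer_notMem (P' : Subgroup G) S P'.2 hlt
    set T := (P' : Subgroup G) ⊓ Subgroup.normalizer (S : Set G) with hT
    have hTp : IsPGroup p T := P'.2.to_le inf_le_left
    have hST : S < T := by
      refine lt_of_le_of_ne (le_inf hSP' Subgroup.le_normalizer) ?_
      intro h'
      apply hxS
      rw [h']
      exact ⟨hxP, hxN⟩
    have hTX : T ≤ Subgroup.normalizer (X : Set G) := inf_le_right.trans hSX
    obtain ⟨t, ht⟩ := IsPGroup.iff_card.mp hTp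
    have h1 : Nat.card S < Nat.card T := card_lt_of_lt' hST
    rw [hScard, ht] at h1
    have h2 : (Nat.card N).factorization p < t := (Nat.pow_lt_pow_iff_right hp.one_lt).mp h1
    have h3 : p ^ t ∣ Nat.card (Subgroup.normalizer (X : Set G)) := by
      rw [← ht]
      exact Subgroup.card_dvd_of_le hTX
    have h4 : t ≤ (Nat.card (Subgroup.normalizer (X : Set G))).factorization p :=
      (hp.pow_dvd_iff_le_factorization Nat.card_pos.ne').mp h3
    omega

/-- (C) the quotient by `O_p(G)` has a normal p-complement -/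
theorem NpcHyp.stepC (h : NpcHyp p hyp Φ) (IH : NIH p hyp Φ G) (hΦ : Φ G)
    (hall : ∀ P' : Sylow p G, hyp G (P' : Subgroup G))
    (H₀ : Subgroup G) [H₀.Normal] (hHp : IsPGroup p H₀)
    (hHmax : ∀ X : Subgroup G, X.Normal → IsPGroup p X → X ≤ H₀) (hHne : H₀ ≠ ⊥) :
    HasNormalPComplement p (G ⧸ H₀) := by
  classical
  have hp : p.Prime := Fact.out
  obtain ⟨P⟩ : Nonempty (Sylow p G) := inferInstance
  set f := QuotientGroup.mk' H₀ with hf
  have hfs : Function.Surjective f := QuotientGroup.mk'_surjective H₀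
  have hlt := card_quotient_lt' H₀ hHne
  have hHP : H₀ ≤ P := hHp.le_sylow_of_normal P
  have hPbp : IsPGroup p ((P : Subgroup G).map f) := P.2.map f
  by_cases hPb : (P : Subgroup G).map f = ⊥
  · apply pn_of_coprime_card
    have h1 := (P.mapSurjective hfs).card_eq_multiplicity
    rw [Sylow.coe_mapSurjective, hPb, Subgroup.card_bot] at h1
    have h2 : (Nat.card (G ⧸ H₀)).factorization p = 0 := by
      by_contra h'
      have : 1 < p ^ (Nat.card (G ⧸ H₀)).factorization p := Nat.one_lt_pow h' hp.one_lt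
      omega
    rw [Nat.coprime_comm, hp.coprime_iff_not_dvd]
    intro hd
    have := (hp.pow_dvd_iff_le_factorization (Nat.card_pos (α := G ⧸ H₀)).ne').mp
      (by simpa using hd : p ^ 1 ∣ _)
    omega
  · have key : ∀ Y' : Subgroup (G ⧸ H₀), Y' ≤ (P : Subgroup G).map f → Y' ≠ ⊥ →
        Subgroup.normalizer (((P : Subgroup G).map f : Subgroup (G ⧸ H₀)) : Set (G ⧸ H₀)) ≤
          Subgroup.normalizer (Y' : Set (G ⧸ H₀)) →
        HasNormalPComplement p ↥(Subgroup.normalizer (Y' : Set (G ⧸ H₀))) := by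
      intro Y' hY'P hY'ne hnorm
      set Y := Y'.comap f with hY
      have hYP : Y ≤ P := by
        intro y hy
        obtain ⟨x, hx, hxy⟩ := hY'P (Subgroup.mem_comap.mp hy)
        have h1 : x⁻¹ * y ∈ H₀ := by
          rw [← QuotientGroup.eq_one_iff, ← QuotientGroup.mk'_apply, ← hf, map_mul, map_inv, hxy]
          simp
        have : y = x * (x⁻¹ * y) := by group
        rw [this]
        exact (P : Subgroup G).mul_mem hx (hHP h1)
      have hYp : IsPGroup p Y := P.2.to_le hYP
      have hNY : Subgroup.normalizer (Y : Set G) =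
          (Subgroup.normalizer (Y' : Set (G ⧸ H₀))).comap f :=
        (Subgroup.comap_normalizer_eq_of_surjective Y' hfs).symm
      have hPN : (P : Subgroup G) ≤ Subgroup.normalizer (Y : Set G) := by
        intro x hx
        rw [hNY, Subgroup.mem_comap]
        exact hnorm (Subgroup.le_normalizer (Subgroup.mem_map_of_mem f hx))
      have hne : Subgroup.normalizer (Y : Set G) ≠ ⊤ := by
        intro h'
        have hYn : Y.Normal := Subgroup.normalizer_eq_top_iff.mp h'
        have hYH := hHmax Y hYn hYp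
        apply hY'ne
        rw [← Subgroup.map_comap_eq_self_of_surjective hfs Y', ← hY, Subgroup.map_eq_bot_iff,
          hf, QuotientGroup.ker_mk']
        exact hYH
      have h1 := h.stepA IH hΦ hall _ hne P hPN
      have h2 := pn_map f _ h1
      rwa [hNY, Subgroup.map_comap_eq_self_of_surjective hfs] at h2
    apply IH (G ⧸ H₀) hlt (h.phi_quot f hfs hΦ) (P.mapSurjective hfs)
    rw [Sylow.coe_mapSurjective]
    exact h.loc _ hPbp hPb key

/-- (D) in a minimal counterexample `O_{p'}(G) = 1` -/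
theorem NpcHyp.stepD (h : NpcHyp p hyp Φ) (IH : NIH p hyp Φ G) (hΦ : Φ G)
    (hG : ¬ HasNormalPComplement p G) (P : Sylow p G)
    (hP : hyp G (P : Subgroup G)) : pPrimeCore p G = ⊥ := by
  by_contra hne
  haveI := Helper81.pPrimeCore_normal (G := G) p
  have hOc : (Nat.card (pPrimeCore p G)).Coprime p := Helper81.card_pPrimeCore_coprime p
  set f := QuotientGroup.mk' (pPrimeCore p G) with hf
  have hfs : Function.Surjective f := QuotientGroup.mk'_surjective _
  have hlt := card_quotient_lt' (pPrimeCore p G) hne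
  apply hG
  apply pn_of_quotient_coprime (pPrimeCore p G) hOc
  apply IH (G ⧸ pPrimeCore p G) hlt (h.phi_quot f hfs hΦ) (P.mapSurjective hfs)
  rw [Sylow.coe_mapSurjective]
  exact h.quot (pPrimeCore p G) hOc P hP

/-- (E1) a `P`-invariant subgroup between `H₀` and `K` is `H₀` or `K` -/
theorem stepE1' (hA : ∀ M : Subgroup G, M ≠ ⊤ → ∀ P' : Sylow p G, (P' : Subgroup G) ≤ M →
      HasNormalPComplement p ↥M)
    (H₀ : Subgroup G) [H₀.Normal] (hHp : IsPGroup p H₀)
    (hCH : Subgroup.centralizer (H₀ : Set G) ≤ H₀) (P : Sylow p G)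
    (K : Subgroup G) (hKP : K ⊓ P ≤ H₀) (hKc : (H₀.relIndex K).Coprime p)
    (L : Subgroup G) (hHL : H₀ ≤ L) (hLK : L ≤ K)
    (hPL : (P : Subgroup G) ≤ Subgroup.normalizer (L : Set G)) :
    L = H₀ ∨ L = K := by
  have hp : p.Prime := Fact.out
  by_cases hM : L ⊔ (P : Subgroup G) = ⊤
  · right
    apply le_antisymm hLK
    intro k hk
    have hkM : k ∈ L ⊔ (P : Subgroup G) := by rw [hM]; exact Subgroup.mem_top _
    rw [sup_comm] at hkM
    obtain ⟨x, hx, l, hl, rfl⟩ := Helper67.mem_sup_of_le_normalizer hPL hkM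
    have hxK : x ∈ K := by
      have : x = (x * l) * l⁻¹ := by group
      rw [this]
      exact K.mul_mem hk (K.inv_mem (hLK hl))
    exact L.mul_mem (hHL (hKP ⟨hxK, hx⟩)) hl
  · left
    set M := L ⊔ (P : Subgroup G) with hMdef
    have hPN : HasNormalPComplement p ↥M := hA M hM P le_sup_right
    obtain ⟨D, hD⟩ := (Helper74.hasNormalPComplement_iff_exists_isNPC M).mp hPN
    have hHM : H₀ ≤ M := hHL.trans le_sup_left
    have hDbot : D = ⊥ := by
      have hinf : H₀ ⊓ D = ⊥ := Helper15.isPGroup_inf_coprime_eq_bot hHp hD.cop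
      rw [eq_bot_iff]
      intro d hd
      have hdC : d ∈ Subgroup.centralizer (H₀ : Set G) := by
        rw [Subgroup.mem_centralizer_iff]
        intro h hh
        have h1 : d * h * d⁻¹ * h⁻¹ ∈ H₀ ⊓ D := by
          constructor
          · exact H₀.mul_mem (‹H₀.Normal›.conj_mem h hh d) (H₀.inv_mem hh)
          · have hn := hD.norm (hHM hh)
            have h2 : h * d⁻¹ * h⁻¹ ∈ D :=
              (Subgroup.mem_normalizer_iff.mp hn d⁻¹).mp (D.inv_mem hd)
            have : d * h * d⁻¹ * h⁻¹ = d * (h * d⁻¹ * h⁻¹) := by group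
            rw [this]
            exact D.mul_mem hd h2
        rw [hinf, Subgroup.mem_bot] at h1
        have : h * d = (d * h * d⁻¹ * h⁻¹)⁻¹ * (d * h) := by group
        rw [this, h1]
        simp
      have : d ∈ H₀ ⊓ D := ⟨hCH hdC, hd⟩
      rwa [hinf] at this
    have hMp : IsPGroup p M := by
      obtain ⟨j, hj⟩ := hD.idx
      rw [hDbot, Subgroup.relIndex_bot_left] at hj
      exact IsPGroup.of_card hj
    exact eq_of_isPGroup_between H₀ K L hKc hHL hLK (hMp.to_le le_sup_left)

end Red

section Main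
variable {p : ℕ} [Fact p.Prime] {hyp : ∀ (H : Type u) [Group H], Subgroup H → Prop}
  {Φ : ∀ (H : Type u) [Group H], Prop}

/-- The generic reduction: to prove a Thompson-type normal `p`-complement theorem it suffices to treat
a minimal counterexample, in which `O_p(G) ≠ 1`, `G/O_p(G)` has a normal `p`-complement, `O_{p'}(G) = 1`,
`C_G(O_p(G)) ≤ O_p(G)` and every proper subgroup containing a Sylow `p`-subgroup has a normal
`p`-complement. -/
theorem NpcHyp.reduction (h : NpcHyp p hyp Φ)
    (final : ∀ (G : Type u) [Group G] [Finite G], Φ G → NIH p hyp Φ G →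
      ∀ P : Sylow p G, hyp G (P : Subgroup G) →
      (∀ M : Subgroup G, M ≠ ⊤ → ∀ P' : Sylow p G, (P' : Subgroup G) ≤ M →
        HasNormalPComplement p ↥M) →
      pCore p G ≠ ⊥ → HasNormalPComplement p (G ⧸ pCore p G) → pPrimeCore p G = ⊥ →
      Subgroup.centralizer (pCore p G : Set G) ≤ pCore p G → HasNormalPComplement p G) :
    ∀ (n : ℕ) (G : Type u) [Group G] [Finite G], Nat.card G = n → Φ G →
      ∀ P : Sylow p G, hyp G (P : Subgroup G) → HasNormalPComplement p G := by
  intro n
  induction n using Nat.strong_induction_on with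
  | _ n ih =>
    intro G _ _ hn hΦ P hP
    have IH : NIH p hyp Φ G := by
      intro G' _ _ hlt hΦ' P' hP'
      exact ih (Nat.card G') (hn ▸ hlt) G' rfl hΦ' P' hP'
    by_contra hG
    have hall : ∀ P' : Sylow p G, hyp G (P' : Subgroup G) := fun P' => h.sylow P P' hP
    have hOp := h.stepB IH hΦ hall hG
    haveI := Helper81.pCore_normal (G := G) p
    have hHp : IsPGroup p (pCore p G) := Helper81.isPGroup_pCore p
    have hHmax : ∀ X : Subgroup G, X.Normal → IsPGroup p X → X ≤ pCore p G :=
      fun X hn hx => Helper81.le_pCore hn hx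
    have hC := h.stepC IH hΦ hall (pCore p G) hHp hHmax hOp
    have hO := h.stepD IH hΦ hG P hP
    have hHP : pCore p G ≤ P := hHp.le_sylow_of_normal P
    obtain ⟨K, hKn, hHK, hKP, hG_KP, hKc, hKi⟩ := exists_K (pCore p G) P hHP hC
    haveI := hKn
    have hKc' : ((pCore p G).relIndex K).Coprime p := by
      rw [← card_map_mk_eq_relIndex _ _ hHK]; exact hKc
    have hCH := stepE0 (pCore p G) hHp hHmax hO K hHK hKc' hKi
    exact hG (final G hΦ IH P hP (fun M hM P' hPM => h.stepA IH hΦ hall M hM P' hPM) hOp hC hO hCH)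

end Main

end Cfsg.Agent.Lib.Helper53
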