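import Mathlib
import Cfsg.Prelude.Def_ConjugacyFunctors
import Cfsg.Agent.Lib.Helper53.NpcRed

set_option autoImplicit false
open Cfsg
open Cfsg.Agent.Lib.Helper02 Cfsg.Agent.Lib.Helper97 Cfsg.Agent.Lib.Lead

namespace Cfsg.Agent.Lib.Helper53

universe u

section Functor
variable {p : ℕ} {W : ∀ (Q : Type u) [Group Q], Subgroup Q}

theorem inducedFunctor_le {G : Type u} [Group G] (P : Subgroup G) :
    inducedFunctor W P ≤ P := by
  unfold inducedFunctor
  exact Subgroup.map_subtype_le _

theorem inducedFunctor_ne_bot (hW : IsCharPFunctor.{u} p W) {G : Type u} [Group G] [Finite G]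
    {P : Subgroup G} (hP : IsPGroup p P) (hne : P ≠ ⊥) : inducedFunctor W P ≠ ⊥ := by
  unfold inducedFunctor
  intro h
  rw [Subgroup.map_eq_bot_iff_of_injective _ P.subtype_injective] at h
  haveI : Nontrivial ↥P := (Subgroup.nontrivial_iff_ne_bot P).mpr hne
  exact hW.1 ↥P hP inferInstance h

/-- compatibility with homomorphisms injective on `R` -/
theorem inducedFunctor_map (hW : IsCharPFunctor.{u} p W) {H G : Type u} [Group H] [Group G]
    (f : H →* G) (R : Subgroup H) [Finite ↥R] (hR : IsPGroup p R)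
    (hinj : Set.InjOn f (R : Set H)) :
    inducedFunctor W (R.map f) = (inducedFunctor W R).map f := by
  have hbij : Function.Bijective (f.subgroupMap R) := by
    refine ⟨?_, f.subgroupMap_surjective R⟩
    intro x y hxy
    have h1 : f (x : H) = f (y : H) := congrArg Subtype.val hxy
    exact Subtype.ext (hinj x.2 y.2 h1)
  let φ : ↥R ≃* ↥(R.map f) := MulEquiv.ofBijective (f.subgroupMap R) hbij
  have h1 := hW.2 ↥R ↥(R.map f) hR φ
  unfold inducedFunctor
  rw [← h1, Subgroup.map_map, Subgroup.map_map]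
  congr 1

theorem normalizer_le_normalizer_inducedFunctor (hW : IsCharPFunctor.{u} p W) {G : Type u} [Group G]
    [Finite G] {P : Subgroup G} (hP : IsPGroup p P) :
    Subgroup.normalizer (P : Set G) ≤ Subgroup.normalizer (inducedFunctor W P : Set G) := by
  intro g hg
  have h1 : P.map (MulAut.conj g).toMonoidHom = P := by
    ext x
    simp only [Subgroup.mem_map, MulEquiv.coe_toMonoidHom, MulAut.conj_apply]
    constructor
    · rintro ⟨y, hy, rfl⟩
      exact (Subgroup.mem_normalizer_iff.mp hg y).mp hy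
    · intro hx
      refine ⟨g⁻¹ * x * g, ?_, by group⟩
      have := (Subgroup.mem_normalizer_iff.mp (Subgroup.inv_mem _ hg) x).mp hx
      simpa using this
  have h2 := inducedFunctor_map hW (MulAut.conj g).toMonoidHom P hP
    ((MulAut.conj g).injective.injOn)
  rw [h1] at h2
  rw [Subgroup.mem_normalizer_iff]
  intro x
  constructor
  · intro hx
    rw [h2]
    exact ⟨x, hx, rfl⟩
  · intro hx
    rw [h2] at hx
    obtain ⟨y, hy, hyx⟩ := hx
    have : y = x := by
      simp only [MulEquiv.coe_toMonoidHom, MulAut.conj_apply] at hyx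
      have h3 : y = g⁻¹ * (g * y * g⁻¹) * g := by group
      rw [h3, hyx]; group
    rw [← this]; exact hy

end Functor

section Hyp2
variable {p : ℕ} [Fact p.Prime]

/-- the two-functor local hypothesis: `N(W₁(S))` and `C(W₂(S))` have normal `p`-complements -/
def hyp2 (p : ℕ) (W₁ W₂ : ∀ (Q : Type u) [Group Q], Subgroup Q) (H : Type u) [Group H]
    (S : Subgroup H) : Prop :=
  HasNormalPComplement p ↥(Subgroup.normalizer (inducedFunctor W₁ S : Set H)) ∧
  HasNormalPComplement p ↥(Subgroup.centralizer (inducedFunctor W₂ S : Set H))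

theorem npcHyp_functor {W₁ W₂ : ∀ (Q : Type u) [Group Q], Subgroup Q}
    (hW₁ : IsCharPFunctor.{u} p W₁) (hW₂ : IsCharPFunctor.{u} p W₂)
    {Φ : ∀ (H : Type u) [Group H], Prop}
    (phi_sub : ∀ {H G : Type u} [Group H] [Group G] (f : H →* G), Function.Injective f → Φ G → Φ H)
    (phi_quot : ∀ {G H : Type u} [Group G] [Group H] (f : G →* H), Function.Surjective f → Φ G → Φ H) :
    NpcHyp p (hyp2 p W₁ W₂) Φ where
  of_map := by
    intro H G _ _ _ f hf R hR h
    haveI : Finite H := Finite.of_injective f hf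
    constructor
    · refine pn_of_map_le f hf _ _ ?_ h.1
      rw [inducedFunctor_map hW₁ f R hR hf.injOn]
      exact Subgroup.le_normalizer_map f
    · refine pn_of_map_le f hf _ _ ?_ h.2
      rw [inducedFunctor_map hW₂ f R hR hf.injOn]
      have := Subgroup.map_centralizer_le_centralizer_image (inducedFunctor W₂ R : Set H) f
      simpa using this
  loc := by
    intro G _ _ S hS hne key
    constructor
    · exact key _ (inducedFunctor_le S) (inducedFunctor_ne_bot hW₁ hS hne)
        (normalizer_le_normalizer_inducedFunctor hW₁ hS)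
    · exact pn_of_le (Subgroup.centralizer_le_normalizer _)
        (key _ (inducedFunctor_le S) (inducedFunctor_ne_bot hW₂ hS hne)
          (normalizer_le_normalizer_inducedFunctor hW₂ hS))
  quot := by
    intro G _ _ N _ hOc P hP
    set f := QuotientGroup.mk' N with hf
    have hinj : Set.InjOn f ((P : Subgroup G) : Set G) := by
      intro x hx y hy hxy
      have h1 : x⁻¹ * y ∈ (P : Subgroup G) ⊓ N :=
        ⟨(P : Subgroup G).mul_mem ((P : Subgroup G).inv_mem hx) hy, QuotientGroup.eq.mp hxy⟩
      rw [Helper15.isPGroup_inf_coprime_eq_bot P.2 hOc, Subgroup.mem_bot] at h1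
      exact inv_mul_eq_one.mp h1
    constructor
    · rw [inducedFunctor_map hW₁ f P P.2 hinj, Helper15.normalizer_map_mk_of_coprime N hOc _
        (P.2.to_le (inducedFunctor_le _))]
      exact pn_map f _ hP.1
    · rw [inducedFunctor_map hW₂ f P P.2 hinj, Helper15.centralizer_map_mk_of_coprime N hOc _
        (P.2.to_le (inducedFunctor_le _))]
      exact pn_map f _ hP.2
  phi_sub := phi_sub
  phi_quot := phi_quot

end Hyp2

end Cfsg.Agent.Lib.Helper53

namespace Cfsg.Agent.Lib.Helper53

universe u

section Coatom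
variable {p : ℕ} [Fact p.Prime] {G : Type u} [Group G] [Finite G]

/-- a subgroup with a normal `p`-complement containing a self-centralizing normal `p`-subgroup is a
`p`-group -/
theorem isPGroup_of_npc_of_le (H₀ : Subgroup G) [H₀.Normal] (hHp : IsPGroup p H₀)
    (hCH : Subgroup.centralizer (H₀ : Set G) ≤ H₀) (M : Subgroup G) (hHM : H₀ ≤ M)
    (hPN : HasNormalPComplement p ↥M) : IsPGroup p M := by
  obtain ⟨D, hD⟩ := (Helper74.hasNormalPComplement_iff_exists_isNPC M).mp hPN
  have hDbot : D = ⊥ := by
    have hinf : H₀ ⊓ D = ⊥ := Helper15.isPGroup_inf_coprime_eq_bot hHp hD.cop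
    rw [eq_bot_iff]
    intro d hd
    have hdC : d ∈ Subgroup.centralizer (H₀ : Set G) := by
      rw [Subgroup.mem_centralizer_iff]
      intro h hh
      have h1 : d * h * d⁻¹ * h⁻¹ ∈ H₀ ⊓ D := by
        constructor
        · exact H₀.mul_mem (‹H₀.Normal›.conj_mem h hh d) (H₀.inv_mem hh)
        · have hn := hD.norm (hHM hh)
          have h2 : h * d⁻¹ * h⁻¹ ∈ D :=
            (Subgroup.mem_normalizer_iff.mp hn d⁻¹).mp (D.inv_mem hd)
          have : d * h * d⁻¹ * h⁻¹ = d * (h * d⁻¹ * h⁻¹) := by group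
          rw [this]
          exact D.mul_mem hd h2
      rw [hinf, Subgroup.mem_bot] at h1
      have : h * d = (d * h * d⁻¹ * h⁻¹)⁻¹ * (d * h) := by group
      rw [this, h1]
      simp
    have : d ∈ H₀ ⊓ D := ⟨hCH hdC, hd⟩
    rwa [hinf] at this
  obtain ⟨j, hj⟩ := hD.idx
  rw [hDbot, Subgroup.relIndex_bot_left] at hj
  exact IsPGroup.of_card hj

/-- in a minimal counterexample a Sylow `p`-subgroup is a maximal subgroup -/
theorem sylow_isCoatom (hG : ¬ HasNormalPComplement p G)
    (hA : ∀ M : Subgroup G, M ≠ ⊤ → ∀ P' : Sylow p G, (P' : Subgroup G) ≤ M →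
      HasNormalPComplement p ↥M)
    (H₀ : Subgroup G) [H₀.Normal] (hHp : IsPGroup p H₀)
    (hCH : Subgroup.centralizer (H₀ : Set G) ≤ H₀) (P : Sylow p G) :
    IsCoatom (P : Subgroup G) := by
  have hHP : H₀ ≤ P := hHp.le_sylow_of_normal P
  constructor
  · intro htop
    apply hG
    apply pn_iff.mpr
    refine ⟨⊥, inferInstance, by simp, ?_⟩
    rw [Subgroup.index_bot]
    have h1 : IsPGroup p G := by
      have := P.2
      rw [htop] at this
      intro g
      obtain ⟨k, hk⟩ := this ⟨g, Subgroup.mem_top g⟩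
      exact ⟨k, by simpa using congrArg Subtype.val hk⟩
    exact IsPGroup.iff_card.mp h1
  · intro M hPM
    by_contra hM
    have h1 := hA M hM P hPM.le
    have h2 := isPGroup_of_npc_of_le H₀ hHp hCH M (hHP.trans hPM.le) h1
    have h3 := P.3 h2 hPM.le
    exact hPM.ne h3.symm

end Coatom

end Cfsg.Agent.Lib.Helper53
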