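import Mathlib
import Cfsg.Prelude.Def_PLocal
import Cfsg.Agent.Lib.Helper53.NpcFunctor

set_option autoImplicit false
open Cfsg
open Cfsg.Agent.Lib.Helper02 Cfsg.Agent.Lib.Helper97 Cfsg.Agent.Lib.Lead

namespace Cfsg.Agent.Lib.Helper53

universe u

/-- the abelian-version Thompson subgroup functor -/
def JAfun : ∀ (Q : Type u) [Group Q], Subgroup Q := fun Q _ => thompsonSubgroupA Q

/-- the centre functor -/
def Zfun : ∀ (Q : Type u) [Group Q], Subgroup Q := fun Q _ => Subgroup.center Q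

section Ab
variable {G : Type*} [Group G]

theorem isMulComm_iff (A : Subgroup G) :
    IsMulCommutative A ↔ ∀ x ∈ A, ∀ y ∈ A, x * y = y * x := by
  constructor
  · intro h x hx y hy
    have := h.is_comm.comm (⟨x, hx⟩ : A) ⟨y, hy⟩
    exact congrArg Subtype.val this
  · intro h
    exact ⟨⟨fun a b => Subtype.ext (h a a.2 b b.2)⟩⟩

theorem isMulComm_map {H : Type*} [Group H] (f : G →* H) {A : Subgroup G}
    (hA : IsMulCommutative A) : IsMulCommutative (A.map f) := by
  rw [isMulComm_iff] at hA ⊢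
  rintro _ ⟨x, hx, rfl⟩ _ ⟨y, hy, rfl⟩
  rw [← map_mul, ← map_mul, hA x hx y hy]

theorem mem_maxAb_map_equiv {Q R : Type*} [Group Q] [Group R] (φ : Q ≃* R) {A : Subgroup Q}
    (hA : A ∈ maxAbelianSubgroups Q) : A.map φ.toMonoidHom ∈ maxAbelianSubgroups R := by
  refine ⟨isMulComm_map _ hA.1, ?_⟩
  intro B hB
  have h1 := hA.2 (B.map φ.symm.toMonoidHom) (isMulComm_map _ hB)
  rw [Subgroup.card_map_of_injective φ.symm.injective] at h1
  rw [Subgroup.card_map_of_injective φ.injective]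
  exact h1

theorem thompsonA_map_equiv_le {Q R : Type*} [Group Q] [Group R] (φ : Q ≃* R) :
    (thompsonSubgroupA Q).map φ.toMonoidHom ≤ thompsonSubgroupA R := by
  unfold thompsonSubgroupA
  rw [Subgroup.map_le_iff_le_comap]
  apply sSup_le
  intro A hA
  rw [← Subgroup.map_le_iff_le_comap]
  exact le_sSup (mem_maxAb_map_equiv φ hA)

theorem thompsonA_map_equiv {Q R : Type*} [Group Q] [Group R] (φ : Q ≃* R) :
    (thompsonSubgroupA Q).map φ.toMonoidHom = thompsonSubgroupA R := by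
  apply le_antisymm (thompsonA_map_equiv_le φ)
  have h := thompsonA_map_equiv_le φ.symm
  have h2 := Subgroup.map_mono (f := φ.toMonoidHom) h
  rw [Subgroup.map_map] at h2
  have hid : φ.toMonoidHom.comp φ.symm.toMonoidHom = MonoidHom.id R := by
    ext x; simp
  rwa [hid, Subgroup.map_id] at h2

theorem maxAb_nonempty (Q : Type*) [Group Q] [Finite Q] : ∃ A, A ∈ maxAbelianSubgroups Q := by
  let 𝒜 := {A : Subgroup Q // IsMulCommutative A}
  haveI : Nonempty 𝒜 := ⟨⟨⊥, (isMulComm_iff _).mpr (by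
    intro x hx y hy
    rw [Subgroup.mem_bot] at hx hy
    rw [hx, hy])⟩⟩
  obtain ⟨⟨A, hA⟩, hmax⟩ := Finite.exists_max (fun A : 𝒜 => Nat.card A.1)
  exact ⟨A, hA, fun B hB => hmax ⟨B, hB⟩⟩

theorem thompsonA_ne_bot (Q : Type*) [Group Q] [Finite Q] [Nontrivial Q] :
    thompsonSubgroupA Q ≠ ⊥ := by
  obtain ⟨A, hA⟩ := maxAb_nonempty Q
  obtain ⟨x, hx⟩ := exists_ne (1 : Q)
  have hz : IsMulCommutative (Subgroup.zpowers x) := by
    rw [isMulComm_iff]
    intro a ha b hb
    rw [Subgroup.mem_zpowers_iff] at ha hb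
    obtain ⟨i, rfl⟩ := ha
    obtain ⟨j, rfl⟩ := hb
    exact (Commute.zpow_zpow_self x i j).eq
  have h1 := hA.2 _ hz
  have h2 : 1 < Nat.card (Subgroup.zpowers x) := by
    rw [Nat.card_zpowers]
    have h3 : orderOf x ≠ 1 := fun h => hx (orderOf_eq_one_iff.mp h)
    have h4 : 0 < orderOf x := orderOf_pos x
    omega
  intro hbot
  have hAJ : A ≤ thompsonSubgroupA Q := le_sSup hA
  rw [hbot, le_bot_iff] at hAJ
  rw [hAJ, Subgroup.card_bot] at h1
  omega

end Ab

section Char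
variable {p : ℕ} [Fact p.Prime]

theorem isCharPFunctor_JA : IsCharPFunctor.{u} p JAfun := by
  refine ⟨?_, ?_⟩
  · intro Q _ _ _ _
    exact thompsonA_ne_bot Q
  · intro Q R _ _ _ _ φ
    exact thompsonA_map_equiv φ

theorem isCharPFunctor_Z : IsCharPFunctor.{u} p Zfun := by
  refine ⟨?_, ?_⟩
  · intro Q _ _ hQ _
    have : Nontrivial (Subgroup.center Q) := hQ.center_nontrivial
    exact (Subgroup.nontrivial_iff_ne_bot _).mp this
  · intro Q R _ _ _ _ φ
    unfold Zfun
    ext x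
    simp only [Subgroup.mem_map, Subgroup.mem_center_iff, MulEquiv.coe_toMonoidHom]
    constructor
    · rintro ⟨y, hy, rfl⟩ g
      obtain ⟨g', rfl⟩ := φ.surjective g
      rw [← map_mul, ← map_mul, hy g']
    · intro hx
      refine ⟨φ.symm x, ?_, by simp⟩
      intro g
      apply φ.injective
      rw [map_mul, map_mul]
      simpa using hx (φ g)

theorem inducedFunctor_JA {G : Type u} [Group G] (P : Subgroup G) :
    inducedFunctor JAfun P = thompsonSubgroupAOf P := rfl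

theorem inducedFunctor_Z {G : Type u} [Group G] (P : Subgroup G) :
    inducedFunctor Zfun P = ZC P := (ZC_eq_map_center P).symm

end Char

section MaxAbIn
variable {G : Type*} [Group G]

/-- `A` is an abelian subgroup of `P` of largest order -/
def IsMaxAbIn (P A : Subgroup G) : Prop :=
  A ≤ P ∧ (∀ x ∈ A, ∀ y ∈ A, x * y = y * x) ∧
    ∀ B : Subgroup G, B ≤ P → (∀ x ∈ B, ∀ y ∈ B, x * y = y * x) → Nat.card B ≤ Nat.card A

theorem isMaxAbIn_map_subtype {P : Subgroup G} {A' : Subgroup ↥P}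
    (h : A' ∈ maxAbelianSubgroups ↥P) : IsMaxAbIn P (A'.map P.subtype) := by
  refine ⟨Subgroup.map_subtype_le _, (isMulComm_iff _).mp (isMulComm_map _ h.1), ?_⟩
  intro B hBP hB
  have h1 : IsMulCommutative (B.subgroupOf P) := by
    rw [isMulComm_iff]
    intro x hx y hy
    exact Subtype.ext (hB x hx y hy)
  have h2 := h.2 _ h1
  rw [Subgroup.card_map_of_injective P.subtype_injective]
  have h3 : Nat.card (B.subgroupOf P) = Nat.card B :=
    Nat.card_congr (Subgroup.subgroupOfEquivOfLe hBP).toEquiv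
  rwa [h3] at h2

theorem mem_maxAb_subgroupOf {P A : Subgroup G} (h : IsMaxAbIn P A) :
    A.subgroupOf P ∈ maxAbelianSubgroups ↥P := by
  refine ⟨?_, ?_⟩
  · rw [isMulComm_iff]
    intro x hx y hy
    exact Subtype.ext (h.2.1 x hx y hy)
  · intro B' hB'
    have h1 := h.2.2 (B'.map P.subtype) (Subgroup.map_subtype_le _)
      ((isMulComm_iff _).mp (isMulComm_map _ hB'))
    rw [Subgroup.card_map_of_injective P.subtype_injective] at h1
    have h3 : Nat.card (A.subgroupOf P) = Nat.card A :=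
      Nat.card_congr (Subgroup.subgroupOfEquivOfLe h.1).toEquiv
    rwa [h3]

theorem thompsonAOf_eq_sSup (P : Subgroup G) :
    thompsonSubgroupAOf P = sSup {A | IsMaxAbIn P A} := by
  unfold thompsonSubgroupAOf thompsonSubgroupA
  apply le_antisymm
  · rw [Subgroup.map_le_iff_le_comap]
    apply sSup_le
    intro A' hA'
    rw [← Subgroup.map_le_iff_le_comap]
    exact le_sSup (isMaxAbIn_map_subtype hA')
  · apply sSup_le
    intro A hA
    have h1 : (A.subgroupOf P).map P.subtype = A := by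
      rw [Subgroup.subgroupOf_map_subtype, inf_of_le_left hA.1]
    rw [← h1]
    exact Subgroup.map_mono (le_sSup (mem_maxAb_subgroupOf hA))

theorem IsMaxAbIn.le_thompsonAOf {P A : Subgroup G} (h : IsMaxAbIn P A) :
    A ≤ thompsonSubgroupAOf P := by
  rw [thompsonAOf_eq_sSup]
  exact le_sSup h

theorem IsMaxAbIn.of_le {P Q A : Subgroup G} (h : IsMaxAbIn P A) (hAQ : A ≤ Q) (hQP : Q ≤ P) :
    IsMaxAbIn Q A :=
  ⟨hAQ, h.2.1, fun B hB hBc => h.2.2 B (hB.trans hQP) hBc⟩

theorem exists_isMaxAbIn [Finite G] (P : Subgroup G) : ∃ A, IsMaxAbIn P A := by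
  obtain ⟨A', hA'⟩ := maxAb_nonempty ↥P
  exact ⟨_, isMaxAbIn_map_subtype hA'⟩

theorem thompsonAOf_le (P : Subgroup G) : thompsonSubgroupAOf P ≤ P := by
  unfold thompsonSubgroupAOf
  exact Subgroup.map_subtype_le _

/-- `J(P) ≤ Q ≤ P` implies `J(Q) = J(P)` -/
theorem thompsonAOf_eq_of_le [Finite G] {P Q : Subgroup G} (h1 : thompsonSubgroupAOf P ≤ Q)
    (h2 : Q ≤ P) : thompsonSubgroupAOf Q = thompsonSubgroupAOf P := by
  rw [thompsonAOf_eq_sSup, thompsonAOf_eq_sSup]
  congr 1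
  ext A
  simp only [Set.mem_setOf_eq]
  constructor
  · intro hA
    obtain ⟨A₀, hA₀⟩ := exists_isMaxAbIn P
    have h3 : A₀ ≤ Q := hA₀.le_thompsonAOf.trans h1
    have h4 := hA.2.2 A₀ h3 hA₀.2.1
    exact ⟨hA.1.trans h2, hA.2.1, fun B hB hBc => (hA₀.2.2 B hB hBc).trans h4⟩
  · intro hA
    exact hA.of_le (hA.le_thompsonAOf.trans h1) h2

theorem exists_isMaxAbIn_not_le {P Q : Subgroup G} (h : ¬ thompsonSubgroupAOf P ≤ Q) :
    ∃ A, IsMaxAbIn P A ∧ ¬ A ≤ Q := by
  by_contra hcon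
  push Not at hcon
  apply h
  rw [thompsonAOf_eq_sSup]
  exact sSup_le hcon

end MaxAbIn

end Cfsg.Agent.Lib.Helper53
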