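import Mathlib
import Cfsg.Agent.S1403
import Cfsg.Agent.Lib.Helper16.BG124Defs

set_option autoImplicit false

/-! # S1416 keystone K2: CASE I, `r_p(C_G(A)) ≥ 3` -/

namespace Cfsg.Agent.Lib.Helper53.BG124

open Cfsg Cfsg.Agent.Lib.Helper16.BG124

variable {G : Type*} [Group G] [Finite G]

variable {M A : Subgroup G} {p : ℕ} [Fact p.Prime]

/-- K2. CASE I: `r_p(C_G(A)) ≥ 3`. Then `A` lies in a unique coatom, which is `M`; `C_G(A) ≤ M`, and every
`A₀ ≤ A` of order `p` is good. -/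
theorem good_of_rank3 (hG : IsMinSimpleOddOrder G) (hM : IsCoatom M) (hAM : A ≤ M)
    (hAe : IsElementaryAbelian p A) (hA2 : Nat.card A = p ^ 2)
    (h3 : ¬ PRankLE p 2 ↥(Subgroup.centralizer (A : Set G))) :
    Subgroup.centralizer (A : Set G) ≤ M ∧
      ∀ A₀ : Subgroup G, A₀ ≤ A → Nat.card A₀ = p → Good M A₀ := by
  have hp : p.Prime := Fact.out
  have hsimple : IsSimpleGroup G := hG.2.1
  have hAtop : A ≠ ⊤ := by
    intro h
    rw [h] at hAM
    exact hM.1 (top_le_iff.mp hAM)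
  have hcomm : ∀ a ∈ A, ∀ b ∈ A, a * b = b * a := by
    intro a ha b hb
    have := hAe.1.is_comm.comm (⟨a, ha⟩ : A) ⟨b, hb⟩
    exact congrArg Subtype.val this
  have hr1 : ¬ RankLE 1 A := by
    intro h
    have h1 := h p hp (⊤ : Subgroup A)
      ⟨⟨fun a b => Subtype.ext (Subtype.ext (hcomm _ a.1.2 _ b.1.2))⟩⟩
      (fun a _ => Subtype.ext (by
        have := hAe.2 a.1 a.2
        simpa using this))
    rw [Subgroup.card_top, hA2, pow_one] at h1
    have : p < p ^ 2 := by
      have := hp.one_lt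
      nlinarith
    omega
  have hr2 : ¬ RankLE 2 (Subgroup.centralizer (A : Set G)) := fun h => h3 (h p hp)
  obtain ⟨M', ⟨_, _⟩, huniq⟩ := Cfsg.Agent.S1403.result hG A hAtop hr1 (Or.inr hr2)
  have hMuniq : ∀ L : Subgroup G, IsCoatom L → A ≤ L → L = M := by
    intro L hL hAL
    rw [huniq L ⟨hL, hAL⟩, huniq M ⟨hM, hAM⟩]
  -- a proper subgroup containing `A` lies in `M`
  have hprop : ∀ K : Subgroup G, K ≠ ⊤ → A ≤ K →
      K ≤ M ∧ ∀ L : Subgroup G, IsCoatom L → K ≤ L → L = M := by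
    intro K hK hAK
    refine ⟨?_, fun L hL hKL => hMuniq L hL (hAK.trans hKL)⟩
    obtain ⟨L, hL, hKL⟩ := (eq_top_or_exists_le_coatom K).resolve_left hK
    rw [← hMuniq L hL (hAK.trans hKL)]
    exact hKL
  have hAbot : A ≠ ⊥ := by
    intro h
    rw [h, Subgroup.card_bot] at hA2
    have := hp.one_lt
    have : 1 < p ^ 2 := by nlinarith
    omega
  -- normalizers of nontrivial proper subgroups are proper
  have hnorm : ∀ B : Subgroup G, B ≠ ⊥ → B ≠ ⊤ → Subgroup.normalizer (B : Set G) ≠ ⊤ := by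
    intro B hB1 hB2 hN
    have hBn : B.Normal := Subgroup.normalizer_eq_top_iff.mp hN
    rcases hBn.eq_bot_or_eq_top with h | h
    · exact hB1 h
    · exact hB2 h
  refine ⟨?_, ?_⟩
  · have h1 := (hprop _ (hnorm A hAbot hAtop) Subgroup.le_normalizer).1
    exact (Subgroup.centralizer_le_normalizer _).trans h1
  · intro A₀ hA₀ hcard
    have hA₀bot : A₀ ≠ ⊥ := by
      intro h
      rw [h, Subgroup.card_bot] at hcard
      exact hp.one_lt.ne hcard
    have hA₀top : A₀ ≠ ⊤ := by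
      intro h
      apply hAtop
      rw [h] at hA₀
      exact top_le_iff.mp hA₀
    have hAN : A ≤ Subgroup.normalizer (A₀ : Set G) := by
      refine le_trans ?_ (Subgroup.centralizer_le_normalizer _)
      intro a ha
      rw [Subgroup.mem_centralizer_iff]
      intro x hx
      exact hcomm x (hA₀ hx) a ha
    exact hprop _ (hnorm A₀ hA₀bot hA₀top) hAN

end Cfsg.Agent.Lib.Helper53.BG124
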