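import Mathlib
import Cfsg.Agent.Lib.Helper15.BG142Defs2
import Cfsg.Agent.Lib.Helper31.BG12a
import Cfsg.Agent.Lib.Helper13.BG12B
import Cfsg.Agent.Lib.Helper71.BG11a
import Cfsg.Agent.Lib.Helper31.FittingHall
import Cfsg.Agent.S1350

/-!
# K-R3 (keystone 143023, architect helper15, pack S1430 / S1431 = BG 14.2)

`U` is a Hall subgroup of `M` for the primes outside `κ(M) ∪ σ(M)`: counting `|M| = |Mσ| |U| |K|`.
-/

set_option autoImplicit false

namespace Cfsg.Agent.Lib.Helper53.BG142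

open Cfsg Cfsg.Agent.Lib.Helper55 Cfsg.Agent.Lib.Helper31.BG134 Cfsg.Agent.Lib.Helper15.BG139
  Cfsg.Agent.Lib.Helper15.BG142

variable {G : Type*} [Group G] [Finite G]

theorem isPiHallOf_of_fac (hG : IsMinSimpleOddOrder G) {M E U K : Subgroup G} (hM : IsCoatom M)
    (hE : IsComplIn E (sigmaCore M) M) (hK : IsPiHallOf (tau1 M) K E) (hUE : U ≤ E)
    (hUK : U ⊓ K = ⊥) (hfac : ∀ e ∈ E, ∃ u ∈ U, ∃ k ∈ K, e = u * k)
    (hU : ∀ q : ℕ, q.Prime → q ∣ Nat.card U → q ∉ tau1 M)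
    (hκ : ∀ p : ℕ, p ∈ kappa M → p ∈ tau1 M) (hκ1 : ∀ u : ℕ, u ∈ tau1 M → u ∈ kappa M) :
    IsPiHallOf {q | q.Prime ∧ q ∉ kappa M ∧ q ∉ sigma M} U M := by
  have hUM : U ≤ M := hUE.trans hE.1
  have hHall := (Cfsg.Agent.S1350.result hG M hM).1
  have hEσ := Cfsg.Agent.Lib.Helper13.BG12.complIn_prime_not_mem_sigma hHall hE
  have hc1 : Nat.card E * Nat.card (sigmaCore M) = Nat.card M :=
    Cfsg.Agent.Lib.Helper31.IsComplIn.card_mul hE
  have hUKE : IsComplIn U K E := ⟨hUE, hK.1, hUK, hfac⟩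
  have hc2 : Nat.card U * Nat.card K = Nat.card E :=
    Cfsg.Agent.Lib.Helper31.IsComplIn.card_mul hUKE
  have hc3 : U.relIndex M * Nat.card U = Nat.card M := by
    have h := Subgroup.relIndex_mul_relIndex (H := (⊥ : Subgroup G)) (K := U) (L := M) bot_le hUM
    rw [Subgroup.relIndex_bot_left, Subgroup.relIndex_bot_left] at h
    rw [mul_comm]
    exact h
  have hUpos : 0 < Nat.card U := Nat.card_pos
  have hrel : U.relIndex M = Nat.card K * Nat.card (sigmaCore M) := by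
    have h4 : U.relIndex M * Nat.card U = (Nat.card K * Nat.card (sigmaCore M)) * Nat.card U := by
      rw [hc3, ← hc1, ← hc2]
      ring
    exact Nat.eq_of_mul_eq_mul_right hUpos h4
  refine ⟨hUM, ?_, ?_⟩
  · intro q hq hqU
    refine ⟨hq, fun hk => hU q hq hqU (hκ q hk), ?_⟩
    apply hEσ q hq
    rw [← hc2]
    exact Dvd.dvd.mul_right hqU _
  · rintro q hq ⟨-, hqκ, hqσ⟩ hdvd
    rw [hrel] at hdvd
    rcases (Nat.Prime.dvd_mul hq).1 hdvd with h | h
    · exact hqκ (hκ1 q (hK.2.1 q hq h))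
    · exact hqσ (Cfsg.Agent.Lib.Helper71.BG11.sigmaCore_pi hG hM hq h)

end Cfsg.Agent.Lib.Helper53.BG142
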