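import Cfsg.Agent.Lib.Helper53.Basic

set_option autoImplicit false

namespace Cfsg.Agent.Lib.Helper53

open Cfsg
open scoped Pointwise

section

variable {G : Type*} [Group G]

theorem mem_map_conj_iff {K : Subgroup G} {g y : G} :
    y ∈ K.map (MulAut.conj g).toMonoidHom ↔ g⁻¹ * y * g ∈ K := by
  constructor
  · rintro ⟨k, hk, rfl⟩
    simpa [mul_assoc] using hk
  · intro h
    exact ⟨g⁻¹ * y * g, h, by simp [mul_assoc]⟩

theorem conj_mem_map_conj {K : Subgroup G} {g k : G} (hk : k ∈ K) :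
    g * k * g⁻¹ ∈ K.map (MulAut.conj g).toMonoidHom :=
  ⟨k, hk, by simp⟩

theorem map_conj_mul (K : Subgroup G) (g h : G) :
    K.map (MulAut.conj (g * h)).toMonoidHom =
      (K.map (MulAut.conj h).toMonoidHom).map (MulAut.conj g).toMonoidHom := by
  rw [Subgroup.map_map]
  congr 1
  ext x
  simp [mul_assoc]

theorem map_conj_one (K : Subgroup G) : K.map (MulAut.conj (1 : G)).toMonoidHom = K := by
  ext y
  rw [mem_map_conj_iff]
  simp

theorem map_conj_inv_map_conj (K : Subgroup G) (g : G) :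
    (K.map (MulAut.conj g).toMonoidHom).map (MulAut.conj g⁻¹).toMonoidHom = K := by
  rw [← map_conj_mul, inv_mul_cancel, map_conj_one]

theorem map_conj_map_conj_inv (K : Subgroup G) (g : G) :
    (K.map (MulAut.conj g⁻¹).toMonoidHom).map (MulAut.conj g).toMonoidHom = K := by
  rw [← map_conj_mul, mul_inv_cancel, map_conj_one]

theorem map_conj_eq_of_mem {K : Subgroup G} {g : G} (hg : g ∈ K) :
    K.map (MulAut.conj g).toMonoidHom = K := by
  ext y
  rw [mem_map_conj_iff]
  constructor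
  · intro h
    have := K.mul_mem (K.mul_mem hg h) (K.inv_mem hg)
    simpa [mul_assoc] using this
  · intro h
    exact K.mul_mem (K.mul_mem (K.inv_mem hg) h) hg

theorem map_conj_ne_bot {K : Subgroup G} (g : G) (h : K ≠ ⊥) :
    K.map (MulAut.conj g).toMonoidHom ≠ ⊥ := by
  intro h'
  apply h
  rw [← map_conj_inv_map_conj K g, h', Subgroup.map_bot]

theorem card_map_conj (K : Subgroup G) (g : G) :
    Nat.card ↥(K.map (MulAut.conj g).toMonoidHom) = Nat.card ↥K :=
  Nat.card_congr (K.equivMapOfInjective _ (MulAut.conj g).injective).toEquiv.symm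

theorem map_conj_eq_of_le [Finite G] {K : Subgroup G} {g : G}
    (h : K.map (MulAut.conj g).toMonoidHom ≤ K) : K.map (MulAut.conj g).toMonoidHom = K := by
  apply Subgroup.eq_of_le_of_card_ge h
  rw [card_map_conj]

theorem mem_normalizer_of_map_conj_eq {K : Subgroup G} {g : G}
    (h : K.map (MulAut.conj g).toMonoidHom = K) : g ∈ Subgroup.normalizer (K : Set G) := by
  rw [Subgroup.mem_normalizer_iff'']
  intro y
  rw [← mem_map_conj_iff, h]

theorem map_conj_eq_of_mem_normalizer {K : Subgroup G} {g : G}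
    (hg : g ∈ Subgroup.normalizer (K : Set G)) : K.map (MulAut.conj g).toMonoidHom = K := by
  ext y
  rw [mem_map_conj_iff]
  exact ((Subgroup.mem_normalizer_iff''.1 hg) y).symm

theorem mem_normalizer_of_conj_mem [Finite G] {K : Subgroup G} {g : G}
    (h : ∀ k ∈ K, g * k * g⁻¹ ∈ K) : g ∈ Subgroup.normalizer (K : Set G) := by
  apply mem_normalizer_of_map_conj_eq
  apply map_conj_eq_of_le
  rintro _ ⟨k, hk, rfl⟩
  exact h k hk

/-- `g N(K) g⁻¹ = N(gKg⁻¹)`, elementwise. -/
theorem conj_mem_normalizer_map_conj {K : Subgroup G} {g x : G}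
    (hx : x ∈ Subgroup.normalizer (K : Set G)) :
    g * x * g⁻¹ ∈ Subgroup.normalizer ((K.map (MulAut.conj g).toMonoidHom : Subgroup G) : Set G) := by
  apply mem_normalizer_of_map_conj_eq
  have h1 := map_conj_eq_of_mem_normalizer hx
  have : g * x * g⁻¹ * g = g * x := by group
  rw [← map_conj_mul, this, map_conj_mul, h1]

theorem mem_normalizer_map_conj_iff {K : Subgroup G} {g y : G} :
    y ∈ Subgroup.normalizer ((K.map (MulAut.conj g).toMonoidHom : Subgroup G) : Set G) ↔
      g⁻¹ * y * g ∈ Subgroup.normalizer (K : Set G) := by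
  constructor
  · intro h
    have := conj_mem_normalizer_map_conj (g := g⁻¹) h
    rwa [map_conj_inv_map_conj, inv_inv] at this
  · intro h
    have := conj_mem_normalizer_map_conj (g := g) h
    have e : g * (g⁻¹ * y * g) * g⁻¹ = y := by group
    rwa [e] at this

theorem coe_smul_sylow_eq_map {p : ℕ} (g : G) (T : Sylow p G) :
    ((g • T : Sylow p G) : Subgroup G) = (T : Subgroup G).map (MulAut.conj g).toMonoidHom := by
  rw [Sylow.coe_subgroup_smul]
  ext x
  rw [Subgroup.mem_pointwise_smul_iff_inv_smul_mem, mem_map_conj_iff, MulAut.smul_def]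
  simp

end

section

variable {G : Type*} [Group G] [Finite G] {p : ℕ} [Fact p.Prime]

omit [Fact p.Prime] in
theorem card_lt_card_of_lt' {H K : Subgroup G} (h : H < K) : Nat.card H < Nat.card K := by
  by_contra hle
  rw [not_lt] at hle
  have := Subgroup.eq_of_le_of_card_ge h.le hle
  exact h.ne this

/-- In a finite group, a proper subgroup `P` of a `p`-subgroup `Q` is normalized by some element
of `Q` outside `P`. -/
theorem exists_mem_normalizer_not_mem_of_lt {P Q : Subgroup G} (hQ : IsPGroup p Q) (hPQ : P < Q) :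
    ∃ y ∈ Q, y ∉ P ∧ y ∈ Subgroup.normalizer (P : Set G) := by
  have : Group.IsNilpotent Q := hQ.isNilpotent
  have hnc : NormalizerCondition Q := Group.normalizerCondition_of_isNilpotent
  have hlt : P.subgroupOf Q < ⊤ := by
    rw [lt_top_iff_ne_top, Ne, Subgroup.subgroupOf_eq_top]
    exact not_le_of_gt hPQ
  obtain ⟨hle, hnle⟩ := hnc _ hlt
  obtain ⟨y, hy1, hy2⟩ := SetLike.not_le_iff_exists.1 hnle
  refine ⟨y, y.2, ?_, ?_⟩
  · intro hyP
    exact hy2 (Subgroup.mem_subgroupOf.2 hyP)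
  · apply mem_normalizer_of_conj_mem
    intro t ht
    have ht' : (⟨t, hPQ.le ht⟩ : Q) ∈ P.subgroupOf Q := Subgroup.mem_subgroupOf.2 ht
    have := (Subgroup.mem_normalizer_iff.1 hy1 _).1 ht'
    rw [Subgroup.mem_subgroupOf] at this
    simpa using this

/-- A `p`-subgroup `A` of `M` can be conjugated by an element of `M` into a Sylow `P ≤ M`. -/
theorem exists_conj_le_sylow_of_le (P : Sylow p G) {M A : Subgroup G} (hPM : (P : Subgroup G) ≤ M)
    (hAM : A ≤ M) (hA : IsPGroup p A) :
    ∃ m ∈ M, A.map (MulAut.conj m).toMonoidHom ≤ P := by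
  have hA1 : IsPGroup p (A.subgroupOf M) := hA.comap_subtype
  obtain ⟨Q', hQ'⟩ := hA1.exists_le_sylow
  obtain ⟨m, hm⟩ := MulAction.exists_smul_eq M Q' (P.subtype hPM)
  refine ⟨m, m.2, ?_⟩
  rintro _ ⟨a, ha, rfl⟩
  have h1 : (⟨a, hAM ha⟩ : M) ∈ (Q' : Subgroup M) := hQ' (Subgroup.mem_subgroupOf.2 ha)
  have h2 : m * ⟨a, hAM ha⟩ * m⁻¹ ∈ ((m • Q' : Sylow p M) : Subgroup M) := by
    rw [Sylow.coe_subgroup_smul]
    exact ⟨_, h1, rfl⟩
  rw [hm, Sylow.coe_subtype, Subgroup.mem_subgroupOf] at h2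
  simpa using h2

end

end Cfsg.Agent.Lib.Helper53
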