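import Mathlib

set_option autoImplicit false

namespace Cfsg.Agent.Lib.Helper53

section S4
variable {Γ : Type*} [Group Γ] [Finite Γ]

/-- A finite group `Γ = U M` with `U` a normal abelian `2`-subgroup, `M` of index `4`, containing a
`2`-element `t ∈ M` and an element `x` of odd prime order `r`, both acting non-trivially on the cosets
of `M`, maps onto the symmetric group of degree `4`. -/
theorem exists_surj_perm4 (U M : Subgroup Γ) [U.Normal]
    (hUc : ∀ a ∈ U, ∀ b ∈ U, a * b = b * a) (hU2 : IsPGroup 2 U) (hUM : U ⊔ M = ⊤)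
    (hidx : M.index = 4)
    (t : Γ) (htM : t ∈ M) (ht2 : IsPGroup 2 (Subgroup.zpowers t))
    (htu : ∃ u ∈ U, u⁻¹ * t * u ∉ M)
    (x : Γ) (r : ℕ) (hr : r.Prime) (hr2 : r ≠ 2) (hxr : x ^ r = 1)
    (hxu : ∃ u ∈ U, u⁻¹ * x * u ∉ M) :
    ∃ f : Γ →* Equiv.Perm (Fin 4), Function.Surjective f := by
  classical
  set f₀ := MulAction.toPermHom Γ (Γ ⧸ M) with hf₀
  have hcard4 : Nat.card (Γ ⧸ M) = 4 := by rw [← Subgroup.index_eq_card]; exact hidx
  have happ : ∀ g h : Γ, f₀ g (h : Γ ⧸ M) = ((g * h : Γ) : Γ ⧸ M) := fun g h => rfl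
  -- every coset is `u M`
  have hcos : ∀ q : Γ ⧸ M, ∃ u ∈ U, q = ((u : Γ) : Γ ⧸ M) := by
    intro q
    obtain ⟨g, rfl⟩ := QuotientGroup.mk_surjective q
    have hg : g ∈ U ⊔ M := by rw [hUM]; exact Subgroup.mem_top _
    rw [sup_comm, Subgroup.mem_sup_of_normal_right] at hg
    obtain ⟨m, hm, u, hu, rfl⟩ := hg
    refine ⟨m * u * m⁻¹, Subgroup.Normal.conj_mem inferInstance u hu m, ?_⟩
    rw [QuotientGroup.eq]
    have : (m * u)⁻¹ * (m * u * m⁻¹) = m⁻¹ := by group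
    rw [this]
    exact M.inv_mem hm
  -- elements of `U ∩ M` act trivially
  have htriv : ∀ u ∈ U, u ∈ M → f₀ u = 1 := by
    intro u hu huM
    ext q
    obtain ⟨v, hv, rfl⟩ := hcos q
    rw [happ, Equiv.Perm.one_apply, QuotientGroup.eq]
    have : (u * v)⁻¹ * v = v⁻¹ * u⁻¹ * v := by group
    rw [this]
    have h1 : v⁻¹ * u⁻¹ * v = u⁻¹ := by
      have := hUc v⁻¹ (U.inv_mem hv) u⁻¹ (U.inv_mem hu)
      rw [this]; group
    rw [h1]
    exact M.inv_mem huM
  have hperm : Nat.card (Equiv.Perm (Γ ⧸ M)) = 24 := by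
    rw [Nat.card_perm, hcard4]; rfl
  have hrange_dvd : Nat.card f₀.range ∣ 24 := by
    rw [← hperm]; exact Subgroup.card_subgroup_dvd_card _
  -- the element of order r
  have hnontriv : ∀ g : Γ, (∃ u ∈ U, u⁻¹ * g * u ∉ M) → f₀ g ≠ 1 := by
    rintro g ⟨u, hu, hug⟩ h
    have h1 := happ g u
    rw [h, Equiv.Perm.one_apply] at h1
    apply hug
    have h2 := QuotientGroup.eq.mp h1
    have : u⁻¹ * g * u = (u⁻¹ * (g * u)) := by group
    rw [this]; exact h2
  have hx1 : f₀ x ≠ 1 := hnontriv x hxu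
  have ht1 : f₀ t ≠ 1 := hnontriv t htu
  have hxo : orderOf (f₀ x) = r := by
    haveI : Fact r.Prime := ⟨hr⟩
    apply orderOf_eq_prime
    · rw [← map_pow, hxr, map_one]
    · exact hx1
  have hr_dvd : r ∣ Nat.card f₀.range := by
    have h1 : orderOf (⟨f₀ x, ⟨x, rfl⟩⟩ : f₀.range) ∣ Nat.card f₀.range := orderOf_dvd_natCard _
    have h2 : orderOf (⟨f₀ x, ⟨x, rfl⟩⟩ : f₀.range) = orderOf (f₀ x) := by
      rw [← Subgroup.orderOf_coe]
    rw [h2, hxo] at h1
    exact h1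
  have hr3 : r = 3 := by
    have h1 : r ∣ 24 := hr_dvd.trans hrange_dvd
    have h2 : r ∣ 2 ^ 3 * 3 := by norm_num; exact h1
    rcases (Nat.Prime.dvd_mul hr).mp h2 with h3 | h3
    · have := (Nat.prime_dvd_prime_iff_eq hr Nat.prime_two).mp (hr.dvd_of_dvd_pow h3)
      exact absurd this hr2
    · exact (Nat.prime_dvd_prime_iff_eq hr Nat.prime_three).mp h3
  -- the 2-subgroup
  have hS2 : IsPGroup 2 ((U ⊔ Subgroup.zpowers t).map f₀) :=
    (IsPGroup.to_sup_of_normal_left hU2 ht2).map f₀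
  have hUS : U.map f₀ ≤ (U ⊔ Subgroup.zpowers t).map f₀ := Subgroup.map_mono le_sup_left
  have hUS_ne : U.map f₀ ≠ (U ⊔ Subgroup.zpowers t).map f₀ := by
    intro heq
    have h1 : f₀ t ∈ (U ⊔ Subgroup.zpowers t).map f₀ :=
      ⟨t, le_sup_right (a := U) (Subgroup.mem_zpowers t), rfl⟩
    rw [← heq] at h1
    obtain ⟨u, hu, hut⟩ := h1
    have h2 : u ∈ M := by
      have h3 := happ u 1
      rw [hut, happ] at h3
      simp only [mul_one] at h3
      have h4 := QuotientGroup.eq.mp h3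
      have : u = t * (t⁻¹ * u) := by group
      rw [this]
      exact M.mul_mem htM h4
    have h5 := htriv u hu h2
    rw [hut] at h5
    exact ht1 h5
  have hUcard : 4 ≤ Nat.card (U.map f₀) := by
    rw [← hcard4]
    apply Nat.card_le_card_of_surjective (fun σ : U.map f₀ => (σ : Equiv.Perm (Γ ⧸ M)) ((1 : Γ) : Γ ⧸ M))
    intro q
    obtain ⟨u, hu, rfl⟩ := hcos q
    refine ⟨⟨f₀ u, ⟨u, hu, rfl⟩⟩, ?_⟩
    show f₀ u ((1 : Γ) : Γ ⧸ M) = _
    rw [happ, mul_one]
  have hlt : Nat.card (U.map f₀) < Nat.card ((U ⊔ Subgroup.zpowers t).map f₀) := by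
    have h1 : Nat.card (U.map f₀) ≤ Nat.card ((U ⊔ Subgroup.zpowers t).map f₀) :=
      Subgroup.card_le_of_le hUS
    rcases h1.lt_or_eq with h | h
    · exact h
    · exact absurd (Subgroup.eq_of_le_of_card_ge hUS h.ge) hUS_ne
  obtain ⟨j, hj⟩ := IsPGroup.iff_card.mp hS2
  have hj3 : 3 ≤ j := by
    by_contra hcon
    have hj2 : j ≤ 2 := by omega
    have : 2 ^ j ≤ 2 ^ 2 := Nat.pow_le_pow_right (by norm_num) hj2
    omega
  have h8 : 8 ∣ Nat.card f₀.range := by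
    have h1 : Nat.card ((U ⊔ Subgroup.zpowers t).map f₀) ∣ Nat.card f₀.range := by
      apply Subgroup.card_dvd_of_le
      rintro _ ⟨g, _, rfl⟩
      exact ⟨g, rfl⟩
    rw [hj] at h1
    exact (pow_dvd_pow 2 hj3).trans h1
  have h24 : Nat.card f₀.range = 24 := by
    have h3 : 3 ∣ Nat.card f₀.range := hr3 ▸ hr_dvd
    have h1 : 24 ∣ Nat.card f₀.range := by
      have : Nat.Coprime 8 3 := by norm_num
      have := this.mul_dvd_of_dvd_of_dvd h8 h3
      simpa using this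
    exact Nat.dvd_antisymm hrange_dvd h1
  have hsurj : Function.Surjective f₀ := by
    rw [← MonoidHom.range_eq_top, ← Subgroup.card_eq_iff_eq_top, h24, hperm]
  let e : (Γ ⧸ M) ≃ Fin 4 := Finite.equivFinOfCardEq hcard4
  refine ⟨(e.permCongrHom).toMonoidHom.comp f₀, ?_⟩
  exact (e.permCongrHom).surjective.comp hsurj

end S4

end Cfsg.Agent.Lib.Helper53
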