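import Mathlib
import Cfsg.Prelude.Def_LocalEven
import Cfsg.Agent.Lib.Helper53.S4Rec
import Cfsg.Agent.Lib.Helper53.Conj
import Cfsg.Agent.Lib.Helper90.Involves
import Cfsg.Agent.Lib.Helper58.ProductFormula
import Cfsg.Agent.Lib.Helper74.NPC

set_option autoImplicit false
open Cfsg

namespace Cfsg.Agent.Lib.Helper53

section S4Inv
variable {G : Type*} [Group G] [Finite G]

/-- an element of odd order `r` centralizing `U/C` and `C` centralizes the `2`-group `U` -/
theorem commute_of_unipotent (U C : Subgroup G) (hU2 : IsPGroup 2 U) (hCU : C ≤ U)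
    (y : G) (r : ℕ) (hr : Odd r) (hyr : y ^ r = 1) (hyC : ∀ c ∈ C, y * c = c * y)
    (h : ∀ w ∈ U, w⁻¹ * (y * w * y⁻¹) ∈ C) : ∀ w ∈ U, y * w = w * y := by
  intro w hw
  set c := w⁻¹ * (y * w * y⁻¹) with hc
  have hcC : c ∈ C := h w hw
  have hyc : Commute y c := hyC c hcC
  have hconj : y * w * y⁻¹ = w * c := by rw [hc]; group
  have hpow : ∀ n : ℕ, y ^ n * w * (y ^ n)⁻¹ = w * c ^ n := by
    intro n
    induction n with
    | zero => simp
    | succ n ih =>
      have h1 : y ^ (n + 1) * w * (y ^ (n + 1))⁻¹ = y * (y ^ n * w * (y ^ n)⁻¹) * y⁻¹ := by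
        rw [pow_succ']; group
      rw [h1, ih]
      have h2 : y * (w * c ^ n) * y⁻¹ = (y * w * y⁻¹) * (y * c ^ n * y⁻¹) := by group
      rw [h2, hconj]
      have h3 : y * c ^ n * y⁻¹ = c ^ n := by
        have := (hyc.pow_right n).eq
        rw [this]; group
      rw [h3, pow_succ, mul_assoc]
      congr 1
      exact ((Commute.refl c).pow_right n).eq
  have h1 := hpow r
  rw [hyr] at h1
  simp only [one_mul, inv_one, mul_one] at h1
  have hcr : c ^ r = 1 := by
    have : w * c ^ r = w * 1 := by rw [mul_one]; exact h1.symm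
    exact mul_left_cancel this
  have hc1 : c = 1 := by
    obtain ⟨k, hk⟩ := hU2 ⟨c, hCU hcC⟩
    have hk' : c ^ 2 ^ k = 1 := by
      have := congrArg Subtype.val hk
      simpa using this
    have h2 : orderOf c ∣ Nat.gcd r (2 ^ k) :=
      Nat.dvd_gcd (orderOf_dvd_of_pow_eq_one hcr) (orderOf_dvd_of_pow_eq_one hk')
    have h3 : Nat.gcd r (2 ^ k) = 1 := by
      apply Nat.Coprime.pow_right
      rw [Nat.coprime_comm, Nat.coprime_two_left]
      exact hr
    rw [h3] at h2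
    exact orderOf_eq_one_iff.mp (Nat.dvd_one.mp h2)
  rw [hc1, mul_one] at hconj
  calc y * w = (y * w * y⁻¹) * y := by group
    _ = w * y := by rw [hconj]

/-- The configuration producing a section isomorphic to the symmetric group of degree four: a normal
abelian `2`-subgroup `U`, an element `x` of odd prime order with `|U : C_U(x)| = 4`, and a `2`-element
`t` inverting `x`. -/
theorem involves_perm4_of_config (U : Subgroup G) [U.Normal]
    (hUc : ∀ a ∈ U, ∀ b ∈ U, a * b = b * a) (hU2 : IsPGroup 2 U)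
    (x t : G) (r : ℕ) (hr : r.Prime) (hr2 : r ≠ 2) (hxr : x ^ r = 1)
    (hidx : (U ⊓ Subgroup.centralizer {x}).relIndex U = 4)
    (ht2 : ∃ j : ℕ, t ^ 2 ^ j = 1) (htx : t * x * t⁻¹ = x⁻¹) :
    Involves (Equiv.Perm (Fin 4)) G := by
  classical
  have hrodd : Odd r := hr.odd_of_ne_two hr2
  set R := Subgroup.zpowers x with hR
  set N := Subgroup.normalizer (R : Set G) with hN
  set C := U ⊓ Subgroup.centralizer {x} with hC
  have hxR : x ∈ R := Subgroup.mem_zpowers x
  have hRN : R ≤ N := Subgroup.le_normalizer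
  -- F1
  have hUR : ∀ y ∈ U, y ∈ R → y = 1 := by
    intro y hyU hyR
    rw [hR, Subgroup.mem_zpowers_iff] at hyR
    obtain ⟨i, rfl⟩ := hyR
    have h1 : (x ^ i) ^ r = 1 := by
      rw [← zpow_natCast, ← zpow_mul, mul_comm, zpow_mul, zpow_natCast, hxr, one_zpow]
    obtain ⟨k, hk⟩ := hU2 ⟨x ^ i, hyU⟩
    have hk' : (x ^ i) ^ 2 ^ k = 1 := by
      have := congrArg Subtype.val hk
      simpa using this
    have h2 : orderOf (x ^ i) ∣ Nat.gcd r (2 ^ k) :=
      Nat.dvd_gcd (orderOf_dvd_of_pow_eq_one h1) (orderOf_dvd_of_pow_eq_one hk')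
    have h3 : Nat.gcd r (2 ^ k) = 1 := by
      apply Nat.Coprime.pow_right
      rw [Nat.coprime_comm, Nat.coprime_two_left]
      exact hrodd
    rw [h3] at h2
    exact orderOf_eq_one_iff.mp (Nat.dvd_one.mp h2)
  -- F2
  have hUN : U ⊓ N = C := by
    apply le_antisymm
    · rintro u ⟨huU, huN⟩
      refine ⟨huU, ?_⟩
      show u ∈ Subgroup.centralizer {x}
      rw [Subgroup.mem_centralizer_iff]
      intro y hy
      rw [Set.mem_singleton_iff] at hy
      subst hy
      have h1 : u * y * u⁻¹ ∈ R := (Subgroup.mem_normalizer_iff.mp huN y).mp hxR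
      have h2 : u * y * u⁻¹ * y⁻¹ ∈ R := R.mul_mem h1 (R.inv_mem hxR)
      have h3 : u * y * u⁻¹ * y⁻¹ ∈ U := by
        have : u * y * u⁻¹ * y⁻¹ = u * (y * u⁻¹ * y⁻¹) := by group
        rw [this]
        exact U.mul_mem huU (Subgroup.Normal.conj_mem inferInstance _ (U.inv_mem huU) y)
      have h4 := hUR _ h3 h2
      calc y * u = (u * y * u⁻¹ * y⁻¹)⁻¹ * (u * y) := by group
        _ = u * y := by rw [h4]; simp
    · rintro u ⟨huU, huC⟩
      refine ⟨huU, ?_⟩
      apply mem_normalizer_of_conj_mem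
      intro k hk
      rw [hR, Subgroup.mem_zpowers_iff] at hk
      obtain ⟨i, rfl⟩ := hk
      have h1 : Commute u x := (Subgroup.mem_centralizer_iff.mp huC x rfl).symm
      have h2 : u * x ^ i * u⁻¹ = x ^ i := by
        have := (h1.zpow_right i).eq
        rw [this]; group
      rw [h2]
      exact Subgroup.zpow_mem _ hxR i
  -- F3
  have hinvx : t⁻¹ * x * t = x⁻¹ := by
    have h1 : x = t⁻¹ * x⁻¹ * t := by rw [← htx]; group
    calc t⁻¹ * x * t = (t⁻¹ * x⁻¹ * t)⁻¹ := by group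
      _ = x⁻¹ := by rw [← h1]
  have htN : t ∈ N := by
    apply mem_normalizer_of_conj_mem
    intro k hk
    rw [hR, Subgroup.mem_zpowers_iff] at hk
    obtain ⟨i, rfl⟩ := hk
    have h1 : t * x ^ i * t⁻¹ = (t * x * t⁻¹) ^ i := by
      rw [conj_zpow]
    rw [h1, htx]
    exact Subgroup.zpow_mem _ (R.inv_mem hxR) i
  have hCU : C ≤ U := inf_le_left
  have hxC : ∀ c ∈ C, x * c = c * x := by
    intro c hc
    exact (Subgroup.mem_centralizer_iff.mp hc.2 x rfl)
  have hCne : ¬ U ≤ C := by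
    intro h
    have : C.relIndex U = 1 := Subgroup.relIndex_eq_one.mpr h
    rw [this] at hidx
    omega
  -- F5
  have hxu : ∃ u ∈ U, u⁻¹ * x * u ∉ N := by
    by_contra hcon
    push Not at hcon
    apply hCne
    have hT : ∀ w ∈ U, w⁻¹ * (x * w * x⁻¹) ∈ C := by
      intro w hw
      rw [← hUN]
      constructor
      · exact U.mul_mem (U.inv_mem hw) (Subgroup.Normal.conj_mem inferInstance w hw x)
      · have h1 := hcon w hw
        have : w⁻¹ * (x * w * x⁻¹) = (w⁻¹ * x * w) * x⁻¹ := by group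
        rw [this]
        exact N.mul_mem h1 (N.inv_mem (hRN hxR))
    intro w hw
    refine ⟨hw, ?_⟩
    show w ∈ Subgroup.centralizer {x}
    rw [Subgroup.mem_centralizer_iff]
    intro y hy
    rw [Set.mem_singleton_iff] at hy
    subst hy
    exact commute_of_unipotent U C hU2 hCU y r hrodd hxr hxC hT w hw
  -- F6
  have htu : ∃ u ∈ U, u⁻¹ * t * u ∉ N := by
    by_contra hcon
    push Not at hcon
    apply hCne
    -- c(w) = t⁻¹ w t w⁻¹ ∈ C
    have hc : ∀ w ∈ U, t⁻¹ * w * t * w⁻¹ ∈ C := by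
      intro w hw
      rw [← hUN]
      constructor
      · have h1 : t⁻¹ * w * t ∈ U := by
          have := Subgroup.Normal.conj_mem (inferInstance : U.Normal) w hw t⁻¹
          simpa using this
        exact U.mul_mem h1 (U.inv_mem hw)
      · have h1 := hcon w⁻¹ (U.inv_mem hw)
        have : t⁻¹ * w * t * w⁻¹ = t⁻¹ * (w⁻¹⁻¹ * t * w⁻¹) := by group
        rw [this]
        exact N.mul_mem (N.inv_mem htN) h1
    -- x⁻¹ w x ≡ x w x⁻¹ mod C
    have hsym : ∀ w ∈ U, (x⁻¹ * w * x) * (x * w⁻¹ * x⁻¹) ∈ C := by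
      intro w hw
      have hw' : x⁻¹ * w * x ∈ U := by
        have := Subgroup.Normal.conj_mem (inferInstance : U.Normal) w hw x⁻¹
        simpa using this
      have h1 := hc w hw
      have h2 := hc _ hw'
      have h3 : x * (t⁻¹ * w * t * w⁻¹) * x⁻¹ = t⁻¹ * w * t * w⁻¹ := by
        have := hxC _ h1
        rw [this]; group
      have hxt : x * t⁻¹ = t⁻¹ * x⁻¹ := by
        have : x = t⁻¹ * x⁻¹ * t := by rw [← htx]; group
        calc x * t⁻¹ = (t⁻¹ * x⁻¹ * t) * t⁻¹ := by rw [← this]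
          _ = t⁻¹ * x⁻¹ := by group
      have htx' : t * x⁻¹ = x * t := by
        have h5 : t * x⁻¹ * t⁻¹ = x := by
          have h6 : t * x⁻¹ * t⁻¹ = (t * x * t⁻¹)⁻¹ := by group
          rw [h6, htx, inv_inv]
        calc t * x⁻¹ = (t * x⁻¹ * t⁻¹) * t := by group
          _ = x * t := by rw [h5]
      have h4 : x * (t⁻¹ * w * t * w⁻¹) * x⁻¹ =
          (t⁻¹ * (x⁻¹ * w * x) * t * (x⁻¹ * w * x)⁻¹) * ((x⁻¹ * w * x) * (x * w⁻¹ * x⁻¹)) := by
        have e1 : x * (t⁻¹ * w * t * w⁻¹) * x⁻¹ = (x * t⁻¹) * w * (t * x⁻¹) * (x * w⁻¹ * x⁻¹) := by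
          group
        rw [e1, hxt, htx']
        group
      rw [h3] at h4
      have h5 : (x⁻¹ * w * x) * (x * w⁻¹ * x⁻¹) =
          (t⁻¹ * (x⁻¹ * w * x) * t * (x⁻¹ * w * x)⁻¹)⁻¹ * (t⁻¹ * w * t * w⁻¹) := by
        rw [h4]; group
      rw [h5]
      exact C.mul_mem (C.inv_mem h2) h1
    -- x² acts trivially mod C
    have hT : ∀ w ∈ U, w⁻¹ * (x ^ 2 * w * (x ^ 2)⁻¹) ∈ C := by
      intro w hw
      have h1 := hsym w hw
      -- conjugate by x
      have h2 : x * ((x⁻¹ * w * x) * (x * w⁻¹ * x⁻¹)) * x⁻¹ = (x⁻¹ * w * x) * (x * w⁻¹ * x⁻¹) := by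
        have := hxC _ h1
        rw [this]; group
      have h3 : x * ((x⁻¹ * w * x) * (x * w⁻¹ * x⁻¹)) * x⁻¹ = w * (x ^ 2 * w⁻¹ * (x ^ 2)⁻¹) := by
        rw [pow_two]; group
      rw [h3] at h2
      have h4 : w * (x ^ 2 * w⁻¹ * (x ^ 2)⁻¹) ∈ C := by rw [h2]; exact h1
      have hcomm : w * (x ^ 2 * w⁻¹ * (x ^ 2)⁻¹) = (w⁻¹ * (x ^ 2 * w * (x ^ 2)⁻¹))⁻¹ := by
        have h5 : x ^ 2 * w * (x ^ 2)⁻¹ ∈ U := Subgroup.Normal.conj_mem inferInstance w hw _
        have h6 := hUc w⁻¹ (U.inv_mem hw) _ h5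
        rw [h6]; group
      rw [hcomm] at h4
      have := C.inv_mem h4
      simpa using this
    have hx2C : ∀ c ∈ C, x ^ 2 * c = c * x ^ 2 := by
      intro c hc
      exact (((show Commute x c from hxC c hc)).pow_left 2).eq
    have hx2r : (x ^ 2) ^ r = 1 := by
      rw [← pow_mul, mul_comm, pow_mul, hxr, one_pow]
    have hcomm2 := commute_of_unipotent U C hU2 hCU (x ^ 2) r hrodd hx2r hx2C hT
    intro w hw
    refine ⟨hw, ?_⟩
    show w ∈ Subgroup.centralizer {x}
    rw [Subgroup.mem_centralizer_iff]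
    intro y hy
    rw [Set.mem_singleton_iff] at hy
    subst hy
    -- y = (y²)^((r+1)/2)
    obtain ⟨m, hm⟩ := hrodd
    have hy : y = (y ^ 2) ^ (m + 1) := by
      rw [← pow_mul]
      have : 2 * (m + 1) = r + 1 := by omega
      rw [this, pow_succ, hxr, one_mul]
    have h1 : Commute (y ^ 2) w := hcomm2 w hw
    rw [hy]
    exact (h1.pow_left (m + 1)).eq
  -- the group Γ = U N
  set X := U ⊔ N with hX
  have hUX : U ≤ X := le_sup_left
  have hNX : N ≤ X := le_sup_right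
  haveI : (U.subgroupOf X).Normal := Subgroup.normal_subgroupOf
  have hUc' : ∀ a ∈ U.subgroupOf X, ∀ b ∈ U.subgroupOf X, a * b = b * a := by
    intro a ha b hb
    exact Subtype.ext (hUc a ha b hb)
  have hU2' : IsPGroup 2 (U.subgroupOf X) := hU2.comap_subtype
  have hUM' : U.subgroupOf X ⊔ N.subgroupOf X = ⊤ := by
    rw [← Subgroup.subgroupOf_sup hUX hNX, ← hX, Subgroup.subgroupOf_self]
  have hidx' : (N.subgroupOf X).index = 4 := by
    show N.relIndex X = 4
    have h1 := Cfsg.Agent.Lib.Helper58.card_sup_mul_card_inf N U (by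
      rw [Subgroup.normalizer_eq_top]; exact le_top)
    have h2 := Cfsg.Agent.Lib.Helper74.relIndex_mul_card_of_le' hNX
    have h3 := Cfsg.Agent.Lib.Helper74.relIndex_mul_card_of_le' (show C ≤ U from hCU)
    rw [hidx] at h3
    have h4 : N ⊔ U = X := by rw [hX, sup_comm]
    have h5 : N ⊓ U = C := by rw [inf_comm, hUN]
    rw [h4, h5] at h1
    have hposN : 0 < Nat.card N := Nat.card_pos
    have hposC : 0 < Nat.card C := Nat.card_pos
    have h6 : N.relIndex X * (Nat.card N * Nat.card C) = 4 * (Nat.card N * Nat.card C) := by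
      calc N.relIndex X * (Nat.card N * Nat.card C) = (N.relIndex X * Nat.card N) * Nat.card C := by
            ring
        _ = Nat.card X * Nat.card C := by rw [h2]
        _ = Nat.card N * Nat.card U := h1
        _ = Nat.card N * (4 * Nat.card C) := by rw [h3]
        _ = 4 * (Nat.card N * Nat.card C) := by ring
    exact Nat.eq_of_mul_eq_mul_right (Nat.mul_pos hposN hposC) h6
  obtain ⟨j, hj⟩ := ht2
  have ht2' : IsPGroup 2 (Subgroup.zpowers (⟨t, hNX htN⟩ : ↥X)) := by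
    rintro ⟨y, hy⟩
    rw [Subgroup.mem_zpowers_iff] at hy
    obtain ⟨i, rfl⟩ := hy
    refine ⟨j, Subtype.ext ?_⟩
    apply Subtype.ext
    simp only [SubgroupClass.coe_zpow, SubmonoidClass.coe_pow, OneMemClass.coe_one]
    rw [← zpow_natCast, ← zpow_mul, mul_comm, zpow_mul, zpow_natCast, hj, one_zpow]
  obtain ⟨u₁, hu₁, hu₁t⟩ := htu
  obtain ⟨u₂, hu₂, hu₂x⟩ := hxu
  obtain ⟨f, hf⟩ := exists_surj_perm4 (U.subgroupOf X) (N.subgroupOf X) hUc' hU2' hUM' hidx'
    (⟨t, hNX htN⟩ : ↥X) (by rw [Subgroup.mem_subgroupOf]; exact htN) ht2'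
    ⟨⟨u₁, hUX hu₁⟩, by rw [Subgroup.mem_subgroupOf]; exact hu₁, by
      rw [Subgroup.mem_subgroupOf]; exact hu₁t⟩
    (⟨x, hNX (hRN hxR)⟩ : ↥X) r hr hr2 (Subtype.ext (by simpa using hxr))
    ⟨⟨u₂, hUX hu₂⟩, by rw [Subgroup.mem_subgroupOf]; exact hu₂, by
      rw [Subgroup.mem_subgroupOf]; exact hu₂x⟩
  exact Cfsg.Agent.Lib.Helper90.involves_of_hom X.subtype f X.subtype_injective hf

end S4Inv

end Cfsg.Agent.Lib.Helper53
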