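import Mathlib
import Cfsg.Agent.Lib.Helper53.ThompsonJA
import Cfsg.Agent.Lib.Helper14.Timmesfeld
import Cfsg.Agent.Lib.Helper14.PAction
import Cfsg.Agent.S0607

set_option autoImplicit false
open Cfsg
open scoped commutatorElement

namespace Cfsg.Agent.Lib.Helper53

open Cfsg.Agent.Lib.Helper14

section Repl
variable {G : Type*} [Group G]

theorem abelian_sup {A B : Subgroup G} (hA : ∀ x ∈ A, ∀ y ∈ A, x * y = y * x)
    (hB : ∀ x ∈ B, ∀ y ∈ B, x * y = y * x) (hAB : ∀ a ∈ A, ∀ b ∈ B, a * b = b * a) :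
    ∀ x ∈ A ⊔ B, ∀ y ∈ A ⊔ B, x * y = y * x := by
  intro x hx y hy
  obtain ⟨a, ha, b, hb, rfl⟩ := Cfsg.Agent.S0607.exists_mul_of_mem_sup_of_commute A B hAB hx
  obtain ⟨a', ha', b', hb', rfl⟩ := Cfsg.Agent.S0607.exists_mul_of_mem_sup_of_commute A B hAB hy
  have h1 : Commute a a' := hA a ha a' ha'
  have h2 : Commute b b' := hB b hb b' hb'
  have h3 : Commute a b' := hAB a ha b' hb'
  have h4 : Commute b a' := (hAB a' ha' b hb).symm
  exact ((h1.mul_right h3).mul_left (h4.mul_right h2)).eq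

/-- a `p`-group `A` acting on an abelian `p`-group `V` with `V ≤ [V, A] C_V(A)` centralizes `V` -/
theorem commutator_eq_bot_of_le_sup_fixed_pgroup [Finite G] {p : ℕ} [Fact p.Prime]
    {V A : Subgroup G} (hcomm : ∀ x ∈ V, ∀ y ∈ V, x * y = y * x) (hVp : IsPGroup p V)
    (hAp : IsPGroup p A) (hAV : A ≤ Subgroup.normalizer (V : Set G))
    (h : V ≤ ⁅V, A⁆ ⊔ (V ⊓ Subgroup.centralizer (A : Set G))) : ⁅V, A⁆ = ⊥ := by
  classical
  have hconj : ∀ a ∈ A, ∀ v ∈ V, a * v * a⁻¹ ∈ V := by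
    intro a ha v hv
    exact ((Subgroup.mem_normalizer_iff.mp (hAV ha)) v).mp hv
  have hcV : ∀ a ∈ A, ∀ v ∈ V, ⁅v, a⁆ ∈ V := by
    intro a ha v hv
    rw [commutatorElement_def]
    have h1 := hconj a ha v⁻¹ (V.inv_mem hv)
    have : v * a * v⁻¹ * a⁻¹ = v * (a * v⁻¹ * a⁻¹) := by group
    rw [this]
    exact V.mul_mem hv h1
  set W := ⁅V, A⁆ with hWdef
  have hWV : W ≤ V := by
    rw [hWdef, Subgroup.commutator_le]
    intro v hv a ha
    exact hcV a ha v hv
  have h2 : ⁅V, A⁆ ≤ ⁅W, A⁆ := by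
    rw [Subgroup.commutator_le]
    intro v hv y hy
    have hv' := h hv
    rw [Subgroup.sup_eq_closure] at hv'
    have key : ∀ z ∈ Subgroup.closure ((W : Set G) ∪
        ((V ⊓ Subgroup.centralizer (A : Set G) : Subgroup G) : Set G)),
        z ∈ V ∧ ⁅z, y⁆ ∈ ⁅W, A⁆ := by
      intro z hz
      induction hz using Subgroup.closure_induction with
      | mem z hz =>
        rcases hz with hz | hz
        · exact ⟨hWV hz, Subgroup.commutator_mem_commutator hz hy⟩
        · refine ⟨hz.1, ?_⟩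
          have hzy := (Subgroup.mem_centralizer_iff.mp hz.2) y hy
          have : ⁅z, y⁆ = 1 := by
            rw [commutatorElement_def]
            calc z * y * z⁻¹ * y⁻¹ = z * (y * z⁻¹) * y⁻¹ := by group
              _ = z * (z⁻¹ * y) * y⁻¹ := by
                  have hc : Commute y z := hzy
                  rw [hc.inv_right.eq]
              _ = 1 := by group
          rw [this]
          exact Subgroup.one_mem _
      | one =>
        refine ⟨V.one_mem, ?_⟩
        have : ⁅(1 : G), y⁆ = 1 := by rw [commutatorElement_def]; group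
        rw [this]
        exact Subgroup.one_mem _
      | mul z z' _ _ ihz ihz' =>
        obtain ⟨hzV, hzc⟩ := ihz
        obtain ⟨hzV', hzc'⟩ := ihz'
        refine ⟨V.mul_mem hzV hzV', ?_⟩
        have hcm := hcomm z hzV _ (hcV y hy z' hzV')
        have : ⁅z * z', y⁆ = ⁅z', y⁆ * ⁅z, y⁆ := by
          calc ⁅z * z', y⁆ = (z * ⁅z', y⁆) * z⁻¹ * ⁅z, y⁆ := by
                simp only [commutatorElement_def]; group
            _ = (⁅z', y⁆ * z) * z⁻¹ * ⁅z, y⁆ := by rw [hcm]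
            _ = ⁅z', y⁆ * ⁅z, y⁆ := by group
        rw [this]
        exact Subgroup.mul_mem _ hzc' hzc
      | inv z _ ihz =>
        obtain ⟨hzV, hzc⟩ := ihz
        refine ⟨V.inv_mem hzV, ?_⟩
        have hcm := hcomm z⁻¹ (V.inv_mem hzV) _ (V.inv_mem (hcV y hy z hzV))
        have : ⁅z⁻¹, y⁆ = ⁅z, y⁆⁻¹ := by
          calc ⁅z⁻¹, y⁆ = (z⁻¹ * ⁅z, y⁆⁻¹) * z := by
                simp only [commutatorElement_def]; group
            _ = (⁅z, y⁆⁻¹ * z⁻¹) * z := by rw [hcm]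
            _ = ⁅z, y⁆⁻¹ := by group
        rw [this]
        exact Subgroup.inv_mem _ hzc
    exact (key v hv').2
  have hWp : IsPGroup p W := hVp.to_le hWV
  have hPW : A ≤ Subgroup.normalizer (W : Set G) :=
    Subgroup.normalizer_commutator_ge_right V A
  exact eq_bot_of_le_commutator_pgroup hWp hAp hPW h2

/-- Thompson replacement (via Timmesfeld) for abelian subgroups of largest order -/
theorem replacementA [Finite G] {p : ℕ} [Fact p.Prime] {P V A : Subgroup G} (hP : IsPGroup p P)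
    [hVn : V.Normal] (hVP : V ≤ P) (hVc : ∀ x ∈ V, ∀ y ∈ V, x * y = y * x)
    (hA : IsMaxAbIn P A) :
    IsMaxAbIn P (⁅V, A⁆ ⊔ (A ⊓ Subgroup.centralizer ((⁅V, A⁆ : Subgroup G) : Set G))) ∧
    ⁅⁅V, ⁅V, A⁆ ⊔ (A ⊓ Subgroup.centralizer ((⁅V, A⁆ : Subgroup G) : Set G))⁆,
      ⁅V, A⁆ ⊔ (A ⊓ Subgroup.centralizer ((⁅V, A⁆ : Subgroup G) : Set G))⁆ = ⊥ ∧
    (⁅V, A⁆ ≠ ⊥ →
      ⁅V, ⁅V, A⁆ ⊔ (A ⊓ Subgroup.centralizer ((⁅V, A⁆ : Subgroup G) : Set G))⁆ ≠ ⊥) := by
  have hVc' : IsMulCommutative V := (isMulComm_iff V).mpr hVc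
  have hVnorm : ∀ X : Subgroup G, X ≤ Subgroup.normalizer (V : Set G) := by
    intro X; rw [Subgroup.normalizer_eq_top]; exact le_top
  have hab : ⁅A, A⁆ ≤ Subgroup.centralizer (V : Set G) := by
    rw [Subgroup.commutator_le]
    intro a ha b hb
    rw [commutatorElement_eq_one_iff_mul_comm.mpr (hA.2.1 a ha b hb)]
    exact Subgroup.one_mem _
  have hmax : ∀ Z : Subgroup G, Z ≤ A → offF V Z ≤ offF V A := by
    intro Z hZA
    unfold offF
    set C := V ⊓ Subgroup.centralizer (Z : Set G) with hC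
    have h1 := card_mul_card_le_sup_mul_inf Z C
    have hZC : ∀ x ∈ Z ⊔ C, ∀ y ∈ Z ⊔ C, x * y = y * x := by
      apply abelian_sup (A := Z) (B := C) (fun x hx y hy => hA.2.1 x (hZA hx) y (hZA hy))
        (fun x hx y hy => hVc x hx.1 y hy.1)
      intro a ha b hb
      exact (Subgroup.mem_centralizer_iff.mp hb.2 a ha)
    have h2 : Nat.card (Z ⊔ C : Subgroup G) ≤ Nat.card A :=
      hA.2.2 _ (sup_le (hZA.trans hA.1) (inf_le_left.trans hVP)) hZC
    have h3 : Nat.card (Z ⊓ C : Subgroup G) ≤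
        Nat.card (V ⊓ Subgroup.centralizer (A : Set G) : Subgroup G) := by
      apply Subgroup.card_le_of_le
      intro x hx
      refine ⟨hx.2.1, ?_⟩
      show x ∈ Subgroup.centralizer (A : Set G)
      rw [Subgroup.mem_centralizer_iff]
      intro a ha
      exact hA.2.1 a ha x (hZA hx.1)
    exact h1.trans (Nat.mul_le_mul h2 h3)
  have hmain := timmesfeld_main (V := V) (A := A) (U := V) hVc' (hVnorm A) hab hmax le_rfl
  obtain ⟨U, hU⟩ : ∃ U : Subgroup G, U = ⁅V, A⁆ := ⟨_, rfl⟩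
  rw [← hU] at hmain ⊢
  obtain ⟨D, hD⟩ : ∃ D : Subgroup G, D = A ⊓ Subgroup.centralizer ((U : Subgroup G) : Set G) :=
    ⟨_, rfl⟩
  rw [← hD] at hmain ⊢
  obtain ⟨hT1, hT2⟩ := hmain
  unfold offF at hT1
  have hUV : U ≤ V := by
    rw [hU]; exact Subgroup.commutator_le_left V A
  have hDA : D ≤ A := by rw [hD]; exact inf_le_left
  have hDU : ∀ u ∈ U, ∀ d ∈ D, u * d = d * u := by
    intro u hu d hd
    rw [hD] at hd
    exact (Subgroup.mem_centralizer_iff.mp hd.2 u hu)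
  have hA0c : ∀ x ∈ U ⊔ D, ∀ y ∈ U ⊔ D, x * y = y * x :=
    abelian_sup (fun x hx y hy => hVc x (hUV hx) y (hUV hy))
      (fun x hx y hy => hA.2.1 x (hDA hx) y (hDA hy)) hDU
  have hA0P : U ⊔ D ≤ P := sup_le (hUV.trans hVP) (hDA.trans hA.1)
  -- C_V(A) ≤ A
  have hCVA_A : V ⊓ Subgroup.centralizer (A : Set G) ≤ A := by
    have hab' : ∀ x ∈ A ⊔ (V ⊓ Subgroup.centralizer (A : Set G)),
        ∀ y ∈ A ⊔ (V ⊓ Subgroup.centralizer (A : Set G)), x * y = y * x := by
      apply abelian_sup (A := A) (B := V ⊓ Subgroup.centralizer (A : Set G)) hA.2.1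
        (fun x hx y hy => hVc x hx.1 y hy.1)
      intro a ha c hc
      exact (Subgroup.mem_centralizer_iff.mp hc.2 a ha)
    have hcard := hA.2.2 _ (sup_le hA.1 (inf_le_left.trans hVP)) hab'
    have heq : A = A ⊔ (V ⊓ Subgroup.centralizer (A : Set G)) :=
      Subgroup.eq_of_le_of_card_ge le_sup_left hcard
    exact le_sup_right.trans heq.symm.le
  have hCVA_D : V ⊓ Subgroup.centralizer (A : Set G) ≤ D := by
    intro x hx
    rw [hD]
    refine ⟨hCVA_A hx, ?_⟩
    show x ∈ Subgroup.centralizer (U : Set G)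
    rw [Subgroup.mem_centralizer_iff]
    intro u hu
    exact hVc u (hUV hu) x hx.1
  have hCVD_le : V ⊓ Subgroup.centralizer (D : Set G) ≤ U ⊔ D := by
    rw [hT2]
    exact sup_le le_sup_left (hCVA_D.trans le_sup_right)
  have hE_le : D ⊔ (V ⊓ Subgroup.centralizer (D : Set G)) ≤ U ⊔ D := sup_le le_sup_right hCVD_le
  have hinf_le : D ⊓ (V ⊓ Subgroup.centralizer (D : Set G)) ≤
      V ⊓ Subgroup.centralizer (A : Set G) := by
    intro x hx
    refine ⟨hx.2.1, ?_⟩
    show x ∈ Subgroup.centralizer (A : Set G)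
    rw [Subgroup.mem_centralizer_iff]
    intro a ha
    exact hA.2.1 a ha x (hDA hx.1)
  have hcardA : Nat.card A ≤ Nat.card (U ⊔ D : Subgroup G) := by
    have h1 := card_mul_card_le_sup_mul_inf D (V ⊓ Subgroup.centralizer (D : Set G))
    have h2 := Subgroup.card_le_of_le hinf_le
    have h3 := Subgroup.card_le_of_le hE_le
    have hpos : 0 < Nat.card (V ⊓ Subgroup.centralizer (A : Set G) : Subgroup G) := Nat.card_pos
    have h4 : Nat.card A * Nat.card (V ⊓ Subgroup.centralizer (A : Set G) : Subgroup G) ≤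
        Nat.card (U ⊔ D : Subgroup G) *
          Nat.card (V ⊓ Subgroup.centralizer (A : Set G) : Subgroup G) := by
      calc Nat.card A * Nat.card (V ⊓ Subgroup.centralizer (A : Set G) : Subgroup G)
          = Nat.card D * Nat.card (V ⊓ Subgroup.centralizer (D : Set G) : Subgroup G) := hT1.symm
        _ ≤ _ := h1
        _ ≤ _ := Nat.mul_le_mul h3 h2
    exact Nat.le_of_mul_le_mul_right h4 hpos
  have hA0C : U ⊔ D ≤ Subgroup.centralizer ((U : Subgroup G) : Set G) := by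
    apply sup_le
    · intro u hu
      rw [Subgroup.mem_centralizer_iff]
      intro u' hu'
      exact hVc u' (hUV hu') u (hUV hu)
    · rw [hD]; exact inf_le_right
  have hVA0 : ⁅V, U ⊔ D⁆ ≤ U := by
    rw [Subgroup.commutator_le]
    intro v hv x hx
    obtain ⟨u, hu, d, hd, rfl⟩ := Cfsg.Agent.S0607.exists_mul_of_mem_sup_of_commute U D hDU hx
    have h1 : ⁅v, d⁆ ∈ U := by
      rw [hU]; exact Subgroup.commutator_mem_commutator hv (hDA hd)
    have h2 : ⁅v, u * d⁆ = ⁅v, d⁆ := by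
      rw [commutatorElement_def, commutatorElement_def]
      have hc1 : v * u = u * v := hVc v hv u (hUV hu)
      have hc2 : u * (v * d * v⁻¹ * d⁻¹) = (v * d * v⁻¹ * d⁻¹) * u := by
        have : v * d * v⁻¹ * d⁻¹ ∈ V := hUV (by rw [← commutatorElement_def]; exact h1)
        exact hVc u (hUV hu) _ this
      calc v * (u * d) * v⁻¹ * (u * d)⁻¹ = (v * u) * d * v⁻¹ * d⁻¹ * u⁻¹ := by group
        _ = u * (v * d * v⁻¹ * d⁻¹) * u⁻¹ := by rw [hc1]; group
        _ = v * d * v⁻¹ * d⁻¹ := by rw [hc2]; group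
    rw [h2]; exact h1
  refine ⟨⟨hA0P, hA0c, fun B hB hBc => (hA.2.2 B hB hBc).trans hcardA⟩, ?_, ?_⟩
  · rw [eq_bot_iff]
    calc ⁅⁅V, U ⊔ D⁆, U ⊔ D⁆ ≤ ⁅U, Subgroup.centralizer ((U : Subgroup G) : Set G)⁆ :=
          Subgroup.commutator_mono hVA0 hA0C
      _ = ⊥ := by
          rw [Subgroup.commutator_eq_bot_iff_le_centralizer]
          intro u hu
          rw [Subgroup.mem_centralizer_iff]
          intro c hc
          exact (Subgroup.mem_centralizer_iff.mp hc u hu).symm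
  · intro hUne hbot
    apply hUne
    rw [hU]
    apply commutator_eq_bot_of_le_sup_fixed_pgroup hVc (hP.to_le hVP) (hP.to_le hA.1) (hVnorm A)
    rw [← hU, ← hT2]
    apply le_inf le_rfl
    have hVD : ⁅V, D⁆ = ⊥ := by
      rw [eq_bot_iff, ← hbot]
      exact Subgroup.commutator_mono le_rfl le_sup_right
    rw [Subgroup.commutator_eq_bot_iff_le_centralizer] at hVD
    exact hVD

end Repl

end Cfsg.Agent.Lib.Helper53
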