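import Mathlib
import Cfsg.Agent.Lib.Helper53.ReplaceA
import Cfsg.Agent.Lib.Lead.ThompsonF

set_option autoImplicit false
open Cfsg
open Cfsg.Agent.Lib.Helper02 Cfsg.Agent.Lib.Helper97 Cfsg.Agent.Lib.Lead
open scoped commutatorElement

namespace Cfsg.Agent.Lib.Helper53

section Quad
variable {G : Type*} [Group G]

/-- an element acting quadratically on an abelian group of exponent `p` has its `p`-th power acting
trivially -/
theorem pow_mem_centralizer_of_quadratic {p : ℕ} (U : Subgroup G) [U.Normal]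
    (hUp : ∀ u ∈ U, u ^ p = 1) (b : G)
    (hbq : ∀ u ∈ U, b * (u * b * u⁻¹ * b⁻¹) = (u * b * u⁻¹ * b⁻¹) * b) :
    b ^ p ∈ Subgroup.centralizer (U : Set G) := by
  rw [Subgroup.mem_centralizer_iff]
  intro u hu
  obtain ⟨c, hc⟩ : ∃ c, c = b * u * b⁻¹ * u⁻¹ := ⟨_, rfl⟩
  have hcU : c ∈ U := by
    rw [hc]
    exact U.mul_mem (Subgroup.Normal.conj_mem inferInstance u hu b) (U.inv_mem hu)
  have hbc : Commute b c := by
    have h1 := hbq u hu
    have h2 : u * b * u⁻¹ * b⁻¹ = c⁻¹ := by rw [hc]; group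
    rw [h2] at h1
    have h3 := (show Commute b c⁻¹ from h1).inv_right
    simpa using h3
  have hconj : b * u * b⁻¹ = c * u := by rw [hc]; group
  have hpow : ∀ n : ℕ, b ^ n * u * (b ^ n)⁻¹ = c ^ n * u := by
    intro n
    induction n with
    | zero => simp
    | succ n ih =>
      have h1 : b ^ (n + 1) * u * (b ^ (n + 1))⁻¹ = b * (b ^ n * u * (b ^ n)⁻¹) * b⁻¹ := by
        rw [pow_succ']; group
      rw [h1, ih]
      have h2 : b * (c ^ n * u) * b⁻¹ = (b * c ^ n * b⁻¹) * (b * u * b⁻¹) := by group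
      rw [h2, hconj]
      have h3 : b * c ^ n * b⁻¹ = c ^ n := by
        have := (hbc.pow_right n).eq
        rw [this]; group
      rw [h3, pow_succ, mul_assoc]
  have h1 := hpow p
  rw [hUp c hcU, one_mul] at h1
  calc u * b ^ p = (b ^ p * u * (b ^ p)⁻¹)⁻¹⁻¹ * b ^ p := by rw [h1]; group
    _ = b ^ p * u := by group

end Quad

section Cent
universe u
variable {G : Type u} [Group G] [Finite G] {p : ℕ} [Fact p.Prime]

/-- an element of `P` centralizing `K/H₀` lies in `H₀ = O_p(G)` -/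
theorem mem_of_centralizes_K (H₀ : Subgroup G) [H₀.Normal] (hHp : IsPGroup p H₀)
    (hHmax : ∀ X : Subgroup G, X.Normal → IsPGroup p X → X ≤ H₀) (P : Sylow p G)
    (K : Subgroup G) [K.Normal]
    (hKP : ∀ g : G, ∃ k ∈ K, ∃ x ∈ (P : Subgroup G), g = k * x)
    (b : G) (hbP : b ∈ (P : Subgroup G))
    (hcent : ∀ x ∈ K.map (QuotientGroup.mk' H₀), QuotientGroup.mk' H₀ b * x = x * QuotientGroup.mk' H₀ b) :
    b ∈ H₀ := by
  classical
  set f := QuotientGroup.mk' H₀ with hf
  have hfs : Function.Surjective f := QuotientGroup.mk'_surjective H₀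
  haveI hKn : (K.map f).Normal := ‹K.Normal›.map f hfs
  haveI : (Subgroup.centralizer ((K.map f : Subgroup (G ⧸ H₀)) : Set (G ⧸ H₀))).Normal :=
    Subgroup.normal_centralizer
  set Y := (P : Subgroup G).map f ⊓
    Subgroup.centralizer ((K.map f : Subgroup (G ⧸ H₀)) : Set (G ⧸ H₀)) with hY
  have hYn : Y.Normal := by
    constructor
    intro y hy g
    obtain ⟨g0, rfl⟩ := hfs g
    obtain ⟨k, hk, x, hx, rfl⟩ := hKP g0
    have hy' : f x * y * (f x)⁻¹ ∈ Y := by
      refine ⟨?_, ?_⟩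
      · exact Subgroup.mul_mem _ (Subgroup.mul_mem _ (Subgroup.mem_map_of_mem f hx) hy.1)
          (Subgroup.inv_mem _ (Subgroup.mem_map_of_mem f hx))
      · exact ‹(Subgroup.centralizer ((K.map f : Subgroup (G ⧸ H₀)) : Set (G ⧸ H₀))).Normal›.conj_mem
          y hy.2 (f x)
    have h1 : f (k * x) * y * (f (k * x))⁻¹ = f k * (f x * y * (f x)⁻¹) * (f k)⁻¹ := by
      rw [map_mul]; group
    rw [h1]
    have h2 := Subgroup.mem_centralizer_iff.mp hy'.2 (f k) (Subgroup.mem_map_of_mem f hk)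
    have h3 : f k * (f x * y * (f x)⁻¹) * (f k)⁻¹ = f x * y * (f x)⁻¹ := by
      rw [h2]; group
    rw [h3]
    exact hy'
  have hYp : IsPGroup p Y := (P.2.map f).to_le inf_le_left
  have hYc : IsPGroup p (Y.comap f) := by
    apply hYp.comap_of_ker_isPGroup f
    rw [hf, QuotientGroup.ker_mk']
    exact hHp
  have hYH : Y.comap f ≤ H₀ := hHmax _ (hYn.comap f) hYc
  apply hYH
  rw [Subgroup.mem_comap]
  refine ⟨Subgroup.mem_map_of_mem f hbP, ?_⟩
  show f b ∈ Subgroup.centralizer ((K.map f : Subgroup (G ⧸ H₀)) : Set (G ⧸ H₀))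
  rw [Subgroup.mem_centralizer_iff]
  intro x hx
  exact (hcent x hx).symm

end Cent

section E7
universe u
variable {G : Type u} [Group G] [Finite G] {p : ℕ} [Fact p.Prime]

open scoped IsMulCommutative in
/-- (E7') a quadratic element of `P` lies in `H₀` (`p` odd) -/
theorem stepE7' (hp2 : p ≠ 2) (H₀ : Subgroup G) [H₀.Normal] (hHp : IsPGroup p H₀)
    (hHmax : ∀ X : Subgroup G, X.Normal → IsPGroup p X → X ≤ H₀) (P : Sylow p G)
    (K : Subgroup G) [K.Normal] (hKc : (Nat.card (K.map (QuotientGroup.mk' H₀))).Coprime p)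
    (hKab : ∀ x ∈ K.map (QuotientGroup.mk' H₀), ∀ y ∈ K.map (QuotientGroup.mk' H₀), x * y = y * x)
    (hKP : ∀ g : G, ∃ k ∈ K, ∃ x ∈ (P : Subgroup G), g = k * x)
    (U : Subgroup G) [U.Normal] (hU : IsElementaryAbelian p U)
    (hHU : H₀ ≤ Subgroup.centralizer (U : Set G)) (hUH : Subgroup.centralizer (U : Set G) ≤ H₀)
    (b : G) (hbP : b ∈ (P : Subgroup G))
    (hbq : ∀ u ∈ U, b * (u * b * u⁻¹ * b⁻¹) = (u * b * u⁻¹ * b⁻¹) * b) : b ∈ H₀ := by
  classical
  set f := QuotientGroup.mk' H₀ with hf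
  have hfs : Function.Surjective f := QuotientGroup.mk'_surjective H₀
  haveI : IsMulCommutative ↥U := hU.1
  have hbp : b ^ p ∈ H₀ := hUH (pow_mem_centralizer_of_quadratic U hU.2 b hbq)
  let a₀ : G →* MulAut ↥U := MulAut.conjNormal
  have hker : H₀ ≤ a₀.ker := by
    intro x hx
    rw [MonoidHom.mem_ker]
    ext u
    have h1 := Subgroup.mem_centralizer_iff.mp (hHU hx) (u : G) u.2
    rw [MulAut.conjNormal_apply]
    simp only [MulAut.one_apply]
    calc x * (u : G) * x⁻¹ = ((u : G) * x) * x⁻¹ := by rw [h1]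
      _ = u := by group
  let a : G ⧸ H₀ →* MulAut ↥U := QuotientGroup.lift H₀ a₀ hker
  have ha_mk : ∀ g : G, a (f g) = a₀ g := fun g => rfl
  have ha : Function.Injective a := by
    rw [injective_iff_map_eq_one]
    intro x hx
    obtain ⟨g, rfl⟩ := hfs x
    rw [ha_mk] at hx
    rw [hf, QuotientGroup.mk'_apply, QuotientGroup.eq_one_iff]
    apply hUH
    rw [Subgroup.mem_centralizer_iff]
    intro u hu
    have h1 : a₀ g ⟨u, hu⟩ = ⟨u, hu⟩ := by rw [hx]; rfl
    have h2 := congrArg Subtype.val h1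
    rw [MulAut.conjNormal_apply] at h2
    simp only at h2
    calc u * g = (g * u * g⁻¹) * g := by rw [h2]
      _ = g * u := by group
  have hV : ∀ v : ↥U, v ^ p = 1 := fun v => Subtype.ext (by simpa using hU.2 v v.2)
  haveI hKn : (K.map f).Normal := ‹K.Normal›.map f hfs
  have hβ : (f b) ^ p = 1 := by
    rw [← map_pow, hf, QuotientGroup.mk'_apply, QuotientGroup.eq_one_iff]
    exact hbp
  have hquad : ∀ v : ↥U, a (f b) (a (f b) v * v⁻¹) = a (f b) v * v⁻¹ := by
    intro v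
    rw [ha_mk]
    apply Subtype.ext
    have hav : ∀ w : ↥U, ((a₀ b w : ↥U) : G) = b * (w : G) * b⁻¹ := fun w =>
      MulAut.conjNormal_apply b w
    rw [hav]
    simp only [Subgroup.coe_mul, Subgroup.coe_inv, hav]
    have hc := hbq (v : G) v.2
    set c := (v : G) * b * (v : G)⁻¹ * b⁻¹ with hcdef
    have h1 : b * (v : G) * b⁻¹ * (v : G)⁻¹ = c⁻¹ := by rw [hcdef]; group
    rw [h1]
    have h2 : Commute b c⁻¹ := (show Commute b c from hc).inv_right
    calc b * c⁻¹ * b⁻¹ = (c⁻¹ * b) * b⁻¹ := by rw [h2.eq]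
      _ = c⁻¹ := by group
  have hcent := Helper04.quadratic_centralizes hp2 a ha hV (K.map f) hKab hKc (f b) hβ hquad
  exact mem_of_centralizes_K H₀ hHp hHmax P K hKP b hbP hcent

end E7

end Cfsg.Agent.Lib.Helper53
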