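import Mathlib
import Cfsg.Agent.Lib.Helper53.ThompsonFin
import Cfsg.Agent.Lib.Helper53.S4Inv

set_option autoImplicit false
open Cfsg
open Cfsg.Agent.Lib.Helper02 Cfsg.Agent.Lib.Helper97 Cfsg.Agent.Lib.Lead
open scoped commutatorElement

namespace Cfsg.Agent.Lib.Helper53

section Aux
variable {G : Type*} [Group G] [Finite G] {p : ℕ} [Fact p.Prime]

theorem pn_of_isPGroup (h : IsPGroup p G) : HasNormalPComplement p G := by
  apply pn_iff.mpr
  refine ⟨⊥, inferInstance, by simp, ?_⟩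
  rw [Subgroup.index_bot]
  exact IsPGroup.iff_card.mp h

end Aux

section T1
universe u
variable {G : Type u} [Group G] [Finite G]

set_option maxHeartbeats 800000 in
/-- the reduction (via the induction hypothesis) to the case where `a` inverts `K/H₀` and `P = H₀ A` -/
theorem inverts_all (P : Sylow 2 G) (H₀ : Subgroup G) [H₀.Normal]
    (hHp : IsPGroup 2 H₀)
    (hHmax : ∀ X : Subgroup G, X.Normal → IsPGroup 2 X → X ≤ H₀)
    (hCH : Subgroup.centralizer (H₀ : Set G) ≤ H₀) (K : Subgroup G) [K.Normal] (hHK : H₀ ≤ K)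
    (hKP' : K ⊓ P ≤ H₀) (hKP : ∀ g : G, ∃ k ∈ K, ∃ x ∈ (P : Subgroup G), g = k * x)
    (hKc : (Nat.card (K.map (QuotientGroup.mk' H₀))).Coprime 2)
    (hKc' : (H₀.relIndex K).Coprime 2)
    (hKab : ∀ x ∈ K.map (QuotientGroup.mk' H₀), ∀ y ∈ K.map (QuotientGroup.mk' H₀), x * y = y * x)
    (A : Subgroup G) (hA : IsMaxAbIn (P : Subgroup G) A) (hA2 : ∀ b ∈ A, b ^ 2 ∈ H₀)
    (a : G) (haA : a ∈ A) (haH : a ∉ H₀)
    (hCZ : HasNormalPComplement 2 ↥(Subgroup.centralizer (ZC (P : Subgroup G) : Set G)))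
    (hIH : ∀ L : Subgroup G, L ≠ ⊤ → ∀ S : Sylow 2 ↥L,
      hyp2 2 JAfun Zfun ↥L (S : Subgroup ↥L) → HasNormalPComplement 2 ↥L) :
    (∀ k ∈ K, QuotientGroup.mk' H₀ (a * k * a⁻¹) = (QuotientGroup.mk' H₀ k)⁻¹) ∧
      ∀ s ∈ (P : Subgroup G), ∃ h ∈ H₀, ∃ b ∈ A, s = h * b := by
  classical
  haveI : Fact (Nat.Prime 2) := ⟨Nat.prime_two⟩
  set f := QuotientGroup.mk' H₀ with hf
  have hfs : Function.Surjective f := QuotientGroup.mk'_surjective H₀
  have hker : ∀ x : G, f x = 1 ↔ x ∈ H₀ := fun x => QuotientGroup.eq_one_iff x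
  have hHP : H₀ ≤ P := hHp.le_sylow_of_normal P
  have haP : a ∈ (P : Subgroup G) := hA.1 haA
  have ha2 : f a * f a = 1 := by
    rw [← map_mul, hker, ← pow_two]; exact hA2 a haA
  have hainv : (f a)⁻¹ = f a := inv_eq_of_mul_eq_one_left ha2
  have hAab : ∀ b ∈ A, ∀ b' ∈ A, f b * f b' = f b' * f b := by
    intro b hb b' hb'
    rw [← map_mul, ← map_mul, hA.2.1 b hb b' hb']
  haveI hKbn : (K.map f).Normal := ‹K.Normal›.map f hfs
  -- the inverted subgroup
  let Inv : Subgroup (G ⧸ H₀) :=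
    { carrier := {y | y ∈ K.map f ∧ f a * y * (f a)⁻¹ = y⁻¹}
      mul_mem' := by
        rintro y z ⟨hy, hy'⟩ ⟨hz, hz'⟩
        refine ⟨Subgroup.mul_mem _ hy hz, ?_⟩
        have h1 : f a * (y * z) * (f a)⁻¹ = (f a * y * (f a)⁻¹) * (f a * z * (f a)⁻¹) := by group
        rw [h1, hy', hz', mul_inv_rev]
        exact hKab _ (Subgroup.inv_mem _ hy) _ (Subgroup.inv_mem _ hz)
      one_mem' := ⟨Subgroup.one_mem _, by simp⟩
      inv_mem' := by
        rintro y ⟨hy, hy'⟩
        refine ⟨Subgroup.inv_mem _ hy, ?_⟩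
        have h1 : f a * y⁻¹ * (f a)⁻¹ = (f a * y * (f a)⁻¹)⁻¹ := by group
        rw [h1, hy'] }
  have hInv : ∀ y, y ∈ Inv ↔ y ∈ K.map f ∧ f a * y * (f a)⁻¹ = y⁻¹ := fun y => Iff.rfl
  set K₁ := Inv.comap f with hK₁
  have hHK₁ : H₀ ≤ K₁ := by
    intro x hx
    rw [hK₁, Subgroup.mem_comap, (hker x).mpr hx]
    exact Inv.one_mem
  have hK₁K : K₁ ≤ K := by
    intro x hx
    rw [hK₁, Subgroup.mem_comap, hInv] at hx
    obtain ⟨k, hk, hkx⟩ := hx.1
    have h1 : k⁻¹ * x ∈ H₀ := by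
      rw [← hker, map_mul, map_inv, hkx]; simp
    have : x = k * (k⁻¹ * x) := by group
    rw [this]
    exact K.mul_mem hk (hHK h1)
  have hfix : ∀ y ∈ Inv, f a * y = y * f a → y = 1 := by
    intro y hy hc
    rw [hInv] at hy
    have h1 : y = y⁻¹ := by
      rw [← hy.2, hc]; group
    have h2 : y ^ 2 = 1 := by
      rw [pow_two]
      nth_rewrite 2 [h1]
      exact mul_inv_cancel y
    have h3 : orderOf y ∣ 2 := orderOf_dvd_of_pow_eq_one h2
    have h4 : orderOf y ∣ Nat.card (K.map f) := by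
      have := orderOf_dvd_natCard (⟨y, hy.1⟩ : K.map f)
      rwa [Subgroup.orderOf_mk] at this
    have h5 : orderOf y ∣ Nat.gcd (Nat.card (K.map f)) 2 := Nat.dvd_gcd h4 h3
    rw [hKc] at h5
    exact orderOf_eq_one_iff.mp (Nat.dvd_one.mp h5)
  have hK₁ne : K₁ ≠ H₀ := by
    intro heq
    apply haH
    apply mem_of_centralizes_K H₀ hHp hHmax P K hKP a haP
    rintro _ ⟨k, hk, rfl⟩
    by_contra hne
    set y := f k * (f a * f k * (f a)⁻¹)⁻¹ with hy
    have hyK : y ∈ K.map f := by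
      apply Subgroup.mul_mem _ (Subgroup.mem_map_of_mem f hk)
      apply Subgroup.inv_mem
      exact hKbn.conj_mem _ (Subgroup.mem_map_of_mem f hk) _
    have hyInv : y ∈ Inv := by
      rw [hInv]
      refine ⟨hyK, ?_⟩
      have e1 : f a * y * (f a)⁻¹ = f a * f k * f a * (f k)⁻¹ * ((f a * f a))⁻¹ := by
        rw [hy]; group
      have e2 : y⁻¹ = f a * f k * (f a)⁻¹ * (f k)⁻¹ := by rw [hy]; group
      rw [e1, ha2, inv_one, mul_one, e2, hainv]
    have hg : k * (a * k * a⁻¹)⁻¹ ∈ K₁ := by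
      rw [hK₁, Subgroup.mem_comap]
      have : f (k * (a * k * a⁻¹)⁻¹) = y := by
        rw [hy]; simp [map_mul, map_inv]
      rw [this]; exact hyInv
    rw [heq, ← hker] at hg
    apply hne
    have h2 : f k * (f a * f k * (f a)⁻¹)⁻¹ = 1 := by
      rw [← hg]; simp [map_mul, map_inv]
    have h3 : f k = f a * f k * (f a)⁻¹ := by
      have := mul_inv_eq_one.mp h2
      exact this
    calc f a * f k = (f a * f k * (f a)⁻¹) * f a := by group
      _ = f k * f a := by rw [← h3]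
  have hAN : A ≤ Subgroup.normalizer (K₁ : Set G) := by
    intro b hb
    apply mem_normalizer_of_conj_mem
    intro x hx
    rw [hK₁, Subgroup.mem_comap, hInv] at hx ⊢
    refine ⟨?_, ?_⟩
    · rw [map_mul, map_mul, map_inv]
      exact hKbn.conj_mem _ hx.1 _
    · rw [map_mul, map_mul, map_inv]
      have h1 := hAab a haA b hb
      have h2 : f a * (f b * f x * (f b)⁻¹) * (f a)⁻¹ = f b * (f a * f x * (f a)⁻¹) * (f b)⁻¹ := by
        have h3 : f a * (f b * f x * (f b)⁻¹) * (f a)⁻¹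
            = (f a * f b) * f x * ((f a * f b))⁻¹ := by group
        rw [h3, h1]; group
      rw [h2, hx.2]; group
  set L := K₁ ⊔ A with hL
  set P₁ := H₀ ⊔ A with hP₁
  have hP₁P : P₁ ≤ P := sup_le hHP hA.1
  have hP₁L : P₁ ≤ L := sup_le (hHK₁.trans le_sup_left) le_sup_right
  have hAP₁ : A ≤ P₁ := le_sup_right
  have hP₁p : IsPGroup 2 P₁ := P.2.to_le hP₁P
  have hLdecomp : ∀ y ∈ L, ∃ k ∈ K₁, ∃ b ∈ A, y = k * b := by
    intro y hy
    rw [hL, sup_comm] at hy
    obtain ⟨b, hb, k, hk, rfl⟩ := Helper67.mem_sup_of_le_normalizer hAN hy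
    refine ⟨b * k * b⁻¹, ?_, b, hb, by group⟩
    exact (Subgroup.mem_normalizer_iff.mp (hAN hb) k).mp hk
  have hKPmem : ∀ g, g ∈ K → g ∈ (P : Subgroup G) → g ∈ H₀ := fun g h1 h2 => hKP' ⟨h1, h2⟩
  by_cases hLtop : L = ⊤
  · constructor
    · intro k hk
      have hkL : k ∈ L := by rw [hLtop]; exact Subgroup.mem_top _
      obtain ⟨k₁, hk₁, b, hb, rfl⟩ := hLdecomp k hkL
      have hbK : b ∈ K := by
        have : b = k₁⁻¹ * (k₁ * b) := by group
        rw [this]
        exact K.mul_mem (K.inv_mem (hK₁K hk₁)) hk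
      have hbH : b ∈ H₀ := hKPmem b hbK (hA.1 hb)
      have hkK₁ : k₁ * b ∈ K₁ := K₁.mul_mem hk₁ (hHK₁ hbH)
      rw [hK₁, Subgroup.mem_comap, hInv] at hkK₁
      rw [map_mul, map_mul, map_inv]
      exact hkK₁.2
    · intro s hs
      have hsL : s ∈ L := by rw [hLtop]; exact Subgroup.mem_top _
      obtain ⟨k₁, hk₁, b, hb, rfl⟩ := hLdecomp s hsL
      have hk₁P : k₁ ∈ (P : Subgroup G) := by
        have : k₁ = (k₁ * b) * b⁻¹ := by group
        rw [this]
        exact Subgroup.mul_mem _ hs (Subgroup.inv_mem _ (hA.1 hb))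
      exact ⟨k₁, hKPmem k₁ (hK₁K hk₁) hk₁P, b, hb, rfl⟩
  · exfalso
    obtain ⟨S₁, hS₁⟩ :=
      (show IsPGroup 2 (P₁.subgroupOf L) from hP₁p.comap_subtype).exists_le_sylow
    set S₁G := (S₁ : Subgroup ↥L).map L.subtype with hS₁G
    have hS₁G_le : S₁G ≤ L := Subgroup.map_subtype_le _
    have hS₁Gp : IsPGroup 2 S₁G := S₁.2.map _
    have hP₁S : P₁ ≤ S₁G := by
      intro x hx
      refine ⟨⟨x, hP₁L hx⟩, hS₁ ?_, rfl⟩
      show (⟨x, hP₁L hx⟩ : ↥L) ∈ P₁.subgroupOf L
      rw [Subgroup.mem_subgroupOf]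
      exact hx
    have hmemS : ∀ y : ↥L, y ∈ (S₁ : Subgroup ↥L) ↔ (y : G) ∈ S₁G := by
      intro y
      constructor
      · intro hy; exact ⟨y, hy, rfl⟩
      · rintro ⟨z, hz, hzy⟩
        have : z = y := Subtype.ext hzy
        rw [← this]; exact hz
    have hS₁G_eq : S₁G = P₁ := by
      apply le_antisymm _ hP₁S
      intro s hs
      obtain ⟨k, hk, b, hb, rfl⟩ := hLdecomp s (hS₁G_le hs)
      have hkS : k ∈ S₁G := by
        have : k = (k * b) * b⁻¹ := by group
        rw [this]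
        exact S₁G.mul_mem hs (S₁G.inv_mem (hP₁S (hAP₁ hb)))
      have hT : S₁G ⊓ K₁ = H₀ := by
        apply eq_of_isPGroup_between H₀ K (S₁G ⊓ K₁) hKc'
          (le_inf ((le_sup_left : H₀ ≤ P₁).trans hP₁S) hHK₁) (inf_le_right.trans hK₁K)
          (hS₁Gp.to_le inf_le_left)
      have hkH : k ∈ H₀ := by rw [← hT]; exact ⟨hkS, hk⟩
      exact P₁.mul_mem ((le_sup_left : H₀ ≤ P₁) hkH) (hAP₁ hb)
    have hJmap : (inducedFunctor JAfun (S₁ : Subgroup ↥L)).map L.subtype =
        thompsonSubgroupAOf P₁ := by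
      rw [← inducedFunctor_map (p := 2) isCharPFunctor_JA L.subtype (S₁ : Subgroup ↥L) S₁.2
        L.subtype_injective.injOn, ← hS₁G, hS₁G_eq, inducedFunctor_JA]
    have hZmap : (inducedFunctor Zfun (S₁ : Subgroup ↥L)).map L.subtype = ZC P₁ := by
      rw [← inducedFunctor_map (p := 2) isCharPFunctor_Z L.subtype (S₁ : Subgroup ↥L) S₁.2
        L.subtype_injective.injOn, ← hS₁G, hS₁G_eq, inducedFunctor_Z]
    have hAJ : A ≤ thompsonSubgroupAOf P₁ := (hA.of_le hAP₁ hP₁P).le_thompsonAOf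
    have hJP₁ : thompsonSubgroupAOf P₁ ≤ P₁ := thompsonAOf_le P₁
    have hNJ : Subgroup.normalizer (P₁ : Set G) ≤
        Subgroup.normalizer (thompsonSubgroupAOf P₁ : Set G) := by
      have := normalizer_le_normalizer_inducedFunctor (p := 2) (W := JAfun) isCharPFunctor_JA hP₁p
      rwa [inducedFunctor_JA] at this
    have hyp : hyp2 2 JAfun Zfun ↥L (S₁ : Subgroup ↥L) := by
      constructor
      · apply pn_of_isPGroup
        apply S₁.2.to_le
        intro y hy
        rw [hmemS, hS₁G_eq]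
        have hyN : (y : G) ∈ Subgroup.normalizer (thompsonSubgroupAOf P₁ : Set G) := by
          rw [← hJmap]
          exact Subgroup.le_normalizer_map L.subtype ⟨y, hy, rfl⟩
        obtain ⟨k, hk, b, hb, hyk⟩ := hLdecomp (y : G) y.2
        have hbN : b ∈ Subgroup.normalizer (thompsonSubgroupAOf P₁ : Set G) :=
          hNJ (Subgroup.le_normalizer (hAP₁ hb))
        have hkN : k ∈ Subgroup.normalizer (thompsonSubgroupAOf P₁ : Set G) := by
          have : k = (y : G) * b⁻¹ := by rw [hyk]; group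
          rw [this]
          exact Subgroup.mul_mem _ hyN (Subgroup.inv_mem _ hbN)
        have h1 : k * a * k⁻¹ ∈ thompsonSubgroupAOf P₁ :=
          (Subgroup.mem_normalizer_iff.mp hkN a).mp (hAJ haA)
        have h2 : k * a * k⁻¹ * a⁻¹ ∈ (P : Subgroup G) :=
          Subgroup.mul_mem _ (hP₁P (hJP₁ h1)) (Subgroup.inv_mem _ haP)
        have h3 : k * a * k⁻¹ * a⁻¹ ∈ K := by
          have : k * a * k⁻¹ * a⁻¹ = k * (a * k⁻¹ * a⁻¹) := by group
          rw [this]
          exact K.mul_mem (hK₁K hk) (Subgroup.Normal.conj_mem inferInstance _ (K.inv_mem (hK₁K hk)) a)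
        have h4 := (hker _).mpr (hKPmem _ h3 h2)
        have h5 : f a * f k = f k * f a := by
          have h6 : f k * f a * (f k)⁻¹ * (f a)⁻¹ = 1 := by
            rw [← h4]; simp [map_mul, map_inv]
          have h7 : f k * f a * (f k)⁻¹ = f a := by
            have := mul_inv_eq_one.mp h6
            exact this
          calc f a * f k = (f k * f a * (f k)⁻¹) * f k := by rw [h7]
            _ = f k * f a := by group
        have h6 : f k = 1 := hfix (f k) (by
          have := hk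
          rw [hK₁, Subgroup.mem_comap] at this
          exact this) h5
        rw [hyk]
        exact P₁.mul_mem ((le_sup_left : H₀ ≤ P₁) ((hker k).mp h6)) (hAP₁ hb)
      · refine pn_of_map_le L.subtype L.subtype_injective _ _ ?_ hCZ
        rintro _ ⟨y, hy, rfl⟩
        rw [Subgroup.mem_centralizer_iff]
        intro z hz
        have hz0 : z ∈ ZC (P : Subgroup G) := hz
        have hz₁ : z ∈ ZC P₁ := by
          rw [mem_ZC_iff] at hz0 ⊢
          have hz := hz0
          have hzH : z ∈ H₀ := by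
            apply hCH
            rw [Subgroup.mem_centralizer_iff]
            intro h hh
            exact hz.2 h (hHP hh)
          exact ⟨(le_sup_left : H₀ ≤ P₁) hzH, fun w hw => hz.2 w (hP₁P hw)⟩
        rw [← hZmap] at hz₁
        obtain ⟨z', hz', rfl⟩ := hz₁
        have := Subgroup.mem_centralizer_iff.mp hy z' hz'
        exact congrArg Subtype.val this
    have hnpc := hIH L hLtop S₁ hyp
    have hLp : IsPGroup 2 L :=
      isPGroup_of_npc_of_le H₀ hHp hCH L (hHK₁.trans le_sup_left) hnpc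
    exact hK₁ne (eq_of_isPGroup_between H₀ K K₁ hKc' hHK₁ hK₁K (hLp.to_le le_sup_left))

end T1

section T2
universe u
variable {G : Type u} [Group G] [Finite G]

/-- `A H₀ / H₀` has order two -/
theorem two_cosets (P : Sylow 2 G) (H₀ : Subgroup G) [H₀.Normal]
    (hHp : IsPGroup 2 H₀)
    (hHmax : ∀ X : Subgroup G, X.Normal → IsPGroup 2 X → X ≤ H₀)
    (K : Subgroup G) [K.Normal] (hHK : H₀ ≤ K)
    (hKP : ∀ g : G, ∃ k ∈ K, ∃ x ∈ (P : Subgroup G), g = k * x)
    (hKab : ∀ x ∈ K.map (QuotientGroup.mk' H₀), ∀ y ∈ K.map (QuotientGroup.mk' H₀), x * y = y * x)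
    (hE1 : ∀ L : Subgroup G, H₀ ≤ L → L ≤ K →
      (P : Subgroup G) ≤ Subgroup.normalizer (L : Set G) → L = H₀ ∨ L = K)
    (A : Subgroup G) (hAP : A ≤ P) (hAab : ∀ x ∈ A, ∀ y ∈ A, x * y = y * x)
    (hA2 : ∀ b ∈ A, b ^ 2 ∈ H₀) (a : G) (haA : a ∈ A)
    (hinv : ∀ k ∈ K, QuotientGroup.mk' H₀ (a * k * a⁻¹) = (QuotientGroup.mk' H₀ k)⁻¹)
    (hPdec : ∀ s ∈ (P : Subgroup G), ∃ h ∈ H₀, ∃ b ∈ A, s = h * b) :
    ∀ b ∈ A, b ∈ H₀ ∨ b * a⁻¹ ∈ H₀ := by
  classical
  haveI : Fact (Nat.Prime 2) := ⟨Nat.prime_two⟩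
  set f := QuotientGroup.mk' H₀ with hf
  have hfs : Function.Surjective f := QuotientGroup.mk'_surjective H₀
  have hker : ∀ x : G, f x = 1 ↔ x ∈ H₀ := fun x => QuotientGroup.eq_one_iff x
  haveI hKbn : (K.map f).Normal := ‹K.Normal›.map f hfs
  have hsq : ∀ b ∈ A, f b * f b = 1 := by
    intro b hb
    rw [← map_mul, hker, ← pow_two]; exact hA2 b hb
  have hinv' : ∀ b ∈ A, (f b)⁻¹ = f b := fun b hb => inv_eq_of_mul_eq_one_left (hsq b hb)
  have hfab : ∀ b ∈ A, ∀ b' ∈ A, f b * f b' = f b' * f b := by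
    intro b hb b' hb'
    rw [← map_mul, ← map_mul, hAab b hb b' hb']
  intro b hb
  set Fix : Subgroup (G ⧸ H₀) := K.map f ⊓ Subgroup.centralizer {f b} with hFix
  set Lb := Fix.comap f with hLb
  have hHL : H₀ ≤ Lb := by
    intro x hx
    rw [hLb, Subgroup.mem_comap, (hker x).mpr hx]
    exact Fix.one_mem
  have hLK : Lb ≤ K := by
    intro x hx
    rw [hLb, Subgroup.mem_comap] at hx
    obtain ⟨k, hk, hkx⟩ := hx.1
    have h1 : k⁻¹ * x ∈ H₀ := by
      rw [← hker, map_mul, map_inv, hkx]; simp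
    have : x = k * (k⁻¹ * x) := by group
    rw [this]
    exact K.mul_mem hk (hHK h1)
  have hPL : (P : Subgroup G) ≤ Subgroup.normalizer (Lb : Set G) := by
    intro s hs
    obtain ⟨h, hh, b', hb', rfl⟩ := hPdec s hs
    apply mem_normalizer_of_conj_mem
    intro x hx
    rw [hLb, Subgroup.mem_comap] at hx ⊢
    have hfs' : f (h * b') = f b' := by rw [map_mul, (hker h).mpr hh, one_mul]
    rw [map_mul, map_mul, map_inv, hfs']
    refine ⟨hKbn.conj_mem _ hx.1 _, ?_⟩
    show f b' * f x * (f b')⁻¹ ∈ Subgroup.centralizer {f b}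
    rw [Subgroup.mem_centralizer_iff]
    intro y hy
    rw [Set.mem_singleton_iff] at hy
    subst hy
    have h1 := Subgroup.mem_centralizer_iff.mp hx.2 (f b) rfl
    have h2 := hfab b hb b' hb'
    calc f b * (f b' * f x * (f b')⁻¹) = (f b * f b') * f x * (f b')⁻¹ := by group
      _ = (f b' * f b) * f x * (f b')⁻¹ := by rw [h2]
      _ = f b' * (f b * f x) * (f b')⁻¹ := by group
      _ = f b' * (f x * f b) * (f b')⁻¹ := by rw [h1]
      _ = f b' * f x * (f b * (f b')⁻¹) := by group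
      _ = f b' * f x * ((f b')⁻¹ * f b) := by
          congr 1
          rw [hinv' b' hb', h2]
      _ = f b' * f x * (f b')⁻¹ * f b := by group
  rcases hE1 Lb hHL hLK hPL with hcase | hcase
  · -- b inverts K/H₀
    right
    have hbinv : ∀ k ∈ K, f b * f k * (f b)⁻¹ = (f k)⁻¹ := by
      intro k hk
      set z := f k * (f b * f k * (f b)⁻¹) with hz
      have hzK : z ∈ K.map f :=
        Subgroup.mul_mem _ (Subgroup.mem_map_of_mem f hk)
          (hKbn.conj_mem _ (Subgroup.mem_map_of_mem f hk) _)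
      have hzc : z ∈ Subgroup.centralizer {f b} := by
        rw [Subgroup.mem_centralizer_iff]
        intro y hy
        rw [Set.mem_singleton_iff] at hy
        subst hy
        have h1 : f b * z * (f b)⁻¹ = (f b * f k * (f b)⁻¹) * f k := by
          have e1 : f b * z * (f b)⁻¹ = (f b * f k * (f b)⁻¹) * ((f b * f b) * f k * (f b * f b)⁻¹) := by
            rw [hz]; group
          rw [e1, hsq b hb]; group
        have h2 : (f b * f k * (f b)⁻¹) * f k = z := by
          rw [hz]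
          exact hKab _ (hKbn.conj_mem _ (Subgroup.mem_map_of_mem f hk) _) _
            (Subgroup.mem_map_of_mem f hk)
        rw [h2] at h1
        calc f b * z = (f b * z * (f b)⁻¹) * f b := by group
          _ = z * f b := by rw [h1]
      have hzL : k * (b * k * b⁻¹) ∈ Lb := by
        rw [hLb, Subgroup.mem_comap]
        have : f (k * (b * k * b⁻¹)) = z := by rw [hz]; simp [map_mul, map_inv]
        rw [this]
        exact ⟨hzK, hzc⟩
      rw [hcase, ← hker] at hzL
      have h3 : z = 1 := by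
        rw [← hzL, hz]; simp [map_mul, map_inv]
      rw [hz] at h3
      exact (eq_inv_of_mul_eq_one_right h3)
    apply mem_of_centralizes_K H₀ hHp hHmax P K hKP (b * a⁻¹)
      (Subgroup.mul_mem _ (hAP hb) (Subgroup.inv_mem _ (hAP haA)))
    rintro _ ⟨k, hk, rfl⟩
    have h1 := hinv k hk
    rw [map_mul, map_mul, map_inv] at h1
    have h2 := hbinv k hk
    have hα := hinv' a haA
    rw [map_mul, map_inv, hα]
    -- f a * f k * f a = (f k)⁻¹ since (f a)⁻¹ = f a
    rw [hα] at h1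
    have h3 : f a * f k = (f k)⁻¹ * f a := by
      calc f a * f k = (f a * f k * f a) * (f a)⁻¹ := by group
        _ = (f k)⁻¹ * f a := by rw [h1, hα]
    have h4 : f b * (f k)⁻¹ = f k * f b := by
      have : f b * (f k)⁻¹ * (f b)⁻¹ = f k := by
        have e : f b * (f k)⁻¹ * (f b)⁻¹ = (f b * f k * (f b)⁻¹)⁻¹ := by group
        rw [e, h2, inv_inv]
      calc f b * (f k)⁻¹ = (f b * (f k)⁻¹ * (f b)⁻¹) * f b := by group
        _ = f k * f b := by rw [this]
    calc f b * f a * f k = f b * (f a * f k) := by group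
      _ = f b * ((f k)⁻¹ * f a) := by rw [h3]
      _ = (f b * (f k)⁻¹) * f a := by group
      _ = (f k * f b) * f a := by rw [h4]
      _ = f k * (f b * f a) := by group
  · -- b centralizes K/H₀
    left
    apply mem_of_centralizes_K H₀ hHp hHmax P K hKP b (hAP hb)
    rintro _ ⟨k, hk, rfl⟩
    have hkL : k ∈ Lb := by rw [hcase]; exact hk
    rw [hLb, Subgroup.mem_comap] at hkL
    exact Subgroup.mem_centralizer_iff.mp hkL.2 (f b) rfl

end T2

section T3
universe u
variable {G : Type u} [Group G] [Finite G]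

/-- the offender inequality: `|U : C_U(a)| = 2` -/
theorem card_U_eq (P : Sylow 2 G) (H₀ : Subgroup G) [H₀.Normal] (hHP : H₀ ≤ P)
    (U : Subgroup G) (hUH₀ : U ≤ H₀)
    (hUc : ∀ x ∈ U, ∀ y ∈ U, x * y = y * x)
    (hHU : H₀ ≤ Subgroup.centralizer (U : Set G)) (hUH : Subgroup.centralizer (U : Set G) ≤ H₀)
    (A : Subgroup G) (hA : IsMaxAbIn (P : Subgroup G) A) (a : G) (haA : a ∈ A) (haH : a ∉ H₀)
    (hcos : ∀ b ∈ A, b ∈ H₀ ∨ b * a⁻¹ ∈ H₀) :
    Nat.card U = 2 * Nat.card (U ⊓ Subgroup.centralizer {a} : Subgroup G) := by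
  classical
  set f := QuotientGroup.mk' H₀ with hf
  have hker : ∀ x : G, f x = 1 ↔ x ∈ H₀ := fun x => QuotientGroup.eq_one_iff x
  have hcardAf : Nat.card (A.map f) ≤ 2 := by
    have h1 : Nat.card (A.map f) ≤ Nat.card Bool := by
      apply Nat.card_le_card_of_injective (fun y : A.map f => decide ((y : G ⧸ H₀) = 1))
      intro y z hyz
      simp only [decide_eq_decide] at hyz
      apply Subtype.ext
      obtain ⟨b, hb, hby⟩ := y.2
      obtain ⟨c, hc, hcz⟩ := z.2
      by_cases hy1 : (y : G ⧸ H₀) = 1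
      · rw [hy1, (hyz.mp hy1)]
      · have hz1 : ¬ (z : G ⧸ H₀) = 1 := fun h => hy1 (hyz.mpr h)
        have hb' : b * a⁻¹ ∈ H₀ := by
          rcases hcos b hb with h | h
          · exact absurd (hby ▸ (hker b).mpr h) hy1
          · exact h
        have hc' : c * a⁻¹ ∈ H₀ := by
          rcases hcos c hc with h | h
          · exact absurd (hcz ▸ (hker c).mpr h) hz1
          · exact h
        have e1 : f b = f a := by
          have := (hker _).mpr hb'
          rw [map_mul, map_inv] at this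
          exact mul_inv_eq_one.mp this
        have e2 : f c = f a := by
          have := (hker _).mpr hc'
          rw [map_mul, map_inv] at this
          exact mul_inv_eq_one.mp this
        rw [← hby, ← hcz, e1, e2]
    simpa using h1
  have hrel : H₀.relIndex A = Nat.card (A.map f) := by
    have := Subgroup.relIndex_ker f (K := A)
    rwa [hf, QuotientGroup.ker_mk'] at this
  set CA := H₀ ⊓ A with hCA
  have hcardA : Nat.card A ≤ 2 * Nat.card CA := by
    have h1 := Cfsg.Agent.Lib.Helper74.relIndex_mul_card_of_le' (show CA ≤ A from inf_le_right)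
    rw [hCA, Subgroup.inf_relIndex_right, hrel] at h1
    rw [← h1]
    exact Nat.mul_le_mul_right _ hcardAf
  have hab : ∀ x ∈ CA ⊔ U, ∀ y ∈ CA ⊔ U, x * y = y * x := by
    apply abelian_sup (A := CA) (B := U) (fun x hx y hy => hA.2.1 x hx.2 y hy.2) hUc
    intro c hc u hu
    exact (Subgroup.mem_centralizer_iff.mp (hHU hc.1) u hu).symm
  have h1 : Nat.card (CA ⊔ U : Subgroup G) ≤ Nat.card A :=
    hA.2.2 _ (sup_le (inf_le_right.trans hA.1) (hUH₀.trans hHP)) hab
  have h2 := Cfsg.Agent.Lib.Helper14.card_mul_card_le_sup_mul_inf CA U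
  set Ca := U ⊓ Subgroup.centralizer {a} with hCa
  have h3 : Nat.card (CA ⊓ U : Subgroup G) ≤ Nat.card Ca := by
    apply Subgroup.card_le_of_le
    intro x hx
    refine ⟨hx.2, ?_⟩
    show x ∈ Subgroup.centralizer {a}
    rw [Subgroup.mem_centralizer_iff]
    intro y hy
    rw [Set.mem_singleton_iff] at hy
    subst hy
    exact hA.2.1 y haA x hx.1.2
  have hle : Nat.card U ≤ 2 * Nat.card Ca := by
    have hpos : 0 < Nat.card CA := Nat.card_pos
    have h4 : Nat.card CA * Nat.card U ≤ Nat.card CA * (2 * Nat.card Ca) := by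
      calc Nat.card CA * Nat.card U ≤ Nat.card (CA ⊔ U : Subgroup G) * Nat.card (CA ⊓ U : Subgroup G) := h2
        _ ≤ Nat.card A * Nat.card Ca := Nat.mul_le_mul h1 h3
        _ ≤ (2 * Nat.card CA) * Nat.card Ca := Nat.mul_le_mul_right _ hcardA
        _ = Nat.card CA * (2 * Nat.card Ca) := by ring
    exact Nat.le_of_mul_le_mul_left h4 hpos
  have hlt : Ca < U := by
    refine lt_of_le_of_ne inf_le_left ?_
    intro heq
    apply haH
    apply hUH
    rw [Subgroup.mem_centralizer_iff]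
    intro u hu
    have : u ∈ Ca := by rw [heq]; exact hu
    exact (Subgroup.mem_centralizer_iff.mp this.2 a rfl).symm
  have hcl := card_lt_of_lt' hlt
  obtain ⟨m, hm⟩ := Subgroup.card_dvd_of_le hlt.le
  have hpos : 0 < Nat.card Ca := Nat.card_pos
  rw [hm] at hle hcl ⊢
  have hm2 : m ≤ 2 := by
    by_contra hcon
    have : 3 ≤ m := by omega
    nlinarith
  have hm1 : 2 ≤ m := by
    by_contra hcon
    have : m ≤ 1 := by omega
    nlinarith
  have : m = 2 := le_antisymm hm2 hm1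
  rw [this]; ring

end T3

section T4
universe u
variable {G : Type u} [Group G] [Finite G]

/-- an element `x ∈ K` of odd prime order and an element `t ∈ a H₀` inverting it -/
theorem exists_inverted (P : Sylow 2 G) (H₀ : Subgroup G) [H₀.Normal]
    (hHp : IsPGroup 2 H₀)
    (K : Subgroup G) [K.Normal] (hHK : H₀ ≤ K) (hKne : K ≠ H₀)
    (hKc : (Nat.card (K.map (QuotientGroup.mk' H₀))).Coprime 2)
    (hE1 : ∀ L : Subgroup G, H₀ ≤ L → L ≤ K →
      (P : Subgroup G) ≤ Subgroup.normalizer (L : Set G) → L = H₀ ∨ L = K)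
    (A : Subgroup G) (a : G)
    (hinv : ∀ k ∈ K, QuotientGroup.mk' H₀ (a * k * a⁻¹) = (QuotientGroup.mk' H₀ k)⁻¹)
    (hPdec : ∀ s ∈ (P : Subgroup G), ∃ h ∈ H₀, ∃ b ∈ A, s = h * b)
    (hcos : ∀ b ∈ A, b ∈ H₀ ∨ b * a⁻¹ ∈ H₀) :
    ∃ (x t : G) (r : ℕ), r.Prime ∧ r ≠ 2 ∧ x ∈ K ∧ x ∉ H₀ ∧ x ^ r = 1 ∧ t * a⁻¹ ∈ H₀ ∧
      t * x * t⁻¹ = x⁻¹ := by
  classical
  set f := QuotientGroup.mk' H₀ with hf
  have hfs : Function.Surjective f := QuotientGroup.mk'_surjective H₀
  have hker : ∀ x : G, f x = 1 ↔ x ∈ H₀ := fun x => QuotientGroup.eq_one_iff x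
  have hrelcard : Nat.card (K.map f) = H₀.relIndex K := card_map_mk_eq_relIndex H₀ K hHK
  have hKcard := Cfsg.Agent.Lib.Helper74.relIndex_mul_card_of_le' hHK
  have hne1 : Nat.card (K.map f) ≠ 1 := by
    intro h
    apply hKne
    apply le_antisymm _ hHK
    rw [hrelcard] at h
    exact Subgroup.relIndex_eq_one.mp h
  obtain ⟨r, hr, hrd⟩ := Nat.exists_prime_and_dvd hne1
  haveI : Fact r.Prime := ⟨hr⟩
  have hr2 : r ≠ 2 := by
    rintro rfl
    have := Nat.Coprime.eq_one_of_dvd hKc.symm hrd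
    omega
  have hrK : r ∣ Nat.card K := by
    rw [← hKcard, ← hrelcard]
    exact Dvd.dvd.mul_right hrd _
  obtain ⟨x₀, hx₀⟩ := exists_prime_orderOf_dvd_card' (G := ↥K) r hrK
  set x : G := (x₀ : G) with hx
  have hxK : x ∈ K := x₀.2
  have hxo : orderOf x = r := by rw [hx, Subgroup.orderOf_coe, hx₀]
  have hxr : x ^ r = 1 := by rw [← hxo]; exact pow_orderOf_eq_one x
  -- elements of ⟨x⟩ ∩ H₀ are trivial
  have hxH : ∀ y ∈ Subgroup.zpowers x, y ∈ H₀ → y = 1 := by
    intro y hy hyH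
    rw [Subgroup.mem_zpowers_iff] at hy
    obtain ⟨i, rfl⟩ := hy
    have h1 : (x ^ i) ^ r = 1 := by
      rw [← zpow_natCast, ← zpow_mul, mul_comm, zpow_mul, zpow_natCast, hxr, one_zpow]
    obtain ⟨k, hk⟩ := hHp ⟨x ^ i, hyH⟩
    have hk' : (x ^ i) ^ 2 ^ k = 1 := by
      have := congrArg Subtype.val hk
      simpa using this
    have h2 : orderOf (x ^ i) ∣ Nat.gcd r (2 ^ k) :=
      Nat.dvd_gcd (orderOf_dvd_of_pow_eq_one h1) (orderOf_dvd_of_pow_eq_one hk')
    have h3 : Nat.gcd r (2 ^ k) = 1 := by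
      apply Nat.Coprime.pow_right
      rw [Nat.coprime_comm, Nat.coprime_two_left]
      exact hr.odd_of_ne_two hr2
    rw [h3] at h2
    exact orderOf_eq_one_iff.mp (Nat.dvd_one.mp h2)
  have hxnH : x ∉ H₀ := by
    intro h
    have := hxH x (Subgroup.mem_zpowers x) h
    rw [this, orderOf_one] at hxo
    exact hr.one_lt.ne hxo
  -- Q = preimage of ⟨f x⟩
  set Q := (Subgroup.zpowers (f x)).comap f with hQ
  have hHQ : H₀ ≤ Q := by
    intro y hy
    rw [hQ, Subgroup.mem_comap, (hker y).mpr hy]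
    exact Subgroup.one_mem _
  have hQK : Q ≤ K := by
    intro y hy
    rw [hQ, Subgroup.mem_comap, Subgroup.mem_zpowers_iff] at hy
    obtain ⟨i, hi⟩ := hy
    have h1 : (x ^ i)⁻¹ * y ∈ H₀ := by
      rw [← hker, map_mul, map_inv, map_zpow, hi]; simp
    have : y = x ^ i * ((x ^ i)⁻¹ * y) := by group
    rw [this]
    exact K.mul_mem (K.zpow_mem hxK i) (hHK h1)
  have hPQ : (P : Subgroup G) ≤ Subgroup.normalizer (Q : Set G) := by
    intro s hs
    obtain ⟨h, hh, b, hb, rfl⟩ := hPdec s hs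
    apply mem_normalizer_of_conj_mem
    intro y hy
    rw [hQ, Subgroup.mem_comap, Subgroup.mem_zpowers_iff] at hy ⊢
    obtain ⟨i, hi⟩ := hy
    have hfs' : f (h * b) = f b := by rw [map_mul, (hker h).mpr hh, one_mul]
    rw [map_mul, map_mul, map_inv, hfs', ← hi]
    rcases hcos b hb with hbH | hbH
    · refine ⟨i, ?_⟩
      rw [(hker b).mpr hbH]; simp
    · have e1 : f b = f a := by
        have := (hker _).mpr hbH
        rw [map_mul, map_inv] at this
        exact mul_inv_eq_one.mp this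
      refine ⟨-i, ?_⟩
      rw [e1]
      have h1 := hinv x hxK
      rw [map_mul, map_mul, map_inv] at h1
      have h2 : f a * f x ^ i * (f a)⁻¹ = (f a * f x * (f a)⁻¹) ^ i := by
        rw [conj_zpow]
      rw [h2, h1, inv_zpow, zpow_neg]
  have hQeq : Q = K := by
    rcases hE1 Q hHQ hQK hPQ with h | h
    · exfalso
      apply hxnH
      rw [← h, hQ, Subgroup.mem_comap]
      exact Subgroup.mem_zpowers _
    · exact h
  have hfx1 : f x ≠ 1 := fun h => hxnH ((hker x).mp h)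
  have hfxo : orderOf (f x) = r := by
    apply orderOf_eq_prime
    · rw [← map_pow, hxr, map_one]
    · exact hfx1
  have hKmap : K.map f = Subgroup.zpowers (f x) := by
    rw [← hQeq, hQ, Subgroup.map_comap_eq_self_of_surjective hfs]
  have hrel : H₀.relIndex K = r := by
    rw [← hrelcard, hKmap, Nat.card_zpowers, hfxo]
  -- the Sylow r-subgroup ⟨x⟩ of K
  set R₀ : Subgroup ↥K := (Subgroup.zpowers x).subgroupOf K with hR₀
  have hzK : Subgroup.zpowers x ≤ K := by
    rw [Subgroup.zpowers_le]; exact hxK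
  have hR₀card : Nat.card R₀ = r := by
    rw [hR₀, Nat.card_congr (Subgroup.subgroupOfEquivOfLe hzK).toEquiv, Nat.card_zpowers, hxo]
  have hR₀p : IsPGroup r R₀ := IsPGroup.of_card (n := 1) (by rw [hR₀card, pow_one])
  have hR₀idx : ¬ r ∣ R₀.index := by
    have h1 := Subgroup.card_mul_index R₀
    rw [hR₀card, ← hKcard, hrel] at h1
    have h2 : R₀.index = Nat.card H₀ := Nat.eq_of_mul_eq_mul_left hr.pos h1
    rw [h2]
    obtain ⟨m, hm⟩ := IsPGroup.iff_card.mp hHp
    rw [hm]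
    intro hd
    have := (Nat.prime_dvd_prime_iff_eq hr Nat.prime_two).mp (hr.dvd_of_dvd_pow hd)
    exact hr2 this
  set RS : Sylow r ↥K := hR₀p.toSylow hR₀idx with hRS
  have hfrat := Sylow.normalizer_sup_eq_top RS
  have hRSmap : ((RS : Subgroup ↥K).map K.subtype) = Subgroup.zpowers x := by
    have : (RS : Subgroup ↥K) = R₀ := rfl
    rw [this, hR₀, Subgroup.subgroupOf_map_subtype, inf_of_le_left hzK]
  rw [hRSmap] at hfrat
  have haN : a ∈ Subgroup.normalizer ((Subgroup.zpowers x : Subgroup G) : Set G) ⊔ K := by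
    rw [hfrat]; exact Subgroup.mem_top _
  rw [Subgroup.mem_sup_of_normal_right] at haN
  obtain ⟨n, hn, k, hk, hnk⟩ := haN
  have hkQ : k ∈ Q := by rw [hQeq]; exact hk
  rw [hQ, Subgroup.mem_comap, Subgroup.mem_zpowers_iff] at hkQ
  obtain ⟨i, hi⟩ := hkQ
  have hh : k * (x ^ i)⁻¹ ∈ H₀ := by
    rw [← hker, map_mul, map_inv, map_zpow, hi]; simp
  set t := n * x ^ i with ht
  have htN : t ∈ Subgroup.normalizer ((Subgroup.zpowers x : Subgroup G) : Set G) :=
    Subgroup.mul_mem _ hn (Subgroup.le_normalizer (Subgroup.zpow_mem _ (Subgroup.mem_zpowers x) i))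
  have hta : t * a⁻¹ ∈ H₀ := by
    have e1 : t * a⁻¹ = n * (k * (x ^ i)⁻¹)⁻¹ * n⁻¹ := by
      rw [ht, ← hnk]; group
    rw [e1]
    exact Subgroup.Normal.conj_mem inferInstance _ (H₀.inv_mem hh) n
  have hft : f t = f a := by
    have := (hker _).mpr hta
    rw [map_mul, map_inv] at this
    exact mul_inv_eq_one.mp this
  have htx : t * x * t⁻¹ = x⁻¹ := by
    have h1 : t * x * t⁻¹ ∈ Subgroup.zpowers x :=
      (Subgroup.mem_normalizer_iff.mp htN x).mp (Subgroup.mem_zpowers x)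
    have h2 : t * x * t⁻¹ * x ∈ Subgroup.zpowers x :=
      Subgroup.mul_mem _ h1 (Subgroup.mem_zpowers x)
    have h3 : t * x * t⁻¹ * x ∈ H₀ := by
      rw [← hker, map_mul, map_mul, map_mul, map_inv, hft]
      have h4 := hinv x hxK
      rw [map_mul, map_mul, map_inv] at h4
      rw [h4]; simp
    have h5 := hxH _ h2 h3
    exact mul_eq_one_iff_eq_inv.mp h5
  exact ⟨x, t, r, hr, hr2, hxK, hxnH, hxr, hta, htx⟩

end T4

section T5
variable {G : Type*} [Group G] [Finite G]

/-- `|U : C_U(x)| = 4` -/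
theorem relIndex_eq_four (U : Subgroup G) [U.Normal]
    (hUc : ∀ a ∈ U, ∀ b ∈ U, a * b = b * a) (hU2 : IsPGroup 2 U)
    (x t : G) (r : ℕ) (hr : r.Prime) (hr2 : r ≠ 2) (hxr : x ^ r = 1)
    (hxU : x ∉ Subgroup.centralizer (U : Set G))
    (htx : t * x * t⁻¹ = x⁻¹)
    (hcard : Nat.card U = 2 * Nat.card (U ⊓ Subgroup.centralizer {t} : Subgroup G)) :
    (U ⊓ Subgroup.centralizer {x}).relIndex U = 4 := by
  classical
  have hrodd : Odd r := hr.odd_of_ne_two hr2
  set Ct := U ⊓ Subgroup.centralizer {t} with hCt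
  set Ct' := U ⊓ Subgroup.centralizer {x * t * x⁻¹} with hCt'
  set Cx := U ⊓ Subgroup.centralizer {x} with hCx
  have hCxU : Cx ≤ U := inf_le_left
  have h1 : Nat.card Ct ≤ Nat.card Ct' := by
    have hle : Ct.map (MulAut.conj x).toMonoidHom ≤ Ct' := by
      rintro _ ⟨z, hz, rfl⟩
      simp only [MulEquiv.coe_toMonoidHom, MulAut.conj_apply]
      refine ⟨Subgroup.Normal.conj_mem inferInstance z hz.1 x, ?_⟩
      show x * z * x⁻¹ ∈ Subgroup.centralizer {x * t * x⁻¹}
      rw [Subgroup.mem_centralizer_iff]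
      intro y hy
      rw [Set.mem_singleton_iff] at hy
      subst hy
      have h2 := Subgroup.mem_centralizer_iff.mp hz.2 t rfl
      calc x * t * x⁻¹ * (x * z * x⁻¹) = x * (t * z) * x⁻¹ := by group
        _ = x * (z * t) * x⁻¹ := by rw [h2]
        _ = x * z * x⁻¹ * (x * t * x⁻¹) := by group
    have := Subgroup.card_le_of_le hle
    rwa [Subgroup.card_map_of_injective (MulAut.conj x).injective] at this
  have h2 : Ct ⊓ Ct' ≤ Cx := by
    intro y hy
    refine ⟨hy.1.1, ?_⟩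
    show y ∈ Subgroup.centralizer {x}
    rw [Subgroup.mem_centralizer_iff]
    intro z hz
    rw [Set.mem_singleton_iff] at hz
    subst hz
    have e1 : Commute t y := Subgroup.mem_centralizer_iff.mp hy.1.2 t rfl
    have e2 : Commute (z * t * z⁻¹) y := Subgroup.mem_centralizer_iff.mp hy.2.2 _ rfl
    have e3 : z * t * z⁻¹ * t⁻¹ = z ^ 2 := by
      have : t * z⁻¹ * t⁻¹ = z := by
        have e4 : t * z⁻¹ * t⁻¹ = (t * z * t⁻¹)⁻¹ := by group
        rw [e4, htx, inv_inv]
      calc z * t * z⁻¹ * t⁻¹ = z * (t * z⁻¹ * t⁻¹) := by group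
        _ = z ^ 2 := by rw [this, pow_two]
    have e5 : Commute (z ^ 2) y := by
      rw [← e3]
      exact e2.mul_left e1.inv_left
    obtain ⟨m, hm⟩ := hrodd
    have hz : z = (z ^ 2) ^ (m + 1) := by
      rw [← pow_mul]
      have : 2 * (m + 1) = r + 1 := by omega
      rw [this, pow_succ, hxr, one_mul]
    rw [hz]
    exact (e5.pow_left (m + 1)).eq
  have h3 := Cfsg.Agent.Lib.Helper14.card_mul_card_le_sup_mul_inf Ct Ct'
  have h4 : Nat.card (Ct ⊔ Ct' : Subgroup G) ≤ Nat.card U :=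
    Subgroup.card_le_of_le (sup_le inf_le_left inf_le_left)
  have h5 : Nat.card (Ct ⊓ Ct' : Subgroup G) ≤ Nat.card Cx := Subgroup.card_le_of_le h2
  have hpos : 0 < Nat.card Ct := Nat.card_pos
  have hle4 : Nat.card U ≤ 4 * Nat.card Cx := by
    have h6 : Nat.card Ct * Nat.card Ct ≤ Nat.card Ct * (2 * Nat.card Cx) := by
      calc Nat.card Ct * Nat.card Ct ≤ Nat.card Ct * Nat.card Ct' := Nat.mul_le_mul_left _ h1
        _ ≤ Nat.card (Ct ⊔ Ct' : Subgroup G) * Nat.card (Ct ⊓ Ct' : Subgroup G) := h3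
        _ ≤ Nat.card U * Nat.card Cx := Nat.mul_le_mul h4 h5
        _ = Nat.card Ct * (2 * Nat.card Cx) := by rw [hcard]; ring
    have h7 := Nat.le_of_mul_le_mul_left h6 hpos
    rw [hcard]; omega
  have hrel := Cfsg.Agent.Lib.Helper74.relIndex_mul_card_of_le' hCxU
  set m := Cx.relIndex U with hm
  have hposx : 0 < Nat.card Cx := Nat.card_pos
  have hm4 : m ≤ 4 := by
    rw [← hrel] at hle4
    exact Nat.le_of_mul_le_mul_right hle4 hposx
  obtain ⟨e, he⟩ := IsPGroup.iff_card.mp hU2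
  have hmd : m ∣ 2 ^ e := by rw [← he, ← hrel]; exact dvd_mul_right _ _
  obtain ⟨i, -, hi⟩ := (Nat.dvd_prime_pow Nat.prime_two).mp hmd
  have hxC : ∀ c ∈ Cx, x * c = c * x := by
    intro c hc
    exact (Subgroup.mem_centralizer_iff.mp hc.2 x rfl)
  have hnotall : ¬ (∀ w ∈ U, x * w = w * x) := by
    intro h
    apply hxU
    rw [Subgroup.mem_centralizer_iff]
    intro w hw
    exact (h w hw).symm
  have hi0 : i ≠ 0 := by
    rintro rfl
    rw [pow_zero] at hi
    apply hnotall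
    intro w hw
    have : U ≤ Cx := Subgroup.relIndex_eq_one.mp (hm ▸ hi)
    exact hxC w (this hw)
  have hi1 : i ≠ 1 := by
    rintro rfl
    rw [pow_one] at hi
    obtain ⟨a₀, ha₀, hxor⟩ := Subgroup.relIndex_eq_two_iff.mp (hm ▸ hi)
    apply hnotall
    apply commute_of_unipotent U Cx hU2 hCxU x r hrodd hxr hxC
    intro w hw
    have hw' : x * w * x⁻¹ ∈ U := Subgroup.Normal.conj_mem inferInstance w hw x
    by_cases hwC : w ∈ Cx
    · have : x * w * x⁻¹ = w := by rw [hxC w hwC]; group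
      rw [this, inv_mul_cancel]
      exact Cx.one_mem
    · have hw'C : x * w * x⁻¹ ∉ Cx := by
        intro h
        apply hwC
        have e1 : x * (x * w * x⁻¹) = (x * w * x⁻¹) * x := hxC _ h
        have e2 : w = x * w * x⁻¹ := by
          have e3 : x⁻¹ * (x * (x * w * x⁻¹)) = x⁻¹ * ((x * w * x⁻¹) * x) := by rw [e1]
          have l : x⁻¹ * (x * (x * w * x⁻¹)) = x * w * x⁻¹ := by group
          have r' : x⁻¹ * ((x * w * x⁻¹) * x) = w := by group
          rw [l, r'] at e3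
          exact e3.symm
        rw [e2]; exact h
      have h6 : w * a₀ ∈ Cx := by
        rcases hxor w hw with ⟨h, _⟩ | ⟨h, _⟩
        · exact h
        · exact absurd h hwC
      have h7 : x * w * x⁻¹ * a₀ ∈ Cx := by
        rcases hxor _ hw' with ⟨h, _⟩ | ⟨h, _⟩
        · exact h
        · exact absurd h hw'C
      have e : w⁻¹ * (x * w * x⁻¹) = (w * a₀)⁻¹ * (x * w * x⁻¹ * a₀) := by
        have hc := hUc a₀⁻¹ (U.inv_mem ha₀) (w⁻¹ * (x * w * x⁻¹)) (U.mul_mem (U.inv_mem hw) hw')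
        calc w⁻¹ * (x * w * x⁻¹) = a₀⁻¹ * (w⁻¹ * (x * w * x⁻¹)) * a₀ := by rw [hc]; group
          _ = (w * a₀)⁻¹ * (x * w * x⁻¹ * a₀) := by group
      rw [e]
      exact Cx.mul_mem (Cx.inv_mem h6) h7
  have hi2 : i = 2 := by
    have : 2 ^ i ≤ 2 ^ 2 := by rw [← hi]; exact hm4
    have := (Nat.pow_le_pow_iff_right (by norm_num : 1 < 2)).mp this
    omega
  rw [hi, hi2]; norm_num

end T5

end Cfsg.Agent.Lib.Helper53
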