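import Cfsg.Agent.Lib.Helper53.Conj

set_option autoImplicit false

namespace Cfsg.Agent.Lib.Helper53

open Cfsg

section

variable {G : Type*} [Group G]

theorem card_sup_dvd_of_normal [Finite G] (M N : Subgroup G) [N.Normal] :
    Nat.card ↥(M ⊔ N) ∣ Nat.card M * Nat.card N := by
  have h1 : Nat.card ↥(N.subgroupOf (M ⊔ N)) * (N.subgroupOf (M ⊔ N)).index = Nat.card ↥(M ⊔ N) :=
    Subgroup.card_mul_index _
  have h2 : Nat.card ↥(N.subgroupOf (M ⊔ N)) = Nat.card N :=
    Nat.card_congr (Subgroup.subgroupOfEquivOfLe (le_sup_right : N ≤ M ⊔ N)).toEquiv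
  have h3 : (N.subgroupOf (M ⊔ N)).index = N.relIndex M := by
    show N.relIndex (M ⊔ N) = N.relIndex M
    exact Subgroup.relIndex_sup_right M N
  rw [← h1, h2, h3, mul_comm]
  exact Nat.mul_dvd_mul_right (Subgroup.relIndex_dvd_card N M) _

theorem pPrimeCore_normal (p : ℕ) : (pPrimeCore p G).Normal :=
  Subgroup.sSup_normal _ (fun _ h => h.1)

theorem pPrimeCore_card_coprime [Finite G] (p : ℕ) : (Nat.card (pPrimeCore p G)).Coprime p := by
  set S : Set (Subgroup G) := {N : Subgroup G | N.Normal ∧ (Nat.card N).Coprime p} with hS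
  have hfin : S.Finite := Set.toFinite _
  have hbot : (⊥ : Subgroup G) ∈ S := by
    refine ⟨inferInstance, ?_⟩
    simp
  obtain ⟨M, hM, hmax⟩ := Set.exists_max_image S (fun V : Subgroup G => Nat.card V) hfin ⟨⊥, hbot⟩
  have htop : ∀ N ∈ S, N ≤ M := by
    intro N hN
    have hMn := hM.1
    have hNn := hN.1
    have hsup : M ⊔ N ∈ S := by
      refine ⟨inferInstance, ?_⟩
      exact Nat.Coprime.of_dvd_left (card_sup_dvd_of_normal M N) (Nat.Coprime.mul_left hM.2 hN.2)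
    have hle : Nat.card ↥(M ⊔ N) ≤ Nat.card M := hmax _ hsup
    have : M = M ⊔ N := Subgroup.eq_of_le_of_card_ge le_sup_left hle
    rw [this]
    exact le_sup_right
  have : pPrimeCore p G = M := by
    apply le_antisymm
    · exact sSup_le htop
    · exact le_sSup hM
  rw [this]
  exact hM.2

/-- Frattini-type lemma with a normal `p'`-subgroup. -/
theorem exists_mul_mem_normalizer_of_coprime [Finite G] {p : ℕ} [Fact p.Prime]
    (N : Subgroup G) [N.Normal] (hN : (Nat.card N).Coprime p) (Q : Subgroup G) (hQ : IsPGroup p Q)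
    (y : G) (hy : y ∈ Subgroup.normalizer ((Q ⊔ N : Subgroup G) : Set G)) :
    ∃ n ∈ N, n * y ∈ Subgroup.normalizer (Q : Set G) := by
  have hp : p.Prime := Fact.out
  set B := Q ⊔ N with hB
  have hQB : Q ≤ B := le_sup_left
  -- index of Q in B is coprime to p
  have hidx : ¬ p ∣ (Q.subgroupOf B).index := by
    have h1 : Nat.card ↥(Q.subgroupOf B) * (Q.subgroupOf B).index = Nat.card ↥B :=
      Subgroup.card_mul_index _
    have h2 : Nat.card ↥(Q.subgroupOf B) = Nat.card Q :=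
      Nat.card_congr (Subgroup.subgroupOfEquivOfLe hQB).toEquiv
    have h3 : Nat.card ↥B ∣ Nat.card Q * Nat.card N := card_sup_dvd_of_normal Q N
    rw [← h1, h2] at h3
    have h4 : (Q.subgroupOf B).index ∣ Nat.card N :=
      Nat.dvd_of_mul_dvd_mul_left Nat.card_pos h3
    intro hdvd
    have := hdvd.trans h4
    have hcop : Nat.Coprime p (Nat.card N) := hN.symm
    exact hp.one_lt.ne' (Nat.Coprime.eq_one_of_dvd hcop this)
  set SQ : Sylow p B := (hQ.comap_subtype (H := Q) (K := B)).toSylow hidx with hSQ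
  -- conjugate of Q by y, inside B
  set Qy := Q.map (MulAut.conj y).toMonoidHom with hQy
  have hQyB : Qy ≤ B := by
    rintro _ ⟨q, hq, rfl⟩
    exact conj_mem_of_le_normalizer (le_refl _) hy (hQB hq)
  have hQyp : IsPGroup p (Qy.subgroupOf B) := (hQ.map _).comap_subtype
  obtain ⟨S', hS'⟩ := hQyp.exists_le_sylow
  obtain ⟨b, hb⟩ := MulAction.exists_smul_eq B S' SQ
  -- b * (y q y⁻¹) * b⁻¹ ∈ Q
  have hconj : ∀ q ∈ Q, (b : G) * y * q * ((b : G) * y)⁻¹ ∈ Q := by
    intro q hq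
    have hq' : y * q * y⁻¹ ∈ Qy := ⟨q, hq, rfl⟩
    have h1 : (⟨y * q * y⁻¹, hQyB hq'⟩ : B) ∈ (S' : Subgroup B) :=
      hS' (Subgroup.mem_subgroupOf.2 hq')
    have h2 : b * ⟨y * q * y⁻¹, hQyB hq'⟩ * b⁻¹ ∈ ((b • S' : Sylow p B) : Subgroup B) := by
      rw [Sylow.coe_subgroup_smul]
      exact ⟨_, h1, rfl⟩
    rw [hb] at h2
    have h3 : b * ⟨y * q * y⁻¹, hQyB hq'⟩ * b⁻¹ ∈ Q.subgroupOf B := h2
    rw [Subgroup.mem_subgroupOf] at h3
    have e : (b : G) * y * q * ((b : G) * y)⁻¹ = (b : G) * (y * q * y⁻¹) * (b : G)⁻¹ := by group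
    rw [e]
    simpa using h3
  have hby : (b : G) * y ∈ Subgroup.normalizer (Q : Set G) := by
    apply mem_normalizer_of_conj_mem
    intro q hq
    have := hconj q hq
    simpa [mul_assoc] using this
  have hbmem : (b : G) ∈ ((Q ⊔ N : Subgroup G) : Set G) := b.2
  rw [Subgroup.mul_normal] at hbmem
  obtain ⟨q₀, hq₀, n, hn, hbn⟩ := hbmem
  refine ⟨n, hn, ?_⟩
  have hq₀N : q₀⁻¹ ∈ Subgroup.normalizer (Q : Set G) :=
    Subgroup.le_normalizer (Q.inv_mem hq₀)
  have := Subgroup.mul_mem _ hq₀N hby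
  rw [← hbn] at this
  have e : q₀⁻¹ * (q₀ * n * y) = n * y := by group
  rwa [e] at this

end

end Cfsg.Agent.Lib.Helper53
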