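import Cfsg.Agent.Lib.Helper53.StronglyEmbedded
import Cfsg.Agent.Lib.Helper53.PPrime
import Cfsg.Prelude.Def_Amalgam

set_option autoImplicit false

namespace Cfsg.Agent.Lib.Helper53

open Cfsg

section

variable {G : Type*} [Group G] [Finite G] {p : ℕ} [Fact p.Prime]

/-- Unpack a strongly `p`-embedded subgroup: a nontrivial Sylow inside, and property (B). -/
theorem exists_sylow_of_isStronglyPEmbedded {X : Subgroup G} (hX : IsStronglyPEmbedded p X) :
    ∃ P : Sylow p G, (P : Subgroup G) ≠ ⊥ ∧ (P : Subgroup G) ≤ X ∧ NormB p X ∧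
      ∀ Q : Subgroup G, Q ≤ P → Q ≠ ⊥ → Subgroup.normalizer (Q : Set G) ≤ X := by
  obtain ⟨hpG, _, P, hP⟩ := hX
  rw [kGeneratedCore_one_le_iff] at hP
  have hne := P.ne_bot_of_dvd_card hpG
  obtain ⟨h1, h2⟩ := normB_of_sylow P hne X hP
  exact ⟨P, hne, h1, h2, hP⟩

theorem dvd_card_of_ne_bot_of_isPGroup {A : Subgroup G} (hA : IsPGroup p A) (hne : A ≠ ⊥) :
    p ∣ Nat.card A := by
  obtain ⟨n, hn⟩ := IsPGroup.iff_card.mp hA
  have hn0 : n ≠ 0 := by
    rintro rfl
    rw [pow_zero] at hn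
    have : Subsingleton ↥A := (Nat.card_eq_one_iff_unique.mp hn).1
    exact hne (Subgroup.eq_bot_of_subsingleton A)
  rw [hn]; exact dvd_pow_self p hn0

/-- S2776 (1): inheritance by subgroups. -/
theorem isStronglyPEmbedded_inf_subgroupOf {X : Subgroup G} (hX : IsStronglyPEmbedded p X)
    (H : Subgroup G) (hHX : ¬ H ≤ X) (hp : p ∣ Nat.card ↥(H ⊓ X)) :
    IsStronglyPEmbedded p ((H ⊓ X).subgroupOf H) := by
  obtain ⟨P, hPne, hPX, hB, _⟩ := exists_sylow_of_isStronglyPEmbedded hX
  have hne : (H ⊓ X).subgroupOf H ≠ ⊤ := by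
    intro h
    rw [Subgroup.subgroupOf_eq_top] at h
    exact hHX (h.trans inf_le_right)
  have hcard : Nat.card ↥((H ⊓ X).subgroupOf H) = Nat.card ↥(H ⊓ X) :=
    Nat.card_congr (Subgroup.subgroupOfEquivOfLe (inf_le_left : H ⊓ X ≤ H)).toEquiv
  rw [isStronglyPEmbedded_iff_normB hne (by rw [hcard]; exact hp)]
  intro A hA hAp hAne h hh
  -- A' = image of A in G
  set A' := A.map H.subtype with hA'
  have hA'X : A' ≤ X := by
    rintro _ ⟨a, ha, rfl⟩
    exact (Subgroup.mem_subgroupOf.1 (hA ha)).2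
  have hA'p : IsPGroup p A' := hAp.map _
  have hA'ne : A' ≠ ⊥ := by
    intro hbot
    apply hAne
    rw [eq_bot_iff]
    intro x hx
    have : (x : G) ∈ A' := ⟨x, hx, rfl⟩
    rw [hbot, Subgroup.mem_bot] at this
    rw [Subgroup.mem_bot]
    exact Subtype.ext this
  have hhN : (h : G) ∈ Subgroup.normalizer (A' : Set G) := by
    apply mem_normalizer_of_conj_mem
    rintro _ ⟨a, ha, rfl⟩
    exact ⟨h * a * h⁻¹, (Subgroup.mem_normalizer_iff.1 hh a).1 ha, rfl⟩
  rw [Subgroup.mem_subgroupOf]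
  exact ⟨h.2, hB A' hA'X hA'p hA'ne hhN⟩

omit [Finite G] in
theorem pElementClosure_top_normal (p : ℕ) : (pElementClosure p (⊤ : Subgroup G)).Normal := by
  unfold pElementClosure
  rw [← Subgroup.normalizer_eq_top_iff, eq_top_iff]
  refine le_trans ?_ (Subgroup.normalizer_le_normalizer_closure _)
  intro g _
  rw [Subgroup.mem_set_normalizer_iff]
  intro x
  have hord : orderOf (g * x * g⁻¹) = orderOf x := (MulAut.conj g).orderOf_eq x
  constructor
  · rintro ⟨_, k, hk⟩
    exact ⟨Subgroup.mem_top _, k, by rw [hord]; exact hk⟩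
  · rintro ⟨_, k, hk⟩
    exact ⟨Subgroup.mem_top _, k, by rw [← hord]; exact hk⟩

omit [Finite G] in
theorem sylow_le_pElementClosure_top (P : Sylow p G) :
    (P : Subgroup G) ≤ pElementClosure p (⊤ : Subgroup G) := by
  intro x hx
  apply Subgroup.subset_closure
  refine ⟨Subgroup.mem_top _, ?_⟩
  obtain ⟨k, hk⟩ := P.isPGroup' ⟨x, hx⟩
  have hk' : x ^ (p ^ k) = 1 := by simpa using congrArg Subtype.val hk
  obtain ⟨j, _, hj⟩ := (Nat.dvd_prime_pow Fact.out).mp (orderOf_dvd_of_pow_eq_one hk')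
  exact ⟨j, hj⟩

/-- S2776 (2). -/
theorem isStronglyPEmbedded_subgroupOf_pElementClosure {X : Subgroup G}
    (hX : IsStronglyPEmbedded p X) :
    IsStronglyPEmbedded p (X.subgroupOf (pElementClosure p (⊤ : Subgroup G))) := by
  obtain ⟨P, hPne, hPX, hB, hP⟩ := exists_sylow_of_isStronglyPEmbedded hX
  set E := pElementClosure p (⊤ : Subgroup G) with hE
  have hEn : E.Normal := pElementClosure_top_normal p
  have hPE : (P : Subgroup G) ≤ E := sylow_le_pElementClosure_top P
  have hXne : X ≠ ⊤ := hX.2.1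
  have hEX : ¬ E ≤ X := by
    intro hle
    apply hXne
    have h1 := Sylow.normalizer_sup_eq_top' P hPE
    have h2 : Subgroup.normalizer ((P : Subgroup G) : Set G) ≤ X := hP P le_rfl hPne
    rw [eq_top_iff, ← h1]
    exact sup_le h2 hle
  have hdvd : p ∣ Nat.card ↥(E ⊓ X) :=
    (dvd_card_of_ne_bot_of_isPGroup P.isPGroup' hPne).trans
      (Subgroup.card_dvd_of_le (le_inf hPE hPX))
  have := isStronglyPEmbedded_inf_subgroupOf hX E hEX hdvd
  rwa [Subgroup.inf_subgroupOf_left] at this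

/-- S2776 (3). -/
theorem isStronglyPEmbedded_map_mk_pPrimeCore {X : Subgroup G} (hX : IsStronglyPEmbedded p X)
    (hne : X ⊔ pPrimeCore p G ≠ ⊤) :
    IsStronglyPEmbedded p (X.map (QuotientGroup.mk' (pPrimeCore p G))) := by
  obtain ⟨P, hPne, hPX, hB, hP⟩ := exists_sylow_of_isStronglyPEmbedded hX
  set N := pPrimeCore p G with hN
  have hNn : N.Normal := pPrimeCore_normal p
  have hNc : (Nat.card N).Coprime p := pPrimeCore_card_coprime p
  set π := QuotientGroup.mk' N with hπ
  have hπs : Function.Surjective π := QuotientGroup.mk'_surjective N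
  have hker : π.ker = N := QuotientGroup.ker_mk' N
  refine ⟨?_, ?_, P.mapSurjective hπs, ?_⟩
  · -- p ∣ |G/N|
    have h1 : Nat.card G = Nat.card (G ⧸ N) * Nat.card N :=
      Subgroup.card_eq_card_quotient_mul_card_subgroup N
    have h2 : p ∣ Nat.card (G ⧸ N) * Nat.card N := h1 ▸ hX.1
    exact (Nat.Coprime.dvd_of_dvd_mul_right hNc.symm h2)
  · intro htop
    apply hne
    have := Subgroup.comap_map_eq π X
    rw [htop, Subgroup.comap_top, hker] at this
    exact this.symm
  · rw [kGeneratedCore_one_le_iff]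
    intro Qb hQbP hQbne
    rw [Sylow.coe_mapSurjective] at hQbP
    set Q := (P : Subgroup G) ⊓ Qb.comap π with hQ
    have hQP : Q ≤ P := inf_le_left
    have hlift : ∀ x, π x ∈ Qb → ∃ t ∈ Q, t⁻¹ * x ∈ N := by
      intro x hx
      obtain ⟨t, ht, hteq⟩ := hQbP hx
      refine ⟨t, ⟨ht, ?_⟩, ?_⟩
      · show π t ∈ Qb
        rw [hteq]; exact hx
      · exact QuotientGroup.eq.mp hteq
    have hQne : Q ≠ ⊥ := by
      intro hbot
      apply hQbne
      rw [eq_bot_iff]
      intro xb hxb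
      obtain ⟨x, rfl⟩ := hπs xb
      obtain ⟨t, ht, htx⟩ := hlift x hxb
      rw [hbot, Subgroup.mem_bot] at ht
      subst ht
      rw [Subgroup.mem_bot]
      have : x ∈ N := by simpa using htx
      exact (QuotientGroup.eq_one_iff x).mpr this
    have hcomap : Qb.comap π = Q ⊔ N := by
      apply le_antisymm
      · intro x hx
        obtain ⟨t, ht, htx⟩ := hlift x hx
        have : x = t * (t⁻¹ * x) := by group
        rw [this]
        exact Subgroup.mul_mem _ ((le_sup_left : Q ≤ Q ⊔ N) ht) ((le_sup_right : N ≤ Q ⊔ N) htx)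
      · apply sup_le inf_le_right
        intro n hn
        rw [Subgroup.mem_comap]
        have : π n = 1 := (QuotientGroup.eq_one_iff n).mpr hn
        rw [this]; exact one_mem _
    intro yb hyb
    obtain ⟨y, rfl⟩ := hπs yb
    have hy : y ∈ Subgroup.normalizer ((Q ⊔ N : Subgroup G) : Set G) := by
      rw [← hcomap]
      exact Subgroup.le_normalizer_comap π hyb
    obtain ⟨n, hn, hny⟩ := exists_mul_mem_normalizer_of_coprime N hNc Q
      (P.isPGroup'.to_le hQP) y hy
    have hX' : n * y ∈ X := hP Q hQP hQne hny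
    refine ⟨n * y, hX', ?_⟩
    rw [map_mul]
    have : π n = 1 := (QuotientGroup.eq_one_iff n).mpr hn
    rw [this, one_mul]

end

end Cfsg.Agent.Lib.Helper53
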