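import Cfsg.Agent.Lib.Helper53.Conj
import Cfsg.Prelude.Def_EvenType

set_option autoImplicit false

namespace Cfsg.Agent.Lib.Helper53

open Cfsg

section

variable {G : Type*} [Group G] {p : ℕ}

theorem not_pRankLE_zero_iff [Finite G] [Fact p.Prime] {Q : Subgroup G} (hQ : IsPGroup p Q) :
    ¬ PRankLE p 0 ↥Q ↔ Q ≠ ⊥ := by
  constructor
  · intro h hQb
    apply h
    intro A _ _
    subst hQb
    rw [pow_zero]
    have : Subsingleton ↥(⊥ : Subgroup G) := inferInstance
    exact Finite.card_le_one_iff_subsingleton.mpr inferInstance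
  · intro hne hle
    have hp : p.Prime := Fact.out
    have hnt : Nontrivial ↥Q := (Subgroup.nontrivial_iff_ne_bot Q).mpr hne
    obtain ⟨n, hn⟩ := IsPGroup.iff_card.mp hQ
    have hn0 : n ≠ 0 := by
      rintro rfl
      rw [pow_zero] at hn
      have : Subsingleton ↥Q := (Nat.card_eq_one_iff_unique.mp hn).1
      exact not_subsingleton ↥Q this
    have hdvd : p ∣ Nat.card ↥Q := by rw [hn]; exact dvd_pow_self p hn0
    obtain ⟨x, hx⟩ := exists_prime_orderOf_dvd_card' p hdvd
    have hA := hle (Subgroup.zpowers x) inferInstance (by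
      intro a ha
      obtain ⟨k, rfl⟩ := Subgroup.mem_zpowers_iff.mp ha
      rw [← zpow_natCast, ← zpow_mul, mul_comm, zpow_mul, zpow_natCast, ← hx, pow_orderOf_eq_one,
        one_zpow])
    rw [Nat.card_zpowers, hx, pow_zero] at hA
    exact absurd hA (not_le.mpr hp.one_lt)

theorem kGeneratedCore_one_le_iff [Finite G] [Fact p.Prime] (P : Sylow p G) (M : Subgroup G) :
    kGeneratedCore p 1 (P : Subgroup G) ≤ M ↔
      ∀ Q : Subgroup G, Q ≤ P → Q ≠ ⊥ → Subgroup.normalizer (Q : Set G) ≤ M := by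
  unfold kGeneratedCore
  rw [iSup_le_iff]
  constructor
  · intro h Q hQP hQ
    exact h ⟨Q, hQP, (not_pRankLE_zero_iff (P.isPGroup'.to_le hQP)).mpr hQ⟩
  · rintro h ⟨Q, hQP, hQ⟩
    exact h Q hQP ((not_pRankLE_zero_iff (P.isPGroup'.to_le hQP)).mp hQ)

end

section

variable {H : Type*} [Group H] [Finite H] {p : ℕ} [Fact p.Prime]

/-- property (B): normalizers of nontrivial `p`-subgroups of `M` lie in `M`. -/
def NormB (p : ℕ) (M : Subgroup H) : Prop :=
  ∀ A : Subgroup H, A ≤ M → IsPGroup p ↥A → A ≠ ⊥ → Subgroup.normalizer (A : Set H) ≤ M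

theorem normB_of_sylow (P : Sylow p H) (hP : (P : Subgroup H) ≠ ⊥) (M : Subgroup H)
    (h : ∀ Q : Subgroup H, Q ≤ P → Q ≠ ⊥ → Subgroup.normalizer (Q : Set H) ≤ M) :
    (P : Subgroup H) ≤ M ∧ NormB p M := by
  have hPM : (P : Subgroup H) ≤ M := Subgroup.le_normalizer.trans (h P le_rfl hP)
  refine ⟨hPM, ?_⟩
  intro A hAM hA hne
  obtain ⟨m, hm, hle⟩ := exists_conj_le_sylow_of_le P hPM hAM hA
  have h1 := h _ hle (map_conj_ne_bot m hne)
  intro x hx
  have h2 : m * x * m⁻¹ ∈ M := h1 (conj_mem_normalizer_map_conj hx)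
  have : x = m⁻¹ * (m * x * m⁻¹) * m := by group
  rw [this]
  exact M.mul_mem (M.mul_mem (M.inv_mem hm) h2) hm

/-- From (B) and `p ∣ |M|`: `M` contains a Sylow `p`-subgroup of `H`. -/
theorem exists_sylow_le_of_normB {M : Subgroup H} (hpM : p ∣ Nat.card M) (hB : NormB p M) :
    ∃ P : Sylow p H, (P : Subgroup H) ≤ M := by
  obtain ⟨P₀⟩ : Nonempty (Sylow p M) := inferInstance
  set P₀' := (P₀ : Subgroup M).map M.subtype with hP₀'
  have hP₀p : IsPGroup p P₀' := P₀.isPGroup'.map _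
  have hP₀M : P₀' ≤ M := Subgroup.map_subtype_le _
  have hP₀ne : P₀' ≠ ⊥ := by
    intro h
    have h1 : (P₀ : Subgroup M) = ⊥ := by
      rw [eq_bot_iff]
      intro x hx
      have : (x : H) ∈ P₀' := ⟨x, hx, rfl⟩
      rw [h, Subgroup.mem_bot] at this
      rw [Subgroup.mem_bot]
      exact Subtype.ext this
    exact P₀.ne_bot_of_dvd_card hpM h1
  obtain ⟨P, hP⟩ := hP₀p.exists_le_sylow
  refine ⟨P, ?_⟩
  by_contra hPM
  have hlt : P₀' < P := by
    refine lt_of_le_of_ne hP ?_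
    intro h
    exact hPM (h ▸ hP₀M)
  obtain ⟨y, hyP, hyn, hyN⟩ := exists_mem_normalizer_not_mem_of_lt P.isPGroup' hlt
  have hyM : y ∈ M := hB P₀' hP₀M hP₀p hP₀ne hyN
  -- P₀' ⊔ zpowers y is a p-subgroup of M strictly bigger
  set R := P₀' ⊔ Subgroup.zpowers y with hR
  have hRP : R ≤ P := sup_le hP (by rw [Subgroup.zpowers_le]; exact hyP)
  have hRM : R ≤ M := sup_le hP₀M (by rw [Subgroup.zpowers_le]; exact hyM)
  have hRp : IsPGroup p R := P.isPGroup'.to_le hRP
  have hmax := P₀.is_maximal' (Q := R.subgroupOf M) hRp.comap_subtype (by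
    intro x hx
    rw [Subgroup.mem_subgroupOf]
    exact (le_sup_left : P₀' ≤ R) ⟨x, hx, rfl⟩)
  have hy' : (⟨y, hyM⟩ : M) ∈ R.subgroupOf M := by
    rw [Subgroup.mem_subgroupOf]
    exact (le_sup_right : Subgroup.zpowers y ≤ R) (Subgroup.mem_zpowers y)
  rw [hmax] at hy'
  exact hyn ⟨⟨y, hyM⟩, hy', rfl⟩

theorem isStronglyPEmbedded_iff_normB {M : Subgroup H} (hM : M ≠ ⊤) (hpM : p ∣ Nat.card M) :
    IsStronglyPEmbedded p M ↔ NormB p M := by
  have hpH : p ∣ Nat.card H := hpM.trans (Subgroup.card_subgroup_dvd_card M)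
  constructor
  · rintro ⟨_, _, P, hP⟩
    rw [kGeneratedCore_one_le_iff] at hP
    exact (normB_of_sylow P (P.ne_bot_of_dvd_card hpH) M hP).2
  · intro hB
    obtain ⟨P, hPM⟩ := exists_sylow_le_of_normB hpM hB
    refine ⟨hpH, hM, P, ?_⟩
    rw [kGeneratedCore_one_le_iff]
    intro Q hQP hQ
    exact hB Q (hQP.trans hPM) (P.isPGroup'.to_le hQP) hQ

omit [Finite H] [Fact (Nat.Prime p)] in
theorem normB_map_conj {M : Subgroup H} (hB : NormB p M) (g : H) :
    NormB p (M.map (MulAut.conj g).toMonoidHom) := by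
  intro A hA hAp hne x hx
  rw [mem_map_conj_iff]
  have hA' : A.map (MulAut.conj g⁻¹).toMonoidHom ≤ M := by
    have := Subgroup.map_mono (f := (MulAut.conj g⁻¹).toMonoidHom) hA
    rwa [map_conj_inv_map_conj] at this
  have := hB _ hA' (hAp.map _) (map_conj_ne_bot g⁻¹ hne)
    (conj_mem_normalizer_map_conj (g := g⁻¹) hx)
  simpa using this

theorem normB_iff_conj_inf {M : Subgroup H} (hpM : p ∣ Nat.card M) :
    NormB p M ↔ ∀ g : H, g ∉ M → ¬ p ∣ Nat.card ↥(M ⊓ M.map (MulAut.conj g).toMonoidHom) := by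
  constructor
  · intro hB g hg hdvd
    apply hg
    set Mg := M.map (MulAut.conj g).toMonoidHom with hMg
    set D := M ⊓ Mg with hD
    have hBg : NormB p Mg := normB_map_conj hB g
    obtain ⟨P, hPM⟩ := exists_sylow_le_of_normB hpM hB
    obtain ⟨A'⟩ : Nonempty (Sylow p D) := inferInstance
    set A := (A' : Subgroup D).map D.subtype with hA
    have hAp : IsPGroup p A := A'.isPGroup'.map _
    have hAD : A ≤ D := Subgroup.map_subtype_le _
    have hAM : A ≤ M := hAD.trans inf_le_left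
    have hAMg : A ≤ Mg := hAD.trans inf_le_right
    have hAne : A ≠ ⊥ := by
      intro h
      have h1 : (A' : Subgroup D) = ⊥ := by
        rw [eq_bot_iff]
        intro x hx
        have : (x : H) ∈ A := ⟨x, hx, rfl⟩
        rw [h, Subgroup.mem_bot] at this
        rw [Subgroup.mem_bot]
        exact Subtype.ext this
      exact A'.ne_bot_of_dvd_card hdvd h1
    obtain ⟨m, hm, hle⟩ := exists_conj_le_sylow_of_le P hPM hAM hAp
    -- P₁ = m⁻¹ P m ≥ A
    set P₁ := (P : Subgroup H).map (MulAut.conj m⁻¹).toMonoidHom with hP₁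
    have hAP₁ : A ≤ P₁ := by
      have := Subgroup.map_mono (f := (MulAut.conj m⁻¹).toMonoidHom) hle
      rwa [map_conj_inv_map_conj] at this
    have hP₁p : IsPGroup p P₁ := P.isPGroup'.map _
    have hAeq : A = P₁ := by
      by_contra hne
      have hlt : A < P₁ := lt_of_le_of_ne hAP₁ hne
      obtain ⟨y, hyP, hyn, hyN⟩ := exists_mem_normalizer_not_mem_of_lt hP₁p hlt
      have hyM : y ∈ M := hB A hAM hAp hAne hyN
      have hyMg : y ∈ Mg := hBg A hAMg hAp hAne hyN
      have hyD : y ∈ D := ⟨hyM, hyMg⟩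
      set R := A ⊔ Subgroup.zpowers y with hR
      have hRP : R ≤ P₁ := sup_le hAP₁ (by rw [Subgroup.zpowers_le]; exact hyP)
      have hRD : R ≤ D := sup_le hAD (by rw [Subgroup.zpowers_le]; exact hyD)
      have hRp : IsPGroup p R := hP₁p.to_le hRP
      have hmax := A'.is_maximal' (Q := R.subgroupOf D) hRp.comap_subtype (by
        intro x hx
        rw [Subgroup.mem_subgroupOf]
        exact (le_sup_left : A ≤ R) ⟨x, hx, rfl⟩)
      have hy' : (⟨y, hyD⟩ : D) ∈ R.subgroupOf D := by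
        rw [Subgroup.mem_subgroupOf]
        exact (le_sup_right : Subgroup.zpowers y ≤ R) (Subgroup.mem_zpowers y)
      rw [hmax] at hy'
      exact hyn ⟨⟨y, hyD⟩, hy', rfl⟩
    -- B' = g⁻¹ A g ≤ M
    have hB' : A.map (MulAut.conj g⁻¹).toMonoidHom ≤ M := by
      have := Subgroup.map_mono (f := (MulAut.conj g⁻¹).toMonoidHom) hAMg
      rwa [hMg, map_conj_inv_map_conj] at this
    obtain ⟨m', hm', hle'⟩ := exists_conj_le_sylow_of_le P hPM hB' (hAp.map _)
    -- n = m⁻¹ m' g⁻¹ normalizes A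
    have hn : (m⁻¹ * m' * g⁻¹) ∈ Subgroup.normalizer (A : Set H) := by
      apply mem_normalizer_of_map_conj_eq
      apply map_conj_eq_of_le
      have h1 := Subgroup.map_mono (f := (MulAut.conj m⁻¹).toMonoidHom) hle'
      rw [← map_conj_mul, ← map_conj_mul] at h1
      rw [hAeq] at h1 ⊢
      exact h1
    have hnM := hB A hAM hAp hAne hn
    have : g = (m⁻¹ * m' * g⁻¹)⁻¹ * (m⁻¹ * m') := by group
    rw [this]
    exact M.mul_mem (M.inv_mem hnM) (M.mul_mem (M.inv_mem hm) hm')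
  · intro h A hAM hAp hne g hg
    by_contra hgM
    apply h g hgM
    have hAle : A ≤ M ⊓ M.map (MulAut.conj g).toMonoidHom := by
      refine le_inf hAM ?_
      intro a ha
      rw [mem_map_conj_iff]
      have := (Subgroup.mem_normalizer_iff''.1 hg a).mp ha
      exact hAM this
    have hpA : p ∣ Nat.card A := by
      obtain ⟨n, hn⟩ := IsPGroup.iff_card.mp hAp
      have hn0 : n ≠ 0 := by
        rintro rfl
        rw [pow_zero] at hn
        have : Subsingleton ↥A := (Nat.card_eq_one_iff_unique.mp hn).1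
        exact hne (Subgroup.eq_bot_of_subsingleton A)
      rw [hn]; exact dvd_pow_self p hn0
    exact hpA.trans (Subgroup.card_dvd_of_le hAle)

end

end Cfsg.Agent.Lib.Helper53

namespace Cfsg.Agent.Lib.Helper53

open Cfsg
open scoped Pointwise

section

variable {H : Type*} [Group H] [Finite H] {p : ℕ} [Fact p.Prime]

theorem isStronglyPEmbedded_iff_conj_core (T : Sylow p H) {M : Subgroup H} (hM : M ≠ ⊤)
    (hpM : p ∣ Nat.card M) :
    IsStronglyPEmbedded p M ↔ ∃ g : H,
      (⨆ A : {A : Subgroup H // A ≤ (T : Subgroup H) ∧ A ≠ ⊥},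
        Subgroup.normalizer ((A : Subgroup H) : Set H)).map (MulAut.conj g).toMonoidHom ≤ M := by
  have hpH : p ∣ Nat.card H := hpM.trans (Subgroup.card_subgroup_dvd_card M)
  constructor
  · rintro ⟨_, _, P, hP⟩
    rw [kGeneratedCore_one_le_iff] at hP
    obtain ⟨g, hg⟩ := MulAction.exists_smul_eq H T P
    refine ⟨g, ?_⟩
    rw [Subgroup.map_iSup, iSup_le_iff]
    rintro ⟨A, hAT, hA⟩
    rintro _ ⟨x, hx, rfl⟩
    have hle : A.map (MulAut.conj g).toMonoidHom ≤ P := by
      rw [← hg, coe_smul_sylow_eq_map]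
      exact Subgroup.map_mono hAT
    exact hP _ hle (map_conj_ne_bot g hA) (conj_mem_normalizer_map_conj hx)
  · rintro ⟨g, hg⟩
    refine ⟨hpH, hM, g • T, ?_⟩
    rw [kGeneratedCore_one_le_iff]
    intro Q hQP hQ x hx
    rw [coe_smul_sylow_eq_map] at hQP
    set A := Q.map (MulAut.conj g⁻¹).toMonoidHom with hA
    have hAT : A ≤ T := by
      have := Subgroup.map_mono (f := (MulAut.conj g⁻¹).toMonoidHom) hQP
      rwa [map_conj_inv_map_conj] at this
    have hAne : A ≠ ⊥ := map_conj_ne_bot g⁻¹ hQ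
    have hQA : Q = A.map (MulAut.conj g).toMonoidHom := by
      rw [hA, map_conj_map_conj_inv]
    have hx' : g⁻¹ * x * g ∈ Subgroup.normalizer (A : Set H) := by
      rw [hQA] at hx
      exact mem_normalizer_map_conj_iff.mp hx
    have hK : g⁻¹ * x * g ∈ (⨆ A : {A : Subgroup H // A ≤ (T : Subgroup H) ∧ A ≠ ⊥},
        Subgroup.normalizer ((A : Subgroup H) : Set H)) :=
      (le_iSup (fun A : {A : Subgroup H // A ≤ (T : Subgroup H) ∧ A ≠ ⊥} =>
        Subgroup.normalizer ((A : Subgroup H) : Set H)) ⟨A, hAT, hAne⟩) hx'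
    have := hg (conj_mem_map_conj (g := g) hK)
    have e : g * (g⁻¹ * x * g) * g⁻¹ = x := by group
    rwa [e] at this

end

end Cfsg.Agent.Lib.Helper53
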