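import Cfsg.Agent.Lib.Helper53.PReduced2

set_option autoImplicit false

namespace Cfsg.Agent.Lib.Helper53

open Cfsg
open scoped Pointwise

section

variable {L : Type*} [Group L] [Finite L] {p : ℕ} [Fact p.Prime]

/-- For `C` normal, `T ∩ C` is a Sylow `p`-subgroup of `C`. -/
theorem exists_sylow_inf_normal (T : Sylow p L) (C : Subgroup L) [C.Normal] :
    ∃ P : Sylow p C, (P : Subgroup C) = (T : Subgroup L).subgroupOf C := by
  obtain ⟨P₀⟩ : Nonempty (Sylow p C) := inferInstance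
  obtain ⟨Q, hQ⟩ := P₀.exists_comap_subtype_eq
  obtain ⟨g, hg⟩ := MulAction.exists_smul_eq L Q T
  refine ⟨(MulAut.conjNormal g : MulAut C) • P₀, ?_⟩
  rw [Sylow.pointwise_smul_def]
  ext x
  rw [Subgroup.mem_pointwise_smul_iff_inv_smul_mem, ← hQ, Subgroup.mem_comap, Subgroup.mem_subgroupOf,
    ← hg, Sylow.coe_subgroup_smul, Subgroup.mem_pointwise_smul_iff_inv_smul_mem]
  have : ((C.subtype) ((MulAut.conjNormal g : MulAut C)⁻¹ • x) : L) = (MulAut.conj g)⁻¹ • (x : L) := by
    rw [MulAut.smul_def, MulAut.smul_def, Subgroup.coe_subtype, MulAut.conjNormal_inv_apply]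
    simp
  rw [this]

/-- Frattini argument for `T ∩ C`, elementwise. -/
theorem frattini_inf_normal (T : Sylow p L) (C : Subgroup L) [C.Normal] (g : L) :
    ∃ a ∈ Subgroup.normalizer (((T : Subgroup L) ⊓ C : Subgroup L) : Set L), ∃ c ∈ C, g = a * c := by
  obtain ⟨P, hP⟩ := exists_sylow_inf_normal T C
  have h := Sylow.normalizer_sup_eq_top P
  have hmap : (P : Subgroup C).map C.subtype = (T : Subgroup L) ⊓ C := by
    rw [hP, Subgroup.subgroupOf_map_subtype]
  rw [hmap] at h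
  have hg : g ∈ ((Subgroup.normalizer (((T : Subgroup L) ⊓ C : Subgroup L) : Set L) ⊔ C : Subgroup L) : Set L) := by
    rw [h]; trivial
  rw [Subgroup.mul_normal] at hg
  obtain ⟨a, ha, c, hc, rfl⟩ := hg
  exact ⟨a, ha, c, hc, rfl⟩

end

end Cfsg.Agent.Lib.Helper53
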