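import Mathlib
import Cfsg.Agent.Lib.Helper41.Control
import Cfsg.Agent.Lib.Helper53.ThompsonJA
import Cfsg.Agent.Lib.Helper53.ReplaceA

/-!
# Reduction of weak closure of elements to local subgroups (Alperin–Gorenstein)

`reduce_local`: for a conjugacy functor `W ⊇ Z`, an element `x ∈ Z(S)` centralized by `N_G(W(S))`
but not weakly closed in `S` already fails to be central in `N_G(T)` for a subgroup `T ∋ x` of `S`
with `N_S(T)` Sylow in `N_G(T)` and `N_G(W(N_S(T)))` centralizing `x`.

`JAc`: the abelian-version Thompson subgroup as a conjugacy functor.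
-/

set_option autoImplicit false

namespace Cfsg.Agent.Lib.Helper53.WC

open Cfsg Cfsg.Agent.Lib.Helper41

universe u

section Reduce

variable {G : Type*} [Group G]

theorem first_move {𝓕 : Set (Subgroup G)} {A : Set G}
    {L : List (Subgroup G × G)} (hL : Chain 𝓕 A L)
    (hne : rconj (L.map Prod.snd).prod A ≠ A) :
    ∃ T ∈ 𝓕, ∃ x ∈ Subgroup.normalizer (T : Set G), A ⊆ T ∧ rconj x A ≠ A := by
  induction L with
  | nil => simp at hne
  | cons b L ih =>
    obtain ⟨T, x⟩ := b
    obtain ⟨h1, h2, h3, h4⟩ := hL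
    by_cases hx : rconj x A = A
    · rw [hx] at h4
      apply ih h4
      simpa [rconj_mul, hx] using hne
    · exact ⟨T, h1, x, h2, h3, hx⟩

theorem reduce_local [Finite G] {p : ℕ} [Fact p.Prime] (S : Sylow p G)
    (W : Subgroup G → Subgroup G) (hW : IsConjugacyFunctor p W)
    (hWZ : ∀ P : Subgroup G, IsPGroup p ↥P → P ⊓ Subgroup.centralizer (P : Set G) ≤ W P)
    (x : G) (hxS : x ∈ (S : Subgroup G))
    (hxZ : x ∈ Subgroup.centralizer ((S : Subgroup G) : Set G))
    (hxN : Subgroup.normalizer ((W (S : Subgroup G) : Subgroup G) : Set G) ≤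
      Subgroup.centralizer ({x} : Set G))
    (g : G) (hg : g * x * g⁻¹ ∈ (S : Subgroup G)) (hne : g * x * g⁻¹ ≠ x) :
    ∃ T : Subgroup G, T ≤ (S : Subgroup G) ∧ x ∈ T ∧
      ¬ p ∣ ((S : Subgroup G) ⊓ Subgroup.normalizer ((T : Subgroup G) : Set G)).relIndex
        (Subgroup.normalizer ((T : Subgroup G) : Set G)) ∧
      Subgroup.normalizer ((W ((S : Subgroup G) ⊓ Subgroup.normalizer ((T : Subgroup G) : Set G)) :
        Subgroup G) : Set G) ≤ Subgroup.centralizer ({x} : Set G) ∧
      ∃ n ∈ Subgroup.normalizer ((T : Subgroup G) : Set G), n * x * n⁻¹ ≠ x := by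
  classical
  have hSp : IsPGroup p (S : Subgroup G) := S.2
  set A : Subgroup G := Subgroup.zpowers x with hA
  have hAS : A ≤ (S : Subgroup G) := by
    rw [hA, Subgroup.zpowers_le]; exact hxS
  have hreach := alperin_reach S
    {T : Subgroup G | IsWellPlaced p W (S : Subgroup G) T}
    (fun U hU => hU.1) (by
      intro T hT
      obtain ⟨g, hg⟩ := exists_wellPlaced_lc hW S hT
      exact ⟨_, hg, ⟨g, rfl⟩, hg.2 0⟩)
  have hgA : lc g⁻¹⁻¹ A ≤ (S : Subgroup G) := by
    rw [inv_inv, hA]
    rintro _ ⟨y, hy, rfl⟩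
    obtain ⟨k, rfl⟩ := Subgroup.mem_zpowers_iff.mp hy
    show g * x ^ k * g⁻¹ ∈ (S : Subgroup G)
    have : g * x ^ k * g⁻¹ = (g * x * g⁻¹) ^ k := by
      rw [conj_zpow]
    rw [this]
    exact Subgroup.zpow_mem _ hg k
  have hr := hreach A hAS g⁻¹ hgA
  have hr' : Reach {T : Subgroup G | IsWellPlaced p W (S : Subgroup G) T} ({x} : Set G) g⁻¹ := by
    apply Reach.mono _ hr
    intro y hy
    rw [Set.mem_singleton_iff] at hy
    rw [hy]
    exact Subgroup.mem_zpowers x
  obtain ⟨L, hL, hprod⟩ := hr'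
  have hne' : rconj (L.map Prod.snd).prod ({x} : Set G) ≠ ({x} : Set G) := by
    rw [hprod]
    intro h
    apply hne
    have h1 : g * x * g⁻¹ ∈ rconj g⁻¹ ({x} : Set G) := by
      rw [mem_rconj, Set.mem_singleton_iff]
      group
    rw [h, Set.mem_singleton_iff] at h1
    exact h1
  obtain ⟨T₀, hT₀, n₀, hn₀, hxT₀, hn₀x⟩ := first_move hL hne'
  have hxT₀' : x ∈ T₀ := hxT₀ (Set.mem_singleton x)
  have hnot0 : ¬ Subgroup.normalizer ((T₀ : Subgroup G) : Set G) ≤
      Subgroup.centralizer ({x} : Set G) := by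
    intro hle
    apply hn₀x
    have h1 := hle hn₀
    rw [Subgroup.mem_centralizer_iff] at h1
    have h2 := h1 x (Set.mem_singleton x)
    ext y
    rw [mem_rconj, Set.mem_singleton_iff, Set.mem_singleton_iff]
    constructor
    · intro h
      have : y = n₀⁻¹ * x * n₀ := by rw [← h]; group
      rw [this, mul_assoc, h2]; group
    · rintro rfl
      rw [← h2]; group
  -- all terms of the tower contain x
  have hxtower : ∀ i, x ∈ functorTower W (S : Subgroup G) T₀ i := by
    intro i
    induction i with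
    | zero => exact hxT₀'
    | succ i ih =>
      rw [tower_succ]
      apply hWZ _ hSp.to_inf_left
      refine ⟨le_NS (tower_le hW hSp hT₀.1 i) ih, ?_⟩
      exact Subgroup.centralizer_le (by exact_mod_cast (inf_le_left :
        NS (S : Subgroup G) (functorTower W (S : Subgroup G) T₀ i) ≤ (S : Subgroup G))) hxZ
  obtain ⟨i₀, hi₀⟩ := tower_eventually hW hSp T₀
  have hP : ∃ j, Subgroup.normalizer ((functorTower W (S : Subgroup G) T₀ j : Subgroup G) : Set G) ≤
      Subgroup.centralizer ({x} : Set G) := ⟨i₀ + 1, by rw [hi₀]; exact hxN⟩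
  have hjmin : ∀ m, m < Nat.find hP → ¬ _ := fun m hm => Nat.find_min hP hm
  have hjspec := Nat.find_spec hP
  generalize Nat.find hP = j at hjmin hjspec
  have hjpos : j ≠ 0 := by
    intro h0
    rw [h0] at hjspec
    exact hnot0 hjspec
  obtain ⟨i, rfl⟩ : ∃ i, j = i + 1 := Nat.exists_eq_succ_of_ne_zero hjpos
  have hnoti := hjmin i (Nat.lt_succ_self i)
  have hwp := wellPlaced_tower hW hSp hT₀ i
  refine ⟨functorTower W (S : Subgroup G) T₀ i, hwp.1, hxtower i, hwp.2 0, hjspec, ?_⟩
  obtain ⟨y, hy1, hy2⟩ := SetLike.not_le_iff_exists.mp hnoti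
  refine ⟨y, hy1, ?_⟩
  intro h
  apply hy2
  rw [Subgroup.mem_centralizer_iff]
  intro z hz
  rw [Set.mem_singleton_iff] at hz
  rw [hz]
  calc x * y = (y * x * y⁻¹)⁻¹⁻¹ * y := by rw [h]; group
    _ = y * x := by group

end Reduce

section JA

variable {G : Type u} [Group G]

/-- the abelian-version Thompson subgroup as a map on subgroups -/
def JAc : Subgroup G → Subgroup G := fun P => thompsonSubgroupAOf P

theorem JAc_apply (P : Subgroup G) : JAc P = thompsonSubgroupAOf P := rfl

theorem isConjugacyFunctor_JAc [Finite G] {p : ℕ} [Fact p.Prime] :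
    IsConjugacyFunctor p (JAc : Subgroup G → Subgroup G) := by
  intro P hP
  refine ⟨thompsonAOf_le P, ?_, ?_⟩
  · intro hne
    have := inducedFunctor_ne_bot (p := p) isCharPFunctor_JA hP hne
    rwa [inducedFunctor_JA] at this
  · intro g
    have := inducedFunctor_map (p := p) isCharPFunctor_JA (MulAut.conj g).toMonoidHom P hP
      (fun a _ b _ h => (MulAut.conj g).injective h)
    rw [inducedFunctor_JA, inducedFunctor_JA] at this
    exact this

/-- an abelian subgroup of largest order contains the centre -/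
theorem isMaxAbIn_center_le [Finite G] {P A : Subgroup G} (h : IsMaxAbIn P A) :
    P ⊓ Subgroup.centralizer (P : Set G) ≤ A := by
  set Z := P ⊓ Subgroup.centralizer (P : Set G) with hZ
  have hab : ∀ x ∈ A ⊔ Z, ∀ y ∈ A ⊔ Z, x * y = y * x := by
    apply abelian_sup h.2.1
    · intro x hx y hy
      exact (Subgroup.mem_centralizer_iff.mp hy.2 x hx.1)
    · intro a ha b hb
      exact (Subgroup.mem_centralizer_iff.mp hb.2 a (h.1 ha))
  have h1 := h.2.2 (A ⊔ Z) (sup_le h.1 inf_le_left) hab
  have h2 : A = A ⊔ Z := by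
    apply Subgroup.eq_of_le_of_card_ge le_sup_left h1
  rw [h2]
  exact le_sup_right

theorem center_le_JAc [Finite G] (P : Subgroup G) :
    P ⊓ Subgroup.centralizer (P : Set G) ≤ JAc P := by
  obtain ⟨A, hA⟩ := exists_isMaxAbIn P
  exact (isMaxAbIn_center_le hA).trans hA.le_thompsonAOf

end JA

end Cfsg.Agent.Lib.Helper53.WC
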