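import Mathlib
import Cfsg.Agent.Lib.Helper53.WCReduce
import Cfsg.Agent.Lib.Helper53.SylowNormal
import Cfsg.Agent.Lib.Helper81.Cores

/-!
# Weak closure of elements: the local case, first part

Frattini lemma, weak closure of subgroups generated by conjugation-invariant families, quadratic
action of abelian subgroups of largest order with maximal intersection, and the "squares" case.
-/

set_option autoImplicit false

namespace Cfsg.Agent.Lib.Helper53.WC

open Cfsg Cfsg.Agent.Lib.Helper41 Cfsg.Agent.Lib.Helper81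
open scoped commutatorElement

universe u

variable {G : Type u} [Group G] [Finite G] {p : ℕ} [Fact p.Prime]

/-- **Frattini lemma.** -/
theorem frattini_centralizes (S : Sylow p G) (x : G)
    (hM : ∀ K : Subgroup G, K ≠ ⊤ → (S : Subgroup G) ≤ K → K ≤ Subgroup.centralizer ({x} : Set G))
    (N : Subgroup G) [N.Normal] (hN : N ≤ Subgroup.centralizer ({x} : Set G))
    (P₀ : Subgroup G) (hP₀ : P₀ ≤ (S : Subgroup G) ⊓ N)
    (hwc : ∀ g : G, lc g P₀ ≤ (S : Subgroup G) → lc g P₀ = P₀)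
    (hnq : ¬ P₀ ≤ pCore p G) : ∀ g : G, g ∈ Subgroup.centralizer ({x} : Set G) := by
  have hP₀S : P₀ ≤ (S : Subgroup G) := hP₀.trans inf_le_left
  have hne : Subgroup.normalizer (P₀ : Set G) ≠ ⊤ := by
    intro h
    apply hnq
    have hn : P₀.Normal := Subgroup.normalizer_eq_top_iff.mp h
    exact le_pCore hn (S.2.to_le hP₀S)
  have hSN : (S : Subgroup G) ≤ Subgroup.normalizer (P₀ : Set G) := by
    intro s hs
    rw [mem_normalizer_iff_lc]
    apply hwc
    rintro _ ⟨y, hy, rfl⟩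
    exact (S : Subgroup G).mul_mem ((S : Subgroup G).mul_mem hs (hP₀S hy)) ((S : Subgroup G).inv_mem hs)
  have hNC := hM _ hne hSN
  intro g
  obtain ⟨a, ha, c, hc, rfl⟩ := Cfsg.Agent.Lib.Helper53.frattini_inf_normal S N g
  apply Subgroup.mul_mem _ _ (hN hc)
  apply hNC
  rw [mem_normalizer_iff_lc]
  apply hwc
  have h1 : lc a P₀ ≤ lc a ((S : Subgroup G) ⊓ N) := lc_mono hP₀
  rw [mem_normalizer_iff_lc.mp ha] at h1
  exact h1.trans inf_le_left

/-- a subgroup generated by a family closed under conjugation inside `S` is weakly closed in `S` -/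
theorem weaklyClosed_sSup (S : Subgroup G) (𝒜 : Set (Subgroup G))
    (h𝒜 : ∀ A ∈ 𝒜, ∀ g : G, lc g A ≤ S → lc g A ∈ 𝒜) :
    ∀ g : G, lc g (sSup 𝒜) ≤ S → lc g (sSup 𝒜) = sSup 𝒜 := by
  intro g hg
  apply lc_eq_of_le_of_finite
  rw [lc, Subgroup.map_le_iff_le_comap]
  apply sSup_le
  intro A hA
  rw [← Subgroup.map_le_iff_le_comap]
  have h1 : lc g A ≤ S := (lc_mono (le_sSup hA)).trans hg
  exact le_sSup (h𝒜 A hA g h1)

theorem isMaxAbIn_lc {S A : Subgroup G} (hA : IsMaxAbIn S A) (g : G) (h : lc g A ≤ S) :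
    IsMaxAbIn S (lc g A) := by
  refine ⟨h, ?_, ?_⟩
  · rintro _ ⟨a, ha, rfl⟩ _ ⟨b, hb, rfl⟩
    show g * a * g⁻¹ * (g * b * g⁻¹) = g * b * g⁻¹ * (g * a * g⁻¹)
    have := hA.2.1 a ha b hb
    calc g * a * g⁻¹ * (g * b * g⁻¹) = g * (a * b) * g⁻¹ := by group
      _ = g * (b * a) * g⁻¹ := by rw [this]
      _ = _ := by group
  · intro B hB hBc
    rw [card_lc]
    exact hA.2.2 B hB hBc

theorem JAc_weaklyClosed (S : Subgroup G) :
    ∀ g : G, lc g (JAc S) ≤ S → lc g (JAc S) = JAc S := by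
  rw [JAc_apply, thompsonAOf_eq_sSup]
  apply weaklyClosed_sSup
  intro A hA g hg
  exact isMaxAbIn_lc hA g hg

theorem lc_normal_eq (N : Subgroup G) [hN : N.Normal] (g : G) : lc g N = N := by
  apply mem_normalizer_iff_lc.mp
  rw [Subgroup.normalizer_eq_top_iff.mpr hN]
  exact Subgroup.mem_top g

/-- candidates: abelian subgroups of largest order not centralizing `V` -/
def Cand (S V : Subgroup G) : Set (Subgroup G) :=
  {A | IsMaxAbIn S A ∧ ¬ A ≤ Subgroup.centralizer (V : Set G)}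

theorem commutator_ne_bot_of_not_le {V A : Subgroup G}
    (h : ¬ A ≤ Subgroup.centralizer (V : Set G)) : ⁅V, A⁆ ≠ ⊥ := by
  intro h1
  apply h
  rw [Subgroup.commutator_eq_bot_iff_le_centralizer] at h1
  exact Subgroup.le_centralizer_iff.mp h1

theorem not_le_of_commutator_ne_bot {V A : Subgroup G} (h : ⁅V, A⁆ ≠ ⊥) :
    ¬ A ≤ Subgroup.centralizer (V : Set G) := by
  intro h1
  apply h
  rw [Subgroup.commutator_eq_bot_iff_le_centralizer]
  exact Subgroup.le_centralizer_iff.mp h1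

/-- members of `Cand` with maximal intersection with `V` act quadratically -/
theorem quad_of_cand {S V A : Subgroup G} (hSp : IsPGroup p S) [hVn : V.Normal] (hVS : V ≤ S)
    (hVc : ∀ x ∈ V, ∀ y ∈ V, x * y = y * x) (hA : A ∈ Cand S V)
    (hμ : ∀ B ∈ Cand S V, Nat.card (B ⊓ V : Subgroup G) ≤ Nat.card (A ⊓ V : Subgroup G)) :
    ⁅V, A⁆ ≤ A ⊓ V := by
  obtain ⟨h1, h2, h3⟩ := replacementA hSp hVS hVc hA.1
  set A' := ⁅V, A⁆ ⊔ (A ⊓ Subgroup.centralizer ((⁅V, A⁆ : Subgroup G) : Set G)) with hA'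
  have hcomV : ⁅V, A⁆ ≤ V := Subgroup.commutator_le_left V A
  have hA'c : A' ∈ Cand S V := ⟨h1, not_le_of_commutator_ne_bot (h3 (commutator_ne_bot_of_not_le hA.2))⟩
  have h4 := hμ A' hA'c
  have h5 : (A ⊓ V) ⊔ ⁅V, A⁆ ≤ A' ⊓ V := by
    apply sup_le
    · refine le_inf ?_ inf_le_right
      refine le_trans (le_inf inf_le_left ?_) le_sup_right
      intro a ha
      rw [Subgroup.mem_centralizer_iff]
      intro c hc
      exact hVc c (hcomV hc) a ha.2
    · exact le_inf le_sup_left hcomV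
  have h6 : Nat.card ((A ⊓ V) ⊔ ⁅V, A⁆ : Subgroup G) ≤ Nat.card (A ⊓ V : Subgroup G) :=
    (Subgroup.card_le_of_le h5).trans h4
  have h7 : A ⊓ V = (A ⊓ V) ⊔ ⁅V, A⁆ := Subgroup.eq_of_le_of_card_ge le_sup_left h6
  rw [h7]
  exact le_sup_right

theorem quad_of_cand' {S V A : Subgroup G} (hSp : IsPGroup p S) [hVn : V.Normal] (hVS : V ≤ S)
    (hVc : ∀ x ∈ V, ∀ y ∈ V, x * y = y * x) (hA : A ∈ Cand S V)
    (hμ : ∀ B ∈ Cand S V, Nat.card (B ⊓ V : Subgroup G) ≤ Nat.card (A ⊓ V : Subgroup G)) :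
    ∀ v ∈ V, ∀ a ∈ A, ∀ b ∈ A, b * (a * v * a⁻¹ * v⁻¹) = (a * v * a⁻¹ * v⁻¹) * b := by
  intro v hv a ha b hb
  have h1 : ⁅a, v⁆ ∈ ⁅V, A⁆ := by
    rw [Subgroup.commutator_comm]
    exact Subgroup.commutator_mem_commutator ha hv
  have h2 := (quad_of_cand hSp hVS hVc hA hμ h1).1
  rw [commutatorElement_def] at h2
  exact hA.1.2.1 _ hb _ h2

end Cfsg.Agent.Lib.Helper53.WC
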