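import Mathlib
import Cfsg.Agent.Lib.Helper53.WCLocal1

/-!
# Weak closure of elements: the local case for `p`-th powers of central elements
-/

set_option autoImplicit false

namespace Cfsg.Agent.Lib.Helper53.WC

open Cfsg Cfsg.Agent.Lib.Helper41 Cfsg.Agent.Lib.Helper81
open scoped commutatorElement

universe u

variable {G : Type u} [Group G]

theorem centralizer_normal_of_conj_invariant (T : Set G)
    (hT : ∀ g : G, ∀ t ∈ T, g * t * g⁻¹ ∈ T) : (Subgroup.centralizer T).Normal := by
  constructor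
  intro n hn g
  rw [Subgroup.mem_centralizer_iff] at hn ⊢
  intro t ht
  have h1 := hn (g⁻¹ * t * g⁻¹⁻¹) (hT g⁻¹ t ht)
  rw [inv_inv] at h1
  calc t * (g * n * g⁻¹) = g * ((g⁻¹ * t * g) * n) * g⁻¹ := by group
    _ = g * (n * (g⁻¹ * t * g)) * g⁻¹ := by rw [h1]
    _ = g * n * g⁻¹ * t := by group

theorem conj_pow_eq_of_comm {a u c : G} (h1 : a * u * a⁻¹ = c * u) (h2 : a * c = c * a) (n : ℕ) :
    a ^ n * u * (a ^ n)⁻¹ = c ^ n * u := by
  induction n with
  | zero => simp
  | succ n ih =>
    have h3 : a ^ n * c = c * a ^ n := by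
      have : Commute a c := h2
      exact (this.pow_left n).eq
    calc a ^ (n + 1) * u * (a ^ (n + 1))⁻¹ = a ^ n * (a * u * a⁻¹) * (a ^ n)⁻¹ := by
          rw [pow_succ]; group
      _ = a ^ n * (c * u) * (a ^ n)⁻¹ := by rw [h1]
      _ = (a ^ n * c) * u * (a ^ n)⁻¹ := by group
      _ = c * (a ^ n * u * (a ^ n)⁻¹) := by rw [h3]; group
      _ = c ^ (n + 1) * u := by rw [ih, pow_succ']; group

variable [Finite G] {p : ℕ} [Fact p.Prime]

theorem inf_normal_weaklyClosed (S N : Subgroup G) [N.Normal] :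
    ∀ g : G, lc g (S ⊓ N) ≤ S → lc g (S ⊓ N) = S ⊓ N := by
  intro g hg
  have h1 : lc g (S ⊓ N) ≤ lc g N := lc_mono inf_le_right
  rw [lc_normal_eq N] at h1
  exact lc_eq_of_le_of_finite (le_inf hg h1)

set_option maxHeartbeats 800000 in
theorem squares_case (S : Sylow p G) (x : G)
    (hM : ∀ K : Subgroup G, K ≠ ⊤ → (S : Subgroup G) ≤ K → K ≤ Subgroup.centralizer ({x} : Set G))
    (hxQ : x ∈ pCore p G)
    (z : G) (hzS : z ∈ (S : Subgroup G))
    (hzZ : z ∈ Subgroup.centralizer ((S : Subgroup G) : Set G)) (hzx : z ^ p = x)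
    (A : Subgroup G) (hA : IsMaxAbIn (S : Subgroup G) A)
    (hAU : ¬ A ≤ Subgroup.centralizer
      ((pCore p G ⊓ Subgroup.centralizer (pCore p G : Set G) : Subgroup G) : Set G)) :
    ∀ g : G, g ∈ Subgroup.centralizer ({x} : Set G) := by
  classical
  haveI hQn : (pCore p G).Normal := pCore_normal (G := G) p
  set Q := pCore p G with hQ
  have hQS : Q ≤ (S : Subgroup G) := Cfsg.Agent.Lib.Helper53.pCore_le_sylow S
  have hSp : IsPGroup p (S : Subgroup G) := S.2
  set U := Q ⊓ Subgroup.centralizer (Q : Set G) with hU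
  have hUS : U ≤ (S : Subgroup G) := inf_le_left.trans hQS
  have hUc : ∀ a ∈ U, ∀ b ∈ U, a * b = b * a := by
    intro a ha b hb
    exact (Subgroup.mem_centralizer_iff.mp hb.2 a ha.1)
  have hQU : Q ≤ Subgroup.centralizer (U : Set G) := by
    intro q hq
    rw [Subgroup.mem_centralizer_iff]
    intro u hu
    exact (Subgroup.mem_centralizer_iff.mp hu.2 q hq).symm
  by_cases hcase : (S : Subgroup G) ⊓ Subgroup.centralizer (Q : Set G) ≤ Q
  · -- z ∈ U
    have hzQ : z ∈ Q := hcase ⟨hzS, Subgroup.centralizer_le (by exact_mod_cast hQS) hzZ⟩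
    have hzU : z ∈ U := ⟨hzQ, Subgroup.centralizer_le (by exact_mod_cast hQS) hzZ⟩
    obtain ⟨h1, h2, h3⟩ := replacementA hSp hUS hUc hA
    set A' := ⁅U, A⁆ ⊔ (A ⊓ Subgroup.centralizer ((⁅U, A⁆ : Subgroup G) : Set G)) with hA'
    have hA'U : ¬ A' ≤ Subgroup.centralizer (U : Set G) :=
      not_le_of_commutator_ne_bot (h3 (commutator_ne_bot_of_not_le hAU))
    obtain ⟨a, haA', haU⟩ := SetLike.not_le_iff_exists.mp hA'U
    have haS : a ∈ (S : Subgroup G) := h1.1 haA'
    -- last power outside the centralizer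
    have hex : ∃ k : ℕ, a ^ p ^ k ∈ Subgroup.centralizer (U : Set G) := by
      obtain ⟨k, hk⟩ := hSp ⟨a, haS⟩
      refine ⟨k, ?_⟩
      have : a ^ p ^ k = 1 := by
        have := congrArg Subtype.val hk
        simpa using this
      rw [this]; exact Subgroup.one_mem _
    have hk₀ := Nat.find_spec hex
    have hkmin : ∀ m, m < Nat.find hex → ¬ _ := fun m hm => Nat.find_min hex hm
    generalize Nat.find hex = k₀ at hk₀ hkmin
    have hk₀pos : k₀ ≠ 0 := by
      intro h0
      rw [h0, pow_zero, pow_one] at hk₀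
      exact haU hk₀
    obtain ⟨k, rfl⟩ : ∃ k, k₀ = k + 1 := Nat.exists_eq_succ_of_ne_zero hk₀pos
    set a' := a ^ p ^ k with ha'
    have ha'A' : a' ∈ A' := Subgroup.pow_mem _ haA' _
    have ha'U : a' ∉ Subgroup.centralizer (U : Set G) := hkmin k (Nat.lt_succ_self k)
    have ha'p : a' ^ p ∈ Subgroup.centralizer (U : Set G) := by
      rw [ha', ← pow_mul, ← pow_succ]; exact hk₀
    -- a' centralizes the p-th powers of U
    have hquad : ⁅U, A'⁆ ≤ Subgroup.centralizer (A' : Set G) :=
      (Subgroup.commutator_eq_bot_iff_le_centralizer).mp h2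
    have hcent : ∀ u ∈ U, a' * u ^ p = u ^ p * a' := by
      intro u hu
      set c := ⁅a', u⁆ with hc
      have hcmem : c ∈ ⁅U, A'⁆ := by
        rw [Subgroup.commutator_comm]
        exact Subgroup.commutator_mem_commutator ha'A' hu
      have hcU : c ∈ U := Subgroup.commutator_le_left U A' hcmem
      have hca : a' * c = c * a' := by
        have := Subgroup.mem_centralizer_iff.mp (hquad hcmem) a' ha'A'
        exact this
      have hconj : a' * u * a'⁻¹ = c * u := by
        rw [hc, commutatorElement_def]; group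
      have hp1 := conj_pow_eq_of_comm hconj hca p
      have hp2 : a' ^ p * u * (a' ^ p)⁻¹ = u := by
        have := Subgroup.mem_centralizer_iff.mp ha'p u hu
        rw [← this]; group
      have hcp : c ^ p = 1 := by
        rw [hp2] at hp1
        have : c ^ p * u = 1 * u := by rw [← hp1, one_mul]
        exact mul_right_cancel this
      have hcu : Commute c u := hUc c hcU u hu
      have : a' * u ^ p * a'⁻¹ = u ^ p := by
        have h5 : a' * u ^ p * a'⁻¹ = (a' * u * a'⁻¹) ^ p := by rw [conj_pow]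
        rw [h5, hconj, hcu.mul_pow, hcp, one_mul]
      calc a' * u ^ p = a' * u ^ p * a'⁻¹ * a' := by group
        _ = u ^ p * a' := by rw [this]
    set T : Set G := (fun u => u ^ p) '' (U : Set G) with hT
    haveI hNn : (Subgroup.centralizer T).Normal := by
      apply centralizer_normal_of_conj_invariant
      rintro g _ ⟨u, hu, rfl⟩
      refine ⟨g * u * g⁻¹, ?_, ?_⟩
      · have hUn : U.Normal := inferInstance
        exact hUn.conj_mem u hu g
      · show (g * u * g⁻¹) ^ p = g * u ^ p * g⁻¹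
        rw [conj_pow]
    have hxT : x ∈ T := ⟨z, hzU, hzx⟩
    have hNx : Subgroup.centralizer T ≤ Subgroup.centralizer ({x} : Set G) :=
      Subgroup.centralizer_le (Set.singleton_subset_iff.mpr hxT)
    have ha'N : a' ∈ Subgroup.centralizer T := by
      rw [Subgroup.mem_centralizer_iff]
      rintro _ ⟨u, hu, rfl⟩
      exact (hcent u hu).symm
    apply frattini_centralizes S x hM (Subgroup.centralizer T) hNx
      ((S : Subgroup G) ⊓ Subgroup.centralizer T) le_rfl (inf_normal_weaklyClosed _ _)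
    intro hle
    exact ha'U (hQU (hle ⟨Subgroup.pow_mem _ haS _, ha'N⟩))
  · have hNx : Subgroup.centralizer (Q : Set G) ≤ Subgroup.centralizer ({x} : Set G) :=
      Subgroup.centralizer_le (Set.singleton_subset_iff.mpr hxQ)
    exact frattini_centralizes S x hM (Subgroup.centralizer (Q : Set G)) hNx
      ((S : Subgroup G) ⊓ Subgroup.centralizer (Q : Set G)) le_rfl (inf_normal_weaklyClosed _ _) hcase

end Cfsg.Agent.Lib.Helper53.WC
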