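import Mathlib
import Cfsg.Prelude.Def_LieExceptional
import Cfsg.Prelude.Def_Classical

/-!
# K-StOm pack (S2549): shared definitions

A (B,N)-pair on the FULL isometry group
`O⁻_{2m+2}(F) = Cfsg.isometryGroup F (Cfsg.quadFormMinus m F a b)` of
`Q(v) = ∑ x_i y_i + (u² + a u v + b v²)`, for every `m ≥ 0` and every characteristic.
Index set `MI m = (Fin m ⊕ Fin m) ⊕ Fin 2`: `eI i = inl (inl i) = e_i`, `fI i = inl (inr i) = f_i`,
`zI j = inr j` (`j : Fin 2`; the two anisotropic coordinates `u = v (zI 0)`, `v = v (zI 1)`).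
The order is `e_0 < e_1 < … < e_{m-1} < {z_0, z_1} < f_{m-1} < … < f_1 < f_0` (function `pos`,
NOT injective: `pos (zI 0) = pos (zI 1) = m`).
`Bsub` = BLOCK upper triangular isometries for this order, `Bminus` = block lower triangular ones,
`Tsub = Bsub ⊓ Bminus` (block diagonal: diagonal on the `e_i, f_i`, an isometry of the
anisotropic plane on `z_0, z_1`), `Sset` = `m` permutation matrices, `Nsub = ⟨S⟩ T`.
Matrices act on column vectors (`M *ᵥ v`): `Matrix.single a b c` maps `e_b ↦ c e_a`.
This is a clone of `Cfsg.Agent.Lib.Helper48.StO` (pack K-StO, S2547).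
-/

set_option autoImplicit false
set_option linter.unusedSectionVars false

namespace Cfsg.Agent.Lib.Helper53.StOm

open Matrix

variable (m : ℕ) (F : Type*) [Field F] (a b : F)

/-- the index type `(Fin m ⊕ Fin m) ⊕ Fin 2` -/
abbrev MI : Type := (Fin m ⊕ Fin m) ⊕ Fin 2

/-- the full orthogonal group `O⁻_{2m+2}(F)` as a type -/
abbrev OG : Type _ := ↥(Cfsg.isometryGroup F (Cfsg.quadFormMinus m F a b))

variable {m}

/-- the index of `e_i` -/
abbrev eI (i : Fin m) : MI m := Sum.inl (Sum.inl i)
/-- the index of `f_i` -/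
abbrev fI (i : Fin m) : MI m := Sum.inl (Sum.inr i)
/-- the index of `z_j` -/
abbrev zI (j : Fin 2) : MI m := Sum.inr j

variable {F} {a b}

/-- the binary form `s² + a s t + b t²` -/
def phi (a b s t : F) : F := s ^ 2 + a * s * t + b * t ^ 2

/-- the matrix of an element of `O⁻_{2m+2}(F)` -/
def mat (g : OG m F a b) : Matrix (MI m) (MI m) F :=
  ((g : Matrix.GeneralLinearGroup (MI m) F) : Matrix (MI m) (MI m) F)

@[simp] theorem mat_one : mat (1 : OG m F a b) = 1 := rfl

@[simp] theorem mat_mul (g h : OG m F a b) : mat (g * h) = mat g * mat h := rfl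

theorem mat_injective : Function.Injective (mat : OG m F a b → Matrix (MI m) (MI m) F) :=
  fun _ _ h => Subtype.ext (Units.ext h)

theorem mat_inv (g : OG m F a b) : mat g⁻¹ = (mat g)⁻¹ := by
  unfold mat
  rw [Subgroup.coe_inv, Matrix.coe_units_inv]

theorem mat_mul_mat_inv (g : OG m F a b) : mat g * mat g⁻¹ = 1 := by
  rw [← mat_mul, mul_inv_cancel, mat_one]

theorem mat_inv_mul_mat (g : OG m F a b) : mat g⁻¹ * mat g = 1 := by
  rw [← mat_mul, inv_mul_cancel, mat_one]

theorem isUnit_det_mat (g : OG m F a b) : IsUnit (mat g).det := by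
  have h : IsUnit (mat g) := ⟨(g : Matrix.GeneralLinearGroup (MI m) F), rfl⟩
  exact (Matrix.isUnit_iff_isUnit_det _).1 h

/-- elements of `O⁻_{2m+2}(F)` preserve `Q` -/
theorem quad_mulVec (g : OG m F a b) (u : MI m → F) :
    Cfsg.quadFormMinus m F a b (mat g *ᵥ u) = Cfsg.quadFormMinus m F a b u := g.2 u u

/-- an invertible matrix preserving `Q` is the matrix of an element of `O⁻_{2m+2}(F)` -/
theorem exists_of_isometry (M N : Matrix (MI m) (MI m) F) (hMN : M * N = 1) (hNM : N * M = 1)
    (hQ : ∀ u, Cfsg.quadFormMinus m F a b (M *ᵥ u) = Cfsg.quadFormMinus m F a b u) :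
    ∃ g : OG m F a b, mat g = M :=
  ⟨⟨⟨M, N, hMN, hNM⟩, fun u _ => hQ u⟩, rfl⟩

variable (a b) in
open Classical in
/-- the element of `O⁻_{2m+2}(F)` with matrix `M` if there is one (`1` otherwise) -/
noncomputable def ofMat (M : Matrix (MI m) (MI m) F) : OG m F a b :=
  if h : ∃ g : OG m F a b, mat g = M then h.choose else 1

theorem mat_ofMat (M : Matrix (MI m) (MI m) F) (h : ∃ g : OG m F a b, mat g = M) :
    mat (ofMat a b M) = M := by
  unfold ofMat
  rw [dif_pos h]
  exact h.choose_spec

variable (m)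

/-- position of a basis vector in the order `e_0 < … < e_{m-1} < {z_0, z_1} < f_{m-1} < … < f_0` -/
def pos : MI m → ℕ
  | Sum.inl (Sum.inl i) => i.val
  | Sum.inl (Sum.inr i) => 2 * m - i.val
  | Sum.inr _ => m

@[simp] theorem pos_eI (i : Fin m) : pos m (eI i) = i.val := rfl
@[simp] theorem pos_fI (i : Fin m) : pos m (fI i) = 2 * m - i.val := rfl
@[simp] theorem pos_zI (j : Fin 2) : pos m (zI j) = m := rfl

/-- `pos` is injective away from the two `z`'s -/
theorem pos_eq_imp (x y : MI m) (h : pos m x = pos m y) :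
    x = y ∨ (pos m x = m ∧ pos m y = m) := by
  rcases x with (x | x) | x <;> rcases y with (y | y) | y <;> simp only [pos] at h ⊢
  · left; exact congrArg _ (congrArg _ (Fin.ext h))
  · have := x.2; have := y.2; omega
  · have := x.2; omega
  · have := x.2; have := y.2; omega
  · left
    have := x.2; have := y.2
    exact congrArg _ (congrArg _ (Fin.ext (by omega)))
  · have := x.2; omega
  · have := y.2; omega
  · have := y.2; omega
  · right; exact ⟨trivial, trivial⟩

/-- the duality `e_i ↔ f_i`, `z_j ↦ z_j` of the index set -/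
def dualE : Equiv.Perm (MI m) := Equiv.sumCongr (Equiv.sumComm (Fin m) (Fin m)) (Equiv.refl (Fin 2))

@[simp] theorem dualE_zI (j : Fin 2) : dualE m (zI j) = zI j := rfl
@[simp] theorem dualE_eI (i : Fin m) : dualE m (eI i) = fI i := rfl
@[simp] theorem dualE_fI (i : Fin m) : dualE m (fI i) = eI i := rfl

theorem dualE_dualE (x : MI m) : dualE m (dualE m x) = x := by
  rcases x with (x | x) | x <;> rfl

theorem pos_dualE (x : MI m) : pos m (dualE m x) = 2 * m - pos m x := by
  rcases x with (x | x) | x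
  · change 2 * m - x.val = 2 * m - x.val; rfl
  · change x.val = 2 * m - (2 * m - x.val); have := x.2; omega
  · change m = 2 * m - m; omega

/-- the fixed points of the duality are the two `z`'s -/
theorem pos_eq_m_iff (x : MI m) : pos m x = m ↔ dualE m x = x := by
  rcases x with (x | x) | x
  · constructor
    · intro h; have := x.2; simp only [pos] at h; omega
    · intro h; cases h
  · constructor
    · intro h; have := x.2; simp only [pos] at h; omega
    · intro h; cases h
  · exact ⟨fun _ => rfl, fun _ => rfl⟩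

/-- a permutation commuting with the duality respects the classes of `pos` -/
theorem pos_perm_congr (σ : Equiv.Perm (MI m)) (hσ : ∀ x, σ (dualE m x) = dualE m (σ x))
    (x y : MI m) (h : pos m x = pos m y) : pos m (σ x) = pos m (σ y) := by
  rcases pos_eq_imp m x y h with rfl | ⟨hx, hy⟩
  · rfl
  · rw [pos_eq_m_iff] at hx hy
    have h1 : pos m (σ x) = m := (pos_eq_m_iff m _).2 (by rw [← hσ, hx])
    have h2 : pos m (σ y) = m := (pos_eq_m_iff m _).2 (by rw [← hσ, hy])
    rw [h1, h2]

/-- the inverse of a permutation commuting with the duality commutes with the duality -/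
theorem symm_dualE (σ : Equiv.Perm (MI m)) (hσ : ∀ x, σ (dualE m x) = dualE m (σ x))
    (x : MI m) : σ.symm (dualE m x) = dualE m (σ.symm x) := by
  apply σ.injective
  rw [Equiv.apply_symm_apply, hσ, Equiv.apply_symm_apply]

variable {m}

theorem blockTriangular_inv {α : Type*} [LinearOrder α] (c : MI m → α) (g : OG m F a b)
    (h : (mat g).BlockTriangular c) : (mat g⁻¹).BlockTriangular c := by
  rw [mat_inv]
  have : Invertible (mat g) := Matrix.invertibleOfIsUnitDet _ (isUnit_det_mat g)
  exact Matrix.blockTriangular_inv_of_blockTriangular h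

variable (m F a b)

/-- the subgroup of elements whose matrix is block triangular for `c` -/
def triSub {α : Type*} [LinearOrder α] (c : MI m → α) : Subgroup (OG m F a b) where
  carrier := {g | (mat g).BlockTriangular c}
  mul_mem' := fun {g h} hg hh => by
    change (mat (g * h)).BlockTriangular c
    rw [mat_mul]
    exact Matrix.BlockTriangular.mul hg hh
  one_mem' := Matrix.blockTriangular_one
  inv_mem' := fun {g} hg => blockTriangular_inv c g hg

/-- `B`: the block upper triangular isometries -/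
def Bsub : Subgroup (OG m F a b) := triSub m F a b (pos m)

/-- `B⁻`: the block lower triangular isometries -/
def Bminus : Subgroup (OG m F a b) := triSub m F a b (fun x => OrderDual.toDual (pos m x))

/-- `T = B ⊓ B⁻`: the block diagonal isometries -/
def Tsub : Subgroup (OG m F a b) := Bsub m F a b ⊓ Bminus m F a b

variable {m F a b}

theorem mem_Bsub_iff (g : OG m F a b) :
    g ∈ Bsub m F a b ↔ ∀ x y, pos m y < pos m x → mat g x y = 0 :=
  ⟨fun h x y hxy => h hxy, fun h x y hxy => h x y hxy⟩

theorem mem_Bminus_iff (g : OG m F a b) :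
    g ∈ Bminus m F a b ↔ ∀ x y, pos m x < pos m y → mat g x y = 0 :=
  ⟨fun h x y hxy => h (show OrderDual.toDual (pos m y) < OrderDual.toDual (pos m x) from hxy),
    fun h x y hxy => h x y hxy⟩

theorem mem_Tsub_iff (g : OG m F a b) :
    g ∈ Tsub m F a b ↔ ∀ x y, pos m x ≠ pos m y → mat g x y = 0 := by
  constructor
  · rintro ⟨h1, h2⟩ x y hxy
    rcases lt_or_gt_of_ne hxy with h | h
    · exact (mem_Bminus_iff g).1 h2 x y h
    · exact (mem_Bsub_iff g).1 h1 x y h
  · intro h
    exact ⟨(mem_Bsub_iff g).2 fun x y hxy => h x y (Nat.ne_of_gt hxy),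
      (mem_Bminus_iff g).2 fun x y hxy => h x y (Nat.ne_of_lt hxy)⟩

variable (m F a b)

/-! ### the elements (matrices first; the group elements are `ofMat` of them, see leaf R0) -/

/-- the permutation `e_i ↔ e_j`, `f_i ↔ f_j` of the index set -/
def swapE (i j : Fin m) : Equiv.Perm (MI m) :=
  Equiv.sumCongr (Equiv.sumCongr (Equiv.swap i j) (Equiv.swap i j)) (Equiv.refl (Fin 2))

/-- the permutation `e_k ↔ f_k` of the index set -/
def flipE (k : Fin m) : Equiv.Perm (MI m) := Equiv.swap (eI k) (fI k)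

/-- permutation matrix of `e_i ↔ e_j`, `f_i ↔ f_j` -/
def sPermMat (i j : Fin m) : Matrix (MI m) (MI m) F := (swapE m i j).permMatrix F

/-- permutation matrix of `e_k ↔ f_k` (fixes the `z`'s) -/
def sFlipMat (k : Fin m) : Matrix (MI m) (MI m) F := (flipE m k).permMatrix F

/-- permutation matrix of `e_i ↔ f_i` for all `i` (fixes the `z`'s): the longest element -/
def w0Mat : Matrix (MI m) (MI m) F := (dualE m).permMatrix F

/-- root element for `ε_i - ε_j`: `e_j ↦ e_j + t e_i`, `f_i ↦ f_i - t f_j` -/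
def xPermMat (i j : Fin m) (t : F) : Matrix (MI m) (MI m) F :=
  1 + Matrix.single (eI i) (eI j) t - Matrix.single (fI j) (fI i) t

/-- root element for `ε_k`, parameter `w = s z_0 + t z_1`:
`f_k ↦ f_k + s z_0 + t z_1 - φ(s,t) e_k`, `z_0 ↦ z_0 - (2s + a t) e_k`, `z_1 ↦ z_1 - (a s + 2 b t) e_k` -/
def xZMat (k : Fin m) (s t : F) : Matrix (MI m) (MI m) F :=
  1 + Matrix.single (zI 0) (fI k) s + Matrix.single (zI 1) (fI k) t
    - Matrix.single (eI k) (fI k) (phi a b s t)
    - Matrix.single (eI k) (zI 0) (2 * s + a * t) - Matrix.single (eI k) (zI 1) (a * s + 2 * b * t)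

/-- root element for `-ε_k`, parameter `w = s z_0 + t z_1`:
`e_k ↦ e_k + s z_0 + t z_1 - φ(s,t) f_k`, `z_0 ↦ z_0 - (2s + a t) f_k`, `z_1 ↦ z_1 - (a s + 2 b t) f_k` -/
def yZMat (k : Fin m) (s t : F) : Matrix (MI m) (MI m) F :=
  1 + Matrix.single (zI 0) (eI k) s + Matrix.single (zI 1) (eI k) t
    - Matrix.single (fI k) (eI k) (phi a b s t)
    - Matrix.single (fI k) (zI 0) (2 * s + a * t) - Matrix.single (fI k) (zI 1) (a * s + 2 * b * t)

/-- the reflection `e_i ↔ e_j`, `f_i ↔ f_j` -/
noncomputable def sPerm (i j : Fin m) : OG m F a b := ofMat a b (sPermMat m F i j)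

/-- the reflection `e_k ↔ f_k` -/
noncomputable def sFlip (k : Fin m) : OG m F a b := ofMat a b (sFlipMat m F k)

/-- the longest element `e_i ↔ f_i` (all `i`) -/
noncomputable def w0 : OG m F a b := ofMat a b (w0Mat m F)

/-- the root element `x_{ε_i - ε_j}(t)` (`i ≠ j`) -/
noncomputable def xPerm (i j : Fin m) (t : F) : OG m F a b := ofMat a b (xPermMat m F i j t)

/-- the root element `x_{ε_k}(s, t)` -/
noncomputable def xZ (k : Fin m) (s t : F) : OG m F a b := ofMat a b (xZMat m F a b k s t)

/-- the root element `x_{-ε_k}(s, t)` -/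
noncomputable def yZ (k : Fin m) (s t : F) : OG m F a b := ofMat a b (yZMat m F a b k s t)

variable {m}

/-- the next index -/
def nxt (i : Fin m) (hi : i.val + 1 < m) : Fin m := ⟨i.val + 1, hi⟩

theorem ne_nxt (i : Fin m) (hi : i.val + 1 < m) : i ≠ nxt i hi := by
  intro h
  have := congrArg Fin.val h
  simp [nxt] at this

theorem nxt_ne (i : Fin m) (hi : i.val + 1 < m) : nxt i hi ≠ i := (ne_nxt i hi).symm

/-- the last index -/
def lastF (hm : 0 < m) : Fin m := ⟨m - 1, Nat.sub_lt hm Nat.one_pos⟩

variable (m)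

/-- the simple reflections: `sPerm i (i+1)` for `i + 1 < m`, and `sFlip (m-1)` -/
def Sset : Set (OG m F a b) :=
  {s | (∃ (i : Fin m) (hi : i.val + 1 < m), s = sPerm m F a b i (nxt i hi)) ∨
    ∃ hm : 0 < m, s = sFlip m F a b (lastF hm)}

/-- `N = ⟨S⟩ T` -/
def Nsub : Subgroup (OG m F a b) := Subgroup.closure (Sset m F a b) ⊔ Tsub m F a b

/-- `n` is BLOCK monomial with permutation `σ`: `n e_y` is supported on the `pos`-class of `σ y`
(so `n e_y ∈ F e_{σ y}` for `y` an `e` or an `f`, and `n` maps the plane `⟨z_0, z_1⟩` to itself),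
the same for `n⁻¹` and `σ⁻¹`, and `σ` commutes with the duality `e_i ↔ f_i` -/
def MonWith (n : OG m F a b) (σ : Equiv.Perm (MI m)) : Prop :=
  (∀ x y, mat n x y ≠ 0 → pos m x = pos m (σ y)) ∧
  (∀ x y, mat n⁻¹ x y ≠ 0 → pos m x = pos m (σ.symm y)) ∧
  ∀ x, σ (dualE m x) = dualE m (σ x)

/-- the isometries mapping `e_i` into `⟨e_0, …, e_i⟩` for all `i < j` -/
def FlagStab (j : ℕ) : Set (OG m F a b) :=
  {g | ∀ i : Fin m, i.val < j → ∀ x : MI m, i.val < pos m x → mat g x (eI i) = 0}

end Cfsg.Agent.Lib.Helper53.StOm
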