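import Mathlib
import Cfsg.Agent.Lib.Helper58.KChar4
import Cfsg.Agent.Lib.Helper57.KLQd
import Cfsg.Agent.Lib.Helper57.CLA
import Cfsg.Agent.Lib.Helper41.NPC

/-!
# Normal `p`-complements from the automizers of the characteristic subgroups: inheritance

`CharHyp p G P`: for every nontrivial characteristic subgroup `K` of `P`, the elements of `N_G(K)` of
order prime to `p` centralize `K`. The hypothesis passes to subgroups containing `P` and to quotients
by subgroups characteristic in `P` and normal in `G`.
-/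

set_option autoImplicit false

namespace Cfsg.Agent.Lib.Helper53.CharNpc

open Cfsg

universe u

/-- for every nontrivial characteristic subgroup `K` of `P`, the elements of `N_G(K)` of order prime
to `p` centralize `K` -/
def CharHyp (p : ℕ) (G : Type u) [Group G] (P : Subgroup G) : Prop :=
  ∀ K : Subgroup ↥P, K.Characteristic → K ≠ ⊥ →
    ∀ g ∈ Subgroup.normalizer ((K.map P.subtype : Subgroup G) : Set G), (orderOf g).Coprime p →
      g ∈ Subgroup.centralizer ((K.map P.subtype : Subgroup G) : Set G)

variable {p : ℕ} [Fact p.Prime] {G : Type u} [Group G]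

theorem charHyp_subgroup {P : Subgroup G} (M : Subgroup G) (hPM : P ≤ M) (h : CharHyp p G P) :
    CharHyp p ↥M (P.subgroupOf M) := by
  intro K' hK'char hK'ne g hg hgo
  let e : ↥(P.subgroupOf M) ≃* ↥P := Subgroup.subgroupOfEquivOfLe hPM
  have hKchar : (K'.map e.toMonoidHom).Characteristic :=
    Cfsg.Agent.Lib.Helper58.KChar.characteristic_map_equiv e K'
  have hKne : K'.map e.toMonoidHom ≠ ⊥ := by
    rw [Ne, Subgroup.map_eq_bot_iff_of_injective _ e.injective]
    exact hK'ne
  have hmap : (K'.map e.toMonoidHom).map P.subtype =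
      (K'.map (P.subgroupOf M).subtype).map M.subtype := by
    rw [Subgroup.map_map, Subgroup.map_map]
    rfl
  have h1 : (g : G) ∈ Subgroup.normalizer
      (((K'.map e.toMonoidHom).map P.subtype : Subgroup G) : Set G) := by
    rw [hmap]
    exact Subgroup.le_normalizer_map M.subtype ⟨g, hg, rfl⟩
  have h2 := h _ hKchar hKne (g : G) h1 (by rwa [Subgroup.orderOf_coe])
  rw [hmap] at h2
  rw [Subgroup.mem_centralizer_iff] at h2 ⊢
  intro y hy
  apply Subtype.ext
  exact h2 (y : G) ⟨y, hy, rfl⟩

/-- the preimage of a characteristic subgroup under a surjection with characteristic kernel is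
characteristic -/
theorem char_comap_of_surjective {A B : Type*} [Group A] [Group B] (f : A →* B)
    (hf : Function.Surjective f) (hker : f.ker.Characteristic) (Kb : Subgroup B)
    (hKb : Kb.Characteristic) : (Kb.comap f).Characteristic := by
  rw [Subgroup.characteristic_iff_comap_eq]
  intro φ
  have hφ : f.ker.map φ.toMonoidHom = f.ker := Subgroup.characteristic_iff_map_eq.mp hker φ
  let e := QuotientGroup.quotientKerEquivOfSurjective f hf
  set φq : A ⧸ f.ker ≃* A ⧸ f.ker := QuotientGroup.congr f.ker f.ker φ hφ with hφq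
  set φb : B ≃* B := (e.symm.trans φq).trans e with hφb
  have h1 : f.comp φ.toMonoidHom = φb.toMonoidHom.comp f := by
    ext x
    show f (φ x) = e (φq (e.symm (f x)))
    have : e.symm (f x) = QuotientGroup.mk x := by
      rw [MulEquiv.symm_apply_eq]; rfl
    rw [this]; rfl
  rw [Subgroup.comap_comap, h1, ← Subgroup.comap_comap,
    Subgroup.characteristic_iff_comap_eq.mp hKb φb]

theorem charHyp_quotient [Finite G] {P : Subgroup G} (Z : Subgroup G) [Z.Normal] (hZP : Z ≤ P)
    (hZchar : (Z.subgroupOf P).Characteristic) (h : CharHyp p G P) :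
    CharHyp p (G ⧸ Z) (P.map (QuotientGroup.mk' Z)) := by
  intro Kb hKbchar hKbne gb hgb hgbo
  let f : ↥P →* ↥(P.map (QuotientGroup.mk' Z)) := (QuotientGroup.mk' Z).subgroupMap P
  have hf : Function.Surjective f := (QuotientGroup.mk' Z).subgroupMap_surjective P
  have hfcoe : ∀ x : ↥P, ((f x : ↥(P.map (QuotientGroup.mk' Z))) : G ⧸ Z) =
      QuotientGroup.mk' Z x := fun x => rfl
  have hker : f.ker = Z.subgroupOf P := by
    ext x
    rw [MonoidHom.mem_ker, Subgroup.mem_subgroupOf]
    constructor
    · intro hx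
      have h1 : QuotientGroup.mk' Z (x : G) = 1 := by
        rw [← hfcoe x, hx]; rfl
      exact (QuotientGroup.eq_one_iff _).mp h1
    · intro hx
      apply Subtype.ext
      show QuotientGroup.mk' Z (x : G) = 1
      exact (QuotientGroup.eq_one_iff _).mpr hx
  have hKchar : (Kb.comap f).Characteristic :=
    char_comap_of_surjective f hf (by rw [hker]; exact hZchar) Kb hKbchar
  have hKne : Kb.comap f ≠ ⊥ := by
    intro hbot
    apply hKbne
    rw [← Subgroup.map_comap_eq_self_of_surjective hf Kb, hbot, Subgroup.map_bot]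
  -- the full preimage
  have hfull : (Kb.comap f).map P.subtype =
      (Kb.map (P.map (QuotientGroup.mk' Z)).subtype).comap (QuotientGroup.mk' Z) := by
    ext y
    constructor
    · rintro ⟨x, hx, rfl⟩
      exact ⟨f x, hx, rfl⟩
    · rintro ⟨k, hk, hky⟩
      have hk' : QuotientGroup.mk' Z y ∈ P.map (QuotientGroup.mk' Z) := by
        have : ((k : ↥(P.map (QuotientGroup.mk' Z))) : G ⧸ Z) = QuotientGroup.mk' Z y := hky
        rw [← this]; exact k.2
      obtain ⟨x, hxP, hxy⟩ := hk'
      have hyP : y ∈ P := by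
        have h1 : x⁻¹ * y ∈ Z := by
          apply (QuotientGroup.eq_one_iff _).mp
          show QuotientGroup.mk' Z (x⁻¹ * y) = 1
          rw [map_mul, map_inv, hxy, inv_mul_cancel]
        have h2 : y = x * (x⁻¹ * y) := by group
        rw [h2]
        exact P.mul_mem hxP (hZP h1)
      refine ⟨⟨y, hyP⟩, ?_, rfl⟩
      show f ⟨y, hyP⟩ ∈ Kb
      have : f ⟨y, hyP⟩ = k := Subtype.ext hky.symm
      rw [this]; exact hk
  obtain ⟨g₀, rfl⟩ := QuotientGroup.mk'_surjective Z gb
  obtain ⟨k, hko, hkπ⟩ :=
    Cfsg.Agent.Lib.Helper58.KChar.exists_coprime_pow (QuotientGroup.mk' Z) g₀ hgbo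
  have hg : g₀ ^ k ∈ Subgroup.normalizer (((Kb.comap f).map P.subtype : Subgroup G) : Set G) := by
    rw [hfull]
    apply Subgroup.le_normalizer_comap (QuotientGroup.mk' Z)
    rw [Subgroup.mem_comap, hkπ]
    exact hgb
  have hc := h _ hKchar hKne (g₀ ^ k) hg hko
  rw [hfull] at hc
  rw [← hkπ]
  rw [Subgroup.mem_centralizer_iff] at hc ⊢
  intro yb hyb
  obtain ⟨y, rfl⟩ := QuotientGroup.mk'_surjective Z yb
  have hy : y ∈ (Kb.map (P.map (QuotientGroup.mk' Z)).subtype).comap (QuotientGroup.mk' Z) := hyb
  have := hc y hy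
  show QuotientGroup.mk' Z y * QuotientGroup.mk' Z (g₀ ^ k) =
    QuotientGroup.mk' Z (g₀ ^ k) * QuotientGroup.mk' Z y
  rw [← map_mul, ← map_mul, this]

end Cfsg.Agent.Lib.Helper53.CharNpc
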