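import Mathlib
import Cfsg.Agent.Lib.Helper53.ThompsonTwo

set_option autoImplicit false
open Cfsg
open Cfsg.Agent.Lib.Helper02 Cfsg.Agent.Lib.Helper97 Cfsg.Agent.Lib.Lead
open scoped commutatorElement

namespace Cfsg.Agent.Lib.Helper53

universe u

/-- the global hypothesis: `p` odd or `S₄`-free -/
def PhiS4 (p : ℕ) : ∀ (H : Type u) [Group H], Prop :=
  fun H _ => p ≠ 2 ∨ ¬ Involves (Equiv.Perm (Fin 4)) H

section Final
variable {G : Type u} [Group G] [Finite G] {p : ℕ} [Fact p.Prime]

set_option maxHeartbeats 800000 in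
/-- the final step of Thompson's theorem (abelian version of `J`, `p` odd or `S₄`-free) -/
theorem thompsonA_final (hΦ : PhiS4.{u} p G) (IH : NIH p (hyp2 p JAfun Zfun) (PhiS4.{u} p) G)
    (P : Sylow p G) (hP : hyp2 p JAfun Zfun G (P : Subgroup G))
    (hA' : ∀ M : Subgroup G, M ≠ ⊤ → ∀ P' : Sylow p G, (P' : Subgroup G) ≤ M →
      HasNormalPComplement p ↥M)
    (hC : HasNormalPComplement p (G ⧸ pCore p G)) (hO : pPrimeCore p G = ⊥)
    (hCH : Subgroup.centralizer (pCore p G : Set G) ≤ pCore p G) :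
    HasNormalPComplement p G := by
  classical
  by_contra hG
  haveI := Helper81.pCore_normal (G := G) p
  have hHp : IsPGroup p (pCore p G) := Helper81.isPGroup_pCore p
  have hHmax : ∀ X : Subgroup G, X.Normal → IsPGroup p X → X ≤ pCore p G :=
    fun X hn hx => Helper81.le_pCore hn hx
  have hHP : pCore p G ≤ P := hHp.le_sylow_of_normal P
  obtain ⟨K, hKn, hHK, hKP', hKP, hKc, hKi⟩ := exists_K (pCore p G) P hHP hC
  haveI := hKn
  have hKc' : ((pCore p G).relIndex K).Coprime p := by
    rw [← card_map_mk_eq_relIndex _ _ hHK]; exact hKc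
  have hE1 := fun L h1 h2 h3 => stepE1' hA' (pCore p G) hHp hCH P K hKP' hKc' L h1 h2 h3
  have hKab := stepE2 (pCore p G) P K hHK hKc hE1
  have hZ : HasNormalPComplement p ↥(Subgroup.centralizer (ZC (P : Subgroup G) : Set G)) := by
    have := hP.2
    rwa [inducedFunctor_Z] at this
  have hNJ : HasNormalPComplement p
      ↥(Subgroup.normalizer (thompsonSubgroupAOf (P : Subgroup G) : Set G)) := hP.1
  obtain ⟨U, hUn, hUea, hUH, hHU, hCU⟩ := exists_U (pCore p G) hHp hHmax hO hCH P hHP hZ
  haveI := hUn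
  have hUc : ∀ x ∈ U, ∀ y ∈ U, x * y = y * x := (isMulComm_iff U).mp hUea.1
  have hUp : IsPGroup p U := hHp.to_le hUH
  have hJ : ¬ thompsonSubgroupAOf (P : Subgroup G) ≤ Subgroup.centralizer (U : Set G) := by
    intro h
    have h1 : thompsonSubgroupAOf (P : Subgroup G) ≤ pCore p G := h.trans hCU
    have h2 := thompsonAOf_eq_of_le h1 hHP
    have h3 : Subgroup.normalizer (thompsonSubgroupAOf (P : Subgroup G) : Set G) = ⊤ := by
      rw [← h2, eq_top_iff]
      calc (⊤ : Subgroup G) = Subgroup.normalizer ((pCore p G : Subgroup G) : Set G) :=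
            (Subgroup.normalizer_eq_top_iff.mpr inferInstance).symm
        _ ≤ _ := by
            have := normalizer_le_normalizer_inducedFunctor (p := p) (W := JAfun)
              isCharPFunctor_JA hHp
            rwa [inducedFunctor_JA] at this
    rw [h3] at hNJ
    exact hG (pn_top_iff.mp hNJ)
  obtain ⟨A₁, hA₁, hA₁U⟩ := exists_isMaxAbIn_not_le hJ
  obtain ⟨hA, hquadA, hne⟩ := replacementA P.2 (V := U) (hUH.trans hHP) hUc hA₁
  set A := ⁅U, A₁⁆ ⊔ (A₁ ⊓ Subgroup.centralizer ((⁅U, A₁⁆ : Subgroup G) : Set G)) with hAdef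
  have hUA₁ : ⁅U, A₁⁆ ≠ ⊥ := by
    intro hbot
    apply hA₁U
    have h1 := Subgroup.commutator_eq_bot_iff_le_centralizer.mp hbot
    intro b hb
    rw [Subgroup.mem_centralizer_iff]
    intro u hu
    exact (Subgroup.mem_centralizer_iff.mp (h1 hu) b hb).symm
  have hUA := hne hUA₁
  have hnle : ¬ U ≤ Subgroup.centralizer (A : Set G) := fun h =>
    hUA (Subgroup.commutator_eq_bot_iff_le_centralizer.mpr h)
  rw [SetLike.not_le_iff_exists] at hnle
  obtain ⟨v, hvU, hvC⟩ := hnle
  rw [Subgroup.mem_centralizer_iff] at hvC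
  push Not at hvC
  obtain ⟨a, haA, hav⟩ := hvC
  have haU : a ∉ Subgroup.centralizer (U : Set G) := by
    intro h
    exact hav (Subgroup.mem_centralizer_iff.mp h v hvU).symm
  have haH : a ∉ pCore p G := fun h => haU (hHU h)
  have hquad' : ⁅U, A⁆ ≤ Subgroup.centralizer (A : Set G) :=
    Subgroup.commutator_eq_bot_iff_le_centralizer.mp hquadA
  have hquad : ∀ b ∈ A, ∀ u ∈ U, b * (u * b * u⁻¹ * b⁻¹) = (u * b * u⁻¹ * b⁻¹) * b := by
    intro b hb u hu
    have h1 : ⁅u, b⁆ ∈ ⁅U, A⁆ := Subgroup.commutator_mem_commutator hu hb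
    have h2 := Subgroup.mem_centralizer_iff.mp (hquad' h1) b hb
    rw [commutatorElement_def] at h2
    exact h2
  by_cases hp2 : p = 2
  · subst hp2
    have hS4 : ¬ Involves (Equiv.Perm (Fin 4)) G := by
      rcases hΦ with h | h
      · exact absurd rfl h
      · exact h
    have hA2 : ∀ b ∈ A, b ^ 2 ∈ pCore 2 G := fun b hb =>
      hCU (pow_mem_centralizer_of_quadratic U hUea.2 b (hquad b hb))
    have hIH' : ∀ L : Subgroup G, L ≠ ⊤ → ∀ S : Sylow 2 ↥L,
        hyp2 2 JAfun Zfun ↥L (S : Subgroup ↥L) → HasNormalPComplement 2 ↥L := by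
      intro L hL S hS
      refine IH ↥L (card_lt_of_ne_top hL) (Or.inr ?_) S hS
      intro h
      exact hS4 (Cfsg.Agent.Lib.Helper90.Involves.of_injective_right L.subtype
        L.subtype_injective h)
    obtain ⟨hinv, hPdec⟩ := inverts_all P (pCore 2 G) hHp hHmax hCH K hHK hKP' hKP hKc hKc' hKab
      A hA hA2 a haA haH hZ hIH'
    have hcos := two_cosets P (pCore 2 G) hHp hHmax K hHK hKP hKab hE1 A hA.1 hA.2.1 hA2 a haA
      hinv hPdec
    have hcardU := card_U_eq P (pCore 2 G) hHP U hUH hUc hHU hCU A hA a haA haH hcos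
    have hKne : K ≠ pCore 2 G := by
      intro heq
      apply haH
      apply mem_of_centralizes_K (pCore 2 G) hHp hHmax P K hKP a (hA.1 haA)
      rintro _ ⟨k, hk, rfl⟩
      have : QuotientGroup.mk' (pCore 2 G) k = 1 := by
        rw [QuotientGroup.mk'_apply, QuotientGroup.eq_one_iff, ← heq]; exact hk
      rw [this]; simp
    obtain ⟨x, t, r, hr, hr2, hxK, hxnH, hxr, hta, htx⟩ :=
      exists_inverted P (pCore 2 G) hHp K hHK hKne hKc hE1 A a hinv hPdec hcos
    have hCt : U ⊓ Subgroup.centralizer {t} = U ⊓ Subgroup.centralizer {a} := by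
      have hcomm : ∀ u ∈ U, (t * a⁻¹) * u = u * (t * a⁻¹) := by
        intro u hu
        exact (Subgroup.mem_centralizer_iff.mp (hHU hta) u hu).symm
      ext u
      simp only [Subgroup.mem_inf, Subgroup.mem_centralizer_iff, Set.mem_singleton_iff, forall_eq]
      constructor
      · rintro ⟨hu, h⟩
        refine ⟨hu, ?_⟩
        have h1 := hcomm u hu
        calc a * u = (t * a⁻¹)⁻¹ * (t * u) := by group
          _ = (t * a⁻¹)⁻¹ * (u * t) := by rw [h]
          _ = (t * a⁻¹)⁻¹ * (u * (t * a⁻¹)) * a := by group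
          _ = (t * a⁻¹)⁻¹ * ((t * a⁻¹) * u) * a := by rw [h1]
          _ = u * a := by group
      · rintro ⟨hu, h⟩
        refine ⟨hu, ?_⟩
        have h1 := hcomm u hu
        calc t * u = (t * a⁻¹) * (a * u) := by group
          _ = (t * a⁻¹) * (u * a) := by rw [h]
          _ = ((t * a⁻¹) * u) * a := by group
          _ = (u * (t * a⁻¹)) * a := by rw [h1]
          _ = u * t := by group
    rw [← hCt] at hcardU
    have hxU : x ∉ Subgroup.centralizer (U : Set G) := fun h => hxnH (hCU h)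
    have hidx := relIndex_eq_four U hUc hUp x t r hr hr2 hxr hxU htx hcardU
    have htP : t ∈ (P : Subgroup G) := by
      have : t = (t * a⁻¹) * a := by group
      rw [this]
      exact Subgroup.mul_mem _ (hHP hta) (hA.1 haA)
    have ht2 : ∃ j : ℕ, t ^ 2 ^ j = 1 := by
      obtain ⟨j, hj⟩ := P.2 ⟨t, htP⟩
      refine ⟨j, ?_⟩
      have := congrArg Subtype.val hj
      simpa using this
    exact hS4 (involves_perm4_of_config U hUc hUp x t r hr hr2 hxr hidx ht2 htx)
  · exact haH (stepE7' hp2 (pCore p G) hHp hHmax P K hKc hKab hKP U hUea hHU hCU a (hA.1 haA)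
      (hquad a haA))

end Final

section Main
variable {p : ℕ} [Fact p.Prime]

theorem npcHyp_thompsonA : NpcHyp p (hyp2 p JAfun Zfun) (PhiS4.{u} p) := by
  apply npcHyp_functor isCharPFunctor_JA isCharPFunctor_Z
  · intro H G _ _ f hf h
    rcases h with h | h
    · exact Or.inl h
    · exact Or.inr (fun h' => h (Cfsg.Agent.Lib.Helper90.Involves.of_injective_right f hf h'))
  · intro G H _ _ f hf h
    rcases h with h | h
    · exact Or.inl h
    · refine Or.inr (fun h' => h ?_)
      obtain ⟨K, g, hg⟩ := Cfsg.Agent.Lib.Helper90.exists_hom_of_involves h'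
      -- pull back along the surjection f
      let K' : Subgroup G := K.comap f
      let g' : ↥K' →* Equiv.Perm (Fin 4) :=
        g.comp ((f.comp K'.subtype).codRestrict K (fun x => x.2))
      refine Cfsg.Agent.Lib.Helper90.involves_of_hom K'.subtype g' K'.subtype_injective ?_
      intro σ
      obtain ⟨k, hk⟩ := hg σ
      obtain ⟨y, hy⟩ := hf (k : H)
      refine ⟨⟨y, by show f y ∈ K; rw [hy]; exact k.2⟩, ?_⟩
      show g _ = σ
      rw [← hk]
      congr 1
      exact Subtype.ext hy

/-- Thompson's normal `p`-complement theorem with the abelian version of `J`, for `p` odd or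
`S₄`-free groups -/
theorem thompsonA_npc {G : Type u} [Group G] [Finite G]
    (hΦ : p ≠ 2 ∨ ¬ Involves (Equiv.Perm (Fin 4)) G) (P : Sylow p G)
    (hN : HasNormalPComplement p
      ↥(Subgroup.normalizer (thompsonSubgroupAOf (P : Subgroup G) : Set G)))
    (hCZ : HasNormalPComplement p ↥(Subgroup.centralizer (ZC (P : Subgroup G) : Set G))) :
    HasNormalPComplement p G := by
  refine npcHyp_thompsonA.reduction ?_ (Nat.card G) G rfl hΦ P ⟨hN, ?_⟩
  · intro G' _ _ hΦ' IH P' hP' hA' hOp hC hO hCH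
    exact thompsonA_final hΦ' IH P' hP' hA' hC hO hCH
  · rw [inducedFunctor_Z]; exact hCZ

end Main

end Cfsg.Agent.Lib.Helper53
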