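import Mathlib
import Cfsg.Agent.Lib.Helper53.CharNpc1
import Cfsg.Agent.Lib.Helper53.NpcFunctor
import Cfsg.Agent.Lib.Helper53.ThompsonJA
import Cfsg.Agent.Lib.Helper41.Frobenius
import Cfsg.Agent.S2800

/-!
# Normal `p`-complements from the automizers of the characteristic subgroups

`npc_of_charHyp`: let `p` be odd or `G` be `S₄`-free, and `P` a Sylow `p`-subgroup of `G`. If for every
nontrivial characteristic subgroup `K` of `P` the elements of `N_G(K)` of order prime to `p` centralize
`K`, then `G` has a normal `p`-complement (Thompson).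
-/

set_option autoImplicit false

namespace Cfsg.Agent.Lib.Helper53.CharNpc

open Cfsg

universe u

variable {p : ℕ} [Fact p.Prime]

theorem thompsonA_characteristic (Q : Type*) [Group Q] : (thompsonSubgroupA Q).Characteristic := by
  rw [Subgroup.characteristic_iff_map_eq]
  intro φ
  exact Cfsg.Agent.Lib.Helper53.thompsonA_map_equiv φ

theorem card_lt_of_ne_top'' {G : Type u} [Group G] [Finite G] {K : Subgroup G} (hK : K ≠ ⊤) :
    Nat.card ↥K < Nat.card G :=
  lt_of_le_of_ne (Subgroup.card_le_card_group K) (fun h => hK (Subgroup.eq_top_of_card_eq K h))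

set_option maxHeartbeats 800000 in
theorem npc_of_charHyp_aux : ∀ (n : ℕ) (G : Type u) [Group G] [Finite G], Nat.card G = n →
    (p ≠ 2 ∨ ¬ Involves (Equiv.Perm (Fin 4)) G) → ∀ P : Sylow p G,
    CharHyp p G (P : Subgroup G) → HasNormalPComplement p G := by
  intro n
  induction n using Nat.strong_induction_on with
  | _ n IH =>
  intro G _ _ hn hΦ P hP
  by_cases hPbot : (P : Subgroup G) = ⊥
  · refine ⟨P, ⊤, inferInstance, ?_⟩
    rw [hPbot]
    exact Subgroup.isComplement'_top_bot
  have hPnt : Nontrivial ↥(P : Subgroup G) := (Subgroup.nontrivial_iff_ne_bot _).mpr hPbot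
  have hPfin : Finite ↥(P : Subgroup G) := inferInstance
  -- the Thompson subgroup
  have hJ := hP _ (thompsonA_characteristic ↥(P : Subgroup G))
    (Cfsg.Agent.Lib.Helper53.thompsonA_ne_bot ↥(P : Subgroup G))
  have hJdef : (thompsonSubgroupA ↥(P : Subgroup G)).map (P : Subgroup G).subtype =
      thompsonSubgroupAOf (P : Subgroup G) := rfl
  rw [hJdef] at hJ
  -- the centre
  have hZne : Subgroup.center ↥(P : Subgroup G) ≠ ⊥ := by
    have := P.2.center_nontrivial
    exact (Subgroup.nontrivial_iff_ne_bot _).mp this
  have hZmap : (Subgroup.center ↥(P : Subgroup G)).map (P : Subgroup G).subtype =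
      (P : Subgroup G) ⊓ Subgroup.centralizer ((P : Subgroup G) : Set G) :=
    (Cfsg.Agent.Lib.Helper02.ZC_eq_map_center (P : Subgroup G)).symm
  have hZ := hP _ (inferInstance : (Subgroup.center ↥(P : Subgroup G)).Characteristic) hZne
  rw [hZmap] at hZ
  -- inheritance by subgroups
  have hsub : ∀ M : Subgroup G, M ≠ ⊤ → (P : Subgroup G) ≤ M → HasNormalPComplement p ↥M := by
    intro M hM hPM
    have hlt : Nat.card ↥M < n := by rw [← hn]; exact card_lt_of_ne_top'' hM
    have hΦM : p ≠ 2 ∨ ¬ Involves (Equiv.Perm (Fin 4)) ↥M :=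
      hΦ.imp id (fun h => Cfsg.Agent.Lib.Helper57.GT.not_involves_subgroup h M)
    have h1 := charHyp_subgroup M hPM hP
    have h2 : ((P.subtype hPM : Sylow p ↥M) : Subgroup ↥M) = (P : Subgroup G).subgroupOf M :=
      Sylow.coe_subtype P hPM
    exact IH _ hlt ↥M rfl hΦM (P.subtype hPM) (by rw [h2]; exact h1)
  -- the normalizer of the Thompson subgroup
  have hN : HasNormalPComplement p
      ↥(Subgroup.normalizer ((thompsonSubgroupAOf (P : Subgroup G)) : Set G)) := by
    by_cases hJtop : Subgroup.normalizer ((thompsonSubgroupAOf (P : Subgroup G)) : Set G) = ⊤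
    · have hJn : (thompsonSubgroupAOf (P : Subgroup G)).Normal :=
        Subgroup.normalizer_eq_top_iff.mp hJtop
      have hC : (P : Subgroup G) ⊓
          Subgroup.centralizer ((thompsonSubgroupAOf (P : Subgroup G) : Subgroup G) : Set G) ≤
          thompsonSubgroupAOf (P : Subgroup G) := by
        intro x hx
        obtain ⟨A', hA'⟩ := Cfsg.Agent.Lib.Helper53.maxAb_nonempty ↥(P : Subgroup G)
        have hA'J : A'.map (P : Subgroup G).subtype ≤ thompsonSubgroupAOf (P : Subgroup G) :=
          Subgroup.map_mono (le_sSup hA')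
        have hxc : (⟨x, hx.1⟩ : ↥(P : Subgroup G)) ∈
            Subgroup.centralizer (A' : Set ↥(P : Subgroup G)) := by
          rw [Subgroup.mem_centralizer_iff]
          intro a ha
          apply Subtype.ext
          exact Subgroup.mem_centralizer_iff.mp hx.2 (a : G) (hA'J ⟨a, ha, rfl⟩)
        rw [Cfsg.Agent.Lib.Helper57.maxAbelian_centralizer_eq hA'] at hxc
        exact hA'J ⟨⟨x, hx.1⟩, hxc, rfl⟩
      have hG : HasNormalPComplement p G :=
        Cfsg.Agent.Lib.Helper41.hasNormalPComplement_of_centric_normal P
          (thompsonSubgroupAOf (P : Subgroup G)) hC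
          (fun g hgo => hJ g (by rw [hJtop]; exact Subgroup.mem_top g) hgo)
      exact Cfsg.Agent.Lib.Helper41.hasNormalPComplement_subgroup hG _
    · apply hsub _ hJtop
      have h1 := Cfsg.Agent.Lib.Helper53.normalizer_le_normalizer_inducedFunctor
        (Cfsg.Agent.Lib.Helper53.isCharPFunctor_JA (p := p)) (G := G) P.2
      exact Subgroup.le_normalizer.trans h1
  -- the centralizer of the centre
  have hC : HasNormalPComplement p ↥(Subgroup.centralizer
      ((((P : Subgroup G) ⊓ Subgroup.centralizer ((P : Subgroup G) : Set G) : Subgroup G)) : Set G)) := by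
    set Z : Subgroup G := (P : Subgroup G) ⊓ Subgroup.centralizer ((P : Subgroup G) : Set G) with hZdef
    by_cases hZtop : Subgroup.centralizer (Z : Set G) = ⊤
    · have hZc : Z ≤ Subgroup.center G := by
        intro z hz
        rw [Subgroup.mem_center_iff]
        intro g
        have hg : g ∈ Subgroup.centralizer (Z : Set G) := by rw [hZtop]; exact Subgroup.mem_top g
        exact (Subgroup.mem_centralizer_iff.mp hg z hz).symm
      have hZn : Z.Normal := by
        constructor
        intro z hz g
        have := Subgroup.mem_center_iff.mp (hZc hz) g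
        have h2 : g * z * g⁻¹ = z := by rw [this]; group
        rw [h2]; exact hz
      have hZp : IsPGroup p Z := P.2.to_le inf_le_left
      have hZP : Z ≤ (P : Subgroup G) := inf_le_left
      have hZbot : Z ≠ ⊥ := by
        intro hbot
        apply hZne
        have h1 : (Subgroup.center ↥(P : Subgroup G)).map (P : Subgroup G).subtype = ⊥ := by
          rw [hZmap]; exact hbot
        exact (Subgroup.map_eq_bot_iff_of_injective _ (P : Subgroup G).subtype_injective).mp h1
      have hZchar : (Z.subgroupOf (P : Subgroup G)).Characteristic := by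
        have h1 : Z.subgroupOf (P : Subgroup G) = Subgroup.center ↥(P : Subgroup G) := by
          rw [← hZmap]
          exact Subgroup.comap_map_eq_self_of_injective (P : Subgroup G).subtype_injective _
        rw [h1]
        infer_instance
      have hcard : Nat.card (G ⧸ Z) < n := by
        rw [← hn, Subgroup.card_eq_card_quotient_mul_card_subgroup Z]
        have h1 : 1 < Nat.card Z := (Subgroup.one_lt_card_iff_ne_bot Z).mpr hZbot
        have h2 : 0 < Nat.card (G ⧸ Z) := Nat.card_pos
        nlinarith
      have hΦQ : p ≠ 2 ∨ ¬ Involves (Equiv.Perm (Fin 4)) (G ⧸ Z) :=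
        hΦ.imp id (fun h => Cfsg.Agent.Lib.Helper57.GT.not_involves_quotient h Z)
      have hQ := charHyp_quotient Z hZP hZchar hP
      have h3 : ((P.mapSurjective (QuotientGroup.mk'_surjective Z) : Sylow p (G ⧸ Z)) :
          Subgroup (G ⧸ Z)) = (P : Subgroup G).map (QuotientGroup.mk' Z) :=
        Sylow.coe_mapSurjective _ P
      have hnpcQ : HasNormalPComplement p (G ⧸ Z) :=
        IH _ hcard (G ⧸ Z) rfl hΦQ (P.mapSurjective (QuotientGroup.mk'_surjective Z))
          (by rw [h3]; exact hQ)
      have hG : HasNormalPComplement p G :=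
        Cfsg.Agent.Lib.Helper58.KChar.npc_of_quotient_central Z hZp hZc hnpcQ
      exact Cfsg.Agent.Lib.Helper41.hasNormalPComplement_subgroup hG _
    · apply hsub _ hZtop
      intro x hx
      rw [Subgroup.mem_centralizer_iff]
      intro z hz
      exact (Subgroup.mem_centralizer_iff.mp hz.2 x hx).symm
  exact Cfsg.Agent.S2800.result P hΦ hC hN

/-- **Thompson**: for `p` odd or `G` an `S₄`-free group, if the elements of order prime to `p`
normalizing a nontrivial characteristic subgroup of the Sylow `p`-subgroup `P` always centralize it,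
then `G` has a normal `p`-complement. -/
theorem npc_of_charHyp {G : Type u} [Group G] [Finite G]
    (hΦ : p ≠ 2 ∨ ¬ Involves (Equiv.Perm (Fin 4)) G) (P : Sylow p G)
    (hP : CharHyp p G (P : Subgroup G)) : HasNormalPComplement p G :=
  npc_of_charHyp_aux (Nat.card G) G rfl hΦ P hP

end Cfsg.Agent.Lib.Helper53.CharNpc
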