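import Mathlib
import Cfsg.Prelude.Def_Local
import Cfsg.Agent.Lib.Helper12.GLDefs
import Cfsg.Agent.Lib.Helper01.PPrimeCore

/-!
# K-S1301-GL-1: the quotient step of Glauberman's automorphism theorem
-/

set_option autoImplicit false
universe u

namespace Cfsg.Agent.Lib.Helper53.GL

open Cfsg.Agent.Lib.Helper12.GL Cfsg.Agent.Lib.Helper01

section

variable {X : Type u} [Group X]

/-- the automorphisms of `X` act on the quotient by a characteristic subgroup -/
noncomputable def quotAut (O : Subgroup X) [hO : O.Characteristic] : MulAut X →* MulAut (X ⧸ O) where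
  toFun a := QuotientGroup.congr O O a (Subgroup.characteristic_iff_map_eq.mp hO a)
  map_one' := by
    ext x
    induction x using QuotientGroup.induction_on with
    | H x => rfl
  map_mul' := fun a b => by
    ext x
    induction x using QuotientGroup.induction_on with
    | H x => rfl

theorem quotAut_mk (O : Subgroup X) [O.Characteristic] (a : MulAut X) (x : X) :
    quotAut O a (QuotientGroup.mk x : X ⧸ O) = (QuotientGroup.mk (a x) : X ⧸ O) := rfl

end

/-- K-S1301-GL-1 (quotient step). -/
theorem gl_of_quot (X : Type u) [Group X] [Finite X] (hIH : GLBelow X)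
    (hO : Cfsg.pPrimeCore 2 X ≠ ⊥) : GLStmt X := by
  intro S R b hSP r hr x
  have hOc : (Cfsg.pPrimeCore 2 X).Characteristic := Cfsg.Agent.Lib.Helper01.pPrimeCore_characteristic (G := X) 2
  have hOn : (Cfsg.pPrimeCore 2 X).Normal := Cfsg.Agent.Lib.Helper01.pPrimeCore_normal (G := X) 2
  have hfact : Fact (Nat.Prime 2) := ⟨Nat.prime_two⟩
  set O := Cfsg.pPrimeCore 2 X with hOdef
  set ρ : MulAut X →* MulAut (X ⧸ O) := quotAut O with hρ
  have hcard : Nat.card (X ⧸ O) < Nat.card X := by
    rw [Subgroup.card_eq_card_quotient_mul_card_subgroup O]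
    have h1 : 1 < Nat.card O := (Subgroup.one_lt_card_iff_ne_bot O).mpr hO
    have h2 : 0 < Nat.card (X ⧸ O) := Nat.card_pos
    nlinarith
  set Sq : Sylow 2 (X ⧸ O) := S.mapSurjective (QuotientGroup.mk'_surjective O) with hSq
  have hSqmem : ∀ t ∈ Sq, ∃ s ∈ S, (QuotientGroup.mk s : X ⧸ O) = t := by
    intro t ht
    have ht' : t ∈ (S : Subgroup X).map (QuotientGroup.mk' O) := ht
    obtain ⟨s, hs, rfl⟩ := ht'
    exact ⟨s, hs, rfl⟩
  have hSP' : SPair Sq (R.map ρ) (ρ b) :=
    { isP := hSP.isP.map ρ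
      odd := Odd.of_dvd_nat hSP.odd (orderOf_map_dvd ρ b)
      norm := by
        have := Subgroup.le_normalizer_map (H := R) ρ
        exact this (Subgroup.mem_map_of_mem ρ hSP.norm)
      comm := by
        rw [← MonoidHom.map_zpowers, ← Subgroup.map_commutator, hSP.comm]
      fixR := by
        rintro _ ⟨r', hr', rfl⟩ t ht
        obtain ⟨s, hs, rfl⟩ := hSqmem t ht
        rw [hρ, quotAut_mk, hSP.fixR r' hr' s hs]
      fixb := by
        intro t ht
        obtain ⟨s, hs, rfl⟩ := hSqmem t ht
        rw [hρ, quotAut_mk, hSP.fixb s hs] }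
  have key := hIH (X ⧸ O) hcard Sq (R.map ρ) (ρ b) hSP' (ρ r) (Subgroup.mem_map_of_mem ρ hr)
    (QuotientGroup.mk x)
  rw [pPrimeCore_quotient_eq_bot, Subgroup.mem_bot, hρ, quotAut_mk, ← QuotientGroup.mk_inv,
    ← QuotientGroup.mk_mul, QuotientGroup.eq_one_iff] at key
  exact key

end Cfsg.Agent.Lib.Helper53.GL
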