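import Cfsg.Agent.Lib.Helper53.PReduced

set_option autoImplicit false

namespace Cfsg.Agent.Lib.Helper53

open Cfsg

section

variable {L : Type*} [Group L] {p : ℕ}

theorem pCore_isPGroup [Fact p.Prime] : IsPGroup p (pCore p L) := by
  unfold pCore
  exact Sylow.sSup_of_normal _ (fun H hH => hH.2) (fun H hH => hH.1)

theorem pCore_le_sylow [Fact p.Prime] (T : Sylow p L) : pCore p L ≤ T :=
  IsPGroup.le_sylow_of_normal pCore_isPGroup T

/-- element of `R` centralizes `X` iff its image centralizes the image of `X`. -/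
theorem mem_centralizer_map_subtype {R : Subgroup L} (X : Subgroup R) (r : R) :
    r ∈ Subgroup.centralizer (X : Set R) ↔
      (r : L) ∈ Subgroup.centralizer ((X.map R.subtype : Subgroup L) : Set L) := by
  rw [Subgroup.mem_centralizer_iff, Subgroup.mem_centralizer_iff]
  constructor
  · intro h y hy
    obtain ⟨x, hx, rfl⟩ := hy
    have := h x hx
    exact congrArg Subtype.val this
  · intro h x hx
    apply Subtype.ext
    exact h (x : L) ⟨x, hx, rfl⟩

/-- Translate p-reducedness of `X` in the subgroup `R` to statements inside `L`. -/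
theorem isPReducedNormal_subgroup {R : Subgroup L} {X : Subgroup R} (h : IsPReducedNormal p X) :
    R ≤ Subgroup.normalizer ((X.map R.subtype : Subgroup L) : Set L) ∧
    IsElementaryAbelian p (X.map R.subtype) ∧
    ∀ D : Subgroup L, D ≤ R → R ≤ Subgroup.normalizer (D : Set L) →
      (∀ d ∈ D, ∃ k : ℕ, d ^ (p ^ k) ∈
        Subgroup.centralizer ((X.map R.subtype : Subgroup L) : Set L)) →
      D ≤ Subgroup.centralizer ((X.map R.subtype : Subgroup L) : Set L) := by
  rw [isPReducedNormal_iff] at h
  obtain ⟨hn, ⟨hc, he⟩, hr⟩ := h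
  refine ⟨?_, ⟨?_, ?_⟩, ?_⟩
  · intro r hr'
    rw [Subgroup.mem_normalizer_iff]
    intro y
    constructor
    · rintro ⟨x, hx, rfl⟩
      exact ⟨⟨r, hr'⟩ * x * ⟨r, hr'⟩⁻¹, hn.conj_mem x hx ⟨r, hr'⟩, rfl⟩
    · rintro ⟨x, hx, hxy⟩
      have h1 := hn.conj_mem x hx (⟨r, hr'⟩⁻¹)
      refine ⟨_, h1, ?_⟩
      have : y = r⁻¹ * (x : L) * r := by
        have : (x : L) = r * y * r⁻¹ := hxy
        rw [this]; group
      rw [this]
      simp
  · rw [← Subgroup.le_centralizer_iff_isMulCommutative]
    rintro _ ⟨x, hx, rfl⟩ _ ⟨y, hy, rfl⟩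
    have := (Subgroup.le_centralizer_iff_isMulCommutative.mpr hc) hx y hy
    exact congrArg Subtype.val this
  · rintro _ ⟨x, hx, rfl⟩
    have := he x hx
    simpa using congrArg Subtype.val this
  · intro D hDR hRD hpow
    have hDn : (D.subgroupOf R).Normal := by
      rw [Subgroup.normal_subgroupOf_iff hDR]
      intro d r hd hr'
      exact ((Subgroup.mem_normalizer_iff.mp (hRD hr')) d).mp hd
    have := hr _ hDn (by
      intro d hd
      obtain ⟨k, hk⟩ := hpow (d : L) hd
      refine ⟨k, ?_⟩
      rw [mem_centralizer_map_subtype]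
      simpa using hk)
    intro d hd
    have h2 := this (show (⟨d, hDR hd⟩ : R) ∈ D.subgroupOf R from hd)
    rw [mem_centralizer_map_subtype] at h2
    exact h2

end

section main

variable {L : Type*} [Group L] [Finite L] {p : ℕ} [Fact p.Prime]

/-- General form: `X` elementary abelian, centralized by `O_p(L)`, and such that normal subgroups acting
as a `p`-group on the normal closure meet `T` inside `C(X)`. -/
theorem isPReducedNormal_normalClosure'
    (hchar : Subgroup.centralizer (pCore p L : Set L) ≤ pCore p L)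
    (T : Sylow p L)
    (X : Subgroup L)
    (hXe : IsElementaryAbelian p X)
    (hQX : pCore p L ≤ Subgroup.centralizer (X : Set L))
    (hXr : ∀ D : Subgroup L, D.Normal →
      (∀ d ∈ D, ∃ k : ℕ, d ^ (p ^ k) ∈
        Subgroup.centralizer ((Subgroup.normalClosure (X : Set L) : Subgroup L) : Set L)) →
      D ⊓ T ≤ Subgroup.centralizer (X : Set L)) :
    IsPReducedNormal p (Subgroup.normalClosure (X : Set L)) := by
  set Q := pCore p L with hQ
  set V := Subgroup.normalClosure (X : Set L) with hV
  have hXQ : X ≤ Subgroup.centralizer (Q : Set L) := Subgroup.le_centralizer_iff.mp hQX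
  have hXQ' : X ≤ Q := hXQ.trans hchar
  -- V ≤ Q ⊓ C(Q)
  have hVle : V ≤ Q ⊓ Subgroup.centralizer (Q : Set L) :=
    Subgroup.normalClosure_le_normal (le_inf hXQ' hXQ)
  have hVQ : V ≤ Q := hVle.trans inf_le_left
  have hVC : V ≤ Subgroup.centralizer (Q : Set L) := hVle.trans inf_le_right
  have hVV : V ≤ Subgroup.centralizer (V : Set L) :=
    hVC.trans (Subgroup.centralizer_le (by exact_mod_cast hVQ))
  have hVn : V.Normal := Subgroup.normalClosure_normal
  have hXV : X ≤ V := Subgroup.le_normalClosure
  rw [isPReducedNormal_iff]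
  refine ⟨hVn, ⟨Subgroup.le_centralizer_iff_isMulCommutative.mp hVV, ?_⟩, ?_⟩
  · -- exponent p
    intro a ha
    have : ∀ x (hx : x ∈ Subgroup.closure (Group.conjugatesOfSet (X : Set L))), x ^ p = 1 := by
      intro x hx
      induction hx using Subgroup.closure_induction with
      | mem y hy =>
        rw [Group.mem_conjugatesOfSet_iff] at hy
        obtain ⟨x0, hx0, hconj⟩ := hy
        rw [isConj_iff] at hconj
        obtain ⟨c, rfl⟩ := hconj
        rw [conj_pow, hXe.2 x0 hx0]
        simp
      | one => simp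
      | mul y z hy hz ihy ihz =>
        have hy' : y ∈ V := hy
        have hz' : z ∈ V := hz
        have hcomm : Commute y z := hVV hz' y hy'
        rw [hcomm.mul_pow, ihy, ihz, one_mul]
      | inv y _ ihy => rw [inv_pow, ihy, inv_one]
    exact this a ha
  · intro D hD hpow
    set C := Subgroup.centralizer (V : Set L) with hC
    have hCn : C.Normal := by rw [hC]; infer_instance
    have hCX : C ≤ Subgroup.centralizer (X : Set L) :=
      Subgroup.centralizer_le (by exact_mod_cast hXV)
    -- D' = D ⊔ C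
    have hD'n : (D ⊔ C).Normal := inferInstance
    have hD'pow : ∀ x ∈ D ⊔ C, ∃ k : ℕ, x ^ (p ^ k) ∈ C := by
      intro x hx
      have : x ∈ ((D ⊔ C : Subgroup L) : Set L) := hx
      rw [Subgroup.mul_normal] at this
      obtain ⟨d, hd, c, hc, rfl⟩ := this
      obtain ⟨k, hk⟩ := hpow d hd
      refine ⟨k, ?_⟩
      rw [← QuotientGroup.eq_one_iff, QuotientGroup.mk_pow, QuotientGroup.mk_mul,
        (QuotientGroup.eq_one_iff c).mpr hc, mul_one, ← QuotientGroup.mk_pow]
      exact (QuotientGroup.eq_one_iff _).mpr hk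
    have hD'R : (D ⊔ C) ⊓ T ≤ Subgroup.centralizer (X : Set L) := hXr _ hD'n hD'pow
    -- D ≤ C(X)
    have hDX : D ≤ Subgroup.centralizer (X : Set L) := by
      intro d hd
      -- image of D in L/C is a normal p-subgroup
      have hn : (D.map (QuotientGroup.mk' C)).Normal :=
        Subgroup.Normal.map hD _ (QuotientGroup.mk'_surjective C)
      have hp : IsPGroup p (D.map (QuotientGroup.mk' C)) := by
        rintro ⟨x, hx⟩
        obtain ⟨d, hd, rfl⟩ := hx
        obtain ⟨k, hk⟩ := hpow d hd
        refine ⟨k, ?_⟩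
        apply Subtype.ext
        rw [Subgroup.coe_pow, Subgroup.coe_one]
        show (QuotientGroup.mk' C d) ^ (p ^ k) = 1
        rw [← map_pow]
        exact (QuotientGroup.eq_one_iff _).mpr hk
      have hle := IsPGroup.le_sylow_of_normal hp
        (T.mapSurjective (QuotientGroup.mk'_surjective C))
      have hdm : QuotientGroup.mk' C d ∈ D.map (QuotientGroup.mk' C) := ⟨d, hd, rfl⟩
      have := hle hdm
      obtain ⟨t, ht, hteq⟩ := this
      -- t⁻¹ * d ∈ C
      have hc : t⁻¹ * d ∈ C := by
        have := QuotientGroup.eq.mp hteq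
        exact this
      have htD' : t ∈ D ⊔ C := by
        have h1 : d ∈ D ⊔ C := (le_sup_left : D ≤ D ⊔ C) hd
        have h2 : (t⁻¹ * d)⁻¹ ∈ D ⊔ C := (le_sup_right : C ≤ D ⊔ C) (C.inv_mem hc)
        have := (D ⊔ C).mul_mem h1 h2
        simpa using this
      have htX : t ∈ Subgroup.centralizer (X : Set L) := hD'R ⟨htD', ht⟩
      have : d = t * (t⁻¹ * d) := by group
      rw [this]
      exact Subgroup.mul_mem _ htX (hCX hc)
    -- D centralizes all conjugates
    rw [Subgroup.le_centralizer_iff]
    apply Subgroup.normalClosure_le_normal (N := Subgroup.centralizer (D : Set L))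
    exact Subgroup.le_centralizer_iff.mp hDX

/-- Main lemma behind MSS 1.2(b), in quotient-free form. -/
theorem isPReducedNormal_normalClosure
    (hchar : Subgroup.centralizer (pCore p L : Set L) ≤ pCore p L)
    (T : Sylow p L) (R : Subgroup L) (hTR : (T : Subgroup L) ≤ R)
    (X : Subgroup L)
    (hXe : IsElementaryAbelian p X)
    (hXr : ∀ D : Subgroup L, D ≤ R → R ≤ Subgroup.normalizer (D : Set L) →
      (∀ d ∈ D, ∃ k : ℕ, d ^ (p ^ k) ∈ Subgroup.centralizer (X : Set L)) →
      D ≤ Subgroup.centralizer (X : Set L)) :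
    IsPReducedNormal p (Subgroup.normalClosure (X : Set L)) := by
  have hQT : pCore p L ≤ T := pCore_le_sylow T
  have hQR : pCore p L ≤ R := hQT.trans hTR
  have hQp : IsPGroup p (pCore p L) := pCore_isPGroup
  have hQX : pCore p L ≤ Subgroup.centralizer (X : Set L) := by
    apply hXr _ hQR
    · intro r _
      exact Subgroup.normalizer_eq_top (H := pCore p L) ▸ Subgroup.mem_top r
    · intro d hd
      obtain ⟨k, hk⟩ := hQp ⟨d, hd⟩
      refine ⟨k, ?_⟩
      have : d ^ (p ^ k) = 1 := by simpa using congrArg Subtype.val hk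
      rw [this]; exact one_mem _
  apply isPReducedNormal_normalClosure' hchar T X hXe hQX
  intro D hD hpow
  have hXV : X ≤ Subgroup.normalClosure (X : Set L) := Subgroup.le_normalClosure
  have hCX : Subgroup.centralizer ((Subgroup.normalClosure (X : Set L) : Subgroup L) : Set L) ≤
      Subgroup.centralizer (X : Set L) :=
    Subgroup.centralizer_le (by exact_mod_cast hXV)
  have : D ⊓ R ≤ Subgroup.centralizer (X : Set L) := by
    apply hXr _ inf_le_right
    · intro r hr
      rw [Subgroup.mem_normalizer_iff]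
      intro y
      rw [Subgroup.mem_inf, Subgroup.mem_inf]
      constructor
      · rintro ⟨h1, h2⟩
        exact ⟨hD.conj_mem y h1 r, R.mul_mem (R.mul_mem hr h2) (R.inv_mem hr)⟩
      · rintro ⟨h1, h2⟩
        refine ⟨?_, ?_⟩
        · have := hD.conj_mem _ h1 r⁻¹
          simpa [mul_assoc] using this
        · have := R.mul_mem (R.mul_mem (R.inv_mem hr) h2) hr
          simpa [mul_assoc] using this
    · intro d hd
      obtain ⟨k, hk⟩ := hpow d hd.1
      exact ⟨k, hCX hk⟩
  exact (inf_le_inf_left D hTR).trans this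

end main

end Cfsg.Agent.Lib.Helper53
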