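import Cfsg.Agent.Lib.Helper53.OhPD3
import Cfsg.Agent.Lib.Helper05.OhPD1
import Cfsg.Agent.Lib.Helper04.OhPD2
import Cfsg.Agent.Lib.Helper28.OhPA
import Cfsg.Agent.Lib.Helper29.OhPS1
import Cfsg.Agent.Lib.Helper04.OhPC1
import Cfsg.Agent.Lib.Helper21.OhPC2

/-!
# Keystone 597417 K-OhP-D3 (`exists_model_q`) of helper38's S5974 pack, exact signature

Wrapper of `exists_model_q_of` (`OhPD3.lean`) over the delivered leaves D1 (helper5), D2 (helper4), A (helper28),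
S1 (helper29, core form, fed with A, C1 (helper4), C2 (helper21)).
-/

set_option autoImplicit false

namespace Cfsg.Agent.Lib.Helper53.OhP

open Module Cfsg.Agent.Lib.Helper98.Elus Cfsg.Agent.Lib.Helper98.Sy Cfsg.Agent.Lib.Helper38.OhP

universe u
variable {F : Type u} [Field F]

/-- LEAF S1 in exact form (from helper29's core form and the leaves A, C1, C2) -/
theorem type_of_le_V1_q' {V : Type u} [AddCommGroup V] [Module F V] [Fintype F] [FiniteDimensional F V]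
    (Q : QuadraticForm F V)
    (hV : NonDeg (pB Q) ⊤) (p f : ℕ) [Fact p.Prime] (hF : Fintype.card F = p ^ f)
    (r : ℕ) [Fact r.Prime] (hpr : p ≠ r) (hr2 : r ≠ 2) (hrF : (r : F) ≠ 0) (y : V →ₗ[F] V)
    (hy : y ^ r = 1) (hiso : QIso Q y)
    (U : Submodule F V) (hUV1 : U ≤ V1 r y) (hU : Inv y U) (hUnd : NonDeg (pB Q) U) :
    cOf (orderOf ((Fintype.card F : ℕ) : ZMod r)) ∣ finrank F U ∧
      (PlusQ Q U ↔ tPlus (orderOf ((Fintype.card F : ℕ) : ZMod r))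
        (finrank F U / cOf (orderOf ((Fintype.card F : ℕ) : ZMod r)))) :=
  Cfsg.Agent.Lib.Helper29.OhP.type_of_le_V1_q_of Q p f hF r hpr y hy hiso
    (fun W1 W2 h1 h2 ho e1 e2 => Cfsg.Agent.Lib.Helper28.OhP.plusQ_sup_iff Q W1 W2 h1 h2 ho e1 e2)
    (fun U' hU1 hUi hUn hUne => Cfsg.Agent.Lib.Helper04.OhP.exists_min_nonDeg_q Q hV p f hF r hpr hr2 hrF y
      hy hiso U' hU1 hUi hUn hUne)
    (fun W hW1 hWi hWn hWd => Cfsg.Agent.Lib.Helper21.OhP.plusQ_iff_of_min Q hV p f hF r hpr hr2 hrF y hy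
      hiso W hW1 hWi hWn hWd)
    U hUV1 hU hUnd

/-- **K-OhP-D3 (597417)**, exact signature -/
theorem exists_model_q [Fintype F] (p f : ℕ) [Fact p.Prime] (hF : Fintype.card F = p ^ f)
    (r : ℕ) [Fact r.Prime] (hpr : p ≠ r) (hr2 : r ≠ 2) (hrF : (r : F) ≠ 0)
    (i c : ℕ) (hi : i = orderOf ((Fintype.card F : ℕ) : ZMod r)) (hc : c = cOf i)
    (T k : ℕ) (hT : 1 ≤ T) (hk : Even k) (hal : 0 < k ∨ tPlus i T) :
    ∃ (V : Type u) (_ : AddCommGroup V) (_ : Module F V) (_ : FiniteDimensional F V)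
      (Q : QuadraticForm F V) (y : V →ₗ[F] V),
      NonDeg (pB Q) ⊤ ∧ PlusQ Q ⊤ ∧ QIso Q y ∧ y ^ r = 1 ∧ y ≠ 1 ∧ finrank F V = T * c + k ∧
      finrank F (V1 r y) = T * c ∧ finrank F (V0 y) = k :=
  exists_model_q_of p f hF r hpr hr2 hrF i c hi hc T k hT hk hal
    (Cfsg.Agent.Lib.Helper05.OhP.exists_block_q p f hF r hpr hr2 hrF)
    (fun k hk hk2 t => Cfsg.Agent.Lib.Helper04.OhP.exists_space_of_type k hk hk2 t)
    (fun V _ _ _ Q W1 W2 h1 h2 ho e1 e2 =>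
      Cfsg.Agent.Lib.Helper28.OhP.plusQ_sup_iff Q W1 W2 h1 h2 ho e1 e2)
    (fun V _ _ _ Q hV y hy hiso U hU1 hU hUnd =>
      type_of_le_V1_q' Q hV p f hF r hpr hr2 hrF y hy hiso U hU1 hU hUnd)

end Cfsg.Agent.Lib.Helper53.OhP
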