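import Cfsg.Agent.Lib.Helper69.OPbDefs

/-!
# K-OPb-2 (keystone 598902, architect helper69, pack for S5989 / S5991)

An involutory isometry `g` of a nondegenerate symmetric space fixes a nondegenerate subspace isometric to a
given `W₀` with `2 dim W₀ < dim V`: such a subspace exists inside the bigger eigenspace of `g`.
`exists_fixed_invol_of` takes LEAF 1 of the pack (`exists_sub_isoCls`) as a hypothesis.
-/

set_option autoImplicit false

namespace Cfsg.Agent.Lib.Helper53.OPb

open Module Cfsg.Agent.Lib.Helper98.Elus Cfsg.Agent.Lib.Helper98.Sy Cfsg.Agent.Lib.Helper98.Oh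
  Cfsg.Agent.Lib.Helper69.OPb

universe u
variable {F : Type u} [Field F] {V : Type u} [AddCommGroup V] [Module F V]

/-- LEAF 2 with LEAF 1 as a hypothesis `H1` (no finiteness of `F` needed here). -/
theorem exists_fixed_invol_of (h2 : (2 : F) ≠ 0) [FiniteDimensional F V]
    (B : LinearMap.BilinForm F V) (hS : ∀ a b, B a b = B b a) (hV : NonDeg B ⊤)
    (g : V →ₗ[F] V) (hg : g * g = 1) (hiso : Iso B g)
    (W₀ : Submodule F V) (hlt : 2 * finrank F W₀ < finrank F V)
    (H1 : ∀ U : Submodule F V, NonDeg B U → finrank F W₀ < finrank F U →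
      ∃ W : Submodule F V, W ≤ U ∧ NonDeg B W ∧ IsoCls B W W₀) :
    ∃ W : Submodule F V, Inv g W ∧ NonDeg B W ∧ IsoCls B W W₀ := by
  have hR : B.IsRefl := by
    intro x y h
    rw [hS]
    exact h
  have h2F : ((2 : ℕ) : F) ≠ 0 := by
    rw [Nat.cast_ofNat]
    exact h2
  have hy : g ^ 2 = 1 := by
    rw [pow_two]
    exact hg
  have hinv : Inv g (⊤ : Submodule F V) := fun v _ => Submodule.mem_top
  obtain ⟨h0, h1⟩ := nonDeg_inf_parts_refl hR 2 h2F g hy hiso ⊤ hV hinv
  rw [top_inf_eq] at h0 h1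
  have hsum := finrank_V0_add_V1 2 h2F g hy
  by_cases hc : finrank F W₀ < finrank F (V0 g)
  · obtain ⟨W, hWU, hWnd, hWiso⟩ := H1 (V0 g) h0 hc
    refine ⟨W, ?_, hWnd, hWiso⟩
    intro v hv
    have hv0 := (mem_V0 g v).1 (hWU hv)
    rw [hv0]
    exact hv
  · have hc' : finrank F W₀ < finrank F (V1 2 g) := by omega
    obtain ⟨W, hWU, hWnd, hWiso⟩ := H1 (V1 2 g) h1 hc'
    refine ⟨W, ?_, hWnd, hWiso⟩
    intro v hv
    have hv1 := (mem_V1 2 g v).1 (hWU hv)
    rw [gsum_apply] at hv1
    have hsum2 : ∑ k ∈ Finset.range 2, (g ^ k) v = v + g v := by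
      rw [Finset.sum_range_succ, Finset.sum_range_one, pow_zero, pow_one, Module.End.one_apply]
    rw [hsum2] at hv1
    have hgv : g v = -v := by
      rw [eq_neg_iff_add_eq_zero, add_comm]
      exact hv1
    rw [hgv]
    exact W.neg_mem hv

end Cfsg.Agent.Lib.Helper53.OPb
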