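import Cfsg.Agent.Lib.Helper53.OPb1
import Cfsg.Agent.Lib.Helper53.OPb2

/-!
# K-OPb-2 (keystone 598902): exact spec signature of LEAF 2, from `OPb2` and the LEAF 1 copy in `OPb1`.
-/

set_option autoImplicit false

namespace Cfsg.Agent.Lib.Helper53.OPb

open Module Cfsg.Agent.Lib.Helper98.Elus Cfsg.Agent.Lib.Helper98.Sy Cfsg.Agent.Lib.Helper98.Oh
  Cfsg.Agent.Lib.Helper69.OPb

universe u
variable {F : Type u} [Field F] {V : Type u} [AddCommGroup V] [Module F V]

/-- LEAF 2: an involutory isometry fixes a nondegenerate subspace isometric to `W₀`. -/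
theorem exists_fixed_invol [Fintype F] (h2 : (2 : F) ≠ 0) [FiniteDimensional F V]
    (B : LinearMap.BilinForm F V) (hS : ∀ a b, B a b = B b a) (hV : NonDeg B ⊤)
    (g : V →ₗ[F] V) (hg : g * g = 1) (hiso : Iso B g)
    (W₀ : Submodule F V) (hW₀ : NonDeg B W₀) (hlt : 2 * finrank F W₀ < finrank F V) :
    ∃ W : Submodule F V, Inv g W ∧ NonDeg B W ∧ IsoCls B W W₀ :=
  exists_fixed_invol_of h2 B hS hV g hg hiso W₀ hlt
    (fun U hU h => exists_sub_isoCls h2 B hS U hU W₀ hW₀ h)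

end Cfsg.Agent.Lib.Helper53.OPb
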