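import Mathlib
import Cfsg.Agent.Lib.Helper01.PGroupMax

/-!
# A trace (norm) lemma for `p`-groups acting on abelian groups

`trace_lemma`: let the finite `p`-group `P` act on the abelian group `M`, generated by a set `B` of
elements `b` such that the norm `w ↦ ∏_{i<p} b^i w` takes `p`-th power values on the fixed points of
every normal subgroup of index `p` not containing `b`.  Then for every `P`-invariant finite set `X`,
the product of `X` is congruent modulo `p`-th powers to the product of the fixed points in `X`.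
-/

set_option autoImplicit false

namespace Cfsg.Agent.Lib.Helper53.WC

open Cfsg.Agent.Lib.Helper01

section Trace

variable {P M : Type*} [Group P] [CommGroup M]

/-- the stabilizer of `v` -/
def stab (φ : P →* MulAut M) (v : M) : Subgroup P where
  carrier := {g | φ g v = v}
  one_mem' := by simp
  mul_mem' := by
    intro a b ha hb
    simp only [Set.mem_ofPred_eq, map_mul, MulAut.mul_apply] at *
    rw [hb, ha]
  inv_mem' := by
    intro a ha
    simp only [Set.mem_ofPred_eq, map_inv] at *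
    rw [MulAut.inv_apply, MulEquiv.symm_apply_eq, ha]

theorem mem_stab {φ : P →* MulAut M} {v : M} {g : P} : g ∈ stab φ v ↔ φ g v = v := Iff.rfl

/-- product of the translates of an invariant finite set -/
theorem prod_image_aut (e : MulAut M) (O : Finset M) (hO : ∀ u ∈ O, e u ∈ O) :
    ∏ u ∈ O, e u = ∏ u ∈ O, u := by
  classical
  have h1 : O.image e = O := by
    apply Finset.eq_of_subset_of_card_le
    · intro y hy
      obtain ⟨u, hu, rfl⟩ := Finset.mem_image.mp hy
      exact hO u hu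
    · rw [Finset.card_image_of_injective _ e.injective]
  conv_rhs => rw [← h1]
  rw [Finset.prod_image (fun x _ y _ h => e.injective h)]

variable [Finite P]

theorem orbit_prod (p : ℕ) [hp : Fact p.Prime] (φ : P →* MulAut M) (v : M)
    (R₁ : Subgroup P) [hR₁n : R₁.Normal] (hR₁i : R₁.index = p) (hR : stab φ v ≤ R₁)
    (b : P) (hb : b ∉ R₁) :
    ∃ (O : Finset M) (w : M), v ∈ O ∧ (∀ u ∈ O, ∃ g : P, u = φ g v) ∧ (∀ g : P, φ g v ∈ O) ∧
      (∀ r ∈ R₁, φ r w = w) ∧ ∏ u ∈ O, u = ∏ i ∈ Finset.range p, φ (b ^ i) w := by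
  classical
  let _ : Fintype P := Fintype.ofFinite P
  let _ : Fintype ↥R₁ := Fintype.ofFinite ↥R₁
  let O₀ : Finset M := Finset.univ.image (fun r : ↥R₁ => φ (r : P) v)
  let O : Finset M := Finset.univ.image (fun g : P => φ g v)
  have hO₀ : ∀ u, u ∈ O₀ ↔ ∃ r ∈ R₁, u = φ r v := by
    intro u
    constructor
    · intro hu
      obtain ⟨r, -, rfl⟩ := Finset.mem_image.mp hu
      exact ⟨r, r.2, rfl⟩
    · rintro ⟨r, hr, rfl⟩
      exact Finset.mem_image.mpr ⟨⟨r, hr⟩, Finset.mem_univ _, rfl⟩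
  have hO : ∀ u, u ∈ O ↔ ∃ g : P, u = φ g v := by
    intro u
    constructor
    · intro hu
      obtain ⟨g, -, rfl⟩ := Finset.mem_image.mp hu
      exact ⟨g, rfl⟩
    · rintro ⟨g, rfl⟩
      exact Finset.mem_image.mpr ⟨g, Finset.mem_univ _, rfl⟩
  -- the quotient of order p
  have hcard : Nat.card (P ⧸ R₁) = p := by rw [← Subgroup.index_eq_card, hR₁i]
  set q : P ⧸ R₁ := QuotientGroup.mk b with hq
  have hq1 : q ≠ 1 := by
    intro h
    exact hb ((QuotientGroup.eq_one_iff b).mp h)
  have hord : orderOf q = p := by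
    have h1 : orderOf q ∣ p := hcard ▸ orderOf_dvd_natCard q
    rcases (Nat.dvd_prime hp.out).mp h1 with h | h
    · exact absurd (orderOf_eq_one_iff.mp h) hq1
    · exact h
  have hmk_r : ∀ r ∈ R₁, (QuotientGroup.mk r : P ⧸ R₁) = 1 := fun r hr =>
    (QuotientGroup.eq_one_iff r).mpr hr
  set w : M := ∏ u ∈ O₀, u with hw
  refine ⟨O, w, (hO v).mpr ⟨1, by simp⟩, fun u hu => (hO u).mp hu, fun g => (hO _).mpr ⟨g, rfl⟩,
    ?_, ?_⟩
  · intro r hr
    rw [hw, map_prod]
    apply prod_image_aut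
    intro u hu
    obtain ⟨r', hr', rfl⟩ := (hO₀ u).mp hu
    rw [hO₀]
    refine ⟨r * r', R₁.mul_mem hr hr', ?_⟩
    rw [map_mul, MulAut.mul_apply]
  · -- decomposition of the orbit
    have himg : O = (Finset.range p ×ˢ O₀).image (fun x : ℕ × M => φ (b ^ x.1) x.2) := by
      ext u
      rw [hO, Finset.mem_image]
      constructor
      · rintro ⟨g, rfl⟩
        -- g = b^i r
        have hfin : IsOfFinOrder q := isOfFinOrder_of_finite q
        have hmem : (QuotientGroup.mk g : P ⧸ R₁) ∈ Subgroup.zpowers q := by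
          have htop : Subgroup.zpowers q = ⊤ := by
            exact zpowers_eq_top_of_prime_card hcard hq1
          rw [htop]; exact Subgroup.mem_top _
        rw [← mem_powers_iff_mem_zpowers, mem_powers_iff_mem_range_orderOf, hord] at hmem
        obtain ⟨i, hi, hqi⟩ := Finset.mem_image.mp hmem
        have hr : (b ^ i)⁻¹ * g ∈ R₁ := by
          rw [← QuotientGroup.eq, QuotientGroup.mk_pow, ← hq]
          exact hqi
        refine ⟨(i, φ ((b ^ i)⁻¹ * g) v), ?_, ?_⟩
        · rw [Finset.mem_product]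
          exact ⟨hi, (hO₀ _).mpr ⟨_, hr, rfl⟩⟩
        · show φ (b ^ i) (φ ((b ^ i)⁻¹ * g) v) = φ g v
          rw [← MulAut.mul_apply, ← map_mul, mul_inv_cancel_left]
      · rintro ⟨⟨i, u'⟩, hx, rfl⟩
        rw [Finset.mem_product] at hx
        obtain ⟨r, hr, rfl⟩ := (hO₀ u').mp hx.2
        refine ⟨b ^ i * r, ?_⟩
        show φ (b ^ i) (φ r v) = φ (b ^ i * r) v
        rw [map_mul, MulAut.mul_apply]
    have hinj : Set.InjOn (fun x : ℕ × M => φ (b ^ x.1) x.2)
        ((Finset.range p ×ˢ O₀ : Finset (ℕ × M)) : Set (ℕ × M)) := by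
      rintro ⟨i, u⟩ hx ⟨j, u'⟩ hy hxy
      rw [Finset.mem_coe, Finset.mem_product] at hx hy
      obtain ⟨r, hr, rfl⟩ := (hO₀ u).mp hx.2
      obtain ⟨r', hr', rfl⟩ := (hO₀ u').mp hy.2
      have h1 : φ (b ^ i * r) v = φ (b ^ j * r') v := by
        rw [map_mul, map_mul, MulAut.mul_apply, MulAut.mul_apply]
        exact hxy
      have h2 : (b ^ j * r')⁻¹ * (b ^ i * r) ∈ stab φ v := by
        rw [mem_stab, map_mul, MulAut.mul_apply, h1, ← MulAut.mul_apply, ← map_mul,
          inv_mul_cancel, map_one, MulAut.one_apply]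
      have h3 : (QuotientGroup.mk (b ^ j * r') : P ⧸ R₁) = QuotientGroup.mk (b ^ i * r) :=
        QuotientGroup.eq.mpr (hR h2)
      rw [QuotientGroup.mk_mul, QuotientGroup.mk_mul, hmk_r r hr, hmk_r r' hr', mul_one, mul_one,
        QuotientGroup.mk_pow, QuotientGroup.mk_pow, ← hq] at h3
      have h4 : j ≡ i [MOD p] := by
        rw [← hord]
        exact pow_eq_pow_iff_modEq.mp h3
      have hij : j = i := by
        have := Nat.ModEq.eq_of_lt_of_lt h4 (Finset.mem_range.mp hy.1) (Finset.mem_range.mp hx.1)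
        exact this
      subst hij
      have h5 : φ r v = φ r' v := (φ (b ^ j)).injective hxy
      rw [h5]
    rw [himg, Finset.prod_image hinj, Finset.prod_product]
    apply Finset.prod_congr rfl
    intro i _
    rw [hw, map_prod]

open Classical in
/-- **The trace lemma.** -/
theorem trace_lemma (p : ℕ) [hp : Fact p.Prime] (hP : IsPGroup p P) (φ : P →* MulAut M)
    (B : Set P) (hB : Subgroup.closure B = ⊤)
    (hN : ∀ b ∈ B, ∀ R₁ : Subgroup P, R₁.Normal → R₁.index = p → b ∉ R₁ →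
      ∀ w : M, (∀ r ∈ R₁, φ r w = w) → ∃ m : M, ∏ i ∈ Finset.range p, φ (b ^ i) w = m ^ p) :
    ∀ (n : ℕ) (X : Finset M), X.card = n → (∀ g : P, ∀ v ∈ X, φ g v ∈ X) →
      ∃ m : M, ∏ v ∈ X, v = (∏ v ∈ X with (∀ g : P, φ g v = v), v) * m ^ p := by
  classical
  intro n
  induction n using Nat.strong_induction_on with
  | _ n ih =>
  intro X hXn hX
  by_cases hfix : ∀ v ∈ X, ∀ g : P, φ g v = v
  · refine ⟨1, ?_⟩
    rw [one_pow, mul_one, Finset.filter_true_of_mem hfix]
  · push Not at hfix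
    obtain ⟨v, hvX, g₀, hg₀⟩ := hfix
    have hRtop : stab φ v ≠ ⊤ := by
      intro h
      apply hg₀
      have : g₀ ∈ stab φ v := by rw [h]; exact Subgroup.mem_top _
      exact this
    obtain ⟨R₁, hR₁, hRR₁⟩ := (eq_top_or_exists_le_coatom (stab φ v)).resolve_left hRtop
    have hR₁n : R₁.Normal := IsPGroup_coatom_normal hP hR₁
    have hR₁i : R₁.index = p := IsPGroup_coatom_index hP hR₁
    have hex : ∃ b ∈ B, b ∉ R₁ := by
      by_contra hcon
      push Not at hcon
      have h1 : Subgroup.closure B ≤ R₁ := (Subgroup.closure_le _).mpr hcon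
      rw [hB] at h1
      exact hR₁.1 (top_le_iff.mp h1)
    obtain ⟨b, hbB, hbR₁⟩ := hex
    obtain ⟨O, w, hvO, hOg, hOall, hwfix, hprod⟩ := orbit_prod p φ v R₁ hR₁i hRR₁ b hbR₁
    obtain ⟨m₁, hm₁⟩ := hN b hbB R₁ hR₁n hR₁i hbR₁ w hwfix
    have hOX : O ⊆ X := by
      intro u hu
      obtain ⟨g, rfl⟩ := hOg u hu
      exact hX g v hvX
    have hOinv : ∀ g : P, ∀ u ∈ O, φ g u ∈ O := by
      intro g u hu
      obtain ⟨g', rfl⟩ := hOg u hu
      rw [← MulAut.mul_apply, ← map_mul]
      exact hOall _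
    have hXO : ∀ g : P, ∀ u ∈ X \ O, φ g u ∈ X \ O := by
      intro g u hu
      rw [Finset.mem_sdiff] at hu ⊢
      refine ⟨hX g u hu.1, ?_⟩
      intro h
      apply hu.2
      have := hOinv g⁻¹ _ h
      rwa [← MulAut.mul_apply, ← map_mul, inv_mul_cancel, map_one, MulAut.one_apply] at this
    have hcardlt : (X \ O).card < n := by
      rw [← hXn]
      apply Finset.card_lt_card
      refine ⟨Finset.sdiff_subset, ?_⟩
      intro h
      have := h hvX
      rw [Finset.mem_sdiff] at this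
      exact this.2 hvO
    obtain ⟨m₂, hm₂⟩ := ih _ hcardlt (X \ O) rfl hXO
    have hfilter : (X \ O).filter (fun v => ∀ g : P, φ g v = v) =
        X.filter (fun v => ∀ g : P, φ g v = v) := by
      ext u
      rw [Finset.mem_filter, Finset.mem_filter, Finset.mem_sdiff]
      constructor
      · rintro ⟨⟨h1, _⟩, h2⟩
        exact ⟨h1, h2⟩
      · rintro ⟨h1, h2⟩
        refine ⟨⟨h1, ?_⟩, h2⟩
        intro huO
        obtain ⟨g, rfl⟩ := hOg u huO
        apply hg₀
        have h3 := h2 (g₀ * g⁻¹)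
        rw [← MulAut.mul_apply, ← map_mul, inv_mul_cancel_right] at h3
        have h4 := h2 g⁻¹
        rw [← MulAut.mul_apply, ← map_mul, inv_mul_cancel, map_one, MulAut.one_apply] at h4
        rw [h3, ← h4]
    refine ⟨m₁ * m₂, ?_⟩
    rw [← Finset.prod_sdiff hOX, hm₂, hfilter, hprod, hm₁, mul_pow]
    generalize (∏ v ∈ X with (∀ g : P, φ g v = v), v) = F
    rw [mul_comm (m₁ ^ p) (m₂ ^ p), mul_assoc]

end Trace

/-- If every element of a finite abelian `p`-group is a product of an element of `Z₀` and a `p`-th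
power then `Z₀` is everything. -/
theorem eq_top_of_forall_exists_mul_pow {M : Type*} [CommGroup M] [Finite M] (p : ℕ) [Fact p.Prime]
    (hM : IsPGroup p M) (Z₀ : Subgroup M)
    (h : ∀ v : M, ∃ c ∈ Z₀, ∃ m : M, v = c * m ^ p) : Z₀ = ⊤ := by
  have key : ∀ k : ℕ, ∀ v : M, ∃ c ∈ Z₀, ∃ m : M, v = c * m ^ (p ^ k) := by
    intro k
    induction k with
    | zero => intro v; exact ⟨1, Z₀.one_mem, v, by simp⟩
    | succ k ih =>
      intro v
      obtain ⟨c, hc, m, rfl⟩ := ih v
      obtain ⟨c', hc', m', rfl⟩ := h m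
      refine ⟨c * c' ^ (p ^ k), Z₀.mul_mem hc (Z₀.pow_mem hc' _), m', ?_⟩
      rw [mul_pow, ← pow_mul, pow_succ, mul_assoc, mul_comm p]
  obtain ⟨n, hn⟩ := IsPGroup.iff_card.mp hM
  rw [eq_top_iff]
  intro v _
  obtain ⟨c, hc, m, rfl⟩ := key n v
  rw [← hn, pow_card_eq_one', mul_one]
  exact hc

end Cfsg.Agent.Lib.Helper53.WC
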