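import Mathlib
import Cfsg.Agent.Lib.Helper53.WCLocal2
import Cfsg.Agent.Lib.Helper53.WCTrace

/-!
# Weak closure of elements: the local case, the trace argument
-/

set_option autoImplicit false

namespace Cfsg.Agent.Lib.Helper53.WC

open Cfsg Cfsg.Agent.Lib.Helper41 Cfsg.Agent.Lib.Helper81

universe u

section Abstract

/-- the norm of a quadratic automorphism of odd prime order takes `p`-th power values -/
theorem norm_quadratic_odd {M : Type*} [CommGroup M] (σ : MulAut M) (w : M)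
    (hq : σ (σ w / w) = σ w / w) {p : ℕ} (hp : Odd p) :
    ∃ m : M, ∏ i ∈ Finset.range p, (σ ^ i) w = m ^ p := by
  set c := σ w / w with hc
  have hσw : σ w = c * w := by rw [hc, div_mul_cancel]
  have key : ∀ i : ℕ, (σ ^ i) w = c ^ i * w := by
    intro i
    induction i with
    | zero => simp
    | succ i ih =>
      rw [pow_succ', MulAut.mul_apply, ih, map_mul, map_pow, hq, hσw, pow_succ, mul_assoc]
  obtain ⟨k, hk⟩ := hp
  refine ⟨c ^ k * w, ?_⟩
  rw [Finset.prod_congr rfl (fun i _ => key i), Finset.prod_mul_distrib,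
    Finset.prod_pow_eq_pow_sum, Finset.prod_const, Finset.card_range, mul_pow, ← pow_mul]
  congr 2
  have h1 := Finset.sum_range_id_mul_two p
  have h2 : p - 1 = 2 * k := by omega
  rw [h2] at h1
  have h3 : (∑ i ∈ Finset.range p, i) * 2 = (k * p) * 2 := by rw [h1]; ring
  exact Nat.eq_of_mul_eq_mul_right (by norm_num) h3

end Abstract

variable {G : Type u} [Group G] [Finite G] {p : ℕ} [Fact p.Prime]

/-- the members of `Cand S V` with intersection with `V` of largest order -/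
def Cand₁ (S V : Subgroup G) : Set (Subgroup G) :=
  {A | A ∈ Cand S V ∧
    ∀ B ∈ Cand S V, Nat.card (B ⊓ V : Subgroup G) ≤ Nat.card (A ⊓ V : Subgroup G)}

theorem cand_lc {S V A : Subgroup G} [V.Normal] (hA : A ∈ Cand S V) (g : G) (h : lc g A ≤ S) :
    lc g A ∈ Cand S V := by
  refine ⟨isMaxAbIn_lc hA.1 g h, ?_⟩
  intro hle
  apply hA.2
  have h1 : lc g⁻¹ (lc g A) ≤ lc g⁻¹ (Subgroup.centralizer (V : Set G)) := lc_mono hle
  rwa [lc_inv_lc, lc_normal_eq] at h1

theorem card_lc_inf_normal (A V : Subgroup G) [V.Normal] (g : G) :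
    Nat.card (lc g A ⊓ V : Subgroup G) = Nat.card (A ⊓ V : Subgroup G) := by
  have h1 : lc g A ⊓ V = lc g (A ⊓ V) := by
    rw [lc_inf, lc_normal_eq V]
  rw [h1, card_lc]

theorem cand₁_lc {S V A : Subgroup G} [V.Normal] (hA : A ∈ Cand₁ S V) (g : G) (h : lc g A ≤ S) :
    lc g A ∈ Cand₁ S V := by
  refine ⟨cand_lc hA.1 g h, ?_⟩
  intro B hB
  rw [card_lc_inf_normal]
  exact hA.2 B hB

theorem cand₁_nonempty {S V : Subgroup G} (h : (Cand S V).Nonempty) : (Cand₁ S V).Nonempty := by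
  obtain ⟨A, hA, hmax⟩ := Set.exists_max_image (Cand S V)
    (fun A => Nat.card (A ⊓ V : Subgroup G)) (Set.toFinite _) h
  exact ⟨A, hA, hmax⟩

/-- a weakly closed subgroup of `S` whose normalizer centralizes `x` fixes no other conjugate of `x` -/
theorem fix_only (S : Sylow p G) (x : G)
    (hSx : (S : Subgroup G) ≤ Subgroup.centralizer ({x} : Set G))
    (P₁ : Subgroup G) (hP₁S : P₁ ≤ (S : Subgroup G))
    (hwc : ∀ g : G, lc g P₁ ≤ (S : Subgroup G) → lc g P₁ = P₁)
    (hNP : Subgroup.normalizer (P₁ : Set G) ≤ Subgroup.centralizer ({x} : Set G)) (g : G)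
    (hfix : ∀ q ∈ P₁, q * (g * x * g⁻¹) * q⁻¹ = g * x * g⁻¹) : g * x * g⁻¹ = x := by
  set M := Subgroup.centralizer ({x} : Set G) with hM
  have h1 : lc g⁻¹ P₁ ≤ M := by
    rintro _ ⟨q, hq, rfl⟩
    rw [hM, Subgroup.mem_centralizer_iff]
    intro y hy
    rw [Set.mem_singleton_iff] at hy
    subst hy
    have h2 := hfix q hq
    show y * (g⁻¹ * q * g⁻¹⁻¹) = g⁻¹ * q * g⁻¹⁻¹ * y
    rw [inv_inv]
    calc y * (g⁻¹ * q * g) = g⁻¹ * ((g * y * g⁻¹) * q) * g := by group
      _ = g⁻¹ * ((q * (g * y * g⁻¹) * q⁻¹) * q) * g := by rw [h2]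
      _ = g⁻¹ * q * g * y := by group
  have hidx : ¬ p ∣ (S : Subgroup G).relIndex M := by
    intro h
    exact S.not_dvd_index (h.trans (Subgroup.relIndex_dvd_index_of_le hSx))
  obtain ⟨m, hm, hmS⟩ := exists_lc_le_of_relIndex hSx S.2 hidx
    (isPGroup_lc (S.2.to_le hP₁S)) h1
  rw [← lc_mul] at hmS
  have h3 := hwc _ hmS
  have h4 : m * g⁻¹ ∈ M := hNP (mem_normalizer_iff_lc.mpr h3)
  have h5 : g⁻¹ ∈ M := by
    have := M.mul_mem (M.inv_mem hm) h4
    simpa using this
  have h6 : g ∈ M := by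
    have := M.inv_mem h5
    simpa using this
  have h7 := Subgroup.mem_centralizer_iff.mp h6 x rfl
  calc g * x * g⁻¹ = (x * g) * g⁻¹ := by rw [h7]
    _ = x := by group

theorem mem_centralizer_singleton_iff_conj {y w : G} :
    y ∈ Subgroup.centralizer ({w} : Set G) ↔ y * w * y⁻¹ = w := by
  rw [Subgroup.mem_centralizer_iff]
  constructor
  · intro h
    have := h w rfl
    calc y * w * y⁻¹ = (w * y) * y⁻¹ := by rw [this]
      _ = w := by group
  · intro h z hz
    rw [Set.mem_singleton_iff] at hz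
    subst hz
    calc z * y = (y * z * y⁻¹) * y := by rw [h]
      _ = y * z := by group

open scoped IsMulCommutative in
set_option maxHeartbeats 1600000 in
/-- the trace argument in the local case -/
theorem local_trace (S : Sylow p G) (x : G)
    (hM : ∀ K : Subgroup G, K ≠ ⊤ → (S : Subgroup G) ≤ K → K ≤ Subgroup.centralizer ({x} : Set G))
    (hSx : (S : Subgroup G) ≤ Subgroup.centralizer ({x} : Set G))
    (V : Subgroup G) [hVn : V.Normal] (hVc : ∀ a ∈ V, ∀ b ∈ V, a * b = b * a)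
    (hVS : V ≤ (S : Subgroup G)) (hQV : pCore p G ≤ Subgroup.centralizer (V : Set G))
    (hxV : x ∈ V) (hVgen : V ≤ Subgroup.normalClosure {x})
    (hcand : (Cand (S : Subgroup G) V).Nonempty)
    (hN : p = 2 → ∀ A ∈ Cand₁ (S : Subgroup G) V, ∀ w ∈ V,
      (A ⊓ Subgroup.centralizer {w}).relIndex A ≠ 2) :
    ∀ g : G, g ∈ Subgroup.centralizer ({x} : Set G) := by
  classical
  have hSp : IsPGroup p (S : Subgroup G) := S.2
  obtain ⟨A₀, hA₀⟩ := cand₁_nonempty hcand
  set P₁ := sSup (Cand₁ (S : Subgroup G) V) with hP₁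
  have hP₁S : P₁ ≤ (S : Subgroup G) := sSup_le (fun A hA => hA.1.1.1)
  have hwc : ∀ g : G, lc g P₁ ≤ (S : Subgroup G) → lc g P₁ = P₁ :=
    weaklyClosed_sSup (S : Subgroup G) _ (fun A hA g hg => cand₁_lc hA g hg)
  have hP₁V : ¬ P₁ ≤ Subgroup.centralizer (V : Set G) := fun h => hA₀.1.2 ((le_sSup hA₀).trans h)
  have hSN : (S : Subgroup G) ≤ Subgroup.normalizer (P₁ : Set G) := by
    intro s hs
    rw [mem_normalizer_iff_lc]
    apply hwc
    rintro _ ⟨y, hy, rfl⟩
    exact (S : Subgroup G).mul_mem ((S : Subgroup G).mul_mem hs (hP₁S hy))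
      ((S : Subgroup G).inv_mem hs)
  have hNne : Subgroup.normalizer (P₁ : Set G) ≠ ⊤ := by
    intro h
    apply hP₁V
    have hn : P₁.Normal := Subgroup.normalizer_eq_top_iff.mp h
    exact (le_pCore hn (hSp.to_le hP₁S)).trans hQV
  have hNP := hM _ hNne hSN
  have hfix := fix_only S x hSx P₁ hP₁S hwc hNP
  -- the module
  haveI : IsMulCommutative ↥V := ⟨⟨fun a b => Subtype.ext (hVc a a.2 b b.2)⟩⟩
  let φ : ↥P₁ →* MulAut ↥V := (MulAut.conjNormal (H := V)).comp P₁.subtype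
  have hφ : ∀ (q : ↥P₁) (v : ↥V), ((φ q v : ↥V) : G) = (q : G) * v * (q : G)⁻¹ := fun q v => rfl
  let B : Set ↥P₁ := {b | ∃ A ∈ Cand₁ (S : Subgroup G) V, (b : G) ∈ A}
  have hB : Subgroup.closure B = ⊤ := by
    have h1 : P₁ ≤ (Subgroup.closure B).map P₁.subtype := by
      apply sSup_le
      intro A hA a ha
      have haP : a ∈ P₁ := le_sSup hA ha
      refine ⟨⟨a, haP⟩, Subgroup.subset_closure ⟨A, hA, ha⟩, rfl⟩
    rw [eq_top_iff]
    rintro ⟨y, hy⟩ -
    obtain ⟨b, hb, hby⟩ := h1 hy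
    have : b = ⟨y, hy⟩ := Subtype.ext hby
    rw [← this]
    exact hb
  have hN' : ∀ b ∈ B, ∀ R₁ : Subgroup ↥P₁, R₁.Normal → R₁.index = p → b ∉ R₁ →
      ∀ w : ↥V, (∀ r ∈ R₁, φ r w = w) →
      ∃ m : ↥V, ∏ i ∈ Finset.range p, φ (b ^ i) w = m ^ p := by
    rintro b ⟨A, hA, hbA⟩ R₁ hR₁n hR₁i hbR w hw
    by_cases hp2 : p = 2
    · have key : φ b w = w := by
        by_contra hne
        have hbw : (b : G) ∉ Subgroup.centralizer ({(w : G)} : Set G) := by
          intro h
          apply hne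
          apply Subtype.ext
          rw [hφ]
          exact mem_centralizer_singleton_iff_conj.mp h
        apply hN hp2 A hA (w : G) w.2
        show ((A ⊓ Subgroup.centralizer {(w : G)}).subgroupOf A).index = 2
        rw [Subgroup.index_eq_two_iff]
        refine ⟨⟨b, hbA⟩, ?_⟩
        rintro ⟨c, hc⟩
        have hcP : c ∈ P₁ := le_sSup hA hc
        have hidx2 : R₁.index = 2 := by rw [hR₁i, hp2]
        have h1 := Subgroup.mul_mem_iff_of_index_two hidx2 (a := (⟨c, hcP⟩ : ↥P₁)) (b := b)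
        have hmemC : ∀ r ∈ R₁, (r : G) ∈ Subgroup.centralizer ({(w : G)} : Set G) := by
          intro r hr
          rw [mem_centralizer_singleton_iff_conj, ← hφ, hw r hr]
        simp only [Subgroup.mem_subgroupOf, Subgroup.mem_inf, Subgroup.coe_mul]
        by_cases hcR : (⟨c, hcP⟩ : ↥P₁) ∈ R₁
        · right
          refine ⟨⟨hc, hmemC _ hcR⟩, ?_⟩
          rintro ⟨-, h2⟩
          apply hbw
          have := Subgroup.mul_mem _ (Subgroup.inv_mem _ (hmemC _ hcR)) h2
          simpa using this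
        · left
          have h2 : (⟨c, hcP⟩ : ↥P₁) * b ∈ R₁ := by
            rw [h1]
            exact ⟨fun h => absurd h hcR, fun h => absurd h hbR⟩
          have h3 := hmemC _ h2
          refine ⟨⟨A.mul_mem hc hbA, h3⟩, ?_⟩
          rintro ⟨-, h4⟩
          apply hbw
          have := Subgroup.mul_mem _ (Subgroup.inv_mem _ h4) h3
          simpa using this
      refine ⟨w, ?_⟩
      rw [hp2, Finset.prod_range_succ, Finset.prod_range_one, pow_zero, pow_one, map_one,
        MulAut.one_apply, key, pow_two]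
    · have hodd : Odd p := (Fact.out : p.Prime).odd_of_ne_two hp2
      have hq : φ b (φ b w / w) = φ b w / w := by
        apply Subtype.ext
        rw [hφ]
        have h1 := quad_of_cand' hSp hVS hVc hA.1 hA.2 (w : G) w.2 (b : G) hbA (b : G) hbA
        have h2 : ((φ b w / w : ↥V) : G) = (b : G) * w * (b : G)⁻¹ * (w : G)⁻¹ := by
          rw [div_eq_mul_inv]
          rfl
        rw [h2, h1]
        group
      have := norm_quadratic_odd (φ b) w hq hodd
      simp_rw [map_pow]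
      exact this
  -- the set of conjugates of x
  letI : Fintype ↥V := Fintype.ofFinite ↥V
  let X : Finset ↥V := Finset.univ.filter (fun v => ∃ g : G, (v : G) = g * x * g⁻¹)
  have hXmem : ∀ v : ↥V, v ∈ X ↔ ∃ g : G, (v : G) = g * x * g⁻¹ := by
    intro v
    simp [X]
  have hXG : ∀ (g : G), ∀ v ∈ X, MulAut.conjNormal (H := V) g v ∈ X := by
    intro g v hv
    obtain ⟨h, hh⟩ := (hXmem v).mp hv
    rw [hXmem]
    refine ⟨g * h, ?_⟩
    rw [MulAut.conjNormal_apply, hh]
    group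
  have hX : ∀ (q : ↥P₁), ∀ v ∈ X, φ q v ∈ X := fun q v hv => hXG (q : G) v hv
  obtain ⟨m, hm⟩ := trace_lemma p (hSp.to_le hP₁S) φ B hB hN' X.card X rfl hX
  set x' : ↥V := ⟨x, hxV⟩ with hx'
  have hfilter : (X.filter (fun v => ∀ q : ↥P₁, φ q v = v)) = {x'} := by
    ext v
    rw [Finset.mem_filter, Finset.mem_singleton, hXmem]
    constructor
    · rintro ⟨⟨g, hg⟩, hq⟩
      apply Subtype.ext
      rw [hg]
      apply hfix g
      intro q hqP
      have := congrArg Subtype.val (hq ⟨q, hqP⟩)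
      rw [hφ, hg] at this
      exact this
    · rintro rfl
      refine ⟨⟨1, by simp [hx']⟩, ?_⟩
      intro q
      apply Subtype.ext
      rw [hφ]
      exact mem_centralizer_singleton_iff_conj.mp (hSx (hP₁S q.2))
  rw [hfilter, Finset.prod_singleton] at hm
  set w₀ : ↥V := ∏ v ∈ X, v with hw₀
  have hw₀G : ∀ g : G, g * (w₀ : G) * g⁻¹ = w₀ := by
    intro g
    have h1 : MulAut.conjNormal (H := V) g w₀ = w₀ := by
      rw [hw₀, map_prod]
      exact prod_image_aut _ X (hXG g)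
    have := congrArg Subtype.val h1
    rwa [MulAut.conjNormal_apply] at this
  have hw₀c : (w₀ : G) ∈ Subgroup.center G := by
    rw [Subgroup.mem_center_iff]
    intro g
    have := hw₀G g
    calc g * (w₀ : G) = (g * (w₀ : G) * g⁻¹) * g := by group
      _ = (w₀ : G) * g := by rw [this]
  have hxeq : x = (w₀ : G) * ((m : G)⁻¹) ^ p := by
    have h1 : x' = w₀ * (m⁻¹) ^ p := by
      rw [hm, inv_pow, mul_inv_cancel_right]
    have := congrArg Subtype.val h1
    simpa [hx'] using this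
  -- every element of V is central times a p-th power
  have key : ∀ y ∈ Subgroup.normalClosure ({x} : Set G),
      ∃ c ∈ V ⊓ Subgroup.center G, ∃ n ∈ V, y = c * n ^ p := by
    intro y hy
    unfold Subgroup.normalClosure at hy
    induction hy using Subgroup.closure_induction with
    | mem y hy =>
      rw [Group.mem_conjugatesOfSet_iff] at hy
      obtain ⟨a, ha, hay⟩ := hy
      rw [Set.mem_singleton_iff] at ha
      subst ha
      rw [isConj_iff] at hay
      obtain ⟨g, rfl⟩ := hay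
      refine ⟨w₀, ⟨w₀.2, hw₀c⟩, g * (m : G)⁻¹ * g⁻¹, hVn.conj_mem _ (V.inv_mem m.2) g, ?_⟩
      rw [conj_pow]
      conv_lhs => rw [hxeq]
      calc g * ((w₀ : G) * ((m : G)⁻¹) ^ p) * g⁻¹
          = (g * (w₀ : G) * g⁻¹) * (g * ((m : G)⁻¹) ^ p * g⁻¹) := by group
        _ = (w₀ : G) * (g * ((m : G)⁻¹) ^ p * g⁻¹) := by rw [hw₀G g]
    | one => exact ⟨1, Subgroup.one_mem _, 1, V.one_mem, by simp⟩
    | mul y z _ _ hy hz =>
      obtain ⟨c₁, hc₁, n₁, hn₁, rfl⟩ := hy
      obtain ⟨c₂, hc₂, n₂, hn₂, rfl⟩ := hz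
      refine ⟨c₁ * c₂, Subgroup.mul_mem _ hc₁ hc₂, n₁ * n₂, V.mul_mem hn₁ hn₂, ?_⟩
      have h1 : Commute n₁ n₂ := hVc n₁ hn₁ n₂ hn₂
      have h2 : n₁ ^ p * c₂ = c₂ * n₁ ^ p := (Subgroup.mem_center_iff.mp hc₂.2 (n₁ ^ p))
      rw [h1.mul_pow]
      calc c₁ * n₁ ^ p * (c₂ * n₂ ^ p) = c₁ * (n₁ ^ p * c₂) * n₂ ^ p := by group
        _ = c₁ * (c₂ * n₁ ^ p) * n₂ ^ p := by rw [h2]
        _ = c₁ * c₂ * (n₁ ^ p * n₂ ^ p) := by group
    | inv y _ hy =>
      obtain ⟨c, hc, n, hn, rfl⟩ := hy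
      refine ⟨c⁻¹, Subgroup.inv_mem _ hc, n⁻¹, V.inv_mem hn, ?_⟩
      have h2 : n ^ p * c = c * n ^ p := (Subgroup.mem_center_iff.mp hc.2 (n ^ p))
      rw [mul_inv_rev, inv_pow]
      have h3 : (n ^ p)⁻¹ * c⁻¹ = (c * n ^ p)⁻¹ := by group
      rw [h3, ← h2]
      group
  have hVp : IsPGroup p ↥V := hSp.to_le hVS
  have htop := eq_top_of_forall_exists_mul_pow p hVp ((Subgroup.center G).subgroupOf V) (by
    intro v
    obtain ⟨c, hc, n, hn, hv⟩ := key (v : G) (hVgen v.2)
    refine ⟨⟨c, hc.1⟩, ?_, ⟨n, hn⟩, Subtype.ext hv⟩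
    rw [Subgroup.mem_subgroupOf]
    exact hc.2)
  have hxc : x' ∈ (Subgroup.center G).subgroupOf V := by rw [htop]; exact Subgroup.mem_top _
  rw [Subgroup.mem_subgroupOf] at hxc
  intro g
  rw [Subgroup.mem_centralizer_iff]
  intro y hy
  rw [Set.mem_singleton_iff] at hy
  subst hy
  exact (Subgroup.mem_center_iff.mp hxc g).symm

end Cfsg.Agent.Lib.Helper53.WC
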