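import Mathlib
import Cfsg.Prelude.Def_FusionSystem

set_option autoImplicit false

/-!
Yoshida's theorem for fusion systems: the bad configuration in a `p`-group.
-/

namespace Cfsg.Agent.Lib.Helper53.Yo

/-- The bad configuration in a `p`-group `T`: a normal subgroup `U₀` of index `p`, elements `z ∉ U₀` and `x ∈ U₀`
with the iterated commutator `[x, z; p - 1]` outside the Frattini subgroup of `U₀`. -/
def Bad (p : ℕ) (T : Type*) [Group T] : Prop :=
  ∃ (x z : T) (U₀ : Subgroup T), U₀.Normal ∧ U₀.index = p ∧ z ∉ U₀ ∧ x ∈ U₀ ∧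
    (fun y : T => y⁻¹ * z⁻¹ * y * z)^[p - 1] x ∉ (frattini ↥U₀).map U₀.subtype

end Cfsg.Agent.Lib.Helper53.Yo
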