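/-
K-OQF-REP (keystone 597704) of the S5977 / S5978 pack (architect helper72):
universality of the `L`-valued norm `u ↦ B(u, θu) + 2 Q(u) ω` on a quadratic space with a self-adjoint
square root `θ` of a non-square `δ`.
-/
import Mathlib
import Cfsg.Agent.Lib.Helper14.SpUA0

set_option autoImplicit false

namespace Cfsg.Agent.Lib.Helper53.OQF

open Cfsg.Agent.Lib.Helper14.SpU

section Basic

variable {F : Type*} [Field F] {V : Type*} [AddCommGroup V] [Module F V]

theorem polar_self_mul (Q : QuadraticForm F V) (x : V) :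
    QuadraticMap.polar (⇑Q) x x = 2 * Q x := by
  rw [QuadraticMap.polar_self, two_nsmul, two_mul]

theorem Q_theta (h2 : (2 : F) ≠ 0) (Q : QuadraticForm F V) (δ : F) (θ : V →ₗ[F] V)
    (hθ : ∀ v, θ (θ v) = δ • v)
    (hsa : ∀ u v, QuadraticMap.polar (⇑Q) (θ u) v = QuadraticMap.polar (⇑Q) u (θ v)) (u : V) :
    Q (θ u) = δ * Q u := by
  have h := hsa u (θ u)
  rw [hθ, polar_self_mul, QuadraticMap.polar_smul_right, polar_self_mul, smul_eq_mul] at h
  have h3 : (2 : F) * (Q (θ u) - δ * Q u) = 0 := by linear_combination h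
  rcases mul_eq_zero.1 h3 with h4 | h4
  · exact absurd h4 h2
  · exact sub_eq_zero.1 h4

theorem Q_act (h2 : (2 : F) ≠ 0) (Q : QuadraticForm F V) (δ : F) (θ : V →ₗ[F] V)
    (hθ : ∀ v, θ (θ v) = δ • v)
    (hsa : ∀ u v, QuadraticMap.polar (⇑Q) (θ u) v = QuadraticMap.polar (⇑Q) u (θ v))
    (s1 s2 : F) (u : V) :
    Q (s1 • u + s2 • θ u) =
      (s1 * s1 + δ * s2 * s2) * Q u + s1 * s2 * QuadraticMap.polar (⇑Q) u (θ u) := by
  rw [QuadraticMap.map_add (⇑Q), QuadraticMap.map_smul, QuadraticMap.map_smul,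
    Q_theta h2 Q δ θ hθ hsa, QuadraticMap.polar_smul_left, QuadraticMap.polar_smul_right]
  simp only [smul_eq_mul]
  ring

theorem theta_act (δ : F) (θ : V →ₗ[F] V) (hθ : ∀ v, θ (θ v) = δ • v) (s1 s2 : F) (u : V) :
    θ (s1 • u + s2 • θ u) = (s2 * δ) • u + s1 • θ u := by
  rw [map_add, map_smul, map_smul, hθ, smul_smul, add_comm]

theorem B_act (h2 : (2 : F) ≠ 0) (Q : QuadraticForm F V) (δ : F) (θ : V →ₗ[F] V)
    (hθ : ∀ v, θ (θ v) = δ • v)
    (hsa : ∀ u v, QuadraticMap.polar (⇑Q) (θ u) v = QuadraticMap.polar (⇑Q) u (θ v))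
    (s1 s2 : F) (u : V) :
    QuadraticMap.polar (⇑Q) (s1 • u + s2 • θ u) (θ (s1 • u + s2 • θ u)) =
      (s1 * s1 + δ * s2 * s2) * QuadraticMap.polar (⇑Q) u (θ u) + 4 * δ * s1 * s2 * Q u := by
  have e1 : QuadraticMap.polar (⇑Q) u u = 2 * Q u := polar_self_mul Q u
  have e2 : QuadraticMap.polar (⇑Q) (θ u) (θ u) = 2 * (δ * Q u) := by
    rw [polar_self_mul, Q_theta h2 Q δ θ hθ hsa]
  have e3 : QuadraticMap.polar (⇑Q) (θ u) u = QuadraticMap.polar (⇑Q) u (θ u) :=
    QuadraticMap.polar_comm _ _ _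
  rw [theta_act δ θ hθ]
  simp only [QuadraticMap.polar_add_left, QuadraticMap.polar_add_right,
    QuadraticMap.polar_smul_left, QuadraticMap.polar_smul_right, smul_eq_mul, e1, e2, e3]
  ring

/-- orthogonality of the two `θ`-invariant planes -/
theorem polar_act_act (Q : QuadraticForm F V) (δ : F) (θ : V →ₗ[F] V)
    (hθ : ∀ v, θ (θ v) = δ • v)
    (hsa : ∀ u v, QuadraticMap.polar (⇑Q) (θ u) v = QuadraticMap.polar (⇑Q) u (θ v))
    (u1 u2 : V) (h1 : QuadraticMap.polar (⇑Q) u1 u2 = 0)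
    (h2' : QuadraticMap.polar (⇑Q) (θ u1) u2 = 0) (s1 s2 a b : F) :
    QuadraticMap.polar (⇑Q) (s1 • u1 + s2 • θ u1) (a • u2 + b • θ u2) = 0 := by
  have e1 : QuadraticMap.polar (⇑Q) u1 (θ u2) = 0 := by rw [← hsa, h2']
  have e2 : QuadraticMap.polar (⇑Q) (θ u1) (θ u2) = 0 := by
    rw [hsa, hθ, QuadraticMap.polar_smul_right, h1, smul_zero]
  simp only [QuadraticMap.polar_add_left, QuadraticMap.polar_add_right,
    QuadraticMap.polar_smul_left, QuadraticMap.polar_smul_right, smul_eq_mul, h1, h2', e1, e2]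
  ring

/-- additivity of the `L`-valued norm on orthogonal `θ`-invariant pieces -/
theorem Q_add_of_orth (Q : QuadraticForm F V) (x y : V)
    (h1 : QuadraticMap.polar (⇑Q) x y = 0) : Q (x + y) = Q x + Q y := by
  rw [QuadraticMap.map_add (⇑Q), h1, add_zero]

theorem B_add_of_orth (Q : QuadraticForm F V) (θ : V →ₗ[F] V)
    (hsa : ∀ u v, QuadraticMap.polar (⇑Q) (θ u) v = QuadraticMap.polar (⇑Q) u (θ v))
    (x y : V) (h2' : QuadraticMap.polar (⇑Q) x (θ y) = 0) :
    QuadraticMap.polar (⇑Q) (x + y) (θ (x + y)) =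
      QuadraticMap.polar (⇑Q) x (θ x) + QuadraticMap.polar (⇑Q) y (θ y) := by
  have e1 : QuadraticMap.polar (⇑Q) y (θ x) = 0 := by
    rw [← hsa, QuadraticMap.polar_comm, h2']
  rw [map_add]
  simp only [QuadraticMap.polar_add_left, QuadraticMap.polar_add_right, h2', e1]
  ring

/-- `θ` has no eigenvector -/
theorem eq_zero_of_theta_eq_smul (δ : F) (hδ : ¬ IsSquare δ) (θ : V →ₗ[F] V)
    (hθ : ∀ v, θ (θ v) = δ • v) (u : V) (c : F) (h : θ u = c • u) : u = 0 := by
  by_contra hu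
  apply hδ
  refine ⟨c, ?_⟩
  have h1 : θ (θ u) = (c * c) • u := by rw [h, map_smul, h, smul_smul]
  rw [hθ] at h1
  have h2 : (δ - c * c) • u = 0 := by rw [sub_smul, h1, sub_self]
  rcases smul_eq_zero.1 h2 with h3 | h3
  · exact sub_eq_zero.1 h3
  · exact absurd h3 hu

/-- the Gram determinant of `(u, θu)` does not vanish -/
theorem gram_ne_zero (h2 : (2 : F) ≠ 0) (δ : F) (hδ : ¬ IsSquare δ) (q b : F) (hq : q ≠ 0) :
    4 * δ * q * q - b * b ≠ 0 := by
  intro h
  apply hδ
  refine ⟨b / (2 * q), ?_⟩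
  have h2q : (2 : F) * q ≠ 0 := mul_ne_zero h2 hq
  field_simp
  linear_combination h

end Basic

section Fin

variable {F : Type*} [Field F] [Fintype F]

set_option linter.unusedSectionVars false

theorem two_ne_zero_of_odd (hodd : Odd (Fintype.card F)) : (2 : F) ≠ 0 := by
  apply Ring.two_ne_zero
  intro h
  have := FiniteField.even_card_iff_char_two.mp h
  rcases hodd with ⟨k, hk⟩
  omega

end Fin

section Main

variable {F : Type*} [Field F]

open Polynomial in
/-- `c₁ s² + c₂ t² = c` is solvable in the finite field `L` of odd order -/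
theorem exists_sq_add_sq [Fintype F] (hodd : Odd (Fintype.card F)) (δ : F) (hδ : ¬ IsSquare δ)
    (c1 c2 c : LL δ) (h1 : c1 ≠ 0) (h2 : c2 ≠ 0) :
    ∃ s t : LL δ, c1 * (s * s) + c2 * (t * t) = c := by
  have := fact_of_not_isSquare δ hδ
  have hcard : Fintype.card (LL δ) % 2 = 1 := by
    rw [card_LL]
    exact Nat.odd_iff.1 (hodd.pow)
  obtain ⟨s, t, hst⟩ := FiniteField.exists_root_sum_quadratic
    (f := C c1 * X ^ 2 + C 0 * X + C (-c)) (g := C c2 * X ^ 2 + C 0 * X + C 0)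
    (degree_quadratic h1) (degree_quadratic h2) hcard
  refine ⟨s, t, ?_⟩
  simp only [eval_add, eval_mul, eval_C, eval_pow, eval_X, zero_mul, add_zero] at hst
  linear_combination hst

theorem exists_rep {V : Type*} [AddCommGroup V] [Module F V] [FiniteDimensional F V] [Fintype F]
    (hodd : Odd (Fintype.card F)) (Q : QuadraticForm F V) (hQ : (QuadraticMap.polarBilin Q).Nondegenerate)
    (δ : F) (hδ : ¬ IsSquare δ) (θ : V →ₗ[F] V) (hθ : ∀ v, θ (θ v) = δ • v)
    (hsa : ∀ u v, QuadraticMap.polar (⇑Q) (θ u) v = QuadraticMap.polar (⇑Q) u (θ v))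
    (hdim : 4 ≤ Module.finrank F V) (a β : F) :
    ∃ u : V, Q u = a ∧ QuadraticMap.polar (⇑Q) u (θ u) = β := by
  have h2 : (2 : F) ≠ 0 := two_ne_zero_of_odd hodd
  -- a non-singular vector
  have hex1 : ∃ u1 : V, Q u1 ≠ 0 := by
    by_contra hcon
    push Not at hcon
    have hV : Nontrivial V := Module.nontrivial_of_finrank_pos (R := F) (by omega)
    obtain ⟨x, hx⟩ := exists_ne (0 : V)
    apply hx
    apply hQ.1 x
    intro y
    rw [QuadraticMap.polarBilin_apply_apply]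
    unfold QuadraticMap.polar
    rw [hcon, hcon, hcon, sub_zero, sub_zero]
  obtain ⟨u1, hu1⟩ := hex1
  set Q1 := Q u1 with hQ1
  set B1 := QuadraticMap.polar (⇑Q) u1 (θ u1) with hB1
  have hD : 4 * δ * Q1 * Q1 - B1 * B1 ≠ 0 := gram_ne_zero h2 δ hδ Q1 B1 hu1
  -- the orthogonal complement of the plane
  let f : V →ₗ[F] F × F := (QuadraticMap.polarBilin Q u1).prod (QuadraticMap.polarBilin Q (θ u1))
  have hfk : ∀ w, w ∈ LinearMap.ker f ↔
      QuadraticMap.polar (⇑Q) u1 w = 0 ∧ QuadraticMap.polar (⇑Q) (θ u1) w = 0 := by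
    intro w
    rw [LinearMap.mem_ker]
    change ((QuadraticMap.polarBilin Q u1) w, (QuadraticMap.polarBilin Q (θ u1)) w) = 0 ↔ _
    rw [Prod.mk_eq_zero,
      QuadraticMap.polarBilin_apply_apply, QuadraticMap.polarBilin_apply_apply]
  have hker : LinearMap.ker f ≠ ⊥ := by
    intro hbot
    have h1 := LinearMap.finrank_range_add_finrank_ker f
    rw [hbot, finrank_bot, add_zero] at h1
    have h3 : Module.finrank F (LinearMap.range f) ≤ Module.finrank F (F × F) :=
      Submodule.finrank_le _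
    rw [Module.finrank_prod, Module.finrank_self] at h3
    omega
  obtain ⟨w, hwk, hw0⟩ := Submodule.exists_mem_ne_zero_of_ne_bot hker
  have hex2 : ∃ u2 : V, QuadraticMap.polar (⇑Q) u1 u2 = 0 ∧
      QuadraticMap.polar (⇑Q) (θ u1) u2 = 0 ∧ Q u2 ≠ 0 := by
    by_contra hcon
    push Not at hcon
    apply hw0
    apply hQ.1 w
    intro v
    rw [QuadraticMap.polarBilin_apply_apply]
    obtain ⟨hw1, hw2⟩ := (hfk w).1 hwk
    set b1 := QuadraticMap.polar (⇑Q) u1 v with hb1
    set b2 := QuadraticMap.polar (⇑Q) (θ u1) v with hb2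
    set D := 4 * δ * Q1 * Q1 - B1 * B1 with hDdef
    set s1 := (2 * δ * Q1 * b1 - B1 * b2) / D with hs1
    set s2 := (2 * Q1 * b2 - B1 * b1) / D with hs2
    set p := s1 • u1 + s2 • θ u1 with hp
    have e1 : QuadraticMap.polar (⇑Q) u1 u1 = 2 * Q1 := polar_self_mul Q u1
    have e2 : QuadraticMap.polar (⇑Q) (θ u1) (θ u1) = 2 * (δ * Q1) := by
      rw [polar_self_mul, Q_theta h2 Q δ θ hθ hsa]
    have e3 : QuadraticMap.polar (⇑Q) (θ u1) u1 = B1 := QuadraticMap.polar_comm _ _ _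
    have hp1 : QuadraticMap.polar (⇑Q) u1 p = b1 := by
      rw [hp, QuadraticMap.polar_add_right, QuadraticMap.polar_smul_right,
        QuadraticMap.polar_smul_right, e1, ← hB1, smul_eq_mul, smul_eq_mul, hs1, hs2]
      field_simp
      ring
    have hp2 : QuadraticMap.polar (⇑Q) (θ u1) p = b2 := by
      rw [hp, QuadraticMap.polar_add_right, QuadraticMap.polar_smul_right,
        QuadraticMap.polar_smul_right, e2, e3, smul_eq_mul, smul_eq_mul, hs1, hs2]
      field_simp
      ring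
    have hw' : Q (v - p) = 0 := by
      apply hcon
      · rw [QuadraticMap.polar_sub_right, hp1, sub_self]
      · rw [QuadraticMap.polar_sub_right, hp2, sub_self]
    have hwp : QuadraticMap.polar (⇑Q) w p = 0 := by
      rw [hp, QuadraticMap.polar_add_right, QuadraticMap.polar_smul_right,
        QuadraticMap.polar_smul_right, QuadraticMap.polar_comm (⇑Q) w u1,
        QuadraticMap.polar_comm (⇑Q) w (θ u1), hw1, hw2, smul_zero, smul_zero, add_zero]
    have hQw : Q w = 0 := hcon w hw1 hw2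
    have hQww' : Q (w + (v - p)) = 0 := by
      apply hcon
      · rw [QuadraticMap.polar_add_right, QuadraticMap.polar_sub_right, hw1, hp1, sub_self,
          add_zero]
      · rw [QuadraticMap.polar_add_right, QuadraticMap.polar_sub_right, hw2, hp2, sub_self,
          add_zero]
    have hww' : QuadraticMap.polar (⇑Q) w (v - p) = 0 := by
      unfold QuadraticMap.polar
      rw [hQww', hQw, hw', sub_zero, sub_zero]
    have hv : v = p + (v - p) := by abel
    rw [hv, QuadraticMap.polar_add_right, hwp, hww', add_zero]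
  obtain ⟨u2, h12, h12', hu2⟩ := hex2
  set Q2 := Q u2 with hQ2
  set B2 := QuadraticMap.polar (⇑Q) u2 (θ u2) with hB2
  -- solve in `L`
  have hc1 : (⟨B1, 2 * Q1⟩ : LL δ) ≠ 0 := by
    intro h
    have h3 := congrArg QuadraticAlgebra.im h
    simp only [QuadraticAlgebra.im_zero] at h3
    rcases mul_eq_zero.1 h3 with h4 | h4
    · exact h2 h4
    · exact hu1 h4
  have hc2 : (⟨B2, 2 * Q2⟩ : LL δ) ≠ 0 := by
    intro h
    have h3 := congrArg QuadraticAlgebra.im h
    simp only [QuadraticAlgebra.im_zero] at h3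
    rcases mul_eq_zero.1 h3 with h4 | h4
    · exact h2 h4
    · exact hu2 h4
  obtain ⟨s, t, hst⟩ := exists_sq_add_sq hodd δ hδ ⟨B1, 2 * Q1⟩ ⟨B2, 2 * Q2⟩ ⟨β, 2 * a⟩ hc1 hc2
  have hre := congrArg QuadraticAlgebra.re hst
  have him := congrArg QuadraticAlgebra.im hst
  simp only [QuadraticAlgebra.re_add, QuadraticAlgebra.im_add, QuadraticAlgebra.re_mul,
    QuadraticAlgebra.im_mul, zero_mul, add_zero] at hre him
  set x := s.re • u1 + s.im • θ u1 with hx
  set y := t.re • u2 + t.im • θ u2 with hy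
  have hxy : QuadraticMap.polar (⇑Q) x y = 0 :=
    polar_act_act Q δ θ hθ hsa u1 u2 h12 h12' _ _ _ _
  have hxy' : QuadraticMap.polar (⇑Q) x (θ y) = 0 := by
    rw [hy, theta_act δ θ hθ]
    exact polar_act_act Q δ θ hθ hsa u1 u2 h12 h12' _ _ _ _
  refine ⟨x + y, ?_, ?_⟩
  · rw [Q_add_of_orth Q x y hxy, hx, hy, Q_act h2 Q δ θ hθ hsa, Q_act h2 Q δ θ hθ hsa,
      ← hQ1, ← hB1, ← hQ2, ← hB2]
    have h3 : (2 : F) * ((s.re * s.re + δ * s.im * s.im) * Q1 + s.re * s.im * B1 +
        ((t.re * t.re + δ * t.im * t.im) * Q2 + t.re * t.im * B2) - a) = 0 := by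
      linear_combination him
    rcases mul_eq_zero.1 h3 with h4 | h4
    · exact absurd h4 h2
    · exact sub_eq_zero.1 h4
  · rw [B_add_of_orth Q θ hsa x y hxy', hx, hy, B_act h2 Q δ θ hθ hsa, B_act h2 Q δ θ hθ hsa,
      ← hQ1, ← hB1, ← hQ2, ← hB2]
    linear_combination hre

/-- `z^(q+1)` is the norm -/
theorem pow_card_succ [Fintype F] (hodd : Odd (Fintype.card F)) (δ : F) (hδ : ¬ IsSquare δ)
    (z : LL δ) :
    z ^ (Fintype.card F + 1) = algebraMap F (LL δ) (z.re * z.re - δ * z.im * z.im) := by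
  rw [pow_succ, pow_card_eq δ hδ hodd z]
  ext
  · simp only [QuadraticAlgebra.re_mul, QuadraticAlgebra.algebraMap_re]
    ring
  · simp only [QuadraticAlgebra.im_mul, QuadraticAlgebra.algebraMap_im]
    ring

/-- two non-zero elements of `L` whose norms differ by a square of `F` differ by a square of `L` -/
theorem exists_sq_mul_eq [Fintype F] (hodd : Odd (Fintype.card F)) (δ : F) (hδ : ¬ IsSquare δ)
    (c c' : LL δ) (hc : c ≠ 0) (y : F) (hy : y ≠ 0)
    (hN : c'.re * c'.re - δ * c'.im * c'.im = y * y * (c.re * c.re - δ * c.im * c.im)) :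
    ∃ r : LL δ, c = r * r * c' := by
  have := fact_of_not_isSquare δ hδ
  have hNc : c.re * c.re - δ * c.im * c.im ≠ 0 := by
    intro h
    apply hc
    apply QuadraticAlgebra.norm_eq_zero_iff_eq_zero.1
    rw [QuadraticAlgebra.norm_def]
    linear_combination h
  have hc' : c' ≠ 0 := by
    intro h
    rw [h] at hN
    simp only [QuadraticAlgebra.re_zero, QuadraticAlgebra.im_zero, mul_zero, sub_zero] at hN
    rcases mul_eq_zero.1 hN.symm with h1 | h1
    · exact hy ((mul_self_eq_zero).1 h1)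
    · exact hNc h1
  have hz : c * c'⁻¹ ≠ 0 := mul_ne_zero hc (inv_ne_zero hc')
  have hchar : ringChar (LL δ) ≠ 2 := by
    intro h
    have h1 := FiniteField.even_card_iff_char_two.mp h
    rw [card_LL] at h1
    have h3 := Nat.odd_iff.1 (hodd.pow (n := 2))
    omega
  obtain ⟨k, hk⟩ := hodd
  have hexp : Fintype.card (LL δ) / 2 = (Fintype.card F + 1) * k := by
    rw [card_LL, hk]
    have h1 : (2 * k + 1) ^ 2 = 2 * ((2 * k + 1 + 1) * k) + 1 := by ring
    rw [h1]
    omega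
  have hsq : IsSquare (c * c'⁻¹) := by
    rw [FiniteField.isSquare_iff hchar hz, hexp, pow_mul, mul_pow, inv_pow,
      pow_card_succ ⟨k, hk⟩ δ hδ, pow_card_succ ⟨k, hk⟩ δ hδ, hN, ← map_inv₀, ← map_mul,
      ← map_pow]
    have h0 : ∀ N : F, N ≠ 0 → N * (y * y * N)⁻¹ = (y⁻¹) ^ 2 := by
      intro N hN0
      field_simp
    have h1 := h0 _ hNc
    rw [h1, ← pow_mul]
    have h3 : 2 * k = Fintype.card F - 1 := by omega
    rw [h3, FiniteField.pow_card_sub_one_eq_one _ (inv_ne_zero hy), map_one]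
  obtain ⟨r, hr⟩ := hsq
  refine ⟨r, ?_⟩
  rw [← hr, mul_assoc, inv_mul_cancel₀ hc', mul_one]

theorem exists_rep_plane {V : Type*} [AddCommGroup V] [Module F V] [FiniteDimensional F V] [Fintype F]
    (hodd : Odd (Fintype.card F)) (Q : QuadraticForm F V) (hQ : (QuadraticMap.polarBilin Q).Nondegenerate)
    (δ : F) (hδ : ¬ IsSquare δ) (θ θ' : V →ₗ[F] V) (hθ : ∀ v, θ (θ v) = δ • v) (hθ' : ∀ v, θ' (θ' v) = δ • v)
    (hsa : ∀ u v, QuadraticMap.polar (⇑Q) (θ u) v = QuadraticMap.polar (⇑Q) u (θ v))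
    (hsa' : ∀ u v, QuadraticMap.polar (⇑Q) (θ' u) v = QuadraticMap.polar (⇑Q) u (θ' v))
    (hdim : Module.finrank F V = 2) (u : V) (hu : Q u ≠ 0) :
    ∃ u' : V, Q u' = Q u ∧ QuadraticMap.polar (⇑Q) u' (θ' u') = QuadraticMap.polar (⇑Q) u (θ u) := by
  have h2 : (2 : F) ≠ 0 := two_ne_zero_of_odd hodd
  have hu0 : u ≠ 0 := by
    rintro rfl
    exact hu (QuadraticMap.map_zero Q)
  -- `(u, θu)` is a basis
  have hli : LinearIndependent F ![u, θ u] := by
    rw [LinearIndependent.pair_iff]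
    intro s t hst
    have ht : t = 0 := by
      by_contra ht
      apply hu0
      apply eq_zero_of_theta_eq_smul δ hδ θ hθ u (-(s / t))
      have h1 : t • θ u = -(s • u) := eq_neg_of_add_eq_zero_right hst
      have h3 : θ u = t⁻¹ • (t • θ u) := by rw [smul_smul, inv_mul_cancel₀ ht, one_smul]
      rw [h3, h1, smul_neg, smul_smul, neg_smul, div_eq_inv_mul]
    refine ⟨?_, ht⟩
    rw [ht, zero_smul, add_zero] at hst
    exact (smul_eq_zero.1 hst).resolve_right hu0
  have hspan : Submodule.span F {u, θ u} = ⊤ := by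
    have h1 := hli.span_eq_top_of_card_eq_finrank' (by rw [Fintype.card_fin, hdim])
    rw [← h1]
    congr 1
    ext z
    simp [Matrix.range_cons]
    exact or_comm
  have hmem : θ' u ∈ Submodule.span F {u, θ u} := by
    rw [hspan]
    exact Submodule.mem_top
  obtain ⟨x, y, hxy⟩ := Submodule.mem_span_pair.1 hmem
  have hy : y ≠ 0 := by
    rintro rfl
    apply hu0
    apply eq_zero_of_theta_eq_smul δ hδ θ' hθ' u x
    rw [← hxy, zero_smul, add_zero]
  set Q1 := Q u with hQ1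
  set B1 := QuadraticMap.polar (⇑Q) u (θ u) with hB1
  set B1' := QuadraticMap.polar (⇑Q) u (θ' u) with hB1'
  have hB' : B1' = 2 * x * Q1 + y * B1 := by
    rw [hB1', ← hxy, QuadraticMap.polar_add_right, QuadraticMap.polar_smul_right,
      QuadraticMap.polar_smul_right, polar_self_mul, smul_eq_mul, smul_eq_mul]
    ring
  have hQ' : δ * Q1 = (x * x + δ * y * y) * Q1 + x * y * B1 := by
    rw [← Q_act h2 Q δ θ hθ hsa, hxy, Q_theta h2 Q δ θ' hθ' hsa']
  have hc : (⟨B1, 2 * Q1⟩ : LL δ) ≠ 0 := by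
    intro h
    have h3 := congrArg QuadraticAlgebra.im h
    simp only [QuadraticAlgebra.im_zero] at h3
    rcases mul_eq_zero.1 h3 with h4 | h4
    · exact h2 h4
    · exact hu h4
  obtain ⟨r, hr⟩ := exists_sq_mul_eq hodd δ hδ ⟨B1, 2 * Q1⟩ ⟨B1', 2 * Q1⟩ hc y hy (by
    simp only
    rw [hB']
    linear_combination (-4 * Q1) * hQ')
  have hre := congrArg QuadraticAlgebra.re hr
  have him := congrArg QuadraticAlgebra.im hr
  simp only [QuadraticAlgebra.re_mul, QuadraticAlgebra.im_mul, zero_mul, add_zero] at hre him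
  refine ⟨r.re • u + r.im • θ' u, ?_, ?_⟩
  · rw [Q_act h2 Q δ θ' hθ' hsa', ← hQ1, ← hB1']
    have h3 : (2 : F) * ((r.re * r.re + δ * r.im * r.im) * Q1 + r.re * r.im * B1' - Q1) = 0 := by
      linear_combination -him
    rcases mul_eq_zero.1 h3 with h4 | h4
    · exact absurd h4 h2
    · exact sub_eq_zero.1 h4
  · rw [B_act h2 Q δ θ' hθ' hsa', ← hQ1, ← hB1']
    linear_combination -hre

end Main

end Cfsg.Agent.Lib.Helper53.OQF
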