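import Mathlib
import Cfsg.Prelude.Def_GeometricClasses
import Cfsg.Agent.Lib.Helper61.AschDefs
import Cfsg.Agent.Lib.Helper43.SpAschDefs
import Cfsg.Agent.Lib.Helper43.SpAschDefs2

/-!
K-SpAsch-G1 (keystone 566201): the enveloping algebra of a group of similarities of a bilinear form
is closed under adjoints.
-/

set_option autoImplicit false

namespace Cfsg.Agent.Lib.Helper53.SpAsch

open Cfsg Cfsg.Geo Cfsg.Agent.Lib.Helper61.Asch
open scoped Matrix Kronecker MatrixGroups

variable {F : Type*} [Field F] [Fintype F] {n : ℕ}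

/-- **K-SpAsch-G1**. -/
theorem isAdjointClosedFor_spanAlg {f : (Fin n → F) → (Fin n → F) → F} (hf : IsBilinearForm f)
    (N : Subgroup (GL (Fin n) F)) (hN : N ≤ similarityGroup f) :
    IsAdjointClosedFor f (spanAlg N) := by
  intro k hk
  unfold spanAlg at hk ⊢
  induction hk using Algebra.adjoin_induction with
  | mem x hx =>
    obtain ⟨g, hg, rfl⟩ := hx
    obtain ⟨c, hc⟩ := hN hg
    refine ⟨(c : F) • ((g⁻¹ : GL (Fin n) F) : Matrix (Fin n) (Fin n) F), ?_, ?_⟩
    · apply Subalgebra.smul_mem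
      exact Algebra.subset_adjoin ⟨g⁻¹, N.inv_mem hg, rfl⟩
    · intro u v
      have h1 := hc u (((g⁻¹ : GL (Fin n) F) : Matrix (Fin n) (Fin n) F) *ᵥ v)
      rw [Matrix.mulVec_mulVec, ← Units.val_mul, mul_inv_cancel, Units.val_one,
        Matrix.one_mulVec] at h1
      rw [h1, Matrix.smul_mulVec, hf.smul_right]
  | algebraMap r =>
    refine ⟨algebraMap F _ r, Subalgebra.algebraMap_mem _ r, ?_⟩
    intro u v
    have h1 : ∀ w : Fin n → F, (algebraMap F (Matrix (Fin n) (Fin n) F) r) *ᵥ w = r • w := by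
      intro w
      rw [Algebra.algebraMap_eq_smul_one, Matrix.smul_mulVec, Matrix.one_mulVec]
    rw [h1, h1, hf.smul_left, hf.smul_right]
  | add x y hx hy ihx ihy =>
    obtain ⟨x', hx', hxx⟩ := ihx
    obtain ⟨y', hy', hyy⟩ := ihy
    refine ⟨x' + y', Subalgebra.add_mem _ hx' hy', ?_⟩
    intro u v
    rw [Matrix.add_mulVec, Matrix.add_mulVec, hf.add_left, hf.add_right, hxx, hyy]
  | mul x y hx hy ihx ihy =>
    obtain ⟨x', hx', hxx⟩ := ihx
    obtain ⟨y', hy', hyy⟩ := ihy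
    refine ⟨y' * x', Subalgebra.mul_mem _ hy' hx', ?_⟩
    intro u v
    rw [← Matrix.mulVec_mulVec, ← Matrix.mulVec_mulVec, hxx, hyy]

end Cfsg.Agent.Lib.Helper53.SpAsch
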