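import Mathlib
import Cfsg.Agent.Lib.Helper87.FusionSaturated

/-!
# Normalizer systems: the subgroup is normal and (if centric) centric in its normalizer system.
(Copies of auxiliary lemmas from the proof file of S5126, kept here so that this library only depends
on library files.)
-/

set_option autoImplicit false

namespace Cfsg.Agent.Lib.Helper53.FusWC

open Cfsg Cfsg.FusionSystem Cfsg.Agent.Lib.Helper87

variable {Ω : Type*} [Group Ω] {S : Subgroup Ω}

/-- `R` is normal in its normalizer system. -/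
theorem nsys_isNormal [Finite S] (F : FusionSystem S) (R : Subgroup Ω) (hRS : R ≤ S)
    (E : FusionSystem (normalizerIn S R)) (hE : F.IsNormalizerSystem R E) : E.IsNormal R := by
  have hRN : R ≤ normalizerIn S R := le_normalizerIn hRS
  have hfinR : Finite R := finite_of_le hRS
  refine ⟨hRN, fun P φ hφ => ?_⟩
  rw [hE P] at hφ
  obtain ⟨hφF, hPN, hφN, ψ, hψ, hψP, hψR⟩ := hφ
  refine ⟨ψ, ?_, hψP, hψR⟩
  rw [hE]
  have hPRN : P ⊔ R ≤ normalizerIn S R := sup_le hPN hRN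
  have hle : (P ⊔ R) ⊔ R ≤ P ⊔ R := sup_le le_rfl le_sup_right
  refine ⟨hψ, hPRN, fun x => ⟨hom_mem F hψ x, ?_⟩, ψ.comp (Subgroup.inclusion hle),
    restrict_mem F hle hψ, fun x => rfl, ?_⟩
  · apply mem_normalizer_of_conj_mem
    intro y hy
    obtain ⟨z, hz, rfl⟩ := hψR.ge hy
    have hzR : (z : Ω) ∈ R := hz
    rw [← map_inv, ← map_mul, ← map_mul]
    refine hψR.le ⟨x * z * x⁻¹, ?_, rfl⟩
    show (x : Ω) * z * (x : Ω)⁻¹ ∈ R
    exact (Subgroup.mem_normalizer_iff.mp (hPRN x.2).2 _).mp hzR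
  · ext y
    constructor
    · rintro ⟨z, hz, rfl⟩
      have hzR : (z : Ω) ∈ R := hz
      exact hψR.le ⟨Subgroup.inclusion hle z, hzR, rfl⟩
    · intro hy
      obtain ⟨z, hz, rfl⟩ := hψR.ge hy
      have hzR : (z : Ω) ∈ R := hz
      exact ⟨⟨z, (le_sup_left : P ⊔ R ≤ (P ⊔ R) ⊔ R) z.2⟩, hzR, rfl⟩

/-- Every `N_F(R)`-conjugate of `R` is `R`. -/
theorem nsys_conj_eq_self (F : FusionSystem S) (R : Subgroup Ω)
    (E : FusionSystem (normalizerIn S R)) (hE : F.IsNormalizerSystem R E) {R' : Subgroup Ω}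
    (hconj : E.IsConj R R') : R' = R := by
  obtain ⟨φ, hφ, hφr⟩ := hconj
  rw [hE] at hφ
  obtain ⟨-, -, -, ψ, hψ, hψR₁, hψR⟩ := hφ
  rw [← hφr]
  ext y
  constructor
  · rintro ⟨x, rfl⟩
    rw [← hψR₁]
    exact hψR.le ⟨_, x.2, rfl⟩
  · intro hy
    obtain ⟨z, hz, rfl⟩ := hψR.ge hy
    have hzR : (z : Ω) ∈ R := hz
    refine ⟨⟨z, hzR⟩, ?_⟩
    rw [← hψR₁]
    rfl

theorem nsys_isCentric (F : FusionSystem S) (R : Subgroup Ω) (hRc : F.IsCentric R)
    (E : FusionSystem (normalizerIn S R)) (hE : F.IsNormalizerSystem R E) : E.IsCentric R := by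
  have hRS := hRc.1
  refine ⟨le_normalizerIn hRS, fun R' hconj => ?_⟩
  rw [nsys_conj_eq_self F R E hE hconj]
  intro g hg
  rw [mem_centralizerIn] at hg
  apply hRc.2 R (isConj_refl F hRS)
  exact mem_centralizerIn.mpr ⟨normalizerIn_le S R hg.1, hg.2⟩


end Cfsg.Agent.Lib.Helper53.FusWC
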