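import Mathlib
import Cfsg.Agent.S5082
import Cfsg.Agent.S5084
import Cfsg.Agent.Lib.Helper87.FusionNormalizer
import Cfsg.Agent.Lib.Helper87.FusionAut
import Cfsg.Agent.Lib.Helper89.FusionConj

/-!
# Weak closure in fusion systems, part 1: Alperin with a threshold

If every `F`-automorphism of every fully normalized centric subgroup of order at least `k` fixes the
element `z ∈ Z(S)`, then every map of the system defined on a subgroup of order at least `k`
containing `z` fixes `z`.
-/

set_option autoImplicit false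

namespace Cfsg.Agent.Lib.Helper53.FusWC

open Cfsg Cfsg.FusionSystem Cfsg.Agent.Lib.Helper87

variable {Ω : Type*} [Group Ω] {S : Subgroup Ω}

/-- The maps of `F` which, on sources of order at least `k`, belong to the centralizer system of `Q`. -/
def thrSystem (F : FusionSystem S) (Q : Subgroup Ω) (hQ : Q ≤ S)
    (hN : centralizerIn S Q = S) (k : ℕ) [Finite S] : FusionSystem S where
  Hom P := {φ | φ ∈ F.Hom P ∧ (k ≤ Nat.card P → φ ∈ F.centralizerHom Q P)}
  le_of_mem h := F.le_of_mem h.1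
  injective_of_mem h := F.injective_of_mem h.1
  conj_mem := by
    intro P g hP hg
    refine ⟨F.conj_mem hP hg, fun _ => ?_⟩
    have hP' : P ≤ centralizerIn S Q := by rw [hN]; exact hP
    have hg' : g ∈ centralizerIn S Q := by rw [hN]; exact hg
    exact (centralizerSystem F Q hQ).conj_mem hP' hg'
  comp_mem := by
    rintro P R φ ψ ⟨hφ, hφk⟩ ⟨hψ, hψk⟩ h
    refine ⟨F.comp_mem hφ hψ h, fun hk => ?_⟩
    have hRS : R ≤ S := (F.le_of_mem hψ).1
    have : Finite R := finite_of_le hRS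
    have hcard : Nat.card P ≤ Nat.card R := by
      apply Nat.card_le_card_of_injective (φ.codRestrict R h)
      intro a b hab
      apply F.injective_of_mem hφ
      have := congrArg (fun x : R => (x : Ω)) hab
      exact this
    exact (centralizerSystem F Q hQ).comp_mem (hφk hk) (hψk (hk.trans hcard)) h
  inv_mem := by
    rintro P φ ⟨hφ, hφk⟩
    by_cases hk : k ≤ Nat.card P
    · obtain ⟨ψ, hψ, hψφ⟩ := (centralizerSystem F Q hQ).inv_mem (hφk hk)
      exact ⟨ψ, ⟨hψ.1, fun _ => hψ⟩, hψφ⟩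
    · obtain ⟨ψ, hψ, hψφ⟩ := F.inv_mem hφ
      refine ⟨ψ, ⟨hψ, fun hk' => ?_⟩, hψφ⟩
      exfalso
      apply hk
      rw [← Cfsg.Agent.Lib.Helper89.card_range_eq F hφ]
      exact hk'

theorem fixMaps_of_fixAut [Finite S] (p : ℕ) [Fact p.Prime] (hS : IsPGroup p S)
    (F : FusionSystem S) (hF : F.IsSaturated p) (z : Ω) (hzS : z ∈ S)
    (hzZ : z ∈ Subgroup.centralizer (S : Set Ω)) (k : ℕ)
    (h : ∀ P : Subgroup Ω, F.IsFullyNormalized P → F.IsCentric P → k ≤ Nat.card P →
      ∀ φ ∈ F.Hom P, φ.range = P → ∀ hz : z ∈ P, φ ⟨z, hz⟩ = z) :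
    ∀ (A : Subgroup Ω) (φ : A →* Ω), φ ∈ F.Hom A → k ≤ Nat.card A →
      ∀ hz : z ∈ A, φ ⟨z, hz⟩ = z := by
  classical
  set Q : Subgroup Ω := Subgroup.zpowers z with hQdef
  have hQS : Q ≤ S := by rw [hQdef, Subgroup.zpowers_le]; exact hzS
  have hZ : ∀ s ∈ S, ∀ x ∈ Q, x * s = s * x := by
    intro s hs x hx
    rw [hQdef, Subgroup.mem_zpowers_iff] at hx
    obtain ⟨n, rfl⟩ := hx
    have h1 : s * z = z * s := (Subgroup.mem_centralizer_iff.mp hzZ) s hs
    exact ((Commute.zpow_right (show Commute s z from h1) n).eq).symm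
  have hN : centralizerIn S Q = S := by
    apply le_antisymm (centralizerIn_le S Q)
    intro s hs
    exact mem_centralizerIn.mpr ⟨hs, hZ s hs⟩
  let E : FusionSystem S := thrSystem F Q hQS hN k
  have hSc : F.IsCentric S := by
    refine ⟨le_rfl, fun R hR => ?_⟩
    have hRS : R ≤ S := isConj_le_right F hR
    have hcard : Nat.card R = Nat.card S := Cfsg.Agent.Lib.Helper89.isConj_card_eq F hR
    have : R = S := Subgroup.eq_of_le_of_card_ge hRS hcard.ge
    rw [this]
    exact centralizerIn_le S S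
  have hFE : F ≤ E := by
    apply Cfsg.Agent.S5082.result p hS F hF E
    intro P hP α hα
    have hPS : P ≤ S := by
      rcases hP with hPeq | hess
      · exact hPeq.le
      · exact hess.1.1
    have hPc : F.IsCentric P := by
      rcases hP with hPeq | hess
      · rw [hPeq]; exact hSc
      · exact hess.1
    have hPfn : F.IsFullyNormalized P := by
      rcases hP with hPeq | hess
      · rw [hPeq]; exact Cfsg.Agent.Lib.Helper89.isFullyNormalized_self F
      · exact hess.2.1
    have hQP : Q ≤ P := by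
      have hc := hPc.2 P (isConj_refl F hPS)
      intro x hx
      apply hc
      rw [mem_centralizerIn]
      exact ⟨hQS hx, fun y hy => (hZ y (hPS hy) x hx).symm⟩
    rw [mem_autGroup_iff E hPS]
    have hφ := (mem_autGroup_iff F hPS).mp hα
    refine ⟨hφ, fun hk => ?_⟩
    have hsup : P ⊔ Q = P := sup_eq_left.mpr hQP
    have hPN : P ≤ centralizerIn S Q := by rw [hN]; exact hPS
    have hzP : z ∈ P := hQP (Subgroup.mem_zpowers z)
    have hr : (P.subtype.comp α.toMonoidHom).range = P := by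
      ext y
      constructor
      · rintro ⟨x, rfl⟩
        exact (α x).2
      · intro hy
        exact ⟨α.symm ⟨y, hy⟩, by simp⟩
    have hfz := h P hPfn hPc hk _ hφ hr hzP
    refine ⟨hφ, hPN, fun x => hPN (α x).2, _, cast_mem F hsup hφ, fun x => rfl, fun x => ?_⟩
    obtain ⟨n, hn⟩ := Subgroup.mem_zpowers_iff.mp x.2
    have hx : (⟨(x : Ω), hQP x.2⟩ : P) = (⟨z, hzP⟩ : P) ^ n := by
      apply Subtype.ext
      rw [Subgroup.coe_zpow]
      exact hn.symm
    show ((α ⟨(x : Ω), _⟩ : P) : Ω) = x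
    have h2 : ((α ⟨(x : Ω), hQP x.2⟩ : P) : Ω) = (x : Ω) := by
      rw [hx, map_zpow, Subgroup.coe_zpow]
      have : ((α ⟨z, hzP⟩ : P) : Ω) = z := hfz
      rw [this, hn]
    exact h2
  intro A φ hφ hk hz
  have h1 : φ ∈ E.Hom A := hFE A hφ
  obtain ⟨-, -, -, ψ, -, h2, h3⟩ := h1.2 hk
  have hzQ : z ∈ Q := Subgroup.mem_zpowers z
  have e : Subgroup.inclusion (le_sup_left : A ≤ A ⊔ Q) ⟨z, hz⟩ =
      Subgroup.inclusion (le_sup_right : Q ≤ A ⊔ Q) ⟨z, hzQ⟩ := Subtype.ext rfl
  rw [← h2 ⟨z, hz⟩, e, h3 ⟨z, hzQ⟩]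

end Cfsg.Agent.Lib.Helper53.FusWC
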