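import Mathlib
import Cfsg.Agent.Lib.Helper53.FusWC1
import Cfsg.Agent.Lib.Helper87.FusionSaturated

/-!
# Weak closure in fusion systems, part 2: transport along maps of the system and
extension of automorphisms to `T C_S(T)`.
-/

set_option autoImplicit false

namespace Cfsg.Agent.Lib.Helper53.FusWC

open Cfsg Cfsg.FusionSystem Cfsg.Agent.Lib.Helper87

variable {Ω : Type*} [Group Ω] {S : Subgroup Ω}

/-- "every `F`-map from `A` onto `A` fixes `z`". -/
def FixAut (F : FusionSystem S) (z : Ω) (A : Subgroup Ω) : Prop :=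
  ∀ φ ∈ F.Hom A, φ.range = A → ∀ hz : z ∈ A, φ ⟨z, hz⟩ = z

/-- Transport of `FixAut` backwards along a map of the system fixing `z`. -/
theorem fixAut_transport [Finite S] (F : FusionSystem S) {A A' B : Subgroup Ω} (hAB : A ≤ B)
    (ψ : B →* Ω) (hψ : ψ ∈ F.Hom B)
    (hA' : ∀ y, y ∈ A' ↔ ∃ x : B, (x : Ω) ∈ A ∧ ψ x = y) (z : Ω) (hzA : z ∈ A)
    (hψz : ψ ⟨z, hAB hzA⟩ = z) (h' : FixAut F z A') : FixAut F z A := by
  intro φ hφ hr hz
  set ψA : A →* Ω := ψ.comp (Subgroup.inclusion hAB) with hψA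
  have hψAF : ψA ∈ F.Hom A := restrict_mem F hAB hψ
  have hψAr : ψA.range = A' := by
    ext y
    rw [hA']
    constructor
    · rintro ⟨x, rfl⟩
      exact ⟨Subgroup.inclusion hAB x, x.2, rfl⟩
    · rintro ⟨x, hx, rfl⟩
      exact ⟨⟨x, hx⟩, rfl⟩
  have hψAmem : ∀ x : A, ψA x ∈ A' := fun x => hψAr.le ⟨x, rfl⟩
  obtain ⟨χ, hχ, hχinv, hχr⟩ := inv_mem' F hψAF hψAr
  have hχA : ∀ y : A', χ y ∈ A := fun y => hχr.le ⟨y, rfl⟩
  have hφA : ∀ x : A, φ x ∈ A := fun x => hr.le ⟨x, rfl⟩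
  have hβ : φ.comp (χ.codRestrict A hχA) ∈ F.Hom A' := F.comp_mem hχ hφ hχA
  have hβA : ∀ y : A', (φ.comp (χ.codRestrict A hχA)) y ∈ A := fun y => hφA _
  have hα : ψA.comp ((φ.comp (χ.codRestrict A hχA)).codRestrict A hβA) ∈ F.Hom A' :=
    F.comp_mem hβ hψAF hβA
  have hA'S : A' ≤ S := (F.le_of_mem hχ).1
  have : Finite A' := finite_of_le hA'S
  have hαr : (ψA.comp ((φ.comp (χ.codRestrict A hχA)).codRestrict A hβA)).range = A' := by
    apply Subgroup.eq_of_le_of_card_ge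
    · rintro _ ⟨y, rfl⟩
      exact hψAmem _
    · exact (Cfsg.Agent.Lib.Helper89.card_range_eq F hα).ge
  have hzA' : z ∈ A' := by
    rw [hA']
    exact ⟨⟨z, hAB hzA⟩, hzA, hψz⟩
  have h1 := h' _ hα hαr hzA'
  have hχz : χ ⟨z, hzA'⟩ = z := hχinv ⟨z, hzA⟩ ⟨z, hzA'⟩ hψz
  have h2 : (ψA.comp ((φ.comp (χ.codRestrict A hχA)).codRestrict A hβA)) ⟨z, hzA'⟩ =
      ψA ⟨φ ⟨z, hzA⟩, hφA _⟩ := by
    show ψA ⟨φ ⟨χ ⟨z, hzA'⟩, _⟩, _⟩ = _
    congr 2
    exact congrArg φ (Subtype.ext hχz)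
  rw [h2] at h1
  have h3 : ψA ⟨φ ⟨z, hzA⟩, hφA _⟩ = ψA ⟨z, hzA⟩ := h1.trans hψz.symm
  have h4 := F.injective_of_mem hψAF h3
  have h5 := congrArg (fun x : A => (x : Ω)) h4
  have : (⟨z, hz⟩ : A) = ⟨z, hzA⟩ := rfl
  rw [this]
  exact h5

/-- A map of the system from `T` onto `T`, `T` receptive, extends to a map from `T C_S(T)` onto
itself. -/
theorem exists_extension_sup_centralizer [Finite S] (F : FusionSystem S) {T : Subgroup Ω}
    (hT : F.IsReceptive T) (φ : T →* Ω) (hφ : φ ∈ F.Hom T) (hr : φ.range = T) :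
    ∃ ψ ∈ F.Hom (T ⊔ centralizerIn S T), ψ.range = T ⊔ centralizerIn S T ∧
      ∀ x : T, ψ (Subgroup.inclusion le_sup_left x) = φ x := by
  have hTS : T ≤ S := hT.1
  obtain ⟨ψ, hψ, hψφ⟩ := hT.2 T φ hφ hr
  have hφS : ∀ x : T, φ x ∈ S := fun x => (F.le_of_mem hφ).2 x
  have hle : T ⊔ centralizerIn S T ≤ extender S T φ :=
    sup_le (le_extender hTS hφS) (centralizerIn_le_extender S T φ)
  set ψ' := ψ.comp (Subgroup.inclusion hle) with hψ'
  have hψ'F : ψ' ∈ F.Hom (T ⊔ centralizerIn S T) := restrict_mem F hle hψ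
  have hext : ∀ x : T, ψ' (Subgroup.inclusion le_sup_left x) = φ x := by
    intro x
    exact hψφ x x.2 (hle (le_sup_left (a := T) x.2))
  have hRS : T ⊔ centralizerIn S T ≤ S := sup_le hTS (centralizerIn_le S T)
  have : Finite ↥(T ⊔ centralizerIn S T) := finite_of_le hRS
  refine ⟨ψ', hψ'F, ?_, hext⟩
  apply Subgroup.eq_of_le_of_card_ge
  · rintro _ ⟨y, rfl⟩
    refine sup_hom_mem ψ' (fun x => ?_) (fun c => ?_) y
    · rw [hext]
      have : φ x ∈ T := hr.le ⟨x, rfl⟩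
      exact le_sup_left (a := T) this
    · apply le_sup_right (a := T)
      rw [mem_centralizerIn]
      refine ⟨hom_mem F hψ'F _, fun t ht => ?_⟩
      obtain ⟨t', ht'⟩ : ∃ t' : T, φ t' = t := by
        have : t ∈ φ.range := hr.ge ht
        exact this
      rw [← ht', ← hext t', ← map_mul, ← map_mul]
      congr 1
      apply Subtype.ext
      show (t' : Ω) * (c : Ω) = (c : Ω) * (t' : Ω)
      exact (mem_centralizerIn.mp c.2).2 t' t'.2
  · exact (Cfsg.Agent.Lib.Helper89.card_range_eq F hψ'F).ge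

/-- If `T` is fully centralized then `T C_S(T)` is centric. -/
theorem isCentric_sup_centralizerIn [Finite S] (F : FusionSystem S) {T : Subgroup Ω}
    (hT : F.IsFullyCentralized T) : F.IsCentric (T ⊔ centralizerIn S T) := by
  have hTS : T ≤ S := hT.1
  have hRS : T ⊔ centralizerIn S T ≤ S := sup_le hTS (centralizerIn_le S T)
  refine ⟨hRS, ?_⟩
  rintro R' ⟨φ, hφ, rfl⟩
  -- the image of `T`
  set φT : T →* Ω := φ.comp (Subgroup.inclusion le_sup_left) with hφT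
  have hφTF : φT ∈ F.Hom T := restrict_mem F le_sup_left hφ
  have hconj : F.IsConj T φT.range := ⟨φT, hφTF, rfl⟩
  have hcard := hT.2 _ hconj
  -- φ maps C_S(T) into C_S(φ(T))
  set φC : centralizerIn S T →* Ω := φ.comp (Subgroup.inclusion le_sup_right) with hφC
  have hφCF : φC ∈ F.Hom (centralizerIn S T) := restrict_mem F le_sup_right hφ
  have hφCmem : φC.range ≤ centralizerIn S φT.range := by
    rintro _ ⟨c, rfl⟩
    rw [mem_centralizerIn]
    refine ⟨hom_mem F hφCF c, ?_⟩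
    rintro _ ⟨t, rfl⟩
    show φ _ * φ _ = φ _ * φ _
    rw [← map_mul, ← map_mul]
    congr 1
    apply Subtype.ext
    show (t : Ω) * (c : Ω) = (c : Ω) * (t : Ω)
    exact (mem_centralizerIn.mp c.2).2 t t.2
  have : Finite ↥(centralizerIn S φT.range) := finite_of_le (centralizerIn_le S _)
  have heq : φC.range = centralizerIn S φT.range := by
    apply Subgroup.eq_of_le_of_card_ge hφCmem
    rw [Cfsg.Agent.Lib.Helper89.card_range_eq F hφCF]
    exact hcard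
  intro c hc
  have hc' : c ∈ centralizerIn S φT.range := by
    rw [mem_centralizerIn] at hc ⊢
    refine ⟨hc.1, ?_⟩
    rintro _ ⟨t, rfl⟩
    exact hc.2 _ ⟨_, rfl⟩
  rw [← heq] at hc'
  obtain ⟨c₀, rfl⟩ := hc'
  exact ⟨_, rfl⟩

end Cfsg.Agent.Lib.Helper53.FusWC
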