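import Mathlib
import Cfsg.Agent.Lib.Helper53.FusWC2

/-!
# Weak closure in fusion systems, part 3: subgroups with big normalizers
-/

set_option autoImplicit false

namespace Cfsg.Agent.Lib.Helper53.FusWC

open Cfsg Cfsg.FusionSystem Cfsg.Agent.Lib.Helper87

variable {Ω : Type*} [Group Ω] {S : Subgroup Ω}

theorem normalizerIn_le_normalizerIn_sup_centralizerIn [Finite S] {T : Subgroup Ω} (hT : T ≤ S) :
    normalizerIn S T ≤ normalizerIn S (T ⊔ centralizerIn S T) := by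
  intro s hs
  have hsS : s ∈ S := hs.1
  have hsN : s ∈ Subgroup.normalizer (T : Set Ω) := hs.2
  refine ⟨hsS, ?_⟩
  have hRS : T ⊔ centralizerIn S T ≤ S := sup_le hT (centralizerIn_le S T)
  have : Finite ↥(T ⊔ centralizerIn S T) := finite_of_le hRS
  apply Cfsg.Agent.Lib.Helper87.mem_normalizer_of_conj_mem
  have hmap : (T ⊔ centralizerIn S T).map (MulAut.conj s).toMonoidHom ≤ T ⊔ centralizerIn S T := by
    rw [Subgroup.map_sup]
    apply sup_le_sup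
    · rintro _ ⟨t, ht, rfl⟩
      exact (Subgroup.mem_normalizer_iff.mp hsN t).mp ht
    · rintro _ ⟨c, hc, rfl⟩
      have hc : c ∈ centralizerIn S T := hc
      rw [mem_centralizerIn] at hc ⊢
      refine ⟨S.mul_mem (S.mul_mem hsS hc.1) (S.inv_mem hsS), fun t ht => ?_⟩
      show t * (s * c * s⁻¹) = s * c * s⁻¹ * t
      have h1 : s⁻¹ * t * s ∈ T := (Subgroup.mem_normalizer_iff''.mp hsN t).mp ht
      have h2 := hc.2 _ h1
      calc t * (s * c * s⁻¹) = s * ((s⁻¹ * t * s) * c) * s⁻¹ := by group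
        _ = s * (c * (s⁻¹ * t * s)) * s⁻¹ := by rw [h2]
        _ = s * c * s⁻¹ * t := by group
  intro y hy
  exact hmap ⟨y, hy, rfl⟩

/-- Transport to a fully normalized conjugate. -/
theorem fixAut_of_fn_conj [Finite S] (p : ℕ) [Fact p.Prime] (hS : IsPGroup p S)
    (F : FusionSystem S) (hF : F.IsSaturated p) (z : Ω) (k : ℕ)
    (hM : ∀ (A : Subgroup Ω) (φ : A →* Ω), φ ∈ F.Hom A → k ≤ Nat.card A →
      ∀ hz : z ∈ A, φ ⟨z, hz⟩ = z)
    (U : Subgroup Ω) (hU : U ≤ S) (hzU : z ∈ U) (hk : k ≤ Nat.card (normalizerIn S U))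
    (h : ∀ U₂ : Subgroup Ω, F.IsConj U U₂ → F.IsFullyNormalized U₂ → z ∈ U₂ →
      k ≤ Nat.card (normalizerIn S U₂) → FixAut F z U₂) : FixAut F z U := by
  obtain ⟨U₂, hconj, hfn⟩ := exists_isFullyNormalized F hU
  obtain ⟨hfc, hfa⟩ := fullyNormalized_props p hS F hF U₂ hfn
  have hrec := isReceptive_of_isFullyCentralized p hS F hF U₂ hfc
  obtain ⟨ψ, hψ, -, hmap, -⟩ := exists_normalizer_hom p hS F U₂ U hfa hrec hconj
  have hUN : U ≤ normalizerIn S U := le_normalizerIn hU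
  have hψz := hM _ ψ hψ hk (hUN hzU)
  have hA' : ∀ y, y ∈ U₂ ↔ ∃ x : normalizerIn S U, (x : Ω) ∈ U ∧ ψ x = y := by
    intro y
    rw [← hmap, Subgroup.mem_map]
    constructor
    · rintro ⟨x, hx, rfl⟩
      exact ⟨x, hx, rfl⟩
    · rintro ⟨x, hx, rfl⟩
      exact ⟨x, hx, rfl⟩
  have hzU₂ : z ∈ U₂ := (hA' z).mpr ⟨⟨z, hUN hzU⟩, hzU, hψz⟩
  have hcard := hfn.2 U (isConj_symm F hconj)
  exact fixAut_transport F hUN ψ hψ hA' z hzU hψz (h U₂ hconj hfn hzU₂ (hk.trans hcard))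

theorem fixAut_of_big_normalizer [Finite S] (p : ℕ) [Fact p.Prime] (hS : IsPGroup p S)
    (F : FusionSystem S) (hF : F.IsSaturated p) (z : Ω) (k : ℕ)
    (hC : ∀ P : Subgroup Ω, F.IsFullyNormalized P → F.IsCentric P →
      k ≤ Nat.card (normalizerIn S P) → FixAut F z P)
    (hM : ∀ (A : Subgroup Ω) (φ : A →* Ω), φ ∈ F.Hom A → k ≤ Nat.card A →
      ∀ hz : z ∈ A, φ ⟨z, hz⟩ = z)
    (U : Subgroup Ω) (hU : U ≤ S) (hzU : z ∈ U) (hk : k ≤ Nat.card (normalizerIn S U)) :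
    FixAut F z U := by
  apply fixAut_of_fn_conj p hS F hF z k hM U hU hzU hk
  intro U₂ _ hfn hzU₂ hk₂
  obtain ⟨hfc, -⟩ := fullyNormalized_props p hS F hF U₂ hfn
  have hrec := isReceptive_of_isFullyCentralized p hS F hF U₂ hfc
  have hU₂S : U₂ ≤ S := hfn.1
  intro φ hφ hr hz
  obtain ⟨ψ, hψ, hψr, hext⟩ := exists_extension_sup_centralizer F hrec φ hφ hr
  have hRS : U₂ ⊔ centralizerIn S U₂ ≤ S := sup_le hU₂S (centralizerIn_le S U₂)
  have hRc : F.IsCentric (U₂ ⊔ centralizerIn S U₂) := isCentric_sup_centralizerIn F hfc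
  have hzR : z ∈ U₂ ⊔ centralizerIn S U₂ := le_sup_left (a := U₂) hz
  have : Finite ↥(normalizerIn S (U₂ ⊔ centralizerIn S U₂)) :=
    finite_of_le (normalizerIn_le S _)
  have hkR : k ≤ Nat.card (normalizerIn S (U₂ ⊔ centralizerIn S U₂)) :=
    hk₂.trans (Subgroup.card_le_of_le (normalizerIn_le_normalizerIn_sup_centralizerIn hU₂S))
  have hfixR : FixAut F z (U₂ ⊔ centralizerIn S U₂) := by
    apply fixAut_of_fn_conj p hS F hF z k hM _ hRS hzR hkR
    intro R₃ hconj₃ hfn₃ _ hk₃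
    apply hC R₃ hfn₃ _ hk₃
    refine ⟨hfn₃.1, fun Q hQ => ?_⟩
    exact hRc.2 Q (isConj_trans F hconj₃ hQ)
  have h1 := hfixR ψ hψ hψr hzR
  rw [← hext ⟨z, hz⟩]
  exact h1

end Cfsg.Agent.Lib.Helper53.FusWC
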