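import Mathlib
import Cfsg.Agent.Lib.Helper53.FusWC3
import Cfsg.Agent.Lib.Helper87.FusionRealized

/-!
# Weak closure in fusion systems, part 4: passing between a normalizer system and a group
realizing it.
-/

set_option autoImplicit false

namespace Cfsg.Agent.Lib.Helper53.FusWC

open Cfsg Cfsg.FusionSystem Cfsg.Agent.Lib.Helper87

variable {Ω : Type*} [Group Ω] {S : Subgroup Ω}

/-- An element of the realizing group normalizing the image of `U` centralizes the image of `z`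
as soon as every `F`-automorphism of `U` fixes `z`. -/
theorem model_conj_fix [Finite S] {T : Subgroup Ω} (F : FusionSystem S)
    (N : FusionSystem (normalizerIn S T)) (hN : F.IsNormalizerSystem T N)
    {L : Type*} [Group L] (ι : normalizerIn S T →* L) (hι : N.IsRealizedBy ι)
    (z : Ω) (U : Subgroup Ω) (hU : U ≤ normalizerIn S T) (hzU : z ∈ U) (hfix : FixAut F z U)
    (g : L) (hg : g ∈ Subgroup.normalizer ((push ι U : Subgroup L) : Set L)) :
    g * ι ⟨z, hU hzU⟩ * g⁻¹ = ι ⟨z, hU hzU⟩ := by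
  have hpush : ∀ x : U, g * ι ⟨x, hU x.2⟩ * g⁻¹ ∈ push ι U := fun x =>
    (Subgroup.mem_normalizer_iff.mp hg _).mp (coe_mem_push hU x)
  have h : ∀ x : U, g * ι ⟨x, hU x.2⟩ * g⁻¹ ∈ ι.range := fun x => push_le_range ι U (hpush x)
  have hφN : pullConj ι hι.1 U hU g h ∈ N.Hom U := pullConj_mem_hom N hι U hU g h
  have hφF : pullConj ι hι.1 U hU g h ∈ F.Hom U := by
    rw [hN U] at hφN
    exact hφN.1
  have hUS : U ≤ S := hU.trans (normalizerIn_le S T)
  have : Finite U := finite_of_le hUS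
  have hr : (pullConj ι hι.1 U hU g h).range = U := by
    apply Subgroup.eq_of_le_of_card_ge
    · rintro _ ⟨x, rfl⟩
      have h1 := ι_pullConj ι hι.1 U hU g h x
      have h2 := hpush x
      rw [← h1] at h2
      obtain ⟨s, hs, hs'⟩ := mem_push.mp h2
      have h3 := hι.1 hs'
      have h4 := congrArg (fun y : normalizerIn S T => (y : Ω)) h3
      simp only at h4
      rw [← h4]
      exact hs
    · exact (Cfsg.Agent.Lib.Helper89.card_range_eq F hφF).ge
  have h1 := hfix _ hφF hr hzU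
  have h2 := ι_pullConj ι hι.1 U hU g h ⟨z, hzU⟩
  rw [← h2]
  congr 1
  exact Subtype.ext h1

/-- If the image of `z` is weakly closed in the image of `N_S(T)` with respect to a group realizing
`N_F(T)`, then every `F`-automorphism of `T` fixes `z`. -/
theorem fixAut_of_model {T : Subgroup Ω} (F : FusionSystem S) (hT : T ≤ S)
    (N : FusionSystem (normalizerIn S T)) (hN : F.IsNormalizerSystem T N)
    {L : Type*} [Group L] (ι : normalizerIn S T →* L) (hι : N.IsRealizedBy ι)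
    (z : Ω) (hzN : z ∈ normalizerIn S T)
    (hwc : ∀ g : L, g * ι ⟨z, hzN⟩ * g⁻¹ ∈ ι.range → g * ι ⟨z, hzN⟩ * g⁻¹ = ι ⟨z, hzN⟩) :
    FixAut F z T := by
  intro φ hφ hr hz
  have hTN : T ≤ normalizerIn S T := le_normalizerIn hT
  have hφT : ∀ x : T, φ x ∈ T := fun x => hr.le ⟨x, rfl⟩
  have hsup : T ⊔ T = T := sup_idem T
  have hφN : φ ∈ N.Hom T := by
    rw [hN T]
    refine ⟨hφ, hTN, fun x => hTN (hφT x), _, cast_mem F hsup hφ, fun x => rfl, ?_⟩
    ext y
    constructor
    · rintro ⟨q, -, rfl⟩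
      exact hφT _
    · intro hy
      obtain ⟨x, rfl⟩ := hr.ge hy
      exact ⟨Subgroup.inclusion le_sup_left x, x.2, rfl⟩
  obtain ⟨g, hg⟩ := exists_conj_of_mem_hom N hι hφN
  have h1 := hg ⟨z, hz⟩
  have h2 : g * ι ⟨z, hzN⟩ * g⁻¹ ∈ ι.range := ⟨_, h1⟩
  have h3 := hwc g h2
  have h4 : ι ⟨φ ⟨z, hz⟩, hom_mem N hφN ⟨z, hz⟩⟩ = ι ⟨z, hzN⟩ := h1.trans h3
  have h5 := hι.1 h4
  exact congrArg (fun x : normalizerIn S T => (x : Ω)) h5

end Cfsg.Agent.Lib.Helper53.FusWC
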