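import Mathlib
import Cfsg.Agent.Lib.Helper53.FusWC4
import Cfsg.Agent.S5090
import Cfsg.Agent.S5098
import Cfsg.Agent.Lib.Helper53.FusWC0

/-!
# Weak closure in fusion systems, part 5: the local-to-global principle

`fixMaps_main`: let `z ∈ Z(S)` be fixed by all `F`-automorphisms of `W(S)`, and suppose that for
every fully normalized centric `T` and every model `L` of `N_F(T)`, "`N_L(W(N_S(T)))` centralizes `z`"
implies "`z` is weakly closed in `N_S(T)` with respect to `L`". Then every map of `F` fixes `z`.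
-/

set_option autoImplicit false

namespace Cfsg.Agent.Lib.Helper53.FusWC

open Cfsg Cfsg.FusionSystem Cfsg.Agent.Lib.Helper87

universe u

variable {Ω : Type u} [Group Ω] {S : Subgroup Ω}

/-- The local hypothesis on models. -/
def ModelHyp (p : ℕ) (F : FusionSystem S) (Wf : Subgroup Ω → Subgroup Ω) (z : Ω) : Prop :=
  ∀ T : Subgroup Ω, F.IsFullyNormalized T → F.IsCentric T →
    ∀ N : FusionSystem (normalizerIn S T), F.IsNormalizerSystem T N →
    ∀ (L : Type u) [Group L] (ι : normalizerIn S T →* L), N.IsModel p L ι →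
    ∀ hzN : z ∈ normalizerIn S T,
      (∀ g : L, g ∈ Subgroup.normalizer ((push ι (Wf (normalizerIn S T)) : Subgroup L) : Set L) →
        g * ι ⟨z, hzN⟩ * g⁻¹ = ι ⟨z, hzN⟩) →
      ∀ g : L, g * ι ⟨z, hzN⟩ * g⁻¹ ∈ ι.range → g * ι ⟨z, hzN⟩ * g⁻¹ = ι ⟨z, hzN⟩

theorem fixMaps_main [Finite S] (p : ℕ) [Fact p.Prime] (hS : IsPGroup p S)
    (F : FusionSystem S) (hF : F.IsSaturated p) (Wf : Subgroup Ω → Subgroup Ω)
    (hW1 : ∀ P : Subgroup Ω, P ≤ S → Wf P ≤ P)
    (hW3 : ∀ P : Subgroup Ω, P ≤ S → ∀ s ∈ S, s ∈ Subgroup.normalizer (P : Set Ω) →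
      s ∈ Subgroup.normalizer (Wf P : Set Ω))
    (z : Ω) (hzS : z ∈ S) (hzZ : z ∈ Subgroup.centralizer (S : Set Ω))
    (hW2 : ∀ P : Subgroup Ω, P ≤ S → z ∈ P → z ∈ Wf P)
    (hWS : FixAut F z (Wf S))
    (hGT : ModelHyp p F Wf z) :
    ∀ (A : Subgroup Ω) (φ : A →* Ω), φ ∈ F.Hom A → ∀ hz : z ∈ A, φ ⟨z, hz⟩ = z := by
  classical
  have hcardN : ∀ P : Subgroup Ω, P ≤ S → Nat.card P ≤ Nat.card (normalizerIn S P) := by
    intro P hP
    have : Finite ↥(normalizerIn S P) := finite_of_le (normalizerIn_le S P)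
    exact Subgroup.card_le_of_le (le_normalizerIn hP)
  have hC : ∀ m k : ℕ, Nat.card S + 1 ≤ k + m →
      ∀ P : Subgroup Ω, F.IsFullyNormalized P → F.IsCentric P →
        k ≤ Nat.card (normalizerIn S P) → FixAut F z P := by
    intro m
    induction m with
    | zero =>
      intro k hk P _ _ hkP
      exfalso
      have h1 : Nat.card (normalizerIn S P) ≤ Nat.card S :=
        Subgroup.card_le_of_le (normalizerIn_le S P)
      omega
    | succ m ih =>
      intro k hk P hfn hc hkP
      have hCk := ih (k + 1) (by omega)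
      by_cases hbig : k + 1 ≤ Nat.card (normalizerIn S P)
      · exact hCk P hfn hc hbig
      have hMk := fixMaps_of_fixAut p hS F hF z hzS hzZ (k + 1)
        (fun P' hfn' hc' hk' => hCk P' hfn' hc' (hk'.trans (hcardN P' hfn'.1)))
      have hPS : P ≤ S := hfn.1
      have hzP : z ∈ P := by
        apply hc.2 P (isConj_refl F hPS)
        rw [mem_centralizerIn]
        exact ⟨hzS, fun y hy => ((Subgroup.mem_centralizer_iff.mp hzZ) y (hPS hy))⟩
      have hzN : z ∈ normalizerIn S P := le_normalizerIn hPS hzP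
      have hNS : normalizerIn S P ≤ S := normalizerIn_le S P
      have : Finite ↥(normalizerIn S P) := finite_of_le hNS
      have hNp : IsPGroup p ↥(normalizerIn S P) := hS.to_le hNS
      -- the normalizer system and its model
      set N := normalizerSystem F P hPS with hNdef
      have hN : F.IsNormalizerSystem P N := normalizerSystem_isNormalizerSystem F P hPS
      have hNsat : N.IsSaturated p := Cfsg.Agent.S5098.result p hS F hF P hfn N hN
      have hNn : N.IsNormal P := nsys_isNormal F P hPS N hN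
      have hNc : N.IsCentric P := nsys_isCentric F P hc N hN
      obtain ⟨L, hL, ι, hmodel⟩ := Cfsg.Agent.S5090.result p hNp N ⟨hNsat, P, hNn, hNc⟩
      have hι : N.IsRealizedBy ι := hmodel.2.1
      apply fixAut_of_model F hPS N hN ι hι z hzN
      apply hGT P hfn hc N hN L ι hmodel hzN
      intro g hg
      have hU : Wf (normalizerIn S P) ≤ normalizerIn S P := hW1 _ hNS
      have hzU : z ∈ Wf (normalizerIn S P) := hW2 _ hNS hzN
      have hUS : Wf (normalizerIn S P) ≤ S := hU.trans hNS
      refine model_conj_fix F N hN ι hι z _ hU hzU ?_ g hg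
      by_cases htop : normalizerIn S P = S
      · rw [htop]; exact hWS
      · -- the normalizer of `W(N_S(P))` is strictly bigger than `N_S(P)`
        obtain ⟨s, hs, hsn⟩ := Cfsg.Agent.Lib.Helper89.exists_mem_normalizerIn_not_mem hS hNS htop
        have hle : normalizerIn S (normalizerIn S P) ≤ normalizerIn S (Wf (normalizerIn S P)) := by
          intro t ht
          exact ⟨ht.1, hW3 _ hNS t ht.1 ht.2⟩
        have : Finite ↥(normalizerIn S (Wf (normalizerIn S P))) :=
          finite_of_le (normalizerIn_le S _)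
        have hlt : Nat.card (normalizerIn S P) <
            Nat.card (normalizerIn S (Wf (normalizerIn S P))) :=
          Cfsg.Agent.Lib.Helper89.card_lt_of_mem_not_mem
            ((le_normalizerIn hNS).trans hle) (hle hs) hsn
        have hk' : k + 1 ≤ Nat.card (normalizerIn S (Wf (normalizerIn S P))) := by omega
        exact fixAut_of_big_normalizer p hS F hF z (k + 1) hCk hMk _ hUS hzU hk'
  have hC0 := hC (Nat.card S + 1) 0 (by omega)
  have hM0 := fixMaps_of_fixAut p hS F hF z hzS hzZ 0
    (fun P hfn hc _ => hC0 P hfn hc (Nat.zero_le _))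
  intro A φ hφ hz
  exact hM0 A φ hφ (Nat.zero_le _) hz

end Cfsg.Agent.Lib.Helper53.FusWC
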