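import Mathlib
import Cfsg.Agent.Lib.Helper53.FusWC5
import Cfsg.Agent.S5144

/-!
# Weak closure in fusion systems, part 6: type-level functors, centres
-/

set_option autoImplicit false

namespace Cfsg.Agent.Lib.Helper53.FusWC

open Cfsg Cfsg.FusionSystem Cfsg.Agent.Lib.Helper87

universe u

variable {Ω : Type u} [Group Ω] {S : Subgroup Ω}

/-- The subgroup-level functor induced by a type-level functor. -/
def subFunctor (W : ∀ (Q : Type u) [Group Q], Subgroup Q) (P : Subgroup Ω) : Subgroup Ω :=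
  (W ↥P).map P.subtype

theorem subFunctor_le (W : ∀ (Q : Type u) [Group Q], Subgroup Q) (P : Subgroup Ω) :
    subFunctor W P ≤ P := by
  rintro _ ⟨w, -, rfl⟩
  exact w.2

theorem mem_subFunctor {W : ∀ (Q : Type u) [Group Q], Subgroup Q} {P : Subgroup Ω} {y : Ω} :
    y ∈ subFunctor W P ↔ ∃ h : y ∈ P, (⟨y, h⟩ : P) ∈ W ↥P := by
  constructor
  · rintro ⟨w, hw, rfl⟩
    exact ⟨w.2, hw⟩
  · rintro ⟨h, hw⟩
    exact ⟨⟨y, h⟩, hw, rfl⟩

theorem subFunctor_normalizer [Finite S] {p : ℕ} (hS : IsPGroup p S)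
    (W : ∀ (Q : Type u) [Group Q], Subgroup Q)
    (hW2 : ∀ (Q R : Type u) [Group Q] [Group R] [Finite Q], IsPGroup p Q → ∀ φ : Q ≃* R,
      (W Q).map φ.toMonoidHom = W R)
    (P : Subgroup Ω) (hP : P ≤ S) (s : Ω) (hs : s ∈ Subgroup.normalizer (P : Set Ω)) :
    s ∈ Subgroup.normalizer (subFunctor W P : Set Ω) := by
  have : Finite P := finite_of_le hP
  have : Finite ↥(subFunctor W P) := finite_of_le ((subFunctor_le W P).trans hP)
  apply Cfsg.Agent.Lib.Helper87.mem_normalizer_of_conj_mem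
  intro y hy
  obtain ⟨hyP, hw⟩ := mem_subFunctor.mp hy
  have h1 := hW2 ↥P ↥P (hS.to_le hP) (conjAut P s hs : P ≃* P)
  have h2 : (conjAut P s hs) ⟨y, hyP⟩ ∈ W ↥P := by
    rw [← h1]
    exact ⟨⟨y, hyP⟩, hw, rfl⟩
  have h3 : ((conjAut P s hs ⟨y, hyP⟩ : P) : Ω) = s * y * s⁻¹ := conjAut_apply P s hs ⟨y, hyP⟩
  rw [← h3]
  exact mem_subFunctor.mpr ⟨(conjAut P s hs ⟨y, hyP⟩).2, h2⟩

theorem mem_subFunctor_of_central [Finite S] {p : ℕ} (hS : IsPGroup p S)
    (W : ∀ (Q : Type u) [Group Q], Subgroup Q)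
    (hWZ : ∀ (Q : Type u) [Group Q] [Finite Q], IsPGroup p Q → Subgroup.center Q ≤ W Q)
    (P : Subgroup Ω) (hP : P ≤ S) (z : Ω) (hzP : z ∈ P) (hzc : ∀ y ∈ P, y * z = z * y) :
    z ∈ subFunctor W P := by
  have : Finite P := finite_of_le hP
  refine mem_subFunctor.mpr ⟨hzP, hWZ ↥P (hS.to_le hP) ?_⟩
  rw [Subgroup.mem_center_iff]
  intro g
  exact Subtype.ext (hzc g g.2)

/-- The image of `W(N)` in a group `L` under an injective `ι : N →* L` is `W` of the image. -/
theorem push_subFunctor {p : ℕ} (W : ∀ (Q : Type u) [Group Q], Subgroup Q)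
    (hW2 : ∀ (Q R : Type u) [Group Q] [Group R] [Finite Q], IsPGroup p Q → ∀ φ : Q ≃* R,
      (W Q).map φ.toMonoidHom = W R)
    {N : Subgroup Ω} [Finite N] (hN : IsPGroup p N) {L : Type u} [Group L] (ι : N →* L)
    (hinj : Function.Injective ι) (P : Subgroup L) (hP : P = ι.range) :
    push ι (subFunctor W N) = (W ↥P).map P.subtype := by
  subst hP
  have h1 : (subFunctor W N).subgroupOf N = W ↥N := by
    unfold subFunctor Subgroup.subgroupOf
    exact Subgroup.comap_map_eq_self_of_injective N.subtype_injective _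
  have h2 := hW2 ↥N ↥ι.range hN (MonoidHom.ofInjective hinj)
  unfold push
  rw [h1, ← h2, Subgroup.map_map]
  congr 1

/-- A subgroup all of whose elements are fixed by every map of the system lies in the centre. -/
theorem le_center_of_fixMaps [Finite S] (p : ℕ) [Fact p.Prime] (hS : IsPGroup p S)
    (F : FusionSystem S) (hF : F.IsSaturated p) (Y : Subgroup Ω) (hY : Y ≤ S)
    (h : ∀ x ∈ Y, ∀ (A : Subgroup Ω) (φ : A →* Ω), φ ∈ F.Hom A → ∀ hz : x ∈ A, φ ⟨x, hz⟩ = x) :
    Y ≤ F.center := by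
  apply le_sSup
  refine (Cfsg.Agent.S5084.result p hS F hF Y).mpr ⟨hY, fun x hx y hxy => ?_⟩
  obtain ⟨φ, hφ, hφx⟩ := hxy
  rw [← hφx]
  exact h x hx _ φ hφ _

/-- The centre of `F` lies in the centre of every saturated normalizer system. -/
theorem center_le_center_nsys [Finite S] (p : ℕ) [Fact p.Prime] (hS : IsPGroup p S)
    (F : FusionSystem S) (hF : F.IsSaturated p) (U : Subgroup Ω) (hU : U ≤ S)
    (N : FusionSystem (normalizerIn S U)) (hN : F.IsNormalizerSystem U N)
    (hNsat : N.IsSaturated p) : F.center ≤ N.center := by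
  have hNS : normalizerIn S U ≤ S := normalizerIn_le S U
  have : Finite ↥(normalizerIn S U) := finite_of_le hNS
  have hcen : F.IsCentral F.center := Cfsg.Agent.S5144.result F
  have h1 := (Cfsg.Agent.S5084.result p hS F hF F.center).mp hcen
  apply le_sSup
  refine (Cfsg.Agent.S5084.result p (hS.to_le hNS) N hNsat F.center).mpr ⟨?_, fun x hx y hxy => ?_⟩
  · intro x hx
    have hxS : x ∈ S := h1.1 hx
    refine ⟨hxS, ?_⟩
    have : Finite U := finite_of_le hU
    apply Cfsg.Agent.Lib.Helper87.mem_normalizer_of_conj_mem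
    intro y hy
    have h2 := h1.2 x hx
    -- conjugation by `y⁻¹`... simpler: `x` commutes with `y`
    have hc : y * x * y⁻¹ = x := by
      have := h1.2 x hx (y * x * y⁻¹) ⟨conjHom (Subgroup.zpowers x) y,
        F.conj_mem (by rw [Subgroup.zpowers_le]; exact hxS) (hU hy), rfl⟩
      exact this
    have hxy : x * y * x⁻¹ = y := by
      have : y * x = x * y := by
        calc y * x = y * x * y⁻¹ * y := by group
          _ = x * y := by rw [hc]
      calc x * y * x⁻¹ = (y * x) * x⁻¹ := by rw [this]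
        _ = y := by group
    rw [hxy]
    exact hy
  · obtain ⟨φ, hφ, hφx⟩ := hxy
    rw [hN] at hφ
    exact h1.2 x hx y ⟨φ, hφ.1, hφx⟩

/-- A map of the system from `U` onto `U` is a map of the normalizer system of `U`. -/
theorem mem_nsys_hom_self (F : FusionSystem S) {U : Subgroup Ω} (hU : U ≤ S)
    (N : FusionSystem (normalizerIn S U)) (hN : F.IsNormalizerSystem U N)
    (φ : U →* Ω) (hφ : φ ∈ F.Hom U) (hr : φ.range = U) : φ ∈ N.Hom U := by
  have hUN : U ≤ normalizerIn S U := le_normalizerIn hU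
  have hφU : ∀ x : U, φ x ∈ U := fun x => hr.le ⟨x, rfl⟩
  have hsup : U ⊔ U = U := sup_idem U
  rw [hN U]
  refine ⟨hφ, hUN, fun x => hUN (hφU x), _, cast_mem F hsup hφ, fun x => rfl, ?_⟩
  ext y
  constructor
  · rintro ⟨q, -, rfl⟩
    exact hφU _
  · intro hy
    obtain ⟨x, rfl⟩ := hr.ge hy
    exact ⟨Subgroup.inclusion le_sup_left x, x.2, rfl⟩

/-- Elements of the centre of the normalizer system of `U` lying in `U` are fixed by the
`F`-automorphisms of `U`. -/
theorem fixAut_of_mem_center_nsys [Finite S] (F : FusionSystem S) {U : Subgroup Ω} (hU : U ≤ S)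
    (N : FusionSystem (normalizerIn S U)) (hN : F.IsNormalizerSystem U N)
    (x : Ω) (hx : x ∈ N.center) : FixAut F x U := by
  have : Finite ↥(normalizerIn S U) := finite_of_le (normalizerIn_le S U)
  intro φ hφ hr hz
  have hφN := mem_nsys_hom_self F hU N hN φ hφ hr
  have hcen : N.IsCentral N.center := Cfsg.Agent.S5144.result N
  obtain ⟨ψ, -, hψ1, hψ2⟩ := hcen.2 U φ hφN
  have e : Subgroup.inclusion (le_sup_left : U ≤ U ⊔ N.center) ⟨x, hz⟩ =
      Subgroup.inclusion (le_sup_right : N.center ≤ U ⊔ N.center) ⟨x, hx⟩ := Subtype.ext rfl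
  rw [← hψ1 ⟨x, hz⟩, e, hψ2 ⟨x, hx⟩]

end Cfsg.Agent.Lib.Helper53.FusWC
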