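import Mathlib
import Cfsg.Agent.Lib.Helper53.FusWC6
import Cfsg.Agent.Lib.Helper87.Model

/-!
# Weak closure in fusion systems, part 7: type-level functors with a group-theoretic local hypothesis
-/

set_option autoImplicit false

namespace Cfsg.Agent.Lib.Helper53.FusWC

open Cfsg Cfsg.FusionSystem Cfsg.Agent.Lib.Helper87

universe u

variable {Ω : Type u} [Group Ω] {S : Subgroup Ω}

/-- `N_S(W(S)) = S`. -/
theorem normalizerIn_subFunctor_self [Finite S] {p : ℕ} (hS : IsPGroup p S)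
    (W : ∀ (Q : Type u) [Group Q], Subgroup Q)
    (hW2 : ∀ (Q R : Type u) [Group Q] [Group R] [Finite Q], IsPGroup p Q → ∀ φ : Q ≃* R,
      (W Q).map φ.toMonoidHom = W R) :
    normalizerIn S (subFunctor W S) = S := by
  apply le_antisymm (normalizerIn_le S _)
  intro s hs
  exact ⟨hs, subFunctor_normalizer hS W hW2 S le_rfl s (Subgroup.le_normalizer hs)⟩

theorem isFullyNormalized_subFunctor_self [Finite S] {p : ℕ} (hS : IsPGroup p S)
    (F : FusionSystem S)
    (W : ∀ (Q : Type u) [Group Q], Subgroup Q)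
    (hW2 : ∀ (Q R : Type u) [Group Q] [Group R] [Finite Q], IsPGroup p Q → ∀ φ : Q ≃* R,
      (W Q).map φ.toMonoidHom = W R) :
    F.IsFullyNormalized (subFunctor W S) := by
  refine ⟨subFunctor_le W S, fun Q _ => ?_⟩
  rw [normalizerIn_subFunctor_self hS W hW2]
  exact Subgroup.card_le_of_le (normalizerIn_le S Q)

/-- Elements of the centre of the normalizer system of `W(S)` are central in `S`. -/
theorem center_nsys_le_centralizer [Finite S] {p : ℕ} (hS : IsPGroup p S)
    (W : ∀ (Q : Type u) [Group Q], Subgroup Q)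
    (hW2 : ∀ (Q R : Type u) [Group Q] [Group R] [Finite Q], IsPGroup p Q → ∀ φ : Q ≃* R,
      (W Q).map φ.toMonoidHom = W R)
    (N : FusionSystem (normalizerIn S (subFunctor W S)))
    (x : Ω) (hx : x ∈ N.center) :
    x ∈ S ∧ x ∈ Subgroup.centralizer (S : Set Ω) := by
  have hnS := normalizerIn_subFunctor_self hS W hW2
  have : Finite ↥(normalizerIn S (subFunctor W S)) := finite_of_le (normalizerIn_le S _)
  have hcen : N.IsCentral N.center := Cfsg.Agent.S5144.result N
  have hxN : x ∈ normalizerIn S (subFunctor W S) := hcen.1 hx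
  have hxS : x ∈ S := (normalizerIn_le S _) hxN
  refine ⟨hxS, ?_⟩
  rw [Subgroup.mem_centralizer_iff]
  intro s hs
  have hsN : s ∈ normalizerIn S (subFunctor W S) := by rw [hnS]; exact hs
  -- conjugation by `s` on `⟨x⟩` is a map of `N`, and fixes `x`
  have hzp : Subgroup.zpowers x ≤ normalizerIn S (subFunctor W S) := by
    rw [Subgroup.zpowers_le]; exact hxN
  have hφ : conjHom (Subgroup.zpowers x) s ∈ N.Hom (Subgroup.zpowers x) := N.conj_mem hzp hsN
  obtain ⟨ψ, -, hψ1, hψ2⟩ := hcen.2 _ _ hφ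
  have e : Subgroup.inclusion (le_sup_left : Subgroup.zpowers x ≤ Subgroup.zpowers x ⊔ N.center)
      ⟨x, Subgroup.mem_zpowers x⟩ =
      Subgroup.inclusion (le_sup_right : N.center ≤ Subgroup.zpowers x ⊔ N.center) ⟨x, hx⟩ :=
    Subtype.ext rfl
  have h1 : conjHom (Subgroup.zpowers x) s ⟨x, Subgroup.mem_zpowers x⟩ = x := by
    rw [← hψ1 ⟨x, Subgroup.mem_zpowers x⟩, e, hψ2 ⟨x, hx⟩]
  have h2 : s * x * s⁻¹ = x := h1
  calc s * x = s * x * s⁻¹ * s := by group
    _ = x * s := by rw [h2]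

/-- The model hypothesis from the group-theoretic local condition `hC` of S5196. -/
theorem modelHyp_of_hC [Finite S] {p : ℕ} [Fact p.Prime] (hS : IsPGroup p S)
    (F : FusionSystem S)
    (W : ∀ (Q : Type u) [Group Q], Subgroup Q)
    (hW2 : ∀ (Q R : Type u) [Group Q] [Group R] [Finite Q], IsPGroup p Q → ∀ φ : Q ≃* R,
      (W Q).map φ.toMonoidHom = W R)
    (hWZ : ∀ (Q : Type u) [Group Q] [Finite Q], IsPGroup p Q → Subgroup.center Q ≤ W Q)
    (hC : ∀ (G : Type u) [Group G] [Finite G] (P : Sylow p G),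
      Cfsg.pCore p G ⊓ Subgroup.center G = Cfsg.pCore p G ⊓
        (Subgroup.center ↥(Subgroup.normalizer
          (((W ↥(P : Subgroup G)).map (P : Subgroup G).subtype : Subgroup G) : Set G))).map
          (Subgroup.normalizer
            (((W ↥(P : Subgroup G)).map (P : Subgroup G).subtype : Subgroup G) : Set G)).subtype)
    (x : Ω) (hxS : x ∈ S) (hxZ : x ∈ Subgroup.centralizer (S : Set Ω)) :
    ModelHyp p F (subFunctor W) x := by
  intro T hfn hc N hN L _ ι hmodel hzN hpre g _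
  have hTS : T ≤ S := hfn.1
  have hNS : normalizerIn S T ≤ S := normalizerIn_le S T
  have : Finite ↥(normalizerIn S T) := finite_of_le hNS
  have hNp : IsPGroup p ↥(normalizerIn S T) := hS.to_le hNS
  have : Finite L := hmodel.1
  obtain ⟨P, hP⟩ := hmodel.2.2.1
  have hinj : Function.Injective ι := hmodel.2.1.1
  have hcomm : ∀ y ∈ S, y * x = x * y := fun y hy =>
    (Subgroup.mem_centralizer_iff.mp hxZ y hy)
  -- `x ∈ T`
  have hxT : x ∈ T := by
    apply hc.2 T (isConj_refl F hTS)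
    rw [mem_centralizerIn]
    exact ⟨hxS, fun y hy => hcomm y (hTS hy)⟩
  -- `ι x ∈ O_p(L)`
  have h1 : ι ⟨x, hzN⟩ ∈ Cfsg.pCore p L := by
    apply map_le_pCore_of_isNormal p hNp N ι hmodel T (nsys_isNormal F T hTS N hN)
    exact ⟨⟨x, hzN⟩, Subgroup.mem_subgroupOf.mpr hxT, rfl⟩
  -- `ι x ∈ W(P)`
  have hpush := push_subFunctor W hW2 hNp ι hinj (P : Subgroup L) hP
  have h2 : ι ⟨x, hzN⟩ ∈ ((W ↥(P : Subgroup L)).map (P : Subgroup L).subtype : Subgroup L) := by
    rw [← hpush]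
    refine mem_push.mpr ⟨⟨x, hzN⟩, ?_, rfl⟩
    exact mem_subFunctor_of_central hS W hWZ _ hNS x hzN (fun y hy => hcomm y (hNS hy))
  rw [hpush] at hpre
  have h3 : ι ⟨x, hzN⟩ ∈ (Subgroup.center ↥(Subgroup.normalizer
      (((W ↥(P : Subgroup L)).map (P : Subgroup L).subtype : Subgroup L) : Set L))).map
      (Subgroup.normalizer
        (((W ↥(P : Subgroup L)).map (P : Subgroup L).subtype : Subgroup L) : Set L)).subtype := by
    refine ⟨⟨ι ⟨x, hzN⟩, Subgroup.le_normalizer h2⟩, ?_, rfl⟩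
    rw [SetLike.mem_coe, Subgroup.mem_center_iff]
    intro k
    apply Subtype.ext
    have := hpre k k.2
    show (k : L) * ι ⟨x, hzN⟩ = ι ⟨x, hzN⟩ * k
    calc (k : L) * ι ⟨x, hzN⟩ = (k : L) * ι ⟨x, hzN⟩ * (k : L)⁻¹ * k := by group
      _ = ι ⟨x, hzN⟩ * k := by rw [this]
  have h4 : ι ⟨x, hzN⟩ ∈ Cfsg.pCore p L ⊓ Subgroup.center L := by
    rw [hC L P]
    exact ⟨h1, h3⟩
  have h5 := Subgroup.mem_center_iff.mp h4.2 g
  calc g * ι ⟨x, hzN⟩ * g⁻¹ = ι ⟨x, hzN⟩ * g * g⁻¹ := by rw [h5]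
    _ = ι ⟨x, hzN⟩ := by group

end Cfsg.Agent.Lib.Helper53.FusWC
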