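import Mathlib
import Cfsg.Prelude.Def_LocalEven
import Cfsg.Agent.Lib.Helper60.TransvectionPairFinal

/-!
# Two conjugate transvections generating a non-`2`-group force a section `S₄`

Proved by helper60 (`Cfsg.Agent.Lib.Helper60.TransvectionPair`) on top of helper18's quotient form
of the `S₄` configuration lemma.
-/

set_option autoImplicit false

namespace Cfsg.Agent.Lib.Helper53.WC

open Cfsg

universe u

theorem involves_perm4_of_transvection_pair {G : Type u} [Group G] [Finite G]
    (V : Subgroup G) [V.Normal] (hVc : ∀ a ∈ V, ∀ b ∈ V, a * b = b * a) (hV2 : IsPGroup 2 V)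
    (a : G) (ha : ∃ j : ℕ, a ^ 2 ^ j = 1)
    (ha2 : a ^ 2 ∈ Subgroup.centralizer (V : Set G))
    (hai : (V ⊓ Subgroup.centralizer {a}).relIndex V = 2)
    (g : G)
    (hnot : ¬ IsPGroup 2 (Subgroup.closure
      ({(QuotientGroup.mk a : G ⧸ Subgroup.centralizer (V : Set G)),
        (QuotientGroup.mk (g * a * g⁻¹) : G ⧸ Subgroup.centralizer (V : Set G))} :
        Set (G ⧸ Subgroup.centralizer (V : Set G))))) :
    Cfsg.Involves (Equiv.Perm (Fin 4)) G :=
  Cfsg.Agent.Lib.Helper60.TransvectionPair.involves_perm4_of_transvection_pair V hVc hV2 a ha ha2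
    hai g hnot

end Cfsg.Agent.Lib.Helper53.WC
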