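import Mathlib
import Cfsg.Agent.Lib.Helper53.WCLocal3
import Cfsg.Agent.Lib.Helper53.WCTransv
import Cfsg.Agent.Lib.Helper06.BaerSuzuki
import Cfsg.Agent.Lib.Helper58.ProductFormula
import Cfsg.Agent.Lib.Helper74.NPC
import Cfsg.Agent.Lib.Lead.ThompsonE

/-!
# Weak closure of elements: no orbits of length two in `S₄`-free groups
-/

set_option autoImplicit false

namespace Cfsg.Agent.Lib.Helper53.WC

open Cfsg Cfsg.Agent.Lib.Helper41 Cfsg.Agent.Lib.Helper81

universe u

variable {G : Type u} [Group G] [Finite G]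

/-- Baer–Suzuki in the form: an element outside every normal `p`-subgroup generates a non-`p`-group
with one of its conjugates -/
theorem exists_conj_closure_not_pGroup {H : Type*} [Group H] [Finite H] {p : ℕ} [Fact p.Prime]
    (a : H) (ha : ∀ N : Subgroup H, N.Normal → IsPGroup p N → a ∉ N) :
    ∃ g : H, ¬ IsPGroup p (Subgroup.closure ({a, g * a * g⁻¹} : Set H)) := by
  by_contra hcon
  push Not at hcon
  set K : Set H := {x | ∃ g : H, x = g * a * g⁻¹} with hK
  have hKconj : ∀ g k : H, k ∈ K → g * k * g⁻¹ ∈ K := by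
    rintro g k ⟨g', rfl⟩
    exact ⟨g * g', by group⟩
  have hKp : ∀ x ∈ K, ∀ y ∈ K, IsPGroup p (Subgroup.closure ({x, y} : Set H)) := by
    rintro x ⟨g₁, rfl⟩ y ⟨g₂, rfl⟩
    have h1 := hcon (g₁⁻¹ * g₂)
    have h2 : Subgroup.closure ({g₁ * a * g₁⁻¹, g₂ * a * g₂⁻¹} : Set H) =
        (Subgroup.closure ({a, g₁⁻¹ * g₂ * a * (g₁⁻¹ * g₂)⁻¹} : Set H)).map
          (MulAut.conj g₁).toMonoidHom := by
      rw [MonoidHom.map_closure, Set.image_pair]
      congr 2
      simp only [MulEquiv.coe_toMonoidHom, MulAut.conj_apply]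
      group
    rw [h2]
    exact h1.map _
  obtain ⟨N, hNn, hNp, hKN⟩ := Cfsg.Agent.Lib.Helper06.baer_suzuki_set (p := p) K hKconj hKp
  exact ha N hNn hNp (hKN ⟨1, by group⟩)

/-- two-coset decomposition gives relative index two -/
theorem relIndex_two_le_card {H K : Subgroup G} (hHK : H ≤ K) (hne : ¬ K ≤ H) :
    2 * Nat.card H ≤ Nat.card K := by
  have h1 := Cfsg.Agent.Lib.Helper74.relIndex_mul_card_of_le' hHK
  have h2 : H.relIndex K ≠ 1 := fun h => hne (Subgroup.relIndex_eq_one.mp h)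
  have h3 : H.relIndex K ≠ 0 := by
    intro h0
    rw [h0, zero_mul] at h1
    have : 0 < Nat.card K := Nat.card_pos
    omega
  have h4 : 2 ≤ H.relIndex K := by omega
  calc 2 * Nat.card H ≤ H.relIndex K * Nat.card H := Nat.mul_le_mul_right _ h4
    _ = Nat.card K := h1

theorem centralizer_singleton_symm {a w : G} (h : a ∈ Subgroup.centralizer ({w} : Set G)) :
    w ∈ Subgroup.centralizer ({a} : Set G) := by
  rw [Subgroup.mem_centralizer_iff] at h ⊢
  intro y hy
  rw [Set.mem_singleton_iff] at hy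
  subst hy
  exact (h w rfl).symm

set_option maxHeartbeats 1600000 in
/-- in an `S₄`-free group no member of `Cand₁` has an orbit of length two on `V` -/
theorem no_bad_orbit (S : Sylow 2 G) (x : G)
    (hM : ∀ K : Subgroup G, K ≠ ⊤ → (S : Subgroup G) ≤ K → K ≤ Subgroup.centralizer ({x} : Set G))
    (hSx : (S : Subgroup G) ≤ Subgroup.centralizer ({x} : Set G))
    (hnc : ∃ g : G, g ∉ Subgroup.centralizer ({x} : Set G))
    (V : Subgroup G) [hVn : V.Normal] (hVc : ∀ a ∈ V, ∀ b ∈ V, a * b = b * a)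
    (hVS : V ≤ (S : Subgroup G)) (hQV : pCore 2 G ≤ Subgroup.centralizer (V : Set G))
    (hxV : x ∈ V)
    (hS4 : ¬ Involves (Equiv.Perm (Fin 4)) G) :
    ∀ A ∈ Cand₁ (S : Subgroup G) V, ∀ w ∈ V,
      (A ⊓ Subgroup.centralizer {w}).relIndex A ≠ 2 := by
  intro A hA w hw h2
  have hS2 : IsPGroup 2 (S : Subgroup G) := S.2
  obtain ⟨⟨hAmax, hAV⟩, hAμ⟩ := hA
  obtain ⟨hAS, hAc, hAcard⟩ := hAmax
  set A₁ := A ⊓ Subgroup.centralizer ({w} : Set G) with hA₁
  have hA₁A : A₁ ≤ A := inf_le_left
  have hVw : V ≤ Subgroup.centralizer ({w} : Set G) := by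
    intro v hv
    rw [Subgroup.mem_centralizer_iff]
    intro y hy
    rw [Set.mem_singleton_iff] at hy; subst hy
    exact hVc y hw v hv
  have hcardA : Nat.card A = 2 * Nat.card A₁ := by
    have := Cfsg.Agent.Lib.Helper74.relIndex_mul_card_of_le' hA₁A
    rw [h2] at this
    exact this.symm
  have hAnot : ¬ A ≤ A₁ := by
    intro h
    have := Subgroup.relIndex_eq_one.mpr h
    rw [this] at h2
    omega
  have hwA : w ∉ A := by
    intro h
    apply hAnot
    intro a ha
    refine ⟨ha, ?_⟩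
    show a ∈ Subgroup.centralizer ({w} : Set G)
    rw [Subgroup.mem_centralizer_iff]
    intro y hy
    rw [Set.mem_singleton_iff] at hy; subst hy
    exact hAc y h a ha
  set B' := Subgroup.zpowers w ⊔ (A ⊓ V) with hB'
  have hB'V : B' ≤ V := sup_le (by rw [Subgroup.zpowers_le]; exact hw) inf_le_right
  have hB'c : ∀ x ∈ B', ∀ y ∈ B', x * y = y * x := fun x hx y hy =>
    hVc x (hB'V hx) y (hB'V hy)
  have hA₁c : ∀ x ∈ A₁, ∀ y ∈ A₁, x * y = y * x := fun x hx y hy => hAc x hx.1 y hy.1
  have hA₁B' : ∀ a ∈ A₁, ∀ b ∈ B', a * b = b * a := by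
    intro a ha b hb
    have hle : B' ≤ Subgroup.centralizer ({a} : Set G) := by
      apply sup_le
      · rw [Subgroup.zpowers_le]
        exact centralizer_singleton_symm ha.2
      · intro c hc
        rw [Subgroup.mem_centralizer_iff]
        intro y hy
        rw [Set.mem_singleton_iff] at hy; subst hy
        exact hAc y ha.1 c hc.1
    exact Subgroup.mem_centralizer_iff.mp (hle hb) a rfl
  set A' := A₁ ⊔ B' with hA'
  have hA'c := abelian_sup hA₁c hB'c hA₁B'
  have hA'S : A' ≤ (S : Subgroup G) := sup_le (hA₁A.trans hAS) (hB'V.trans hVS)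
  have hinf : A₁ ⊓ B' = A ⊓ V := by
    apply le_antisymm
    · exact le_inf (inf_le_left.trans hA₁A) (inf_le_right.trans hB'V)
    · intro a ha
      exact ⟨⟨ha.1, hVw ha.2⟩, Subgroup.mem_sup_right ha⟩
  have hnorm : A₁ ≤ Subgroup.normalizer (B' : Set G) := by
    intro a ha
    apply Cfsg.Agent.Lib.Helper53.mem_normalizer_of_conj_mem
    intro k hk
    have := hA₁B' a ha k hk
    have h3 : a * k * a⁻¹ = k := by rw [this]; group
    rw [h3]; exact hk
  have hprod := Cfsg.Agent.Lib.Helper58.card_sup_mul_card_inf A₁ B' hnorm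
  have hB'card : 2 * Nat.card (A ⊓ V : Subgroup G) ≤ Nat.card B' := by
    apply relIndex_two_le_card le_sup_right
    intro h
    exact hwA (h (Subgroup.mem_sup_left (Subgroup.mem_zpowers w))).1
  have hcardA' : Nat.card A ≤ Nat.card A' := by
    rw [hinf] at hprod
    have hpos : 0 < Nat.card (A ⊓ V : Subgroup G) := Nat.card_pos
    have h3 : Nat.card A * Nat.card (A ⊓ V : Subgroup G) ≤
        Nat.card A' * Nat.card (A ⊓ V : Subgroup G) := by
      rw [hprod, hcardA]
      nlinarith
    exact Nat.le_of_mul_le_mul_right h3 hpos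
  have hA'max : IsMaxAbIn (S : Subgroup G) A' :=
    ⟨hA'S, hA'c, fun B hB hBc => (hAcard B hB hBc).trans hcardA'⟩
  have hA'V : A' ≤ Subgroup.centralizer (V : Set G) := by
    by_contra hcon
    have h3 := hAμ A' ⟨hA'max, hcon⟩
    have h4 : Nat.card B' ≤ Nat.card (A' ⊓ V : Subgroup G) :=
      Subgroup.card_le_of_le (le_inf le_sup_right hB'V)
    have hpos : 0 < Nat.card (A ⊓ V : Subgroup G) := Nat.card_pos
    omega
  have hA₁V : A₁ ≤ Subgroup.centralizer (V : Set G) := le_sup_left.trans hA'V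
  obtain ⟨a, haA, haA₁⟩ := SetLike.not_le_iff_exists.mp hAnot
  have haw : a ∉ Subgroup.centralizer ({w} : Set G) := fun h => haA₁ ⟨haA, h⟩
  have ha2 : a ^ 2 ∈ A₁ := by
    have h3 : (A₁.subgroupOf A).index = 2 := h2
    have := Subgroup.sq_mem_of_index_two h3 ⟨a, haA⟩
    rw [Subgroup.mem_subgroupOf] at this
    simpa using this
  have haS : a ∈ (S : Subgroup G) := hAS haA
  have ha2pow : ∃ j : ℕ, a ^ 2 ^ j = 1 := by
    obtain ⟨k, hk⟩ := hS2 ⟨a, haS⟩
    exact ⟨k, by simpa using congrArg Subtype.val hk⟩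
  have hVa : (V ⊓ Subgroup.centralizer {a}).relIndex V = 2 := by
    have hA₁Vc : ∀ x ∈ A₁ ⊔ V, ∀ y ∈ A₁ ⊔ V, x * y = y * x :=
      abelian_sup hA₁c hVc (fun b hb v hv =>
        (Subgroup.mem_centralizer_iff.mp (hA₁V hb) v hv).symm)
    have h3 := hAcard (A₁ ⊔ V) (sup_le (hA₁A.trans hAS) hVS) hA₁Vc
    have h4 := Cfsg.Agent.Lib.Helper58.card_sup_mul_card_inf A₁ V (by
      rw [Subgroup.normalizer_eq_top]; exact le_top)
    have h5 : A₁ ⊓ V = A ⊓ V :=
      le_antisymm (inf_le_inf_right V hA₁A) (fun b hb => ⟨⟨hb.1, hVw hb.2⟩, hb.2⟩)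
    rw [h5] at h4
    have h6 : Nat.card V ≤ 2 * Nat.card (A ⊓ V : Subgroup G) := by
      have hpos : 0 < Nat.card A₁ := Nat.card_pos
      have h7 : Nat.card A₁ * Nat.card V ≤ Nat.card A₁ * (2 * Nat.card (A ⊓ V : Subgroup G)) := by
        rw [← h4]; nlinarith
      exact Nat.le_of_mul_le_mul_left h7 hpos
    have h7 : A ⊓ V ≤ V ⊓ Subgroup.centralizer {a} := by
      intro v hv
      refine ⟨hv.2, ?_⟩
      show v ∈ Subgroup.centralizer ({a} : Set G)
      rw [Subgroup.mem_centralizer_iff]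
      intro y hy
      rw [Set.mem_singleton_iff] at hy; subst hy
      exact hAc y haA v hv.1
    have h8 : ¬ V ≤ V ⊓ Subgroup.centralizer {a} := fun h =>
      haw (centralizer_singleton_symm (h hw).2)
    have h9 := relIndex_two_le_card (inf_le_left : V ⊓ Subgroup.centralizer {a} ≤ V) h8
    have h10 := Cfsg.Agent.Lib.Helper74.relIndex_mul_card_of_le'
      (inf_le_left : V ⊓ Subgroup.centralizer {a} ≤ V)
    have h11 := Subgroup.card_le_of_le h7
    have hpos : 0 < Nat.card (V ⊓ Subgroup.centralizer {a} : Subgroup G) := Nat.card_pos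
    have h12 : (V ⊓ Subgroup.centralizer {a}).relIndex V *
        Nat.card (V ⊓ Subgroup.centralizer {a} : Subgroup G) =
        2 * Nat.card (V ⊓ Subgroup.centralizer {a} : Subgroup G) := by omega
    exact Nat.eq_of_mul_eq_mul_right hpos h12
  have hCx : Subgroup.centralizer (V : Set G) ≤ Subgroup.centralizer ({x} : Set G) :=
    Subgroup.centralizer_le (Set.singleton_subset_iff.mpr hxV)
  have haC : a ∉ Subgroup.centralizer (V : Set G) := by
    intro h
    apply haw
    rw [Subgroup.mem_centralizer_iff]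
    intro y hy
    rw [Set.mem_singleton_iff] at hy; subst hy
    exact Subgroup.mem_centralizer_iff.mp h y hw
  have hBS : ∀ N' : Subgroup (G ⧸ Subgroup.centralizer (V : Set G)), N'.Normal → IsPGroup 2 N' →
      (QuotientGroup.mk a : G ⧸ Subgroup.centralizer (V : Set G)) ∉ N' := by
    intro N' hN'n hN'2 haN
    set N := N'.comap (QuotientGroup.mk' (Subgroup.centralizer (V : Set G))) with hN
    haveI : N.Normal := hN'n.comap _
    have hCN : Subgroup.centralizer (V : Set G) ≤ N := by
      intro c hc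
      show QuotientGroup.mk' (Subgroup.centralizer (V : Set G)) c ∈ N'
      have : QuotientGroup.mk' (Subgroup.centralizer (V : Set G)) c = 1 :=
        (QuotientGroup.eq_one_iff c).mpr hc
      rw [this]
      exact N'.one_mem
    have hNle : N ≤ ((S : Subgroup G) ⊓ N) ⊔ Subgroup.centralizer (V : Set G) := by
      rw [← Subgroup.relIndex_eq_one]
      have h3 : (((S : Subgroup G) ⊓ N) ⊔ Subgroup.centralizer (V : Set G)).relIndex N ∣
          ((S : Subgroup G) ⊓ N).relIndex N := Subgroup.relIndex_dvd_of_le_left N le_sup_left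
      have h4 : (((S : Subgroup G) ⊓ N) ⊔ Subgroup.centralizer (V : Set G)).relIndex N ∣
          (Subgroup.centralizer (V : Set G)).relIndex N :=
        Subgroup.relIndex_dvd_of_le_left N le_sup_right
      have h5 : ¬ 2 ∣ ((S : Subgroup G) ⊓ N).relIndex N := by
        obtain ⟨P, hP⟩ := Cfsg.Agent.Lib.Helper53.exists_sylow_inf_normal S N
        have := P.not_dvd_index
        rw [hP] at this
        rw [Subgroup.inf_relIndex_right]
        exact this
      have h6 : ∃ k, (Subgroup.centralizer (V : Set G)).relIndex N = 2 ^ k := by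
        rw [← Cfsg.Agent.Lib.Lead.card_map_mk_eq_relIndex _ N hCN]
        have : N.map (QuotientGroup.mk' (Subgroup.centralizer (V : Set G))) = N' :=
          Subgroup.map_comap_eq_self_of_surjective (QuotientGroup.mk'_surjective _) N'
        rw [this]
        exact hN'2.exists_card_eq
      obtain ⟨k, hk⟩ := h6
      rw [hk] at h4
      obtain ⟨j, -, hj⟩ := (Nat.dvd_prime_pow Nat.prime_two).mp h4
      rw [hj] at h3 ⊢
      cases j with
      | zero => rfl
      | succ j => exact absurd (dvd_trans (dvd_pow_self 2 (Nat.succ_ne_zero j)) h3) h5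
    have hTx : (S : Subgroup G) ⊓ N ≤ Subgroup.centralizer ({x} : Set G) := inf_le_left.trans hSx
    have hNx : N ≤ Subgroup.centralizer ({x} : Set G) := hNle.trans (sup_le hTx hCx)
    have hTQ : (S : Subgroup G) ⊓ N ≤ pCore 2 G := by
      by_contra hcon
      obtain ⟨g, hg⟩ := hnc
      exact hg (frattini_centralizes S x hM N hNx ((S : Subgroup G) ⊓ N) le_rfl
        (inf_normal_weaklyClosed _ _) hcon g)
    have hNC : N ≤ Subgroup.centralizer (V : Set G) :=
      hNle.trans (sup_le (hTQ.trans hQV) le_rfl)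
    exact haC (hNC haN)
  obtain ⟨g', hg'⟩ := exists_conj_closure_not_pGroup (p := 2)
    (QuotientGroup.mk a : G ⧸ Subgroup.centralizer (V : Set G)) hBS
  obtain ⟨g, rfl⟩ := QuotientGroup.mk_surjective g'
  apply hS4
  exact involves_perm4_of_transvection_pair V hVc (hS2.to_le hVS) a ha2pow (hA₁V ha2) hVa g hg'

end Cfsg.Agent.Lib.Helper53.WC
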