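import Mathlib
import Cfsg.Agent.Lib.Helper53.WCNB

/-!
# Weak closure of elements: the local case
-/

set_option autoImplicit false

namespace Cfsg.Agent.Lib.Helper53.WC

open Cfsg Cfsg.Agent.Lib.Helper41 Cfsg.Agent.Lib.Helper81

universe u

variable {G : Type u} [Group G] [Finite G] {p : ℕ} [Fact p.Prime]

theorem le_normalizer_JAc (S : Subgroup G) : S ≤ Subgroup.normalizer (JAc S : Set G) := by
  intro s hs
  rw [mem_normalizer_iff_lc]
  apply JAc_weaklyClosed
  rintro _ ⟨y, hy, rfl⟩
  exact S.mul_mem (S.mul_mem hs (thompsonAOf_le S hy)) (S.inv_mem hs)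

set_option maxHeartbeats 800000 in
/-- **The local case.** -/
theorem local_case (S : Sylow p G) (x : G)
    (hM : ∀ K : Subgroup G, K ≠ ⊤ → (S : Subgroup G) ≤ K → K ≤ Subgroup.centralizer ({x} : Set G))
    (hxN : Subgroup.normalizer (JAc (S : Subgroup G) : Set G) ≤ Subgroup.centralizer ({x} : Set G))
    (hxQ : x ∈ pCore p G)
    (hΦ : p ≠ 2 ∨ (∃ z ∈ (S : Subgroup G) ⊓ Subgroup.centralizer ((S : Subgroup G) : Set G),
      z ^ p = x) ∨ ¬ Involves (Equiv.Perm (Fin 4)) G) :
    ∀ g : G, g ∈ Subgroup.centralizer ({x} : Set G) := by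
  by_contra hnc
  push Not at hnc
  have hSp : IsPGroup p (S : Subgroup G) := S.2
  have hSx : (S : Subgroup G) ≤ Subgroup.centralizer ({x} : Set G) :=
    (le_normalizer_JAc _).trans hxN
  have hQn : (pCore p G).Normal := pCore_normal (G := G) p
  have hQS : pCore p G ≤ (S : Subgroup G) := Cfsg.Agent.Lib.Helper53.pCore_le_sylow S
  set U := pCore p G ⊓ Subgroup.centralizer (pCore p G : Set G) with hU
  have hUn : U.Normal := inferInstance
  have hxU : x ∈ U := by
    refine ⟨hxQ, ?_⟩
    show x ∈ Subgroup.centralizer (pCore p G : Set G)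
    rw [Subgroup.mem_centralizer_iff]
    intro q hq
    exact (Subgroup.mem_centralizer_iff.mp (hSx (hQS hq)) x rfl).symm
  have hUc : ∀ a ∈ U, ∀ b ∈ U, a * b = b * a := by
    intro a ha b hb
    exact (Subgroup.mem_centralizer_iff.mp hb.2 a ha.1)
  have hQU : pCore p G ≤ Subgroup.centralizer (U : Set G) := by
    intro q hq
    rw [Subgroup.mem_centralizer_iff]
    intro u hu
    exact (Subgroup.mem_centralizer_iff.mp hu.2 q hq).symm
  set V := Subgroup.normalClosure ({x} : Set G) with hV
  have hVn : V.Normal := Subgroup.normalClosure_normal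
  have hVU : V ≤ U := Subgroup.normalClosure_le_normal (Set.singleton_subset_iff.mpr hxU)
  have hxV : x ∈ V := Subgroup.subset_normalClosure rfl
  have hVc : ∀ a ∈ V, ∀ b ∈ V, a * b = b * a := fun a ha b hb => hUc a (hVU ha) b (hVU hb)
  have hVS : V ≤ (S : Subgroup G) := hVU.trans (inf_le_left.trans hQS)
  have hUV : Subgroup.centralizer (U : Set G) ≤ Subgroup.centralizer (V : Set G) :=
    Subgroup.centralizer_le (by exact_mod_cast hVU)
  have hQV : pCore p G ≤ Subgroup.centralizer (V : Set G) := hQU.trans hUV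
  have hCx : Subgroup.centralizer (V : Set G) ≤ Subgroup.centralizer ({x} : Set G) :=
    Subgroup.centralizer_le (Set.singleton_subset_iff.mpr hxV)
  obtain ⟨g₀, hg₀⟩ := hnc
  by_cases hJ : JAc (S : Subgroup G) ≤ Subgroup.centralizer (V : Set G)
  · have hJQ : ¬ JAc (S : Subgroup G) ≤ pCore p G := by
      intro hle
      have h1 : JAc (pCore p G) = JAc (S : Subgroup G) := thompsonAOf_eq_of_le hle hQS
      have h2 : ∀ g : G, g ∈ Subgroup.normalizer (JAc (S : Subgroup G) : Set G) := by
        intro g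
        rw [mem_normalizer_iff_lc, ← h1]
        have h3 := (isConjugacyFunctor_JAc (G := G) (p := p) (pCore p G)
          (isPGroup_pCore (G := G) p)).2.2 g
        have h4 : (pCore p G).map (MulAut.conj g).toMonoidHom = pCore p G := lc_normal_eq _ g
        rw [h4] at h3
        exact h3.symm
      exact hg₀ (hxN (h2 g₀))
    exact hg₀ (frattini_centralizes S x hM (Subgroup.centralizer (V : Set G)) hCx
      (JAc (S : Subgroup G)) (le_inf (thompsonAOf_le _) hJ) (JAc_weaklyClosed _) hJQ g₀)
  · obtain ⟨A, hA, hAV⟩ := exists_isMaxAbIn_not_le hJ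
    have hcand : (Cand (S : Subgroup G) V).Nonempty := ⟨A, hA, hAV⟩
    rcases hΦ with hp | ⟨z, hz, hzx⟩ | hS4
    · exact hg₀ (local_trace S x hM hSx V hVc hVS hQV hxV le_rfl hcand
        (fun h => absurd h hp) g₀)
    · exact hg₀ (squares_case S x hM hxQ z hz.1 hz.2 hzx A hA (fun h => hAV (h.trans hUV)) g₀)
    · refine hg₀ (local_trace S x hM hSx V hVc hVS hQV hxV le_rfl hcand ?_ g₀)
      intro hp2
      subst hp2
      exact no_bad_orbit S x hM hSx ⟨g₀, hg₀⟩ V hVc hVS hQV hxV hS4

end Cfsg.Agent.Lib.Helper53.WC
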