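import Mathlib
import Cfsg.Agent.Lib.Helper53.WCLocal4
import Cfsg.Agent.Lib.Helper90.Involves

/-!
# Weak closure of elements of `Z(N_G(J(S)))`: the induction
-/

set_option autoImplicit false

namespace Cfsg.Agent.Lib.Helper53.WC

open Cfsg Cfsg.Agent.Lib.Helper41 Cfsg.Agent.Lib.Helper81

universe u

/-- the statement proved by induction -/
def WCStmt (p : ℕ) (G : Type u) [Group G] : Prop :=
  ∀ (P : Subgroup G), IsPGroup p P → ¬ p ∣ P.index → ∀ x ∈ P,
    Subgroup.normalizer (JAc P : Set G) ≤ Subgroup.centralizer ({x} : Set G) →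
    (p ≠ 2 ∨ (∃ z ∈ P ⊓ Subgroup.centralizer (P : Set G), z ^ p = x) ∨
      ¬ Involves (Equiv.Perm (Fin 4)) G) →
    ∀ g : G, g * x * g⁻¹ ∈ P → g * x * g⁻¹ = x

theorem wc_of_subgroup {p : ℕ} [Fact p.Prime] {G : Type u} [Group G] [Finite G]
    (H : Subgroup G) (hH : WCStmt p ↥H)
    (P : Subgroup G) (hPH : P ≤ H) (hP : IsPGroup p P) (hidx : ¬ p ∣ P.relIndex H) (x : G)
    (hx : x ∈ P)
    (hxN : Subgroup.normalizer (JAc P : Set G) ⊓ H ≤ Subgroup.centralizer ({x} : Set G))
    (hΦ : p ≠ 2 ∨ (∃ z ∈ P ⊓ Subgroup.centralizer (P : Set G), z ^ p = x) ∨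
      ¬ Involves (Equiv.Perm (Fin 4)) G) :
    ∀ g ∈ H, g * x * g⁻¹ ∈ P → g * x * g⁻¹ = x := by
  intro g hg hgx
  have hP' : IsPGroup p (P.subgroupOf H) := hP.comap_subtype
  have hJ : JAc P = (JAc (P.subgroupOf H)).map H.subtype := by
    have h1 := inducedFunctor_map (p := p) isCharPFunctor_JA H.subtype (P.subgroupOf H) hP'
      (fun a _ b _ h => Subtype.ext h)
    rw [inducedFunctor_JA, inducedFunctor_JA, Subgroup.map_subgroupOf_eq_of_le hPH] at h1
    exact h1
  have key := hH (P.subgroupOf H) hP' hidx ⟨x, hPH hx⟩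
    (by rw [Subgroup.mem_subgroupOf]; exact hx) ?_ ?_ ⟨g, hg⟩
    (by rw [Subgroup.mem_subgroupOf]; exact hgx)
  · exact congrArg Subtype.val key
  · intro h hh
    have h1 : (h : G) ∈ Subgroup.normalizer (JAc P : Set G) := by
      rw [hJ]
      apply Cfsg.Agent.Lib.Helper53.mem_normalizer_of_conj_mem
      rintro _ ⟨k, hk, rfl⟩
      refine ⟨h * k * h⁻¹, ?_, rfl⟩
      exact (Subgroup.mem_normalizer_iff.mp hh k).mp hk
    have h2 := hxN ⟨h1, h.2⟩
    rw [Subgroup.mem_centralizer_iff] at h2 ⊢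
    intro y hy
    rw [Set.mem_singleton_iff] at hy
    subst hy
    exact Subtype.ext (h2 x rfl)
  · rcases hΦ with hp | ⟨z, hz, hzx⟩ | hS4
    · exact Or.inl hp
    · refine Or.inr (Or.inl ⟨⟨z, hPH hz.1⟩, ⟨?_, ?_⟩, Subtype.ext (by simpa using hzx)⟩)
      · show (⟨z, hPH hz.1⟩ : ↥H) ∈ P.subgroupOf H
        rw [Subgroup.mem_subgroupOf]; exact hz.1
      · show (⟨z, hPH hz.1⟩ : ↥H) ∈ Subgroup.centralizer ((P.subgroupOf H : Subgroup ↥H) : Set ↥H)
        rw [Subgroup.mem_centralizer_iff]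
        intro y hy
        exact Subtype.ext (Subgroup.mem_centralizer_iff.mp hz.2 y (Subgroup.mem_subgroupOf.mp hy))
    · refine Or.inr (Or.inr ?_)
      intro h
      exact hS4 (Cfsg.Agent.Lib.Helper90.Involves.of_injective_right H.subtype
        H.subtype_injective h)

theorem card_lt_of_ne_top {G : Type u} [Group G] [Finite G] {K : Subgroup G} (hK : K ≠ ⊤) :
    Nat.card ↥K < Nat.card G :=
  lt_of_le_of_ne (Subgroup.card_le_card_group K) (fun h => hK (Subgroup.eq_top_of_card_eq K h))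

set_option maxHeartbeats 800000 in
theorem wcStmt_all (p : ℕ) [Fact p.Prime] :
    ∀ (n : ℕ) (G : Type u) [Group G] [Finite G], Nat.card G = n → WCStmt p G := by
  intro n
  induction n using Nat.strong_induction_on with
  | _ n ih =>
  intro G _ _ hn P hP hidx x hx hxN hΦ g hg
  by_contra hne
  obtain ⟨S, rfl⟩ : ∃ S : Sylow p G, (S : Subgroup G) = P := ⟨hP.toSylow hidx, rfl⟩
  have hSx : (S : Subgroup G) ≤ Subgroup.centralizer ({x} : Set G) :=
    (le_normalizer_JAc _).trans hxN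
  have hxZ : x ∈ Subgroup.centralizer ((S : Subgroup G) : Set G) := by
    rw [Subgroup.mem_centralizer_iff]
    intro s hs
    exact (Subgroup.mem_centralizer_iff.mp (hSx hs) x rfl).symm
  obtain ⟨T, hTS, hxT, hTidx, hTN, n₀, hnT, hnx⟩ := reduce_local S JAc isConjugacyFunctor_JAc
    (fun P _ => center_le_JAc P) x hx hxZ hxN g hg hne
  by_cases hNT : Subgroup.normalizer (T : Set G) = ⊤
  · have hTn : T.Normal := Subgroup.normalizer_eq_top_iff.mp hNT
    have hxQ : x ∈ pCore p G := le_pCore hTn (S.2.to_le hTS) hxT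
    have hQS : pCore p G ≤ (S : Subgroup G) := Cfsg.Agent.Lib.Helper53.pCore_le_sylow S
    have hQn : (pCore p G).Normal := pCore_normal (G := G) p
    have hM : ∀ K : Subgroup G, K ≠ ⊤ → (S : Subgroup G) ≤ K →
        K ≤ Subgroup.centralizer ({x} : Set G) := by
      intro K hK hSK k hk
      have hcard : Nat.card ↥K < n := by rw [← hn]; exact card_lt_of_ne_top hK
      have hIH := ih _ hcard ↥K rfl
      have hidxK : ¬ p ∣ (S : Subgroup G).relIndex K := fun h =>
        S.not_dvd_index (h.trans (Subgroup.relIndex_dvd_index_of_le hSK))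
      have := wc_of_subgroup K hIH (S : Subgroup G) hSK S.2 hidxK x hx (inf_le_left.trans hxN) hΦ
        k hk (hQS (hQn.conj_mem x hxQ k))
      exact mem_centralizer_singleton_iff_conj.mpr this
    exact hnx (mem_centralizer_singleton_iff_conj.mp (local_case S x hM hxN hxQ hΦ n₀))
  · have hcard : Nat.card ↥(Subgroup.normalizer (T : Set G)) < n := by
      rw [← hn]; exact card_lt_of_ne_top hNT
    have hIH := ih _ hcard ↥(Subgroup.normalizer (T : Set G)) rfl
    have hTH : T ≤ Subgroup.normalizer (T : Set G) := Subgroup.le_normalizer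
    have hΦ' : p ≠ 2 ∨ (∃ z ∈ ((S : Subgroup G) ⊓ Subgroup.normalizer (T : Set G)) ⊓
        Subgroup.centralizer ((((S : Subgroup G) ⊓ Subgroup.normalizer (T : Set G) : Subgroup G)) :
          Set G), z ^ p = x) ∨ ¬ Involves (Equiv.Perm (Fin 4)) G := by
      rcases hΦ with hp | ⟨z, hz, hzx⟩ | hS4
      · exact Or.inl hp
      · refine Or.inr (Or.inl ⟨z, ⟨⟨hz.1, ?_⟩, ?_⟩, hzx⟩)
        · apply Cfsg.Agent.Lib.Helper53.mem_normalizer_of_conj_mem
          intro k hk
          have := Subgroup.mem_centralizer_iff.mp hz.2 k (hTS hk)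
          have h3 : z * k * z⁻¹ = k := by rw [← this]; group
          rw [h3]; exact hk
        · exact Subgroup.centralizer_le (by
            intro y hy
            exact hy.1) hz.2
      · exact Or.inr (Or.inr hS4)
    have hmem : n₀ * x * n₀⁻¹ ∈ T := (Subgroup.mem_normalizer_iff.mp hnT x).mp hxT
    have := wc_of_subgroup (Subgroup.normalizer (T : Set G)) hIH
      ((S : Subgroup G) ⊓ Subgroup.normalizer (T : Set G)) inf_le_right (S.2.to_le inf_le_left)
      hTidx x ⟨hx, hTH hxT⟩ (inf_le_left.trans hTN) hΦ' n₀ hnT ⟨hTS hmem, hTH hmem⟩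
    exact hnx this

end Cfsg.Agent.Lib.Helper53.WC
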