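import Mathlib
import Cfsg.Agent.Lib.Helper53.FusWC7
import Cfsg.Agent.Lib.Helper53.WCReduce
import Cfsg.Agent.S2799
import Cfsg.Prelude.Def_FusionReduction

/-!
# Weak closure in fusion systems, part 8: the Thompson subgroup (Glauberman's theorem)
-/

set_option autoImplicit false

namespace Cfsg.Agent.Lib.Helper53.FusWC

open Cfsg Cfsg.FusionSystem Cfsg.Agent.Lib.Helper87

universe u

variable {Ω : Type u} [Group Ω] {S : Subgroup Ω}

/-- The model hypothesis from a local statement on the models. -/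
theorem modelHyp_of_local [Finite S] {p : ℕ} [Fact p.Prime] (hS : IsPGroup p S)
    (F : FusionSystem S)
    (W : ∀ (Q : Type u) [Group Q], Subgroup Q)
    (hW2 : ∀ (Q R : Type u) [Group Q] [Group R] [Finite Q], IsPGroup p Q → ∀ φ : Q ≃* R,
      (W Q).map φ.toMonoidHom = W R)
    (hWZ : ∀ (Q : Type u) [Group Q] [Finite Q], IsPGroup p Q → Subgroup.center Q ≤ W Q)
    (x : Ω) (hxS : x ∈ S) (hxZ : x ∈ Subgroup.centralizer (S : Set Ω))
    (hloc : ∀ T : Subgroup Ω, F.IsFullyNormalized T → F.IsCentric T →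
      ∀ N : FusionSystem (normalizerIn S T), F.IsNormalizerSystem T N →
      ∀ (L : Type u) [Group L] [Finite L] (ι : normalizerIn S T →* L), N.IsModel p L ι →
      ∀ hzN : x ∈ normalizerIn S T, ∀ P : Sylow p L, (P : Subgroup L) = ι.range →
        ι ⟨x, hzN⟩ ∈ Cfsg.pCore p L →
        ι ⟨x, hzN⟩ ∈ (Subgroup.center ↥(Subgroup.normalizer
          (((W ↥(P : Subgroup L)).map (P : Subgroup L).subtype : Subgroup L) : Set L))).map
          (Subgroup.normalizer
            (((W ↥(P : Subgroup L)).map (P : Subgroup L).subtype : Subgroup L) : Set L)).subtype →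
        ∀ g : L, g * ι ⟨x, hzN⟩ * g⁻¹ ∈ (P : Subgroup L) → g * ι ⟨x, hzN⟩ * g⁻¹ = ι ⟨x, hzN⟩) :
    ModelHyp p F (subFunctor W) x := by
  intro T hfn hc N hN L _ ι hmodel hzN hpre g hg
  have hTS : T ≤ S := hfn.1
  have hNS : normalizerIn S T ≤ S := normalizerIn_le S T
  have : Finite ↥(normalizerIn S T) := finite_of_le hNS
  have hNp : IsPGroup p ↥(normalizerIn S T) := hS.to_le hNS
  have : Finite L := hmodel.1
  obtain ⟨P, hP⟩ := hmodel.2.2.1
  have hinj : Function.Injective ι := hmodel.2.1.1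
  have hcomm : ∀ y ∈ S, y * x = x * y := fun y hy =>
    (Subgroup.mem_centralizer_iff.mp hxZ y hy)
  have hxT : x ∈ T := by
    apply hc.2 T (isConj_refl F hTS)
    rw [mem_centralizerIn]
    exact ⟨hxS, fun y hy => hcomm y (hTS hy)⟩
  have h1 : ι ⟨x, hzN⟩ ∈ Cfsg.pCore p L := by
    apply map_le_pCore_of_isNormal p hNp N ι hmodel T (nsys_isNormal F T hTS N hN)
    exact ⟨⟨x, hzN⟩, Subgroup.mem_subgroupOf.mpr hxT, rfl⟩
  have hpush := push_subFunctor W hW2 hNp ι hinj (P : Subgroup L) hP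
  have h2 : ι ⟨x, hzN⟩ ∈ ((W ↥(P : Subgroup L)).map (P : Subgroup L).subtype : Subgroup L) := by
    rw [← hpush]
    refine mem_push.mpr ⟨⟨x, hzN⟩, ?_, rfl⟩
    exact mem_subFunctor_of_central hS W hWZ _ hNS x hzN (fun y hy => hcomm y (hNS hy))
  rw [hpush] at hpre
  have h3 : ι ⟨x, hzN⟩ ∈ (Subgroup.center ↥(Subgroup.normalizer
      (((W ↥(P : Subgroup L)).map (P : Subgroup L).subtype : Subgroup L) : Set L))).map
      (Subgroup.normalizer
        (((W ↥(P : Subgroup L)).map (P : Subgroup L).subtype : Subgroup L) : Set L)).subtype := by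
    refine ⟨⟨ι ⟨x, hzN⟩, Subgroup.le_normalizer h2⟩, ?_, rfl⟩
    rw [SetLike.mem_coe, Subgroup.mem_center_iff]
    intro k
    apply Subtype.ext
    have := hpre k k.2
    show (k : L) * ι ⟨x, hzN⟩ = ι ⟨x, hzN⟩ * k
    calc (k : L) * ι ⟨x, hzN⟩ = (k : L) * ι ⟨x, hzN⟩ * (k : L)⁻¹ * k := by group
      _ = ι ⟨x, hzN⟩ * k := by rw [this]
  refine hloc T hfn hc N hN L ι hmodel hzN P hP h1 h3 g ?_
  rw [hP]; exact hg

/-- The centre of a finite group lies in its Thompson subgroup. -/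
theorem center_le_thompsonA (Q : Type*) [Group Q] [Finite Q] :
    Subgroup.center Q ≤ thompsonSubgroupA Q := by
  obtain ⟨A, hA⟩ := Cfsg.Agent.Lib.Helper53.maxAb_nonempty Q
  have hA' : Cfsg.Agent.Lib.Helper53.IsMaxAbIn (⊤ : Subgroup Q) A :=
    ⟨le_top, (Cfsg.Agent.Lib.Helper53.isMulComm_iff A).mp hA.1,
      fun B _ hB => hA.2 B ((Cfsg.Agent.Lib.Helper53.isMulComm_iff B).mpr hB)⟩
  have h1 := Cfsg.Agent.Lib.Helper53.WC.isMaxAbIn_center_le hA'
  have h2 : A ≤ thompsonSubgroupA Q := le_sSup hA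
  intro z hz
  apply h2
  apply h1
  refine Subgroup.mem_inf.mpr ⟨Subgroup.mem_top z, ?_⟩
  rw [Subgroup.mem_centralizer_iff]
  intro y _
  exact (Subgroup.mem_center_iff.mp hz y)

/-- Elements of the subgroup generated by the `p`-th powers of a set of pairwise commuting
elements forming a subgroup are `p`-th powers. -/
theorem exists_pow_of_mem_closure (Z : Subgroup Ω) (hZ : ∀ a ∈ Z, ∀ b ∈ Z, a * b = b * a) (p : ℕ)
    (x : Ω) (hx : x ∈ Subgroup.closure ((fun z : Ω => z ^ p) '' (Z : Set Ω))) :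
    ∃ z ∈ Z, z ^ p = x := by
  induction hx using Subgroup.closure_induction with
  | mem y hy =>
    obtain ⟨z, hz, rfl⟩ := hy
    exact ⟨z, hz, rfl⟩
  | one => exact ⟨1, Z.one_mem, one_pow p⟩
  | mul a b _ _ iha ihb =>
    obtain ⟨z1, hz1, rfl⟩ := iha
    obtain ⟨z2, hz2, rfl⟩ := ihb
    exact ⟨z1 * z2, Z.mul_mem hz1 hz2, (Commute.mul_pow (hZ z1 hz1 z2 hz2) p)⟩
  | inv a _ iha =>
    obtain ⟨z1, hz1, rfl⟩ := iha
    exact ⟨z1⁻¹, Z.inv_mem hz1, inv_pow z1 p⟩

/-- The model hypothesis for the Thompson subgroup, from Glauberman's theorem for groups. -/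
theorem modelHyp_thompson [Finite S] {p : ℕ} [Fact p.Prime] (hS : IsPGroup p S)
    (F : FusionSystem S) (x : Ω) (hxS : x ∈ S) (hxZ : x ∈ Subgroup.centralizer (S : Set Ω))
    (h : p ≠ 2 ∨ (∃ z ∈ S ⊓ Subgroup.centralizer (S : Set Ω), z ^ p = x) ∨
      F.IsSectionFree p (Equiv.Perm (Fin 4))) :
    ModelHyp p F (subFunctor Cfsg.Agent.Lib.Helper53.JAfun) x := by
  apply modelHyp_of_local hS F Cfsg.Agent.Lib.Helper53.JAfun
    (fun Q R _ _ _ _ φ => Cfsg.Agent.Lib.Helper53.thompsonA_map_equiv φ)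
    (fun Q _ _ _ => center_le_thompsonA Q) x hxS hxZ
  intro T hfn hc N hN L _ _ ι hmodel hzN P hP _ h3 g hg
  have hTS : T ≤ S := hfn.1
  have hxP : ι ⟨x, hzN⟩ ∈ (P : Subgroup L) := by rw [hP]; exact ⟨_, rfl⟩
  refine Cfsg.Agent.S2799.result P (ι ⟨x, hzN⟩) hxP h3 ?_ g hg
  rcases h with h | h | h
  · exact Or.inl h
  · right; left
    obtain ⟨z, hz, hzx⟩ := h
    have hzS : z ∈ S := hz.1
    have hzc : ∀ y ∈ S, y * z = z * y := fun y hy =>
      (Subgroup.mem_centralizer_iff.mp hz.2 y hy)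
    have hzT : z ∈ T := by
      apply hc.2 T (isConj_refl F hTS)
      rw [mem_centralizerIn]
      exact ⟨hzS, fun y hy => hzc y (hTS hy)⟩
    have hzN' : z ∈ normalizerIn S T := le_normalizerIn hTS hzT
    refine ⟨ι ⟨z, hzN'⟩, Subgroup.mem_inf.mpr ⟨by rw [hP]; exact ⟨_, rfl⟩, ?_⟩, ?_⟩
    · rw [Subgroup.mem_centralizer_iff]
      intro y hy
      rw [SetLike.mem_coe, hP] at hy
      obtain ⟨n, rfl⟩ := hy
      rw [← map_mul, ← map_mul]
      congr 1
      exact Subtype.ext (hzc n ((normalizerIn_le S T) n.2))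
    · rw [← map_pow]
      congr 1
      exact Subtype.ext hzx
  · right; right
    exact h T hfn hc N hN L ι hmodel

end Cfsg.Agent.Lib.Helper53.FusWC
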