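import Mathlib
import Cfsg.Agent.Lib.Helper38.SQ.Defs
import Cfsg.Agent.Lib.Helper07.PSLnC

set_option autoImplicit false

/-!
# Keystone 462501 K-SQ-PSL of helper38's pack K-SQ (S4625): squares in a Sylow 2-subgroup of `PSL_n(2^k)`

The upper unitriangular group `UT n F` (helper07: a Sylow 2-subgroup of `SL_n(F)`) is generated by involutions
(the "column elements" `1 + N_j`), so squares lie in the commutator subgroup; then pass to the quotient.
-/

namespace Cfsg.Agent.Lib.Helper53.SQ

open Matrix Cfsg.Agent.Lib.Helper38.SQ Cfsg.Agent.Lib.Helper07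

section cols

variable {n : ℕ} {F : Type*} [Field F]

/-- the columns `< m` of `N` -/
def colPart (N : Matrix (Fin n) (Fin n) F) (m : ℕ) : Matrix (Fin n) (Fin n) F :=
  Matrix.of fun i j => if (j : ℕ) < m then N i j else 0

/-- the column `m` of `N` -/
def colOne (N : Matrix (Fin n) (Fin n) F) (m : ℕ) : Matrix (Fin n) (Fin n) F :=
  Matrix.of fun i j => if (j : ℕ) = m then N i j else 0

theorem colPart_zero (N : Matrix (Fin n) (Fin n) F) : colPart N 0 = 0 := by
  ext i j
  simp [colPart]

theorem colPart_n (N : Matrix (Fin n) (Fin n) F) : colPart N n = N := by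
  ext i j
  simp [colPart]

theorem colPart_succ (N : Matrix (Fin n) (Fin n) F) (m : ℕ) :
    colPart N (m + 1) = colPart N m + colOne N m := by
  ext i j
  simp only [colPart, colOne, Matrix.of_apply, Matrix.add_apply]
  by_cases h1 : (j : ℕ) < m
  · rw [if_pos h1, if_pos (by omega), if_neg (by omega), add_zero]
  · by_cases h2 : (j : ℕ) = m
    · rw [if_neg h1, if_pos (by omega), if_pos h2, zero_add]
    · rw [if_neg h1, if_neg (by omega), if_neg h2, add_zero]

theorem colOne_mul_colPart (N : Matrix (Fin n) (Fin n) F) (hN : ∀ i j, ¬ i < j → N i j = 0)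
    (m : ℕ) : colOne N m * colPart N m = 0 := by
  ext i j
  rw [Matrix.mul_apply, Matrix.zero_apply]
  apply Finset.sum_eq_zero
  intro c _
  simp only [colPart, colOne, Matrix.of_apply]
  by_cases h1 : (c : ℕ) = m
  · by_cases h2 : (j : ℕ) < m
    · rw [if_pos h1, if_pos h2, hN c j (by rw [Fin.lt_def]; omega), mul_zero]
    · rw [if_neg h2, mul_zero]
  · rw [if_neg h1, zero_mul]

theorem colOne_mul_colOne (N : Matrix (Fin n) (Fin n) F) (hN : ∀ i j, ¬ i < j → N i j = 0)
    (m : ℕ) : colOne N m * colOne N m = 0 := by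
  ext i j
  rw [Matrix.mul_apply, Matrix.zero_apply]
  apply Finset.sum_eq_zero
  intro c _
  simp only [colOne, Matrix.of_apply]
  by_cases h1 : (c : ℕ) = m
  · by_cases h2 : (j : ℕ) = m
    · rw [if_pos h1, if_pos h2, hN c j (by rw [Fin.lt_def]; omega), mul_zero]
    · rw [if_neg h2, mul_zero]
  · rw [if_neg h1, zero_mul]

theorem one_add_upper (M : Matrix (Fin n) (Fin n) F) (hM : ∀ i j, ¬ i < j → M i j = 0) :
    (1 + M).IsUpperTriangular ∧ ∀ i, (1 + M) i i = 1 := by
  constructor
  · intro i j hij
    have hji : j < i := hij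
    rw [Matrix.add_apply, Matrix.one_apply_ne (ne_of_gt hji), zero_add]
    exact hM i j (not_lt.2 hji.le)
  · intro i
    rw [Matrix.add_apply, Matrix.one_apply_eq, hM i i (lt_irrefl i), add_zero]

theorem colPart_upper (N : Matrix (Fin n) (Fin n) F) (hN : ∀ i j, ¬ i < j → N i j = 0) (m : ℕ) :
    ∀ i j, ¬ i < j → colPart N m i j = 0 := by
  intro i j hij
  simp only [colPart, Matrix.of_apply]
  split_ifs
  · exact hN i j hij
  · rfl

theorem colOne_upper (N : Matrix (Fin n) (Fin n) F) (hN : ∀ i j, ¬ i < j → N i j = 0) (m : ℕ) :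
    ∀ i j, ¬ i < j → colOne N m i j = 0 := by
  intro i j hij
  simp only [colOne, Matrix.of_apply]
  split_ifs
  · exact hN i j hij
  · rfl

/-- an upper unitriangular matrix as an element of `SL` -/
def mkUT (M : Matrix (Fin n) (Fin n) F) (h : M.IsUpperTriangular ∧ ∀ i, M i i = 1) :
    SpecialLinearGroup (Fin n) F :=
  ⟨M, by rw [Matrix.det_of_isUpperTriangular h.1]; simp [h.2]⟩

theorem mkUT_mem (M : Matrix (Fin n) (Fin n) F) (h : M.IsUpperTriangular ∧ ∀ i, M i i = 1) :
    mkUT M h ∈ UT n F := h

end cols

section main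

variable {n : ℕ} {F : Type*} [Field F]

/-- the unitriangular group is generated by its involutions (characteristic two) -/
theorem UT_eq_closure [CharP F 2] :
    UT n F = Subgroup.closure {x : SpecialLinearGroup (Fin n) F | x ∈ UT n F ∧ x ^ 2 = 1} := by
  apply le_antisymm
  · intro A hA
    obtain ⟨hAu, hAd⟩ := hA
    set N : Matrix (Fin n) (Fin n) F := (A : Matrix (Fin n) (Fin n) F) - 1 with hNdef
    have hN : ∀ i j, ¬ i < j → N i j = 0 := by
      intro i j hij
      rw [hNdef, Matrix.sub_apply]
      rcases lt_or_eq_of_le (not_lt.1 hij) with h | h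
      · rw [hAu (show id j < id i from h), Matrix.one_apply_ne (ne_of_gt h), sub_zero]
      · rw [h, hAd, Matrix.one_apply_eq, sub_self]
    have key : ∀ m : ℕ, ∀ X : SpecialLinearGroup (Fin n) F,
        (X : Matrix (Fin n) (Fin n) F) = 1 + colPart N m →
        X ∈ Subgroup.closure {x : SpecialLinearGroup (Fin n) F | x ∈ UT n F ∧ x ^ 2 = 1} := by
      intro m
      induction m with
      | zero =>
        intro X hX
        rw [colPart_zero, add_zero] at hX
        have : X = 1 := by
          apply Subtype.ext
          rw [hX]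
          rfl
        rw [this]
        exact Subgroup.one_mem _
      | succ m ih =>
        intro X hX
        set E := mkUT (1 + colOne N m) (one_add_upper _ (colOne_upper N hN m)) with hE
        set Y := mkUT (1 + colPart N m) (one_add_upper _ (colPart_upper N hN m)) with hY
        have hXEY : X = E * Y := by
          apply Subtype.ext
          rw [hX, Matrix.SpecialLinearGroup.coe_mul]
          change _ = (1 + colOne N m) * (1 + colPart N m)
          rw [colPart_succ, Matrix.add_mul, Matrix.one_mul, Matrix.mul_add, Matrix.mul_one,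
            colOne_mul_colPart N hN m, add_zero]
          abel
        rw [hXEY]
        apply Subgroup.mul_mem
        · apply Subgroup.subset_closure
          refine ⟨mkUT_mem _ _, ?_⟩
          apply Subtype.ext
          rw [pow_two, Matrix.SpecialLinearGroup.coe_mul]
          change (1 + colOne N m) * (1 + colOne N m) = 1
          rw [Matrix.add_mul, Matrix.one_mul, Matrix.mul_add, Matrix.mul_one,
            colOne_mul_colOne N hN m, add_zero]
          have h2 : colOne N m + colOne N m = 0 := by
            ext i j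
            rw [Matrix.add_apply, Matrix.zero_apply]
            exact CharTwo.add_self_eq_zero _
          rw [add_assoc, h2, add_zero]
        · exact ih Y rfl
    apply key n A
    rw [colPart_n, hNdef]
    abel
  · rw [Subgroup.closure_le]
    intro x hx
    exact hx.1

theorem sylSq_sl (F : Type) [Field F] [Fintype F] [CharP F 2] (n : ℕ) (hn : 1 ≤ n) :
    SylSq (SpecialLinearGroup (Fin n) F) := by
  have : Fact (Nat.Prime 2) := ⟨Nat.prime_two⟩
  obtain ⟨f, -, hF⟩ := FiniteField.card F 2
  refine ⟨UT n F, isPGroup_UT 2 hF, not_dvd_index_UT 2 hF f.pos hn, ?_⟩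
  apply sq_mem_commutator_of_closure (UT n F) _ UT_eq_closure
  intro s hs
  rw [hs.2]
  exact Subgroup.one_mem _

/-- **K-SQ-PSL (462501)** -/
theorem sylSq_psl (F : Type) [Field F] [Fintype F] [CharP F 2] (n : ℕ) (hn : 2 ≤ n) :
    SylSq (Matrix.ProjectiveSpecialLinearGroup (Fin n) F) :=
  SylSq.quotient _ (sylSq_sl F n (by omega))

end main

end Cfsg.Agent.Lib.Helper53.SQ
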