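import Cfsg.Agent.Lib.Helper38.OhP.Defs
import Cfsg.Agent.Lib.Helper98.Sy4

/-!
# K-OhP-D3 (keystone 597417, architect helper38, pack for S5974): the model

`V := (Fin T → Vb) × Vk`, `Q (a, b) := ∑ j, Qb (a j) + Qk b`, `y (a, b) := (yb ∘ a, b)`.
`exists_model_q_of` takes LEAVES D1, D2, A, S1 of the pack as hypotheses.
-/

set_option autoImplicit false

namespace Cfsg.Agent.Lib.Helper53.OhP

open Module Cfsg.Agent.Lib.Helper98.Elus Cfsg.Agent.Lib.Helper98.Sy Cfsg.Agent.Lib.Helper38.OhP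

universe u
variable {F : Type u} [Field F]

/-- transfer of the type along an injective isometric embedding -/
theorem plusQ_range_iff {A V : Type u} [AddCommGroup A] [Module F A] [FiniteDimensional F A]
    [AddCommGroup V] [Module F V] [FiniteDimensional F V]
    (QA : QuadraticForm F A) (Q : QuadraticForm F V) (ι : A →ₗ[F] V) (hι : Function.Injective ι)
    (hQ : ∀ a, Q (ι a) = QA a) : PlusQ QA ⊤ ↔ PlusQ Q (LinearMap.range ι) := by
  have hfr : finrank F (LinearMap.range ι) = finrank F (⊤ : Submodule F A) := by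
    rw [LinearMap.finrank_range_of_inj hι, finrank_top]
  constructor
  · rintro ⟨U, -, hU, hd⟩
    refine ⟨U.map ι, LinearMap.map_le_range, ?_, ?_⟩
    · rintro u ⟨a, ha, rfl⟩
      rw [hQ]
      exact hU a ha
    · rw [hfr, ← hd, (Submodule.equivMapOfInjective ι hι U).finrank_eq]
  · rintro ⟨U, hUR, hU, hd⟩
    refine ⟨U.comap ι, le_top, ?_, ?_⟩
    · intro a ha
      rw [← hQ]
      exact hU _ ha
    · rw [← hfr, ← hd, (Submodule.equivMapOfInjective ι hι (U.comap ι)).finrank_eq,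
        Submodule.map_comap_eq_of_le hUR]

/-- the fixed part: a space of dimension `k` and prescribed type (`k = 0`: the zero space, which is plus) -/
theorem exists_fixed_part
    (hD2 : ∀ (k : ℕ), Even k → 2 ≤ k → ∀ t : Prop,
      ∃ (V : Type u) (_ : AddCommGroup V) (_ : Module F V) (_ : FiniteDimensional F V)
        (Q : QuadraticForm F V), NonDeg (pB Q) ⊤ ∧ finrank F V = k ∧ (PlusQ Q ⊤ ↔ t))
    (k : ℕ) (hk : Even k) (t : Prop) (ht : 0 < k ∨ t) :
    ∃ (V : Type u) (_ : AddCommGroup V) (_ : Module F V) (_ : FiniteDimensional F V)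
      (Q : QuadraticForm F V), NonDeg (pB Q) ⊤ ∧ finrank F V = k ∧ (PlusQ Q ⊤ ↔ t) := by
  rcases Nat.eq_zero_or_pos k with h0 | hpos
  · subst h0
    have ht' : t := by
      rcases ht with h | h
      · omega
      · exact h
    refine ⟨PUnit.{u + 1}, inferInstance, inferInstance, inferInstance, 0, ?_, ?_, ?_⟩
    · intro x _ _
      exact Subsingleton.elim _ _
    · exact finrank_zero_of_subsingleton
    · constructor
      · intro _
        exact ht'
      · intro _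
        refine ⟨⊥, bot_le, fun u _ => by simp, ?_⟩
        rw [finrank_bot, finrank_top, finrank_zero_of_subsingleton]
  · have h2 : 2 ≤ k := by
      obtain ⟨s, hs⟩ := hk
      omega
    exact hD2 k hk h2 t

section model

variable {Vb Vk : Type u} [AddCommGroup Vb] [Module F Vb] [AddCommGroup Vk] [Module F Vk]

/-- the quadratic form of the model -/
noncomputable def mQ (T : ℕ) (Qb : QuadraticForm F Vb) (Qk : QuadraticForm F Vk) :
    QuadraticForm F ((Fin T → Vb) × Vk) :=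
  (QuadraticMap.pi fun _ : Fin T => Qb).prod Qk

/-- the isometry of the model -/
noncomputable def mY (T : ℕ) (yb : Vb →ₗ[F] Vb) : ((Fin T → Vb) × Vk) →ₗ[F] ((Fin T → Vb) × Vk) :=
  LinearMap.prodMap (LinearMap.pi fun j : Fin T => yb ∘ₗ LinearMap.proj j) LinearMap.id

theorem mQ_apply (T : ℕ) (Qb : QuadraticForm F Vb) (Qk : QuadraticForm F Vk)
    (x : (Fin T → Vb) × Vk) : mQ T Qb Qk x = ∑ j, Qb (x.1 j) + Qk x.2 := by
  simp [mQ, QuadraticMap.prod_apply, QuadraticMap.pi_apply]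

theorem mY_apply (T : ℕ) (yb : Vb →ₗ[F] Vb) (x : (Fin T → Vb) × Vk) :
    mY (Vk := Vk) T yb x = (fun j => yb (x.1 j), x.2) := by
  ext <;> simp [mY]

theorem mY_pow_apply (T : ℕ) (yb : Vb →ₗ[F] Vb) (n : ℕ) (x : (Fin T → Vb) × Vk) :
    (mY (Vk := Vk) T yb ^ n) x = (fun j => (yb ^ n) (x.1 j), x.2) := by
  induction n generalizing x with
  | zero => simp
  | succ n ih =>
    rw [pow_succ, Module.End.mul_apply, mY_apply, ih]
    ext j
    · simp [pow_succ, Module.End.mul_apply]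
    · rfl

theorem pB_mQ (T : ℕ) (Qb : QuadraticForm F Vb) (Qk : QuadraticForm F Vk)
    (x z : (Fin T → Vb) × Vk) :
    pB (mQ T Qb Qk) x z = ∑ j, pB Qb (x.1 j) (z.1 j) + pB Qk x.2 z.2 := by
  show QuadraticMap.polar (mQ T Qb Qk) x z = _
  rw [mQ, QuadraticMap.polar_prod, QuadraticMap.Ring.polar_pi]
  rfl

theorem nonDeg_mQ (T : ℕ) (Qb : QuadraticForm F Vb) (Qk : QuadraticForm F Vk)
    (hb : NonDeg (pB Qb) ⊤) (hk : NonDeg (pB Qk) ⊤) : NonDeg (pB (mQ T Qb Qk)) ⊤ := by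
  classical
  intro x _ hx
  have h1 : ∀ j, x.1 j = 0 := by
    intro j
    apply hb (x.1 j) Submodule.mem_top
    intro v _
    have := hx (Pi.single j v, 0) Submodule.mem_top
    rw [pB_mQ] at this
    simp only [map_zero, add_zero] at this
    rw [Finset.sum_eq_single j] at this
    · simpa using this
    · intro j' _ hne
      simp [Pi.single_eq_of_ne hne]
    · intro h
      exact absurd (Finset.mem_univ j) h
  have h2 : x.2 = 0 := by
    apply hk x.2 Submodule.mem_top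
    intro v _
    have := hx (0, v) Submodule.mem_top
    rw [pB_mQ] at this
    simpa using this
  ext j
  · exact h1 j
  · exact h2

theorem qiso_mY (T : ℕ) (Qb : QuadraticForm F Vb) (Qk : QuadraticForm F Vk) (yb : Vb →ₗ[F] Vb)
    (hyb : QIso Qb yb) : QIso (mQ T Qb Qk) (mY T yb) := by
  intro x
  rw [mY_apply, mQ_apply, mQ_apply]
  simp only [hyb _]

theorem V0_mY (T : ℕ) (yb : Vb →ₗ[F] Vb) (h0 : V0 yb = ⊥) :
    V0 (mY (Vk := Vk) T yb) = LinearMap.range (LinearMap.inr F (Fin T → Vb) Vk) := by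
  ext x
  rw [mem_V0, mY_apply, LinearMap.mem_range]
  constructor
  · intro h
    refine ⟨x.2, ?_⟩
    have h1 : ∀ j, x.1 j = 0 := by
      intro j
      have hj : yb (x.1 j) = x.1 j := congrFun (congrArg Prod.fst h) j
      have : x.1 j ∈ V0 yb := (mem_V0 yb _).2 hj
      rw [h0] at this
      exact (Submodule.mem_bot F).1 this
    ext j
    · simp [h1 j]
    · simp
  · rintro ⟨b, rfl⟩
    ext j
    · simp
    · simp

end model

/-- LEAF D3 with LEAVES D1, D2, A, S1 as hypotheses. -/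
theorem exists_model_q_of [Fintype F] (p f : ℕ) [Fact p.Prime] (hF : Fintype.card F = p ^ f)
    (r : ℕ) [Fact r.Prime] (hpr : p ≠ r) (hr2 : r ≠ 2) (hrF : (r : F) ≠ 0)
    (i c : ℕ) (hi : i = orderOf ((Fintype.card F : ℕ) : ZMod r)) (hc : c = cOf i)
    (T k : ℕ) (hT : 1 ≤ T) (hk : Even k) (hal : 0 < k ∨ tPlus i T)
    (hD1 : ∃ (V : Type u) (_ : AddCommGroup V) (_ : Module F V) (_ : FiniteDimensional F V)
      (Q : QuadraticForm F V) (y : V →ₗ[F] V),
      NonDeg (pB Q) ⊤ ∧ QIso Q y ∧ y ^ r = 1 ∧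
      finrank F V = cOf (orderOf ((Fintype.card F : ℕ) : ZMod r)) ∧ V0 y = ⊥)
    (hD2 : ∀ (k : ℕ), Even k → 2 ≤ k → ∀ t : Prop,
      ∃ (V : Type u) (_ : AddCommGroup V) (_ : Module F V) (_ : FiniteDimensional F V)
        (Q : QuadraticForm F V), NonDeg (pB Q) ⊤ ∧ finrank F V = k ∧ (PlusQ Q ⊤ ↔ t))
    (hA : ∀ (V : Type u) [AddCommGroup V] [Module F V] [FiniteDimensional F V] (Q : QuadraticForm F V)
      (W1 W2 : Submodule F V), NonDeg (pB Q) W1 → NonDeg (pB Q) W2 → Ort (pB Q) W1 W2 →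
      Even (finrank F W1) → Even (finrank F W2) →
      (PlusQ Q (W1 ⊔ W2) ↔ (PlusQ Q W1 ↔ PlusQ Q W2)))
    (hS1 : ∀ (V : Type u) [AddCommGroup V] [Module F V] [FiniteDimensional F V] (Q : QuadraticForm F V),
      NonDeg (pB Q) ⊤ → ∀ (y : V →ₗ[F] V), y ^ r = 1 → QIso Q y →
      ∀ U : Submodule F V, U ≤ V1 r y → Inv y U → NonDeg (pB Q) U →
      cOf (orderOf ((Fintype.card F : ℕ) : ZMod r)) ∣ finrank F U ∧
        (PlusQ Q U ↔ tPlus (orderOf ((Fintype.card F : ℕ) : ZMod r))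
          (finrank F U / cOf (orderOf ((Fintype.card F : ℕ) : ZMod r))))) :
    ∃ (V : Type u) (_ : AddCommGroup V) (_ : Module F V) (_ : FiniteDimensional F V)
      (Q : QuadraticForm F V) (y : V →ₗ[F] V),
      NonDeg (pB Q) ⊤ ∧ PlusQ Q ⊤ ∧ QIso Q y ∧ y ^ r = 1 ∧ y ≠ 1 ∧ finrank F V = T * c + k ∧
      finrank F (V1 r y) = T * c ∧ finrank F (V0 y) = k := by
  classical
  obtain ⟨Vb, iVb1, iVb2, iVb3, Qb, yb, hbnd, hbiso, hbr, hbfr, hb0⟩ := hD1
  obtain ⟨Vk, iVk1, iVk2, iVk3, Qk, hknd, hkfr, hkt⟩ := exists_fixed_part hD2 k hk (tPlus i T) hal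
  have hcpos : 1 ≤ c := by
    rw [hc, hi]
    exact cOf_pos _ (orderOf_card_pos p f hF r hpr)
  have hbfr' : finrank F Vb = c := by rw [hbfr, hc, hi]
  refine ⟨(Fin T → Vb) × Vk, inferInstance, inferInstance, inferInstance, mQ T Qb Qk, mY T yb, ?_⟩
  have hV : NonDeg (pB (mQ T Qb Qk)) ⊤ := nonDeg_mQ T Qb Qk hbnd hknd
  have hiso : QIso (mQ T Qb Qk) (mY (Vk := Vk) T yb) := qiso_mY T Qb Qk yb hbiso
  have hy : mY (Vk := Vk) T yb ^ r = 1 := by
    apply LinearMap.ext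
    intro x
    rw [mY_pow_apply, hbr]
    rfl
  have hfr : finrank F ((Fin T → Vb) × Vk) = T * c + k := by
    rw [Module.finrank_prod, Module.finrank_pi_fintype, hkfr]
    simp [hbfr']
  have hV0 := V0_mY (Vk := Vk) T yb hb0
  have hinr : Function.Injective (LinearMap.inr F (Fin T → Vb) Vk) := LinearMap.inr_injective
  have hfr0 : finrank F (V0 (mY (Vk := Vk) T yb)) = k := by
    rw [hV0, LinearMap.finrank_range_of_inj hinr, hkfr]
  have hsum := finrank_V0_add_V1 r hrF (mY (Vk := Vk) T yb) hy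
  have hfr1 : finrank F (V1 r (mY (Vk := Vk) T yb)) = T * c := by omega
  have hne : mY (Vk := Vk) T yb ≠ 1 := by
    intro h
    have h1 : V0 (mY (Vk := Vk) T yb) = ⊤ := by
      rw [eq_top_iff]
      intro x _
      rw [mem_V0, h]
      rfl
    rw [h1, finrank_top, hfr] at hfr0
    have : 1 * 1 ≤ T * c := Nat.mul_le_mul hT hcpos
    omega
  -- the type
  have hR : (pB (mQ T Qb Qk)).IsRefl := by
    intro a b h
    rw [pB_symm]
    exact h
  have hinvtop : Inv (mY (Vk := Vk) T yb) ⊤ := fun v _ => Submodule.mem_top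
  obtain ⟨hnd0, hnd1⟩ := Cfsg.Agent.Lib.Helper98.Oh.nonDeg_inf_parts_refl hR r hrF _ hy hiso.iso ⊤ hV
    hinvtop
  rw [top_inf_eq] at hnd0 hnd1
  have hort := ort_V0_V1 (B := pB (mQ T Qb Qk)) r hrF _ hy hiso.iso
  have hsup := V0_sup_V1 r hrF (mY (Vk := Vk) T yb) hy
  have hS := hS1 _ (mQ T Qb Qk) hV _ hy hiso (V1 r (mY (Vk := Vk) T yb)) le_rfl (inv_V1 r _) hnd1
  have hquot : finrank F (V1 r (mY (Vk := Vk) T yb)) /
      cOf (orderOf ((Fintype.card F : ℕ) : ZMod r)) = T := by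
    rw [hfr1, hc, hi]
    have hcp : 0 < cOf (orderOf ((Fintype.card F : ℕ) : ZMod r)) := by
      rw [← hi, ← hc]
      omega
    exact Nat.mul_div_cancel T hcp
  have hp1 : PlusQ (mQ T Qb Qk) (V1 r (mY (Vk := Vk) T yb)) ↔ tPlus i T := by
    rw [hS.2, hquot, ← hi]
  have hp0 : PlusQ (mQ T Qb Qk) (V0 (mY (Vk := Vk) T yb)) ↔ tPlus i T := by
    rw [hV0, ← plusQ_range_iff Qk (mQ T Qb Qk) (LinearMap.inr F (Fin T → Vb) Vk) hinr
      (fun b => by simp [mQ_apply])]
    exact hkt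
  have heven1 : Even (finrank F (V1 r (mY (Vk := Vk) T yb))) := by
    rw [hfr1, hc]
    exact (cOf_even i).mul_left T
  have hplus : PlusQ (mQ T Qb Qk) ⊤ := by
    rw [← hsup, hA _ (mQ T Qb Qk) _ _ hnd0 hnd1 hort (by rw [hfr0]; exact hk) heven1, hp0, hp1]
  exact ⟨hV, hplus, hiso, hy, hne, hfr, hfr1, hfr0⟩

end Cfsg.Agent.Lib.Helper53.OhP
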