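import Cfsg.Agent.Lib.Helper53.SL2
import Cfsg.Agent.Lib.Helper53.PReduced2

set_option autoImplicit false

namespace Cfsg.Agent.Lib.Helper53

open Matrix

section QdSylow

variable {F : Type*} [Field F]

/-- a `p`-subgroup of `SL₂(F)`, `F` finite of characteristic `p`, fixes a nonzero vector -/
theorem exists_fixed_vector_of_isPGroup [Fintype F] {p : ℕ} [Fact p.Prime] [CharP F p]
    (P : Subgroup (Matrix.SpecialLinearGroup (Fin 2) F)) (hP : IsPGroup p P) :
    ∃ u : Fin 2 → F, u ≠ 0 ∧ ∀ A ∈ P, A • u = u := by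
  classical
  have hdvd : p ∣ Nat.card (Fin 2 → F) := by
    rw [Nat.card_eq_fintype_card, Fintype.card_fun, Fintype.card_fin]
    obtain ⟨n, hpp, hn⟩ := FiniteField.card F p
    rw [hn]
    exact dvd_pow (dvd_pow_self p n.ne_zero) two_ne_zero
  have h0 : (0 : Fin 2 → F) ∈ MulAction.fixedPoints P (Fin 2 → F) := fun n => by
    rw [smul_zero]
  obtain ⟨b, hb, hb0⟩ := hP.exists_fixed_point_of_prime_dvd_card_of_fixed_point (Fin 2 → F) hdvd h0
  exact ⟨b, Ne.symm hb0, fun A hA => hb ⟨A, hA⟩⟩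

/-- the preimage in `Qd` of the stabilizer of a vector -/
def qstab (u : Fin 2 → F) : Subgroup ↥(Cfsg.qdOver F) :=
  (MulAction.stabilizer (Matrix.SpecialLinearGroup (Fin 2) F) u).comap qlin

theorem mem_qstab_iff (u : Fin 2 → F) (M : ↥(Cfsg.qdOver F)) :
    M ∈ qstab u ↔ qlin M • u = u := Iff.rfl

theorem ker_qlin_le_qstab (u : Fin 2 → F) : (qlin (F := F)).ker ≤ qstab u := by
  intro M hM
  rw [mem_qstab_iff, MonoidHom.mem_ker.1 hM, one_smul]

theorem qtr_mem_qstab (u w : Fin 2 → F) : qtr w ∈ qstab u :=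
  ker_qlin_le_qstab u (by rw [MonoidHom.mem_ker, qlin_qtr])

theorem qemb_mem_qstab_iff (u : Fin 2 → F) (A : Matrix.SpecialLinearGroup (Fin 2) F) :
    qemb A ∈ qstab u ↔ A • u = u := by
  rw [mem_qstab_iff, qlin_qemb]

theorem stabilizer_isPGroup {p : ℕ} [Fact p.Prime] [CharP F p] {u : Fin 2 → F} (hu : u ≠ 0) :
    IsPGroup p (MulAction.stabilizer (Matrix.SpecialLinearGroup (Fin 2) F) u) := by
  rintro ⟨A, hA⟩
  refine ⟨1, ?_⟩
  apply Subtype.ext
  rw [pow_one]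
  exact pow_char_eq_one_of_smul_eq hu hA

theorem qstab_isPGroup {p : ℕ} [Fact p.Prime] [CharP F p] {u : Fin 2 → F} (hu : u ≠ 0) :
    IsPGroup p (qstab u) :=
  (stabilizer_isPGroup hu).comap_of_ker_isPGroup qlin ker_qlin_isPGroup

/-- every Sylow `p`-subgroup of `Qd` is the preimage of a vector stabilizer -/
theorem sylow_eq_qstab [Fintype F] {p : ℕ} [Fact p.Prime] [CharP F p]
    (S : Sylow p ↥(Cfsg.qdOver F)) : ∃ u : Fin 2 → F, u ≠ 0 ∧ (S : Subgroup ↥(Cfsg.qdOver F)) = qstab u := by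
  obtain ⟨u, hu, hfix⟩ := exists_fixed_vector_of_isPGroup (p := p)
    ((S : Subgroup ↥(Cfsg.qdOver F)).map qlin) (S.2.map qlin)
  refine ⟨u, hu, ?_⟩
  have hle : (S : Subgroup ↥(Cfsg.qdOver F)) ≤ qstab u := by
    intro M hM
    rw [mem_qstab_iff]
    exact hfix _ ⟨M, hM, rfl⟩
  exact (S.is_maximal' (qstab_isPGroup hu) hle).symm

/-- conjugation of a translation by an arbitrary element -/
theorem conj_qtr (M : ↥(Cfsg.qdOver F)) (w : Fin 2 → F) :
    M * qtr w * M⁻¹ = qtr (qlin M • w) := by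
  have h1 : M = qtr (qtrans M) * qemb (qlin M) := q_decomp M
  calc M * qtr w * M⁻¹
      = qtr (qtrans M) * (qemb (qlin M) * qtr w * (qemb (qlin M))⁻¹) * (qtr (qtrans M))⁻¹ := by
        conv_lhs => rw [h1]
        group
    _ = qtr (qtrans M) * qtr (qlin M • w) * (qtr (qtrans M))⁻¹ := by rw [qemb_conj_qtr]
    _ = qtr (qlin M • w) := by rw [mul_inv_eq_iff_eq_mul, ← qtr_add, ← qtr_add, add_comm]

/-- commutator of an element with a translation -/
theorem comm_qtr (M : ↥(Cfsg.qdOver F)) (w : Fin 2 → F) :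
    M * qtr w * M⁻¹ * (qtr w)⁻¹ = qtr (qlin M • w - w) := by
  rw [conj_qtr, mul_inv_eq_iff_eq_mul, ← qtr_add, sub_add_cancel]

end QdSylow

end Cfsg.Agent.Lib.Helper53
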