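import Cfsg.Agent.Lib.Helper53.QdSylow

set_option autoImplicit false

namespace Cfsg.Agent.Lib.Helper53

open Matrix

section Heis

variable {F : Type*} [Field F]

/-- Heisenberg matrices -/
def heis (a b c : F) : ↥(Cfsg.qdOver F) := qmk 1 a 0 1 c b (by ring)

theorem qmat_heis (a b c : F) : qmat (heis a b c) = !![1, a, c; 0, 1, b; 0, 0, 1] := rfl

theorem heis_mul (a b c a' b' c' : F) :
    heis a b c * heis a' b' c' = heis (a + a') (b + b') (c + c' + a * b') := by
  apply qmat_inj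
  rw [qmat_mul, qmat_heis, qmat_heis, qmat_heis]
  ext i j
  fin_cases i <;> fin_cases j <;>
    simp [Matrix.mul_apply, Fin.sum_univ_three] <;> ring

theorem heis_zero : heis (0 : F) 0 0 = 1 := by
  apply qmat_inj
  rw [qmat_heis, qmat_one]
  ext i j
  fin_cases i <;> fin_cases j <;> simp

theorem qlin_heis (a b c : F) : qlin (heis a b c) = utr a := by
  apply Matrix.SpecialLinearGroup.ext
  intro i j
  rw [qlin_coe, qmat_heis, utr_coe]
  fin_cases i <;> fin_cases j <;> simp

theorem heis_mem (a b c : F) : heis a b c ∈ qstab (e0 : Fin 2 → F) := by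
  rw [mem_qstab_iff, qlin_heis, smul_e0_eq_iff]
  exact ⟨a, rfl⟩

theorem eq_heis_of_mem {M : ↥(Cfsg.qdOver F)} (h : M ∈ qstab (e0 : Fin 2 → F)) :
    M = heis (qmat M 0 1) (qmat M 1 2) (qmat M 0 2) := by
  rw [mem_qstab_iff, smul_e0_eq_iff] at h
  obtain ⟨b, hb⟩ := h
  have h' := congrArg (fun A : Matrix.SpecialLinearGroup (Fin 2) F => (A : Matrix (Fin 2) (Fin 2) F)) hb
  simp only [qlin_coe, utr_coe] at h'
  have h00 : qmat M 0 0 = 1 := by simpa using congrFun (congrFun h' 0) 0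
  have h10 : qmat M 1 0 = 0 := by simpa using congrFun (congrFun h' 1) 0
  have h11 : qmat M 1 1 = 1 := by simpa using congrFun (congrFun h' 1) 1
  apply qmat_inj
  rw [qmat_heis]
  conv_lhs => rw [qmat_eq M, h00, h10, h11]

theorem heis_injective {a b c a' b' c' : F} (h : heis a b c = heis a' b' c') :
    a = a' ∧ b = b' ∧ c = c' := by
  have h' := congrArg qmat h
  rw [qmat_heis, qmat_heis] at h'
  refine ⟨?_, ?_, ?_⟩
  · simpa using congrFun (congrFun h' 0) 1
  · simpa using congrFun (congrFun h' 1) 2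
  · simpa using congrFun (congrFun h' 0) 2

/-- the swap on Heisenberg matrices, as a raw function -/
def heisSwapFun (M : ↥(Cfsg.qdOver F)) : ↥(Cfsg.qdOver F) :=
  heis (qmat M 1 2) (qmat M 0 1) (qmat M 0 1 * qmat M 1 2 - qmat M 0 2)

theorem heisSwapFun_heis (a b c : F) : heisSwapFun (heis a b c) = heis b a (a * b - c) := by
  unfold heisSwapFun
  rw [qmat_heis]
  simp

/-- the swap automorphism of the Heisenberg group -/
def heisSwap : ↥(qstab (e0 : Fin 2 → F)) ≃* ↥(qstab (e0 : Fin 2 → F)) where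
  toFun M := ⟨heisSwapFun M, heis_mem _ _ _⟩
  invFun M := ⟨heisSwapFun M, heis_mem _ _ _⟩
  left_inv M := by
    apply Subtype.ext
    show heisSwapFun (heisSwapFun (M : ↥(Cfsg.qdOver F))) = M
    rw [eq_heis_of_mem M.2, heisSwapFun_heis, heisSwapFun_heis]
    congr 1
    ring
  right_inv M := by
    apply Subtype.ext
    show heisSwapFun (heisSwapFun (M : ↥(Cfsg.qdOver F))) = M
    rw [eq_heis_of_mem M.2, heisSwapFun_heis, heisSwapFun_heis]
    congr 1
    ring
  map_mul' M N := by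
    apply Subtype.ext
    show heisSwapFun ((M : ↥(Cfsg.qdOver F)) * (N : ↥(Cfsg.qdOver F))) =
      heisSwapFun (M : ↥(Cfsg.qdOver F)) * heisSwapFun (N : ↥(Cfsg.qdOver F))
    rw [eq_heis_of_mem M.2, eq_heis_of_mem N.2, heis_mul, heisSwapFun_heis, heisSwapFun_heis,
      heisSwapFun_heis, heis_mul]
    congr 1
    ring

theorem heisSwap_apply (M : ↥(qstab (e0 : Fin 2 → F))) :
    ((heisSwap M : ↥(qstab (e0 : Fin 2 → F))) : ↥(Cfsg.qdOver F)) = heisSwapFun M := rfl

end Heis

section CharGen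

variable {G : Type*} [Group G]

/-- conjugation by an element of the normalizer, as an automorphism of the subgroup -/
def conjNormalizer (S : Subgroup G) (g : G) (hg : g ∈ Subgroup.normalizer (S : Set G)) :
    ↥S ≃* ↥S where
  toFun s := ⟨g * s * g⁻¹, (Subgroup.mem_normalizer_iff.1 hg s).1 s.2⟩
  invFun s := ⟨g⁻¹ * s * g, (Subgroup.mem_normalizer_iff''.1 hg s).1 s.2⟩
  left_inv s := by
    apply Subtype.ext
    show g⁻¹ * (g * s * g⁻¹) * g = s
    group
  right_inv s := by
    apply Subtype.ext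
    show g * (g⁻¹ * s * g) * g⁻¹ = s
    group
  map_mul' s t := by
    apply Subtype.ext
    show g * (s * t) * g⁻¹ = g * s * g⁻¹ * (g * t * g⁻¹)
    group

theorem normalizer_le_normalizer_map_of_characteristic [Finite G] (S : Subgroup G)
    (T : Subgroup ↥S) (hT : T.Characteristic) :
    Subgroup.normalizer (S : Set G) ≤ Subgroup.normalizer ((T.map S.subtype : Subgroup G) : Set G) := by
  intro g hg
  apply mem_normalizer_of_conj_mem
  rintro _ ⟨t, ht, rfl⟩
  have h1 := hT.fixed (conjNormalizer S g hg)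
  have h2 : t ∈ T.comap (conjNormalizer S g hg).toMonoidHom := by rw [h1]; exact ht
  exact ⟨conjNormalizer S g hg t, h2, rfl⟩

end CharGen

section NotChar

variable {F : Type*} [Field F]

/-- conjugation by `qemb B` carries `qstab e0` to `qstab (B • e0)` -/
def qstabConj (B : Matrix.SpecialLinearGroup (Fin 2) F) (u : Fin 2 → F)
    (hB : B • (e0 : Fin 2 → F) = u) : ↥(qstab (e0 : Fin 2 → F)) ≃* ↥(qstab u) where
  toFun M := ⟨qemb B * M * (qemb B)⁻¹, by
    have h := M.2
    rw [mem_qstab_iff] at h ⊢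
    rw [map_mul, map_mul, map_inv, qlin_qemb, mul_smul, mul_smul, ← hB, inv_smul_smul, h]⟩
  invFun M := ⟨(qemb B)⁻¹ * M * qemb B, by
    have h := M.2
    rw [mem_qstab_iff] at h ⊢
    rw [map_mul, map_mul, map_inv, qlin_qemb, mul_smul, mul_smul, hB, h, ← hB, inv_smul_smul]⟩
  left_inv M := by
    apply Subtype.ext
    show (qemb B)⁻¹ * (qemb B * M * (qemb B)⁻¹) * qemb B = M
    group
  right_inv M := by
    apply Subtype.ext
    show qemb B * ((qemb B)⁻¹ * M * qemb B) * (qemb B)⁻¹ = M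
    group
  map_mul' M N := by
    apply Subtype.ext
    show qemb B * (M * N) * (qemb B)⁻¹ = qemb B * M * (qemb B)⁻¹ * (qemb B * N * (qemb B)⁻¹)
    group

theorem qstabConj_apply (B : Matrix.SpecialLinearGroup (Fin 2) F) (u : Fin 2 → F)
    (hB : B • (e0 : Fin 2 → F) = u) (M : ↥(qstab (e0 : Fin 2 → F))) :
    ((qstabConj B u hB M : ↥(qstab u)) : ↥(Cfsg.qdOver F)) = qemb B * M * (qemb B)⁻¹ := rfl

theorem qlin_qstabConj (B : Matrix.SpecialLinearGroup (Fin 2) F) (u : Fin 2 → F)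
    (hB : B • (e0 : Fin 2 → F) = u) (M : ↥(qstab (e0 : Fin 2 → F))) :
    qlin ((qstabConj B u hB M : ↥(qstab u)) : ↥(Cfsg.qdOver F)) =
      B * qlin (M : ↥(Cfsg.qdOver F)) * B⁻¹ := by
  rw [qstabConj_apply, map_mul, map_mul, map_inv, qlin_qemb]

/-- the translation subgroup is not characteristic in `qstab u` -/
theorem not_characteristic_of_map_eq_ker {u : Fin 2 → F} (hu : u ≠ 0)
    (T : Subgroup ↥(qstab u)) (hT : T.map (qstab u).subtype = (qlin (F := F)).ker) :
    ¬ T.Characteristic := by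
  intro hTc
  obtain ⟨B, hB⟩ := exists_sl2_smul_e0_eq u hu
  have hmem : ∀ x : ↥(qstab u), x ∈ T ↔ qlin (x : ↥(Cfsg.qdOver F)) = 1 := by
    intro x
    rw [← MonoidHom.mem_ker, ← hT]
    constructor
    · intro hx
      exact ⟨x, hx, rfl⟩
    · rintro ⟨t, ht, hte⟩
      have : t = x := Subtype.ext hte
      rw [← this]
      exact ht
  have hv0 : qlin ((⟨heis 0 1 0, heis_mem _ _ _⟩ : ↥(qstab (e0 : Fin 2 → F))) : ↥(Cfsg.qdOver F)) = 1 := by
    show qlin (heis (0 : F) 1 0) = 1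
    rw [qlin_heis, utr_zero]
  have hx : qstabConj B u hB ⟨heis 0 1 0, heis_mem _ _ _⟩ ∈ T := by
    rw [hmem, qlin_qstabConj, hv0, mul_one, mul_inv_cancel]
  have h3 := hTc.fixed ((qstabConj B u hB).symm.trans (heisSwap.trans (qstabConj B u hB)))
  have h4 : qstabConj B u hB ⟨heis 0 1 0, heis_mem _ _ _⟩ ∈
      T.comap ((qstabConj B u hB).symm.trans (heisSwap.trans (qstabConj B u hB))).toMonoidHom := by
    rw [h3]
    exact hx
  rw [Subgroup.mem_comap, MulEquiv.coe_toMonoidHom, MulEquiv.trans_apply,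
    MulEquiv.symm_apply_apply, MulEquiv.trans_apply, hmem, qlin_qstabConj, heisSwap_apply] at h4
  have h5 : heisSwapFun ((⟨heis 0 1 0, heis_mem _ _ _⟩ : ↥(qstab (e0 : Fin 2 → F))) : ↥(Cfsg.qdOver F)) =
      heis (1 : F) 0 (0 * 1 - 0) := heisSwapFun_heis 0 1 0
  rw [h5, qlin_heis] at h4
  have h8 : utr (1 : F) = 1 := by
    have h9 : B⁻¹ * (B * utr (1 : F) * B⁻¹) * B = B⁻¹ * 1 * B := by rw [h4]
    have h10 : B⁻¹ * (B * utr (1 : F) * B⁻¹) * B = utr (1 : F) := by group
    rw [h10] at h9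
    rw [h9]
    group
  rw [utr_eq_one_iff] at h8
  exact one_ne_zero h8

end NotChar

section Core

theorem finite_qdOver {F : Type*} [Field F] [Finite F] : Finite ↥(Cfsg.qdOver F) :=
  Finite.of_injective (fun M : ↥(Cfsg.qdOver F) => qmat M) (fun _ _ h => qmat_inj h)

/-- elements whose linear part stabilizes the line of `u` normalize `qstab u` -/
theorem mem_normalizer_qstab {F : Type*} [Field F] [Finite F] {u : Fin 2 → F} (hu : u ≠ 0)
    {g : ↥(Cfsg.qdOver F)} {c : F} (hc : qlin g • u = c • u) :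
    g ∈ Subgroup.normalizer ((qstab u : Subgroup ↥(Cfsg.qdOver F)) : Set ↥(Cfsg.qdOver F)) := by
  have := finite_qdOver (F := F)
  have hc0 : c ≠ 0 := by
    rintro rfl
    rw [zero_smul, smul_eq_iff_eq_inv_smul, smul_zero] at hc
    exact hu hc
  have hinv : (qlin g)⁻¹ • u = c⁻¹ • u := by
    rw [inv_smul_eq_iff, smul_comm (qlin g) c⁻¹ u, hc, smul_smul, inv_mul_cancel₀ hc0, one_smul]
  apply mem_normalizer_of_conj_mem
  intro s hs
  rw [mem_qstab_iff] at hs ⊢
  rw [map_mul, map_mul, map_inv, mul_smul, mul_smul, hinv, smul_comm (qlin s) c⁻¹ u, hs,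
    smul_comm (qlin g) c⁻¹ u, hc, smul_smul, inv_mul_cancel₀ hc0, one_smul]

variable {p : ℕ} [Fact p.Prime]

theorem qtr_zmod_smul_mem {T' : Subgroup ↥(Cfsg.qdOver (ZMod p))} {w : Fin 2 → ZMod p}
    (h : qtr w ∈ T') (c : ZMod p) : qtr (c • w) ∈ T' := by
  have h1 : c • w = c.val • w := by
    rw [← Nat.cast_smul_eq_nsmul (ZMod p), ZMod.natCast_zmod_val]
  rw [h1, qtr_nsmul]
  exact T'.pow_mem h _

theorem eq_smul_of_inv_smul_one_eq_zero {F : Type*} [Field F]
    {B : Matrix.SpecialLinearGroup (Fin 2) F} {u : Fin 2 → F}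
    (hB : B • (e0 : Fin 2 → F) = u) {w : Fin 2 → F} (h : (B⁻¹ • w) 1 = 0) :
    w = (B⁻¹ • w) 0 • u := by
  rw [← hB, ← smul_comm, eq_comm, smul_eq_iff_eq_inv_smul]
  ext i
  fin_cases i
  · simp [e0]
  · simpa [e0] using h.symm

theorem qd_core (S' : Subgroup ↥(Cfsg.qdOver (ZMod p))) (u : Fin 2 → ZMod p) (hu : u ≠ 0)
    (hS : S' = qstab u) (T : Subgroup ↥S') (hT : T ≠ ⊥) (hTc : T.Characteristic) :
    Subgroup.normalizer ((T.map S'.subtype : Subgroup ↥(Cfsg.qdOver (ZMod p))) : Set ↥(Cfsg.qdOver (ZMod p))) =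
      Subgroup.normalizer (S' : Set ↥(Cfsg.qdOver (ZMod p))) ∧
    Subgroup.normalizer (S' : Set ↥(Cfsg.qdOver (ZMod p))) ≠ ⊤ := by
  subst hS
  have hfin := finite_qdOver (F := ZMod p)
  obtain ⟨B, hB⟩ := exists_sl2_smul_e0_eq u hu
  have hT'S : T.map (qstab u).subtype ≤ qstab u := by
    rintro _ ⟨t, _, rfl⟩
    exact t.2
  have hA : B * utr (1 : ZMod p) * B⁻¹ ≠ 1 := by
    intro h
    have h9 : B⁻¹ * (B * utr (1 : ZMod p) * B⁻¹) * B = B⁻¹ * 1 * B := by rw [h]
    have h10 : B⁻¹ * (B * utr (1 : ZMod p) * B⁻¹) * B = utr (1 : ZMod p) := by group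
    rw [h10] at h9
    have h8 : utr (1 : ZMod p) = 1 := by
      rw [h9]
      group
    rw [utr_eq_one_iff] at h8
    exact one_ne_zero h8
  have hAu : (B * utr (1 : ZMod p) * B⁻¹) • u = u := (smul_eq_iff_of_smul_e0 hB _).2 ⟨1, rfl⟩
  have hs : qemb (B * utr (1 : ZMod p) * B⁻¹) ∈ qstab u := (qemb_mem_qstab_iff _ _).2 hAu
  have hge := normalizer_le_normalizer_map_of_characteristic (qstab u) T hTc
  have hST : qstab u ≤ Subgroup.normalizer
      ((T.map (qstab u).subtype : Subgroup ↥(Cfsg.qdOver (ZMod p))) : Set ↥(Cfsg.qdOver (ZMod p))) :=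
    le_trans Subgroup.le_normalizer hge
  constructor
  · apply le_antisymm _ hge
    intro g hg
    by_contra hgS
    have hx : ∀ c : ZMod p, qlin g • u ≠ c • u := fun c hc => hgS (mem_normalizer_qstab hu hc)
    -- Step 1
    have h1 : ∀ t ∈ T.map (qstab u).subtype, qlin t = 1 := by
      intro t ht
      by_contra hne
      have htS : qlin t • u = u := hT'S ht
      have hgt : g * t * g⁻¹ ∈ T.map (qstab u).subtype :=
        (Subgroup.mem_normalizer_iff.1 hg t).1 ht
      have h2 : qlin (g * t * g⁻¹) • u = u := hT'S hgt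
      rw [map_mul, map_mul, map_inv, mul_smul, mul_smul, smul_eq_iff_eq_inv_smul] at h2
      obtain ⟨c, hc⟩ := eq_smul_of_smul_eq hu htS hne h2
      have hc0 : c ≠ 0 := by
        rintro rfl
        rw [zero_smul, inv_smul_eq_iff, smul_zero] at hc
        exact hu hc
      apply hx c⁻¹
      rw [inv_smul_eq_iff, smul_comm] at hc
      rw [eq_comm, inv_smul_eq_iff₀ hc0]
      exact hc
    -- Step 2
    have h2 : ∃ c : ZMod p, c ≠ 0 ∧ qtr (c • u) ∈ T.map (qstab u).subtype := by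
      obtain ⟨t, ht, ht1⟩ : ∃ t ∈ T.map (qstab u).subtype, t ≠ 1 := by
        obtain ⟨⟨t, ht⟩, ht1⟩ := (Subgroup.ne_bot_iff_exists_ne_one).1 hT
        refine ⟨(t : ↥(qstab u)), ⟨_, ht, rfl⟩, ?_⟩
        intro h
        apply ht1
        apply Subtype.ext
        apply Subtype.ext
        exact h
      have hker := (mem_ker_qlin_iff_eq_qtr t).1 (MonoidHom.mem_ker.2 (h1 t ht))
      have hw0 : qtrans t ≠ 0 := by
        intro h
        apply ht1
        rw [hker, h, qtr_zero]
      by_cases hwu : ∃ c : ZMod p, qtrans t = c • u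
      · obtain ⟨c, hc⟩ := hwu
        refine ⟨c, ?_, ?_⟩
        · rintro rfl
          rw [zero_smul] at hc
          exact hw0 hc
        · rw [← hc, ← hker]
          exact ht
      · have hcomm : qemb (B * utr (1 : ZMod p) * B⁻¹) * t * (qemb (B * utr (1 : ZMod p) * B⁻¹))⁻¹ * t⁻¹ ∈
            T.map (qstab u).subtype :=
          Subgroup.mul_mem _ ((Subgroup.mem_normalizer_iff.1 (hST hs) t).1 ht) (Subgroup.inv_mem _ ht)
        rw [hker, comm_qtr, qlin_qemb, smul_sub_eq_smul hB] at hcomm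
        refine ⟨1 * (B⁻¹ • qtrans t) 1, ?_, hcomm⟩
        intro h0
        apply hwu
        rw [one_mul] at h0
        exact ⟨_, eq_smul_of_inv_smul_one_eq_zero hB h0⟩
    -- Step 3
    obtain ⟨c, hc0, hc⟩ := h2
    have hu' : qtr u ∈ T.map (qstab u).subtype := by
      have := qtr_zmod_smul_mem hc c⁻¹
      rwa [smul_smul, inv_mul_cancel₀ hc0, one_smul] at this
    have hxT : qtr (qlin g • u) ∈ T.map (qstab u).subtype := by
      rw [← conj_qtr]
      exact (Subgroup.mem_normalizer_iff.1 hg _).1 hu'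
    have hx1 : (B⁻¹ • (qlin g • u)) 1 ≠ 0 := by
      intro h0
      exact hx _ (eq_smul_of_inv_smul_one_eq_zero hB h0)
    have hall : ∀ y : Fin 2 → ZMod p, qtr y ∈ T.map (qstab u).subtype := by
      intro y
      have hlin : ∀ (a b : ZMod p), B⁻¹ • (a • u + b • (qlin g • u)) =
          a • (e0 : Fin 2 → ZMod p) + b • (B⁻¹ • (qlin g • u)) := by
        intro a b
        rw [smul_add, smul_comm B⁻¹ a u, smul_comm B⁻¹ b (qlin g • u)]
        congr 2
        rw [← hB, inv_smul_smul]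
      have hy : y = ((B⁻¹ • y) 0 - (B⁻¹ • y) 1 / (B⁻¹ • (qlin g • u)) 1 * (B⁻¹ • (qlin g • u)) 0) • u +
          ((B⁻¹ • y) 1 / (B⁻¹ • (qlin g • u)) 1) • (qlin g • u) := by
        apply (MulAction.injective B⁻¹)
        show B⁻¹ • y = B⁻¹ • (_ + _)
        rw [hlin]
        ext i
        fin_cases i
        · simp [e0]
        · simp [e0]
          field_simp
      rw [hy, qtr_add]
      exact Subgroup.mul_mem _ (qtr_zmod_smul_mem hu' _) (qtr_zmod_smul_mem hxT _)
    -- Step 4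
    apply not_characteristic_of_map_eq_ker hu T _ hTc
    ext M
    constructor
    · intro hM
      exact MonoidHom.mem_ker.2 (h1 M hM)
    · intro hM
      rw [(mem_ker_qlin_iff_eq_qtr M).1 hM]
      exact hall _
  · intro htop
    have hn : (qstab u).Normal := Subgroup.normalizer_eq_top_iff.1 htop
    have hle := normal_pGroup_le_ker_qlin (p := p) (qstab u) hn (qstab_isPGroup hu)
    have h3 := hle hs
    rw [MonoidHom.mem_ker, qlin_qemb] at h3
    exact hA h3

end Core

end Cfsg.Agent.Lib.Helper53
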