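import Mathlib
import Cfsg.Prelude.Def_GeometricClasses
import Cfsg.Agent.Lib.Helper61.AschDefs
import Cfsg.Agent.Lib.Helper43.SpAschDefs
import Cfsg.Agent.Lib.Helper43.SpAschDefs2

/-!
K-SpAsch-Eb1 (keystone 566226): adjoint-closed factor algebras of a tensor power structure force the Gram
matrix of a symplectic form to be a scalar multiple of a Kronecker power `⊗ G i`, each `G i` symmetric or skew.
Elementary block argument (no Skolem-Noether).
-/

set_option autoImplicit false

namespace Cfsg.Agent.Lib.Helper53.SpAsch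

open Cfsg Cfsg.Geo Cfsg.Agent.Lib.Helper61.Asch Cfsg.Agent.Lib.Helper43.SpAsch
open scoped Matrix Kronecker MatrixGroups

section block

variable {F : Type*} [Field F] {α β : Type*} [Fintype α] [DecidableEq α] [Fintype β] [DecidableEq β]

omit [DecidableEq α] in
/-- Entry formula for `H * (y ⊗ 1) * G`. -/
theorem eb1_entry (H G : Matrix (α × β) (α × β) F) (y : Matrix α α F) (p r : α) (k l : β) :
    (H * (y ⊗ₖ (1 : Matrix β β F)) * G) (p, k) (r, l) =
      ∑ i, ∑ j, y i j * ∑ m, H (p, k) (i, m) * G (j, m) (r, l) := by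
  simp only [Matrix.mul_apply, Fintype.sum_prod_type, Matrix.kroneckerMap_apply, Matrix.one_apply,
    mul_ite, mul_one, mul_zero, Finset.sum_ite_eq', Finset.mem_univ, if_true]
  simp only [Finset.sum_mul, Finset.mul_sum]
  calc _ = ∑ j, ∑ i, ∑ m, H (p, k) (i, m) * y i j * G (j, m) (r, l) :=
        Finset.sum_congr rfl fun j _ => Finset.sum_comm
    _ = ∑ i, ∑ j, ∑ m, H (p, k) (i, m) * y i j * G (j, m) (r, l) := Finset.sum_comm
    _ = _ := by
      refine Finset.sum_congr rfl fun i _ => Finset.sum_congr rfl fun j _ =>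
        Finset.sum_congr rfl fun m _ => ?_
      ring

/-- If conjugation by `G` maps `M_α ⊗ 1` into itself then `G` is a Kronecker product. -/
theorem eb1_kron [Nonempty α] [Nonempty β] (H G : Matrix (α × β) (α × β) F) (hHG : H * G = 1)
    (hc : ∀ y : Matrix α α F, ∃ z : Matrix α α F,
      H * (y ⊗ₖ (1 : Matrix β β F)) * G = z ⊗ₖ (1 : Matrix β β F)) :
    ∃ (G₁ : Matrix α α F) (G₂ : Matrix β β F), G = G₁ ⊗ₖ G₂ := by
  classical
  choose φ hφ using hc
  have key : ∀ (i j p r : α) (k l : β),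
      ∑ m, H (p, k) (i, m) * G (j, m) (r, l) =
        φ (Matrix.single i j 1) p r * (if k = l then 1 else 0) := by
    intro i j p r k l
    have h1 := congrFun (congrFun (hφ (Matrix.single i j 1)) (p, k)) (r, l)
    rw [eb1_entry] at h1
    simp only [Matrix.kroneckerMap_apply, Matrix.one_apply] at h1
    rw [← h1]
    rw [Finset.sum_eq_single i, Finset.sum_eq_single j]
    · simp
    · intro j' _ hj'
      simp [hj'.symm]
    · simp
    · intro i' _ hi'
      apply Finset.sum_eq_zero
      intro j' _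
      simp [hi'.symm]
    · simp
  obtain ⟨p₀⟩ := ‹Nonempty α›
  obtain ⟨k₀⟩ := ‹Nonempty β›
  have h1 : ∑ i, φ (Matrix.single i i 1) p₀ p₀ = 1 := by
    have := congrFun (congrFun hHG (p₀, k₀)) (p₀, k₀)
    rw [Matrix.mul_apply, Fintype.sum_prod_type] at this
    simp only [Matrix.one_apply_eq] at this
    refine Eq.trans ?_ this
    apply Finset.sum_congr rfl
    intro i _
    rw [key i i p₀ p₀ k₀ k₀]
    simp
  obtain ⟨i₀, hi₀⟩ : ∃ i, φ (Matrix.single i i 1) p₀ p₀ ≠ 0 := by
    by_contra hcon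
    push Not at hcon
    simp [hcon] at h1
  set s := φ (Matrix.single i₀ i₀ 1) p₀ p₀ with hs
  let B : Matrix β β F := Matrix.of fun k m => H (p₀, k) (i₀, m)
  let C : Matrix β β F := Matrix.of fun m l => G (i₀, m) (p₀, l)
  have hBC : B * C = s • (1 : Matrix β β F) := by
    ext k l
    simp only [Matrix.mul_apply, B, C, Matrix.of_apply, Matrix.smul_apply, Matrix.one_apply,
      smul_eq_mul]
    exact key i₀ i₀ p₀ p₀ k l
  have hCB : (s⁻¹ • C) * B = 1 := by
    have : B * (s⁻¹ • C) = 1 := by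
      rw [Matrix.mul_smul, hBC, smul_smul, inv_mul_cancel₀ hi₀, one_smul]
    exact mul_eq_one_comm.mp this
  refine ⟨Matrix.of fun j r => s⁻¹ * φ (Matrix.single i₀ j 1) p₀ r, C, ?_⟩
  ext ⟨j, m⟩ ⟨r, l⟩
  simp only [Matrix.kroneckerMap_apply, Matrix.of_apply]
  let D : Matrix β β F := Matrix.of fun m l => G (j, m) (r, l)
  have hBD : B * D = φ (Matrix.single i₀ j 1) p₀ r • (1 : Matrix β β F) := by
    ext k l
    simp only [Matrix.mul_apply, B, D, Matrix.of_apply, Matrix.smul_apply, Matrix.one_apply,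
      smul_eq_mul]
    exact key i₀ j p₀ r k l
  have hD : D = (s⁻¹ * φ (Matrix.single i₀ j 1) p₀ r) • C := by
    calc D = ((s⁻¹ • C) * B) * D := by rw [hCB, Matrix.one_mul]
      _ = (s⁻¹ • C) * (B * D) := Matrix.mul_assoc _ _ _
      _ = _ := by rw [hBD, Matrix.mul_smul, Matrix.mul_one, smul_smul, mul_comm]
  have := congrFun (congrFun hD m) l
  simpa [D, C] using this

end block

section combine

variable {F : Type*} [Field F] {t m : ℕ}

/-- A matrix on `Fin t → Fin m` which is of rank one in every tensor factor is a multiple of a pure tensor. -/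
theorem eb1_prod (Φ : Matrix (Fin t → Fin m) (Fin t → Fin m) F) (A : Fin t → Matrix (Fin m) (Fin m) F)
    (hswap : ∀ (i : Fin t) (a b : Fin t → Fin m) (p q : Fin m),
      Φ (Function.update a i p) (Function.update b i q) * A i (a i) (b i) = A i p q * Φ a b)
    (a₀ b₀ : Fin t → Fin m) :
    ∀ a b, Φ a b * ∏ i, A i (a₀ i) (b₀ i) = Φ a₀ b₀ * ∏ i, A i (a i) (b i) := by
  classical
  have key : ∀ S : Finset (Fin t), ∀ a b : Fin t → Fin m,
      (∀ j, j ∉ S → a j = a₀ j ∧ b j = b₀ j) →
      Φ a b * ∏ i ∈ S, A i (a₀ i) (b₀ i) = Φ a₀ b₀ * ∏ i ∈ S, A i (a i) (b i) := by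
    intro S
    induction S using Finset.induction_on with
    | empty =>
      intro a b h
      have ha : a = a₀ := funext fun j => (h j (Finset.notMem_empty j)).1
      have hb : b = b₀ := funext fun j => (h j (Finset.notMem_empty j)).2
      simp [ha, hb]
    | insert i S hi ih =>
      intro a b h
      have h1 := ih (Function.update a i (a₀ i)) (Function.update b i (b₀ i)) (by
        intro j hj
        by_cases hji : j = i
        · subst hji
          simp
        · have := h j (by simp [hji, hj])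
          simp [Function.update_of_ne hji, this])
      have h2 := hswap i (Function.update a i (a₀ i)) (Function.update b i (b₀ i)) (a i) (b i)
      simp only [Function.update_idem, Function.update_eq_self, Function.update_self] at h2
      rw [Finset.prod_insert hi, Finset.prod_insert hi]
      have h3 : ∏ j ∈ S, A j (Function.update a i (a₀ i) j) (Function.update b i (b₀ i) j) =
          ∏ j ∈ S, A j (a j) (b j) := by
        apply Finset.prod_congr rfl
        intro j hj
        have hji : j ≠ i := fun h => hi (h ▸ hj)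
        rw [Function.update_of_ne hji, Function.update_of_ne hji]
      rw [h3] at h1
      linear_combination (∏ j ∈ S, A j (a₀ j) (b₀ j)) * h2 + A i (a i) (b i) * h1
  intro a b
  exact key Finset.univ a b (fun j hj => absurd (Finset.mem_univ j) hj)

end combine

section main

variable {F : Type*} [Field F] [Fintype F] {n : ℕ}

omit [Fintype F] in
/-- `pureAt` is `x ⊗ 1` read through `Equiv.funSplitAt`. -/
theorem eb1_pureAt_eq (m t : ℕ) (i : Fin t) (x : Matrix (Fin m) (Fin m) F) :
    pureAt m t i x = (x ⊗ₖ (1 : Matrix ({j // j ≠ i} → Fin m) ({j // j ≠ i} → Fin m) F)).submatrix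
      (Equiv.funSplitAt i (Fin m)) (Equiv.funSplitAt i (Fin m)) := by
  classical
  ext u v
  simp only [pureAt, Matrix.submatrix_apply, Matrix.kroneckerMap_apply, Equiv.funSplitAt_apply,
    Matrix.one_apply]
  have hiff : (∀ j, j ≠ i → u j = v j) ↔
      ((fun j : {j // j ≠ i} => u j) = fun j : {j // j ≠ i} => v j) := by
    constructor
    · intro h
      funext j
      exact h j j.2
    · intro h j hj
      exact congrFun h ⟨j, hj⟩
  by_cases h : ∀ j, j ≠ i → u j = v j
  · rw [if_pos h, if_pos (hiff.mp h), mul_one]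
  · rw [if_neg h, if_neg (fun h' => h (hiff.mpr h')), mul_zero]

/-- **K-SpAsch-Eb1**. -/
theorem exists_gram_power {f : (Fin n → F) → (Fin n → F) → F} (hf : IsSymplecticForm f) (m t : ℕ)
    (hm : 0 < m) (e : Fin n ≃ (Fin t → Fin m)) (P : GL (Fin n) F)
    (hadj : ∀ i, AdjClosedSet f (factorSet m t e P i)) :
    ∃ (G : Fin t → Matrix (Fin m) (Fin m) F) (ε : Fin t → F) (c : F), c ≠ 0 ∧ (∀ i, IsUnit (G i)) ∧
      (∀ i, ε i = 1 ∨ ε i = -1) ∧ (∀ i, (G i)ᵀ = ε i • G i) ∧ ∏ i, ε i = -1 ∧
      IsPowerForm f m t e P c G := by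
  classical
  have hb := hf.bilinear
  have : Nonempty (Fin m) := ⟨⟨0, hm⟩⟩
  set Pm : Matrix (Fin n) (Fin n) F := (P : Matrix (Fin n) (Fin n) F) with hPm
  set Pj : Matrix (Fin n) (Fin n) F := ((P⁻¹ : GL (Fin n) F) : Matrix (Fin n) (Fin n) F) with hPj
  have hPP : Pm * Pj = 1 := by
    rw [hPm, hPj, ← Units.val_mul, mul_inv_cancel, Units.val_one]
  have hPP' : Pj * Pm = 1 := by
    rw [hPm, hPj, ← Units.val_mul, inv_mul_cancel, Units.val_one]
  let R : Matrix (Fin n) (Fin t → Fin m) F := Pm.submatrix id e.symm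
  let R' : Matrix (Fin t → Fin m) (Fin n) F := Pj.submatrix e.symm id
  have hRR : R' * R = 1 := by
    have : R' * R = (Pj * Pm).submatrix e.symm e.symm :=
      (Matrix.submatrix_mul _ _ _ _ _ Function.bijective_id).symm
    rw [this, hPP', Matrix.submatrix_one_equiv]
  have hRR' : R * R' = 1 := by
    have : R * R' = (Pm * Pj).submatrix id id := Matrix.submatrix_mul_equiv _ _ _ _ _
    rw [this, hPP, Matrix.submatrix_id_id]
  have hRvec : ∀ x : (Fin t → Fin m) → F, Pm *ᵥ (x ∘ e) = R *ᵥ x := by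
    intro x
    have := Matrix.submatrix_mulVec_equiv Pm x id e.symm
    simpa using this.symm
  have htl : ∀ (M : Matrix (Fin t → Fin m) (Fin t → Fin m) F) (x : (Fin t → Fin m) → F),
      (Pm * Matrix.reindex e.symm e.symm M * Pj) *ᵥ (R *ᵥ x) = R *ᵥ (M *ᵥ x) := by
    intro M x
    rw [← hRvec, ← hRvec]
    rw [← Matrix.mulVec_mulVec, ← Matrix.mulVec_mulVec, Matrix.mulVec_mulVec _ Pj Pm,
      hPP', Matrix.one_mulVec]
    congr 1
    rw [Matrix.reindex_apply, Matrix.submatrix_mulVec_equiv]
    simp [Function.comp_assoc]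
  -- the form in the new coordinates, as a bilinear map
  let B' : ((Fin t → Fin m) → F) →ₗ[F] ((Fin t → Fin m) → F) →ₗ[F] F :=
    LinearMap.mk₂ F (fun x y => f (R *ᵥ x) (R *ᵥ y))
      (by intro x x' y; simp only [Matrix.mulVec_add]; exact hb.add_left _ _ _)
      (by intro c x y; simp only [Matrix.mulVec_smul]; rw [hb.smul_left]; rfl)
      (by intro x y y'; simp only [Matrix.mulVec_add]; exact hb.add_right _ _ _)
      (by intro c x y; simp only [Matrix.mulVec_smul]; rw [hb.smul_right]; rfl)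
  set Φ : Matrix (Fin t → Fin m) (Fin t → Fin m) F := LinearMap.toMatrix₂' F B' with hΦ
  have hform : ∀ x y : (Fin t → Fin m) → F, f (R *ᵥ x) (R *ᵥ y) = x ⬝ᵥ (Φ *ᵥ y) := by
    intro x y
    rw [← Matrix.toLinearMap₂'_apply', hΦ, Matrix.toLinearMap₂'_toMatrix']
    rfl
  have hΦentry : ∀ a b, Φ a b = f (R *ᵥ Pi.single a 1) (R *ᵥ Pi.single b 1) := by
    intro a b
    rfl
  have hskew : ∀ a b, Φ b a = - Φ a b := by
    intro a b
    rw [hΦentry, hΦentry]
    exact hf.skew _ _
  have hdet : Φ.det ≠ 0 := by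
    intro h0
    obtain ⟨y, hy0, hy⟩ := Matrix.exists_mulVec_eq_zero_iff.mpr h0
    have hRy : R *ᵥ y ≠ 0 := by
      intro h
      apply hy0
      have := congrArg (fun w => R' *ᵥ w) h
      simpa [Matrix.mulVec_mulVec, hRR] using this
    obtain ⟨⟨u, hu⟩, _⟩ := hf.nondegenerate _ hRy
    apply hu
    have h1 := hform (R' *ᵥ u) y
    rw [Matrix.mulVec_mulVec, hRR', Matrix.one_mulVec, hy] at h1
    simpa using h1
  set Ψ : Matrix (Fin t → Fin m) (Fin t → Fin m) F := Φ⁻¹ with hΨ
  have hΨΦ : Ψ * Φ = 1 := Matrix.nonsing_inv_mul _ (isUnit_iff_ne_zero.mpr hdet)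
  -- adjoint-closedness in matrix form
  have hadjM : ∀ (i : Fin t) (x : Matrix (Fin m) (Fin m) F), ∃ x' : Matrix (Fin m) (Fin m) F,
      (pureAt m t i x)ᵀ * Φ = Φ * pureAt m t i x' := by
    intro i x
    obtain ⟨k', ⟨x', rfl⟩, hk'⟩ := hadj i _ ⟨x, rfl⟩
    refine ⟨x', ?_⟩
    ext a b
    have h1 := hk' (R *ᵥ Pi.single a 1) (R *ᵥ Pi.single b 1)
    simp only [← hPm, ← hPj] at h1
    rw [htl, htl, hform, hform, Matrix.mulVec_mulVec, Matrix.dotProduct_mulVec,
        ← Matrix.mulVec_transpose, Matrix.mulVec_mulVec] at h1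
    have h4 : ((pureAt m t i x)ᵀ * Φ) a b = (Φᵀ * pureAt m t i x) b a := by
      rw [← Matrix.transpose_apply (Φᵀ * _), Matrix.transpose_mul, Matrix.transpose_transpose]
    rw [h4]
    simpa [Matrix.mulVec_single_one] using h1
  have hpT : ∀ (i : Fin t) (y : Matrix (Fin m) (Fin m) F),
      (pureAt m t i yᵀ)ᵀ = pureAt m t i y := by
    intro i y
    ext u v
    simp only [Matrix.transpose_apply, pureAt]
    by_cases h : ∀ j, j ≠ i → u j = v j
    · rw [if_pos h, if_pos (fun j hj => (h j hj).symm)]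
    · rw [if_neg h, if_neg (fun h' => h (fun j hj => (h' j hj).symm))]
  -- Kronecker decomposition in every factor
  have hkron : ∀ i : Fin t, ∃ (A : Matrix (Fin m) (Fin m) F)
      (B : Matrix ({j // j ≠ i} → Fin m) ({j // j ≠ i} → Fin m) F),
      Φ.submatrix (Equiv.funSplitAt i (Fin m)).symm (Equiv.funSplitAt i (Fin m)).symm = A ⊗ₖ B := by
    intro i
    set s := Equiv.funSplitAt i (Fin m) with hs
    have hΨΦi : Ψ.submatrix s.symm s.symm * Φ.submatrix s.symm s.symm = 1 := by
      rw [Matrix.submatrix_mul_equiv, hΨΦ, Matrix.submatrix_one_equiv]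
    apply eb1_kron _ _ hΨΦi
    intro y
    obtain ⟨x', hx'⟩ := hadjM i yᵀ
    rw [hpT] at hx'
    refine ⟨x', ?_⟩
    have h1 : (y ⊗ₖ (1 : Matrix ({j // j ≠ i} → Fin m) ({j // j ≠ i} → Fin m) F)) *
        Φ.submatrix s.symm s.symm = Φ.submatrix s.symm s.symm *
        (x' ⊗ₖ (1 : Matrix ({j // j ≠ i} → Fin m) ({j // j ≠ i} → Fin m) F)) := by
      have h2 := congrArg (fun M => M.submatrix s.symm s.symm) hx'
      simp only [eb1_pureAt_eq, ← hs] at h2
      rw [← Matrix.submatrix_mul_equiv _ _ _ s.symm, ← Matrix.submatrix_mul_equiv _ _ _ s.symm] at h2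
      simpa [Matrix.submatrix_submatrix] using h2
    rw [Matrix.mul_assoc, h1, ← Matrix.mul_assoc, hΨΦi, Matrix.one_mul]
  choose A B hAB using hkron
  have hΦAB : ∀ (i : Fin t) (a b : Fin t → Fin m),
      Φ a b = A i (a i) (b i) * B i (fun j => a j) (fun j => b j) := by
    intro i a b
    have h1 := congrFun (congrFun (hAB i) (Equiv.funSplitAt i (Fin m) a))
      (Equiv.funSplitAt i (Fin m) b)
    rw [Matrix.submatrix_apply, Equiv.symm_apply_apply, Equiv.symm_apply_apply] at h1
    rw [h1]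
    simp [Matrix.kroneckerMap_apply]
  have hswap : ∀ (i : Fin t) (a b : Fin t → Fin m) (p q : Fin m),
      Φ (Function.update a i p) (Function.update b i q) * A i (a i) (b i) = A i p q * Φ a b := by
    intro i a b p q
    rw [hΦAB i (Function.update a i p), hΦAB i a b]
    have h1 : (fun j : {j // j ≠ i} => Function.update a i p j) = fun j : {j // j ≠ i} => a j := by
      funext j
      exact Function.update_of_ne j.2 _ _
    have h2 : (fun j : {j // j ≠ i} => Function.update b i q j) = fun j : {j // j ≠ i} => b j := by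
      funext j
      exact Function.update_of_ne j.2 _ _
    rw [h1, h2, Function.update_self, Function.update_self]
    ring
  -- units
  have hAunit : ∀ i, IsUnit (A i) := by
    intro i
    have h1 : (A i ⊗ₖ B i).det ≠ 0 := by
      rw [← hAB i]
      apply Matrix.det_ne_zero_of_left_inverse (B := Ψ.submatrix (Equiv.funSplitAt i (Fin m)).symm
        (Equiv.funSplitAt i (Fin m)).symm)
      rw [Matrix.submatrix_mul_equiv, hΨΦ, Matrix.submatrix_one_equiv]
    rw [Matrix.det_kronecker] at h1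
    rw [Matrix.isUnit_iff_isUnit_det, isUnit_iff_ne_zero]
    intro h0
    apply h1
    rw [h0, zero_pow Fintype.card_ne_zero, zero_mul]
  -- base point
  obtain ⟨a₀, b₀, h0⟩ : ∃ a b, Φ a b ≠ 0 := by
    by_contra hcon
    push Not at hcon
    have hz : Φ = 0 := by
      ext a b
      exact hcon a b
    have h1 := congrFun (congrFun hΨΦ (fun _ => ⟨0, hm⟩)) (fun _ => ⟨0, hm⟩)
    rw [hz, Matrix.mul_zero] at h1
    simp at h1
  have hA0 : ∀ i, A i (a₀ i) (b₀ i) ≠ 0 := by
    intro i h
    apply h0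
    rw [hΦAB i, h, zero_mul]
  have hD : ∏ i, A i (a₀ i) (b₀ i) ≠ 0 := Finset.prod_ne_zero_iff.mpr fun i _ => hA0 i
  set D := ∏ i, A i (a₀ i) (b₀ i) with hDdef
  have hprod := eb1_prod Φ A hswap a₀ b₀
  set c : F := Φ a₀ b₀ / D with hc
  have hc0 : c ≠ 0 := div_ne_zero h0 hD
  have hΦc : ∀ a b, Φ a b = c * ∏ i, A i (a i) (b i) := by
    intro a b
    have := hprod a b
    rw [hc]
    field_simp
    linear_combination this
  -- signs
  have hsign : ∀ i, ∃ ε : F, (ε = 1 ∨ ε = -1) ∧ ∀ p q, A i q p = ε * A i p q := by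
    intro i
    set β₁ := B i (fun j => b₀ j) (fun j => a₀ j) with hβ₁
    set β₂ := B i (fun j => a₀ j) (fun j => b₀ j) with hβ₂
    have hβ₂0 : β₂ ≠ 0 := by
      intro h
      apply h0
      rw [hΦAB i, ← hβ₂, h, mul_zero]
    have hβ₁0 : β₁ ≠ 0 := by
      intro h
      have h1 := hskew a₀ b₀
      rw [hΦAB i b₀ a₀, ← hβ₁, h, mul_zero] at h1
      exact h0 (neg_eq_zero.mp h1.symm)
    have hrel : ∀ p q, A i q p = (-β₂ / β₁) * A i p q := by
      intro p q
      have h1 := hskew (Function.update a₀ i p) (Function.update b₀ i q)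
      rw [hΦAB i (Function.update b₀ i q), hΦAB i (Function.update a₀ i p)] at h1
      have e1 : (fun j : {j // j ≠ i} => Function.update a₀ i p j) =
          fun j : {j // j ≠ i} => a₀ j := by
        funext j
        exact Function.update_of_ne j.2 _ _
      have e2 : (fun j : {j // j ≠ i} => Function.update b₀ i q j) =
          fun j : {j // j ≠ i} => b₀ j := by
        funext j
        exact Function.update_of_ne j.2 _ _
      rw [e1, e2, Function.update_self, Function.update_self, ← hβ₁, ← hβ₂] at h1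
      field_simp
      linear_combination h1
    refine ⟨-β₂ / β₁, ?_, hrel⟩
    have h1 := hrel (a₀ i) (b₀ i)
    have h2 := hrel (b₀ i) (a₀ i)
    rw [h1] at h2
    have h3 : A i (a₀ i) (b₀ i) * ((-β₂ / β₁) * (-β₂ / β₁)) = A i (a₀ i) (b₀ i) * 1 := by
      linear_combination -h2
    exact mul_self_eq_one_iff.mp (mul_left_cancel₀ (hA0 i) h3)
  choose ε hε hεA using hsign
  refine ⟨A, ε, c, hc0, hAunit, hε, ?_, ?_, ?_⟩
  · intro i
    ext p q
    simp only [Matrix.transpose_apply, Matrix.smul_apply, smul_eq_mul]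
    exact hεA i p q
  · have h1 := hskew a₀ b₀
    rw [hΦc b₀ a₀, hΦc a₀ b₀] at h1
    have h2 : ∏ i, A i (b₀ i) (a₀ i) = (∏ i, ε i) * D := by
      rw [hDdef, ← Finset.prod_mul_distrib]
      apply Finset.prod_congr rfl
      intro i _
      exact hεA i _ _
    rw [h2, ← hDdef] at h1
    have h3 : (c * D) * (∏ i, ε i) = (c * D) * (-1) := by linear_combination h1
    exact mul_left_cancel₀ (mul_ne_zero hc0 hD) h3
  · intro x y
    rw [← hPm, hRvec, hRvec, hform]
    simp only [dotProduct, Matrix.mulVec, Finset.mul_sum]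
    apply Finset.sum_congr rfl
    intro a _
    apply Finset.sum_congr rfl
    intro b _
    rw [hΦc a b]
    ring

end main

end Cfsg.Agent.Lib.Helper53.SpAsch
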