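import Mathlib
import Cfsg.Prelude.Def_GeometricClasses
import Cfsg.Agent.Lib.Helper61.AschDefs
import Cfsg.Agent.Lib.Helper61.AschUDefs
import Cfsg.Agent.Lib.Helper19.Unitary
import Cfsg.Agent.Lib.Helper43.HermField

/-!
K-S5663-B6a (keystone 265): an adjoint-closed `P (M_a ⊗ 1) P⁻¹` forces the Gram matrix of the standard
Hermitian form in the basis `(P, e)` to be a Kronecker product of two Hermitian matrices.
Elementary block argument instead of Skolem-Noether.
-/

set_option autoImplicit false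

namespace Cfsg.Agent.Lib.Helper53.AschU

open Cfsg Cfsg.Geo Cfsg.Agent.Lib.Helper61.Asch Cfsg.Agent.Lib.Helper61.AschU
open scoped Matrix Kronecker MatrixGroups

section block

variable {F : Type*} [Field F] {a b : ℕ}

/-- Entry formula for `H * (y ⊗ 1) * G`. -/
theorem b6a_entry (H G : Matrix (Fin a × Fin b) (Fin a × Fin b) F) (y : Matrix (Fin a) (Fin a) F)
    (p r : Fin a) (k l : Fin b) :
    (H * (y ⊗ₖ (1 : Matrix (Fin b) (Fin b) F)) * G) (p, k) (r, l) =
      ∑ i, ∑ j, y i j * ∑ m, H (p, k) (i, m) * G (j, m) (r, l) := by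
  simp only [Matrix.mul_apply, Fintype.sum_prod_type, Matrix.kroneckerMap_apply, Matrix.one_apply,
    mul_ite, mul_one, mul_zero, Finset.sum_ite_eq', Finset.mem_univ, if_true]
  simp only [Finset.sum_mul, Finset.mul_sum]
  calc _ = ∑ j, ∑ i, ∑ m, H (p, k) (i, m) * y i j * G (j, m) (r, l) :=
        Finset.sum_congr rfl fun j _ => Finset.sum_comm
    _ = ∑ i, ∑ j, ∑ m, H (p, k) (i, m) * y i j * G (j, m) (r, l) := Finset.sum_comm
    _ = _ := by
      refine Finset.sum_congr rfl fun i _ => Finset.sum_congr rfl fun j _ =>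
        Finset.sum_congr rfl fun m _ => ?_
      ring

/-- If conjugation by `G` maps `M_a ⊗ 1` into itself then `G` is a Kronecker product. -/
theorem b6a_kron (ha : 0 < a) (hb : 0 < b) (H G : Matrix (Fin a × Fin b) (Fin a × Fin b) F)
    (hHG : H * G = 1)
    (hc : ∀ y : Matrix (Fin a) (Fin a) F, ∃ z : Matrix (Fin a) (Fin a) F,
      H * (y ⊗ₖ (1 : Matrix (Fin b) (Fin b) F)) * G = z ⊗ₖ (1 : Matrix (Fin b) (Fin b) F)) :
    ∃ (G₁ : Matrix (Fin a) (Fin a) F) (G₂ : Matrix (Fin b) (Fin b) F), G = G₁ ⊗ₖ G₂ := by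
  classical
  choose φ hφ using hc
  have key : ∀ (i j p r : Fin a) (k l : Fin b),
      ∑ m, H (p, k) (i, m) * G (j, m) (r, l) =
        φ (Matrix.single i j 1) p r * (if k = l then 1 else 0) := by
    intro i j p r k l
    have h1 := congrFun (congrFun (hφ (Matrix.single i j 1)) (p, k)) (r, l)
    rw [b6a_entry] at h1
    simp only [Matrix.kroneckerMap_apply, Matrix.one_apply] at h1
    rw [← h1]
    rw [Finset.sum_eq_single i, Finset.sum_eq_single j]
    · simp
    · intro j' _ hj'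
      simp [hj'.symm]
    · simp
    · intro i' _ hi'
      apply Finset.sum_eq_zero
      intro j' _
      simp [hi'.symm]
    · simp
  let p₀ : Fin a := ⟨0, ha⟩
  let k₀ : Fin b := ⟨0, hb⟩
  have h1 : ∑ i, φ (Matrix.single i i 1) p₀ p₀ = 1 := by
    have := congrFun (congrFun hHG (p₀, k₀)) (p₀, k₀)
    rw [Matrix.mul_apply, Fintype.sum_prod_type] at this
    simp only [Matrix.one_apply_eq] at this
    refine Eq.trans ?_ this
    apply Finset.sum_congr rfl
    intro i _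
    rw [key i i p₀ p₀ k₀ k₀]
    simp
  obtain ⟨i₀, hi₀⟩ : ∃ i, φ (Matrix.single i i 1) p₀ p₀ ≠ 0 := by
    by_contra hcon
    push Not at hcon
    simp [hcon] at h1
  set s := φ (Matrix.single i₀ i₀ 1) p₀ p₀ with hs
  let B : Matrix (Fin b) (Fin b) F := Matrix.of fun k m => H (p₀, k) (i₀, m)
  let C : Matrix (Fin b) (Fin b) F := Matrix.of fun m l => G (i₀, m) (p₀, l)
  have hBC : B * C = s • (1 : Matrix (Fin b) (Fin b) F) := by
    ext k l
    simp only [Matrix.mul_apply, B, C, Matrix.of_apply, Matrix.smul_apply, Matrix.one_apply,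
      smul_eq_mul]
    exact key i₀ i₀ p₀ p₀ k l
  have hCB : (s⁻¹ • C) * B = 1 := by
    have : B * (s⁻¹ • C) = 1 := by
      rw [Matrix.mul_smul, hBC, smul_smul, inv_mul_cancel₀ hi₀, one_smul]
    exact mul_eq_one_comm.mp this
  refine ⟨Matrix.of fun j r => s⁻¹ * φ (Matrix.single i₀ j 1) p₀ r, C, ?_⟩
  ext ⟨j, m⟩ ⟨r, l⟩
  simp only [Matrix.kroneckerMap_apply, Matrix.of_apply]
  let D : Matrix (Fin b) (Fin b) F := Matrix.of fun m l => G (j, m) (r, l)
  have hBD : B * D = φ (Matrix.single i₀ j 1) p₀ r • (1 : Matrix (Fin b) (Fin b) F) := by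
    ext k l
    simp only [Matrix.mul_apply, B, D, Matrix.of_apply, Matrix.smul_apply, Matrix.one_apply,
      smul_eq_mul]
    exact key i₀ j p₀ r k l
  have hD : D = (s⁻¹ * φ (Matrix.single i₀ j 1) p₀ r) • C := by
    calc D = ((s⁻¹ • C) * B) * D := by rw [hCB, Matrix.one_mul]
      _ = (s⁻¹ • C) * (B * D) := Matrix.mul_assoc _ _ _
      _ = _ := by rw [hBD, Matrix.mul_smul, Matrix.mul_one, smul_smul, mul_comm]
  have := congrFun (congrFun hD m) l
  simpa [D, C] using this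

end block

section herm

variable {F : Type*} [Field F] [Fintype F] {q : ℕ}

/-- Hilbert 90 for `x ↦ x ^ q` on the field with `q²` elements. -/
theorem b6a_hilbert90 (hF : Fintype.card F = q ^ 2) (lam : F) (h : lam * lam ^ q = 1) :
    ∃ μ : F, μ ≠ 0 ∧ μ ^ q = lam * μ := by
  by_cases h1 : lam ^ q + 1 = 0
  · have hl : lam = -1 := by
      have h2 : lam ^ q = -1 := eq_neg_of_add_eq_zero_left h1
      have h3 : (lam ^ q) ^ q = lam := Helper19.pow_q_pow_q hF lam
      rw [h2] at h3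
      have h4 : ((-1 : F)) ^ q = -1 := by
        rw [← Helper19.frobQ_apply hF, map_neg, map_one]
      rw [h4] at h3
      exact h3.symm
    obtain ⟨θ, hθ⟩ := Helper43.exists_pow_q_ne hF
    refine ⟨θ - θ ^ q, sub_ne_zero.mpr (Ne.symm hθ), ?_⟩
    rw [hl, ← Helper19.frobQ_apply hF, map_sub, Helper19.frobQ_apply, Helper19.frobQ_apply,
      Helper19.pow_q_pow_q hF]
    ring
  · refine ⟨lam ^ q + 1, h1, ?_⟩
    rw [Helper19.add_pow_q hF, Helper19.pow_q_pow_q hF, one_pow, mul_add, h, mul_one, add_comm]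

/-- A Hermitian Kronecker product is a Kronecker product of Hermitian matrices. -/
theorem b6a_herm_factor (hF : Fintype.card F = q ^ 2) {a b : ℕ} (G₁ : Matrix (Fin a) (Fin a) F)
    (G₂ : Matrix (Fin b) (Fin b) F) (hne : G₁ ⊗ₖ G₂ ≠ 0)
    (hherm : ∀ x y, (G₁ ⊗ₖ G₂) y x = ((G₁ ⊗ₖ G₂) x y) ^ q) :
    ∃ (G₁' : Matrix (Fin a) (Fin a) F) (G₂' : Matrix (Fin b) (Fin b) F),
      G₁' ⊗ₖ G₂' = G₁ ⊗ₖ G₂ ∧
      (∀ i j, G₁' j i = (G₁' i j) ^ q) ∧ (∀ i j, G₂' j i = (G₂' i j) ^ q) := by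
  obtain ⟨⟨j₀, m₀⟩, ⟨r₀, l₀⟩, h0⟩ : ∃ x y, (G₁ ⊗ₖ G₂) x y ≠ 0 := by
    by_contra hcon
    push Not at hcon
    exact hne (by ext x y; exact hcon x y)
  simp only [Matrix.kroneckerMap_apply] at h0
  have hA0 : G₁ j₀ r₀ ≠ 0 := left_ne_zero_of_mul h0
  have hB0 : G₂ m₀ l₀ ≠ 0 := right_ne_zero_of_mul h0
  have hH : ∀ j m r l, G₁ r j * G₂ l m = (G₁ j r) ^ q * (G₂ m l) ^ q := by
    intro j m r l
    have := hherm (j, m) (r, l)
    simpa [Matrix.kroneckerMap_apply, mul_pow] using this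
  have h00 : G₁ r₀ j₀ * G₂ l₀ m₀ ≠ 0 := by
    rw [hH]
    exact mul_ne_zero (pow_ne_zero _ hA0) (pow_ne_zero _ hB0)
  have hA0' : G₁ r₀ j₀ ≠ 0 := left_ne_zero_of_mul h00
  have hB0' : G₂ l₀ m₀ ≠ 0 := right_ne_zero_of_mul h00
  set lam : F := (G₂ m₀ l₀) ^ q / G₂ l₀ m₀ with hlam
  have hG1 : ∀ j r, G₁ r j = lam * (G₁ j r) ^ q := by
    intro j r
    have := hH j m₀ r l₀
    rw [hlam]
    field_simp
    linear_combination this
  have hll : lam * lam ^ q = 1 := by
    have e1 := hG1 r₀ j₀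
    have e2 := hG1 j₀ r₀
    rw [e2, mul_pow, Helper19.pow_q_pow_q hF] at e1
    have : G₁ j₀ r₀ * (lam * lam ^ q) = G₁ j₀ r₀ * 1 := by linear_combination -e1
    exact mul_left_cancel₀ hA0 this
  have hG2 : ∀ k l, lam * G₂ l k = (G₂ k l) ^ q := by
    intro k l
    have h1 := hH j₀ k r₀ l
    rw [hG1 j₀ r₀] at h1
    have hp : (G₁ j₀ r₀) ^ q ≠ 0 := pow_ne_zero _ hA0
    have : (G₁ j₀ r₀) ^ q * (lam * G₂ l k) = (G₁ j₀ r₀) ^ q * (G₂ k l) ^ q := by
      linear_combination h1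
    exact mul_left_cancel₀ hp this
  obtain ⟨μ, hμ0, hμ⟩ := b6a_hilbert90 hF lam hll
  have hlam0 : lam ≠ 0 := div_ne_zero (pow_ne_zero _ hB0) hB0'
  refine ⟨μ • G₁, μ⁻¹ • G₂, ?_, ?_, ?_⟩
  · ext ⟨i, k⟩ ⟨j, l⟩
    simp only [Matrix.kroneckerMap_apply, Matrix.smul_apply, smul_eq_mul]
    field_simp
  · intro i j
    simp only [Matrix.smul_apply, smul_eq_mul, mul_pow, hμ]
    rw [hG1 i j]
    ring
  · intro k l
    simp only [Matrix.smul_apply, smul_eq_mul, mul_pow, inv_pow, hμ]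
    rw [← hG2 k l]
    field_simp

end herm

section forms

variable {F : Type*} [Field F] [Fintype F] {q : ℕ}

omit [Fintype F] in
/-- `formOfGram` as a dot product. -/
theorem b6a_formOfGram_eq {κ : Type} [Fintype κ] (σ : F → F) (M : Matrix κ κ F) (x y : κ → F) :
    formOfGram σ M x y = x ⬝ᵥ (M *ᵥ (σ ∘ y)) := by
  simp only [formOfGram, dotProduct, Matrix.mulVec, Function.comp, Finset.mul_sum, mul_assoc]

theorem b6a_isUnitaryFormPow (hF : Fintype.card F = q ^ 2) {k : ℕ} (M : Matrix (Fin k) (Fin k) F)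
    (hM : ∀ i j, M j i = (M i j) ^ q) (hdet : M.det ≠ 0) :
    IsUnitaryFormPow q (formOfGram (fun x : F => x ^ q) M) := by
  have hq : q ≠ 0 := (Helper19.q_pos hF).ne'
  have hherm : ∀ v w, formOfGram (fun x : F => x ^ q) M v w =
      (formOfGram (fun x : F => x ^ q) M w v) ^ q := by
    intro v w
    simp only [formOfGram]
    rw [Helper19.sum_pow_q hF, Finset.sum_comm]
    apply Finset.sum_congr rfl
    intro b _
    rw [Helper19.sum_pow_q hF]
    apply Finset.sum_congr rfl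
    intro a _
    rw [mul_pow, mul_pow, Helper19.pow_q_pow_q hF, ← hM]
    ring
  refine ⟨?_, ?_, hherm, ?_⟩
  · intro x y v
    simp only [formOfGram, Pi.add_apply, add_mul, Finset.sum_add_distrib]
  · intro c x v
    simp only [formOfGram, Pi.smul_apply, smul_eq_mul, Finset.mul_sum, mul_assoc]
  · intro v hv
    have h1 : ∃ x, formOfGram (fun x : F => x ^ q) M x v ≠ 0 := by
      have hσv : ((fun x : F => x ^ q) ∘ v) ≠ 0 := by
        intro h
        apply hv
        funext i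
        have := congrFun h i
        simp only [Function.comp, Pi.zero_apply] at this
        exact (pow_eq_zero_iff hq).mp this
      have hMv : M *ᵥ ((fun x : F => x ^ q) ∘ v) ≠ 0 := by
        intro h
        exact hσv (Matrix.eq_zero_of_mulVec_eq_zero hdet h)
      obtain ⟨i, hi⟩ : ∃ i, (M *ᵥ ((fun x : F => x ^ q) ∘ v)) i ≠ 0 := by
        by_contra hcon
        push Not at hcon
        exact hMv (funext hcon)
      refine ⟨Pi.single i 1, ?_⟩
      rw [b6a_formOfGram_eq]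
      simpa using hi
    refine ⟨h1, ?_⟩
    obtain ⟨x, hx⟩ := h1
    refine ⟨x, ?_⟩
    intro h
    rw [hherm x v, h] at hx
    exact hx (zero_pow hq)

omit [Fintype F] in
theorem b6a_gramMatrix_formOfGram (hq : q ≠ 0) {k : ℕ} (M : Matrix (Fin k) (Fin k) F) :
    gramMatrix (formOfGram (fun x : F => x ^ q) M) = M := by
  ext i j
  simp only [gramMatrix, formOfGram]
  rw [Finset.sum_eq_single i, Finset.sum_eq_single j]
  · simp
  · intro j' _ hj'
    simp [hj', hq]
  · simp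
  · intro i' _ hi'
    apply Finset.sum_eq_zero
    intro j' _
    simp [hi']
  · simp

end forms

section main

variable {F : Type*} [Field F] [Fintype F] {n q : ℕ}

/-- K-S5663-B6a. -/
theorem exists_tensorForm (hF : Fintype.card F = q ^ 2) (A : Subalgebra F (Matrix (Fin n) (Fin n) F))
    (a b : ℕ) (e : Fin n ≃ Fin a × Fin b) (P : GL (Fin n) F) (ha : 0 < a) (hb : 0 < b)
    (hA : IsTensorLeft A a b e P) (hadj : IsAdjointClosedFor (hermForm n F q) A) :
    ∃ (f₁ : (Fin a → F) → (Fin a → F) → F) (f₂ : (Fin b → F) → (Fin b → F) → F),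
      IsUnitaryFormPow q f₁ ∧ IsUnitaryFormPow q f₂ ∧
      IsTensorFormStructure (fun x : F => x ^ q) (hermForm n F q) f₁ f₂ e P := by
  classical
  have hq : q ≠ 0 := (Helper19.q_pos hF).ne'
  set σ : F →+* F := Helper19.frobQ hF with hσ
  have hσa : ∀ x, σ x = x ^ q := Helper19.frobQ_apply hF
  have hσσ : ∀ x, σ (σ x) = x := Helper19.frobQ_frobQ hF
  set Pm : Matrix (Fin n) (Fin n) F := (P : Matrix (Fin n) (Fin n) F) with hPm
  set Pj : Matrix (Fin n) (Fin n) F := ((P⁻¹ : GL (Fin n) F) : Matrix (Fin n) (Fin n) F) with hPj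
  have hPP : Pm * Pj = 1 := by
    rw [hPm, hPj, ← Units.val_mul, mul_inv_cancel, Units.val_one]
  have hPP' : Pj * Pm = 1 := by
    rw [hPm, hPj, ← Units.val_mul, inv_mul_cancel, Units.val_one]
  let R : Matrix (Fin n) (Fin a × Fin b) F := Pm.submatrix id e.symm
  let R' : Matrix (Fin a × Fin b) (Fin n) F := Pj.submatrix e.symm id
  have hRR : R' * R = 1 := by
    have : R' * R = (Pj * Pm).submatrix e.symm e.symm :=
      (Matrix.submatrix_mul _ _ _ _ _ Function.bijective_id).symm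
    rw [this, hPP', Matrix.submatrix_one_equiv]
  have hRR' : R * R' = 1 := by
    have : R * R' = (Pm * Pj).submatrix id id := Matrix.submatrix_mul_equiv _ _ _ _ _
    rw [this, hPP, Matrix.submatrix_id_id]
  have hRvec : ∀ x : Fin a × Fin b → F, Pm *ᵥ (x ∘ e) = R *ᵥ x := by
    intro x
    have := Matrix.submatrix_mulVec_equiv Pm x id e.symm
    simpa using this.symm
  -- the action of `tensorLeft` in the new basis
  have htl : ∀ (y : Matrix (Fin a) (Fin a) F) (x : Fin a × Fin b → F),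
      tensorLeft a b e P y *ᵥ (R *ᵥ x) =
        R *ᵥ ((y ⊗ₖ (1 : Matrix (Fin b) (Fin b) F)) *ᵥ x) := by
    intro y x
    rw [← hRvec, ← hRvec]
    unfold tensorLeft
    rw [← hPm, ← hPj, ← Matrix.mulVec_mulVec, ← Matrix.mulVec_mulVec, Matrix.mulVec_mulVec _ Pj Pm,
      hPP', Matrix.one_mulVec]
    congr 1
    rw [Matrix.reindex_apply, Matrix.submatrix_mulVec_equiv]
    simp [Function.comp_assoc]
  set G : Matrix (Fin a × Fin b) (Fin a × Fin b) F := Rᵀ * R.map σ with hG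
  set H : Matrix (Fin a × Fin b) (Fin a × Fin b) F := R'.map σ * R'ᵀ with hH
  have hHG : H * G = 1 := by
    rw [hH, hG]
    calc R'.map σ * R'ᵀ * (Rᵀ * R.map σ) = R'.map σ * ((R'ᵀ * Rᵀ) * R.map σ) := by
          simp only [Matrix.mul_assoc]
      _ = R'.map σ * R.map σ := by
          rw [← Matrix.transpose_mul, hRR', Matrix.transpose_one, Matrix.one_mul]
      _ = 1 := by
          rw [← Matrix.map_mul, hRR]
          simp
  have hform : ∀ x w : Fin a × Fin b → F,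
      hermForm n F q (R *ᵥ x) (R *ᵥ w) = x ⬝ᵥ (G *ᵥ (σ ∘ w)) := by
    intro x w
    have h1 : hermForm n F q (R *ᵥ x) (R *ᵥ w) = (R *ᵥ x) ⬝ᵥ (σ ∘ (R *ᵥ w)) := by
      simp only [hermForm, dotProduct, Function.comp, hσa]
    have h2 : (σ ∘ (R *ᵥ w)) = R.map σ *ᵥ (σ ∘ w) := by
      funext i
      exact RingHom.map_mulVec σ R w i
    rw [h1, h2, hG, ← Matrix.mulVec_mulVec, Matrix.dotProduct_mulVec x, Matrix.vecMul_transpose]
  have hσsingle : ∀ j : Fin a × Fin b, (σ ∘ (Pi.single j (1 : F) : Fin a × Fin b → F)) =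
      Pi.single j 1 := by
    intro j
    funext s
    by_cases hs : s = j
    · subst hs
      simp
    · simp [hs]
  -- adjoint-closedness in matrix form
  have hc : ∀ y : Matrix (Fin a) (Fin a) F, ∃ z : Matrix (Fin a) (Fin a) F,
      H * (y ⊗ₖ (1 : Matrix (Fin b) (Fin b) F)) * G = z ⊗ₖ (1 : Matrix (Fin b) (Fin b) F) := by
    intro y
    have hk : tensorLeft a b e P yᵀ ∈ A := (hA _).mpr ⟨yᵀ, rfl⟩
    obtain ⟨k', hk'A, hk'⟩ := hadj _ hk
    obtain ⟨y', rfl⟩ := (hA k').mp hk'A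
    have hYG : (yᵀ ⊗ₖ (1 : Matrix (Fin b) (Fin b) F))ᵀ * G =
        G * (y' ⊗ₖ (1 : Matrix (Fin b) (Fin b) F)).map σ := by
      ext i j
      have h1 := hk' (R *ᵥ Pi.single i 1) (R *ᵥ Pi.single j 1)
      rw [htl, htl, hform, hform] at h1
      have h3 : (σ ∘ ((y' ⊗ₖ (1 : Matrix (Fin b) (Fin b) F)) *ᵥ Pi.single j 1)) =
          (y' ⊗ₖ (1 : Matrix (Fin b) (Fin b) F)).map σ *ᵥ (σ ∘ Pi.single j 1) := by
        funext s
        exact RingHom.map_mulVec σ _ _ s
      rw [h3, hσsingle, Matrix.mulVec_mulVec, Matrix.dotProduct_mulVec,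
        ← Matrix.mulVec_transpose, Matrix.mulVec_mulVec] at h1
      have h4 : ((yᵀ ⊗ₖ (1 : Matrix (Fin b) (Fin b) F))ᵀ * G) i j =
          (Gᵀ * (yᵀ ⊗ₖ (1 : Matrix (Fin b) (Fin b) F))) j i := by
        rw [← Matrix.transpose_apply (Gᵀ * _), Matrix.transpose_mul, Matrix.transpose_transpose]
      rw [h4]
      simpa [Matrix.mulVec_single_one] using h1
    have e1 : (yᵀ ⊗ₖ (1 : Matrix (Fin b) (Fin b) F))ᵀ = y ⊗ₖ (1 : Matrix (Fin b) (Fin b) F) := by
      ext ⟨i, k⟩ ⟨j, l⟩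
      simp [Matrix.kroneckerMap_apply, Matrix.one_apply, eq_comm]
    have e2 : (y' ⊗ₖ (1 : Matrix (Fin b) (Fin b) F)).map σ =
        y'.map σ ⊗ₖ (1 : Matrix (Fin b) (Fin b) F) := by
      ext ⟨i, k⟩ ⟨j, l⟩
      by_cases hkl : k = l
      · simp [Matrix.kroneckerMap_apply, hkl]
      · simp [Matrix.kroneckerMap_apply, hkl]
    rw [e1, e2] at hYG
    refine ⟨y'.map σ, ?_⟩
    rw [Matrix.mul_assoc, hYG, ← Matrix.mul_assoc, hHG, Matrix.one_mul]
  -- `G` is Hermitian
  have hherm : ∀ x y, G y x = (G x y) ^ q := by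
    intro x y
    rw [← hσa, hG]
    simp only [Matrix.mul_apply, Matrix.transpose_apply, Matrix.map_apply, map_sum, map_mul, hσσ]
    apply Finset.sum_congr rfl
    intro i _
    ring
  have hGne : G ≠ 0 := by
    intro h0
    have h1 := congrFun (congrFun hHG (⟨0, ha⟩, ⟨0, hb⟩)) (⟨0, ha⟩, ⟨0, hb⟩)
    rw [h0, Matrix.mul_zero] at h1
    simp at h1
  obtain ⟨G₁, G₂, hG12⟩ := b6a_kron ha hb H G hHG hc
  obtain ⟨G₁', G₂', hG', h1, h2⟩ := b6a_herm_factor hF G₁ G₂ (hG12 ▸ hGne)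
    (by rw [← hG12]; exact hherm)
  have hdet : (G₁' ⊗ₖ G₂').det ≠ 0 := by
    rw [hG', ← hG12]
    exact Matrix.det_ne_zero_of_left_inverse hHG
  rw [Matrix.det_kronecker] at hdet
  have hd1 : G₁'.det ≠ 0 := fun h0 => hdet (by
    rw [h0, zero_pow (by simpa using hb.ne'), zero_mul])
  have hd2 : G₂'.det ≠ 0 := fun h0 => hdet (by
    rw [h0, zero_pow (by simpa using ha.ne'), mul_zero])
  refine ⟨formOfGram (fun x : F => x ^ q) G₁', formOfGram (fun x : F => x ^ q) G₂',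
    b6a_isUnitaryFormPow hF G₁' h1 hd1, b6a_isUnitaryFormPow hF G₂' h2 hd2, 1, one_ne_zero, ?_⟩
  intro x y
  rw [b6a_gramMatrix_formOfGram hq, b6a_gramMatrix_formOfGram hq, hG', ← hG12, one_mul,
    b6a_formOfGram_eq, ← hPm, hRvec, hRvec, hform]
  congr 2
  funext s
  exact hσa _

end main

end Cfsg.Agent.Lib.Helper53.AschU
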