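import Mathlib
import Cfsg.Agent.Lib.Helper53.FusWC1

/-!
# Inner fusion, part 1: Alperin with a threshold for maps induced by conjugation in `S`

If every `F`-automorphism of every fully normalized centric subgroup of order at least `k` is
induced by an element of `S`, then every map of the system defined on a subgroup of order at least `k`
is induced by an element of `S`.
-/

set_option autoImplicit false

namespace Cfsg.Agent.Lib.Helper53.FusIN

open Cfsg Cfsg.FusionSystem Cfsg.Agent.Lib.Helper87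

variable {Ω : Type*} [Group Ω] {S : Subgroup Ω}

/-- The homomorphism `φ` is induced by conjugation by an element of `S`. -/
def IsSConj (S : Subgroup Ω) {A : Subgroup Ω} (φ : A →* Ω) : Prop :=
  ∃ s ∈ S, ∀ x : A, φ x = s * x * s⁻¹

/-- The maps of `F` which, on sources of order at least `k`, are induced by elements of `S`. -/
def thrInn (F : FusionSystem S) (k : ℕ) [Finite S] : FusionSystem S where
  Hom P := {φ | φ ∈ F.Hom P ∧ (k ≤ Nat.card P → IsSConj S φ)}
  le_of_mem h := F.le_of_mem h.1
  injective_of_mem h := F.injective_of_mem h.1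
  conj_mem := by
    intro P g hP hg
    exact ⟨F.conj_mem hP hg, fun _ => ⟨g, hg, fun x => rfl⟩⟩
  comp_mem := by
    rintro P R φ ψ ⟨hφ, hφk⟩ ⟨hψ, hψk⟩ h
    refine ⟨F.comp_mem hφ hψ h, fun hk => ?_⟩
    have hRS : R ≤ S := (F.le_of_mem hψ).1
    have : Finite R := finite_of_le hRS
    have hcard : Nat.card P ≤ Nat.card R := by
      apply Nat.card_le_card_of_injective (φ.codRestrict R h)
      intro a b hab
      apply F.injective_of_mem hφ
      have := congrArg (fun x : R => (x : Ω)) hab
      exact this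
    obtain ⟨s, hs, hsφ⟩ := hφk hk
    obtain ⟨t, ht, htψ⟩ := hψk (hk.trans hcard)
    refine ⟨t * s, S.mul_mem ht hs, fun x => ?_⟩
    show ψ (φ.codRestrict R h x) = _
    rw [htψ]
    show t * φ x * t⁻¹ = _
    rw [hsφ]
    group
  inv_mem := by
    rintro P φ ⟨hφ, hφk⟩
    obtain ⟨ψ, hψ, hψφ⟩ := F.inv_mem hφ
    refine ⟨ψ, ⟨hψ, fun hk' => ?_⟩, hψφ⟩
    have hk : k ≤ Nat.card P := by
      rw [← Cfsg.Agent.Lib.Helper89.card_range_eq F hφ]
      exact hk'
    obtain ⟨s, hs, hsφ⟩ := hφk hk
    refine ⟨s⁻¹, S.inv_mem hs, fun y => ?_⟩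
    obtain ⟨x, hx⟩ := y.2
    have hy : y = ⟨φ x, ⟨x, rfl⟩⟩ := Subtype.ext hx.symm
    rw [hy, hψφ x]
    show (x : Ω) = s⁻¹ * φ x * s⁻¹⁻¹
    rw [hsφ]
    group

theorem innMaps_of_innAut [Finite S] (p : ℕ) [Fact p.Prime] (hS : IsPGroup p S)
    (F : FusionSystem S) (hF : F.IsSaturated p) (k : ℕ)
    (h : ∀ P : Subgroup Ω, F.IsFullyNormalized P → F.IsCentric P → k ≤ Nat.card P →
      ∀ φ ∈ F.Hom P, φ.range = P → IsSConj S φ) :
    ∀ (A : Subgroup Ω) (φ : A →* Ω), φ ∈ F.Hom A → k ≤ Nat.card A → IsSConj S φ := by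
  classical
  let E : FusionSystem S := thrInn F k
  have hSc : F.IsCentric S := by
    refine ⟨le_rfl, fun R hR => ?_⟩
    have hRS : R ≤ S := isConj_le_right F hR
    have hcard : Nat.card R = Nat.card S := Cfsg.Agent.Lib.Helper89.isConj_card_eq F hR
    have : R = S := Subgroup.eq_of_le_of_card_ge hRS hcard.ge
    rw [this]
    exact centralizerIn_le S S
  have hFE : F ≤ E := by
    apply Cfsg.Agent.S5082.result p hS F hF E
    intro P hP α hα
    have hPS : P ≤ S := by
      rcases hP with hPeq | hess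
      · exact hPeq.le
      · exact hess.1.1
    have hPc : F.IsCentric P := by
      rcases hP with hPeq | hess
      · rw [hPeq]; exact hSc
      · exact hess.1
    have hPfn : F.IsFullyNormalized P := by
      rcases hP with hPeq | hess
      · rw [hPeq]; exact Cfsg.Agent.Lib.Helper89.isFullyNormalized_self F
      · exact hess.2.1
    rw [mem_autGroup_iff E hPS]
    have hφ := (mem_autGroup_iff F hPS).mp hα
    refine ⟨hφ, fun hk => ?_⟩
    have hr : (P.subtype.comp α.toMonoidHom).range = P := by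
      ext y
      constructor
      · rintro ⟨x, rfl⟩
        exact (α x).2
      · intro hy
        exact ⟨α.symm ⟨y, hy⟩, by simp⟩
    exact h P hPfn hPc hk _ hφ hr
  intro A φ hφ hk
  have h1 : φ ∈ E.Hom A := hFE A hφ
  exact h1.2 hk

end Cfsg.Agent.Lib.Helper53.FusIN
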