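import Mathlib
import Cfsg.Agent.Lib.Helper53.FusIN1
import Cfsg.Agent.Lib.Helper53.FusWC3

/-!
# Inner fusion, part 2: subgroups with big normalizers
-/

set_option autoImplicit false

namespace Cfsg.Agent.Lib.Helper53.FusIN

open Cfsg Cfsg.FusionSystem Cfsg.Agent.Lib.Helper87 Cfsg.Agent.Lib.Helper53.FusWC

variable {Ω : Type*} [Group Ω] {S : Subgroup Ω}

/-- Every map of the system from `A` onto `A` is induced by an element of `S`. -/
def InnAut (F : FusionSystem S) (A : Subgroup Ω) : Prop :=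
  ∀ φ ∈ F.Hom A, φ.range = A → IsSConj S φ

/-- Transport of `InnAut` backwards along a map of the system induced by an element of `S`. -/
theorem innAut_transport [Finite S] (F : FusionSystem S) {A A' B : Subgroup Ω} (hAB : A ≤ B)
    (ψ : B →* Ω) (hψ : ψ ∈ F.Hom B)
    (hA' : ∀ y, y ∈ A' ↔ ∃ x : B, (x : Ω) ∈ A ∧ ψ x = y)
    (hψc : IsSConj S ψ) (h' : InnAut F A') : InnAut F A := by
  intro φ hφ hr
  obtain ⟨t, ht, htψ⟩ := hψc
  set ψA : A →* Ω := ψ.comp (Subgroup.inclusion hAB) with hψA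
  have hψAF : ψA ∈ F.Hom A := restrict_mem F hAB hψ
  have hψAr : ψA.range = A' := by
    ext y
    rw [hA']
    constructor
    · rintro ⟨x, rfl⟩
      exact ⟨Subgroup.inclusion hAB x, x.2, rfl⟩
    · rintro ⟨x, hx, rfl⟩
      exact ⟨⟨x, hx⟩, rfl⟩
  have hψAmem : ∀ x : A, ψA x ∈ A' := fun x => hψAr.le ⟨x, rfl⟩
  obtain ⟨χ, hχ, hχinv, hχr⟩ := inv_mem' F hψAF hψAr
  have hχA : ∀ y : A', χ y ∈ A := fun y => hχr.le ⟨y, rfl⟩
  have hφA : ∀ x : A, φ x ∈ A := fun x => hr.le ⟨x, rfl⟩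
  have hβ : φ.comp (χ.codRestrict A hχA) ∈ F.Hom A' := F.comp_mem hχ hφ hχA
  have hβA : ∀ y : A', (φ.comp (χ.codRestrict A hχA)) y ∈ A := fun y => hφA _
  have hα : ψA.comp ((φ.comp (χ.codRestrict A hχA)).codRestrict A hβA) ∈ F.Hom A' :=
    F.comp_mem hβ hψAF hβA
  have hA'S : A' ≤ S := (F.le_of_mem hχ).1
  have : Finite A' := finite_of_le hA'S
  have hαr : (ψA.comp ((φ.comp (χ.codRestrict A hχA)).codRestrict A hβA)).range = A' := by
    apply Subgroup.eq_of_le_of_card_ge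
    · rintro _ ⟨y, rfl⟩
      exact hψAmem _
    · exact (Cfsg.Agent.Lib.Helper89.card_range_eq F hα).ge
  obtain ⟨s, hs, hsα⟩ := h' _ hα hαr
  refine ⟨t⁻¹ * s * t, S.mul_mem (S.mul_mem (S.inv_mem ht) hs) ht, fun x => ?_⟩
  have hχx : χ ⟨ψA x, hψAmem x⟩ = x := hχinv x ⟨ψA x, hψAmem x⟩ rfl
  have h1 := hsα ⟨ψA x, hψAmem x⟩
  have h2 : (ψA.comp ((φ.comp (χ.codRestrict A hχA)).codRestrict A hβA)) ⟨ψA x, hψAmem x⟩ =
      ψA ⟨φ x, hφA _⟩ := by
    show ψA ⟨φ ⟨χ ⟨ψA x, hψAmem x⟩, _⟩, _⟩ = _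
    congr 2
    exact congrArg φ (Subtype.ext hχx)
  rw [h2] at h1
  have h3 : ψA ⟨φ x, hφA _⟩ = t * φ x * t⁻¹ := htψ _
  have h4 : ψA x = t * x * t⁻¹ := htψ _
  rw [h3] at h1
  have h5 : ((⟨ψA x, hψAmem x⟩ : A') : Ω) = t * x * t⁻¹ := h4
  rw [h5] at h1
  calc φ x = t⁻¹ * (t * φ x * t⁻¹) * t := by group
    _ = t⁻¹ * (s * (t * x * t⁻¹) * s⁻¹) * t := by rw [h1]
    _ = t⁻¹ * s * t * x * (t⁻¹ * s * t)⁻¹ := by group

/-- Transport to a fully normalized conjugate. -/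
theorem innAut_of_fn_conj [Finite S] (p : ℕ) [Fact p.Prime] (hS : IsPGroup p S)
    (F : FusionSystem S) (hF : F.IsSaturated p) (k : ℕ)
    (hM : ∀ (A : Subgroup Ω) (φ : A →* Ω), φ ∈ F.Hom A → k ≤ Nat.card A → IsSConj S φ)
    (U : Subgroup Ω) (hU : U ≤ S) (hk : k ≤ Nat.card (normalizerIn S U))
    (h : ∀ U₂ : Subgroup Ω, F.IsConj U U₂ → F.IsFullyNormalized U₂ →
      k ≤ Nat.card (normalizerIn S U₂) → InnAut F U₂) : InnAut F U := by
  obtain ⟨U₂, hconj, hfn⟩ := exists_isFullyNormalized F hU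
  obtain ⟨hfc, hfa⟩ := fullyNormalized_props p hS F hF U₂ hfn
  have hrec := isReceptive_of_isFullyCentralized p hS F hF U₂ hfc
  obtain ⟨ψ, hψ, -, hmap, -⟩ := exists_normalizer_hom p hS F U₂ U hfa hrec hconj
  have hUN : U ≤ normalizerIn S U := le_normalizerIn hU
  have hψc := hM _ ψ hψ hk
  have hA' : ∀ y, y ∈ U₂ ↔ ∃ x : normalizerIn S U, (x : Ω) ∈ U ∧ ψ x = y := by
    intro y
    rw [← hmap, Subgroup.mem_map]
    constructor
    · rintro ⟨x, hx, rfl⟩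
      exact ⟨x, hx, rfl⟩
    · rintro ⟨x, hx, rfl⟩
      exact ⟨x, hx, rfl⟩
  have hcard := hfn.2 U (isConj_symm F hconj)
  exact innAut_transport F hUN ψ hψ hA' hψc (h U₂ hconj hfn (hk.trans hcard))

theorem innAut_of_big_normalizer [Finite S] (p : ℕ) [Fact p.Prime] (hS : IsPGroup p S)
    (F : FusionSystem S) (hF : F.IsSaturated p) (k : ℕ)
    (hC : ∀ P : Subgroup Ω, F.IsFullyNormalized P → F.IsCentric P →
      k ≤ Nat.card (normalizerIn S P) → InnAut F P)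
    (hM : ∀ (A : Subgroup Ω) (φ : A →* Ω), φ ∈ F.Hom A → k ≤ Nat.card A → IsSConj S φ)
    (U : Subgroup Ω) (hU : U ≤ S) (hk : k ≤ Nat.card (normalizerIn S U)) :
    InnAut F U := by
  apply innAut_of_fn_conj p hS F hF k hM U hU hk
  intro U₂ _ hfn hk₂
  obtain ⟨hfc, -⟩ := fullyNormalized_props p hS F hF U₂ hfn
  have hrec := isReceptive_of_isFullyCentralized p hS F hF U₂ hfc
  have hU₂S : U₂ ≤ S := hfn.1
  intro φ hφ hr
  obtain ⟨ψ, hψ, hψr, hext⟩ := exists_extension_sup_centralizer F hrec φ hφ hr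
  have hRS : U₂ ⊔ centralizerIn S U₂ ≤ S := sup_le hU₂S (centralizerIn_le S U₂)
  have hRc : F.IsCentric (U₂ ⊔ centralizerIn S U₂) := isCentric_sup_centralizerIn F hfc
  have : Finite ↥(normalizerIn S (U₂ ⊔ centralizerIn S U₂)) :=
    finite_of_le (normalizerIn_le S _)
  have hkR : k ≤ Nat.card (normalizerIn S (U₂ ⊔ centralizerIn S U₂)) :=
    hk₂.trans (Subgroup.card_le_of_le (normalizerIn_le_normalizerIn_sup_centralizerIn hU₂S))
  have hinnR : InnAut F (U₂ ⊔ centralizerIn S U₂) := by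
    apply innAut_of_fn_conj p hS F hF k hM _ hRS hkR
    intro R₃ hconj₃ hfn₃ hk₃
    apply hC R₃ hfn₃ _ hk₃
    refine ⟨hfn₃.1, fun Q hQ => ?_⟩
    exact hRc.2 Q (isConj_trans F hconj₃ hQ)
  obtain ⟨s, hs, hsψ⟩ := hinnR ψ hψ hψr
  refine ⟨s, hs, fun x => ?_⟩
  rw [← hext x]
  exact hsψ _

end Cfsg.Agent.Lib.Helper53.FusIN
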