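import Mathlib
import Cfsg.Agent.Lib.Helper53.FusIN2
import Cfsg.Agent.Lib.Helper53.FusWC7
import Cfsg.Agent.Lib.Helper90.GTSparse

/-!
# Control of transfer, part 1: maps that are trivial modulo a subgroup

`Good K φ`: the quotients `x⁻¹ φ(x)` lie in `K`.  Such maps are closed under composition, inverses and
restriction; Alperin's theorem with a threshold; the number of maps of a system as a measure.
-/

set_option autoImplicit false

namespace Cfsg.Agent.Lib.Helper53.Tr

open Cfsg Cfsg.FusionSystem Cfsg.Agent.Lib.Helper87 Cfsg.Agent.Lib.Helper53.FusWC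

universe u

variable {Ω : Type u} [Group Ω] {S : Subgroup Ω}

/-- The quotients `x⁻¹ φ(x)` lie in `K`. -/
def Good (K : Subgroup Ω) {A : Subgroup Ω} (φ : A →* Ω) : Prop :=
  ∀ x : A, (x : Ω)⁻¹ * φ x ∈ K

theorem good_comp {K : Subgroup Ω} {A B : Subgroup Ω} {φ : A →* Ω} {ψ : B →* Ω} (hφ : Good K φ)
    (hψ : Good K ψ) (h : ∀ x : A, φ x ∈ B) : Good K (ψ.comp (φ.codRestrict B h)) := by
  intro x
  have h1 := hφ x
  have h2 := hψ ⟨φ x, h x⟩
  have : (x : Ω)⁻¹ * (ψ.comp (φ.codRestrict B h)) x = ((x : Ω)⁻¹ * φ x) * ((φ x)⁻¹ * ψ ⟨φ x, h x⟩) := by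
    show (x : Ω)⁻¹ * ψ ⟨φ x, h x⟩ = _
    group
  rw [this]
  exact K.mul_mem h1 h2

theorem good_restrict {K : Subgroup Ω} {A B : Subgroup Ω} (hBA : B ≤ A) {φ : A →* Ω} (hφ : Good K φ) :
    Good K (φ.comp (Subgroup.inclusion hBA)) := fun x => hφ (Subgroup.inclusion hBA x)

theorem good_inv {K : Subgroup Ω} {A B : Subgroup Ω} {φ : A →* Ω} {ψ : B →* Ω} (hφ : Good K φ)
    (hsurj : ∀ y : B, ∃ x : A, φ x = (y : Ω)) (hinv : ∀ (x : A) (y : B), φ x = (y : Ω) → ψ y = (x : Ω)) :
    Good K ψ := by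
  intro y
  obtain ⟨x, hx⟩ := hsurj y
  rw [hinv x y hx, ← hx]
  have h1 := K.inv_mem (hφ x)
  have : (φ x)⁻¹ * (x : Ω) = ((x : Ω)⁻¹ * φ x)⁻¹ := by group
  rw [this]
  exact h1

theorem good_congr {K : Subgroup Ω} {A : Subgroup Ω} {φ φ' : A →* Ω} (hφ : Good K φ)
    (h : ∀ x : A, φ' x = φ x) : Good K φ' := fun x => by rw [h x]; exact hφ x

/-- `K` contains the commutators of `S`, in the form needed for conjugation maps. -/
def CommIn (S K : Subgroup Ω) : Prop := ∀ x ∈ S, ∀ g ∈ S, x⁻¹ * (g * x * g⁻¹) ∈ K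

/-- The maps of `F` which, on sources of order at least `k`, are `K`-good. -/
def thrGood [Finite S] (F : FusionSystem S) (K : Subgroup Ω) (hK : CommIn S K) (k : ℕ) : FusionSystem S where
  Hom P := {φ | φ ∈ F.Hom P ∧ (k ≤ Nat.card P → Good K φ)}
  le_of_mem h := F.le_of_mem h.1
  injective_of_mem h := F.injective_of_mem h.1
  conj_mem := by
    intro P g hP hg
    exact ⟨F.conj_mem hP hg, fun _ x => hK x (hP x.2) g hg⟩
  comp_mem := by
    rintro P R φ ψ ⟨hφ, hφk⟩ ⟨hψ, hψk⟩ h
    refine ⟨F.comp_mem hφ hψ h, fun hk => ?_⟩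
    have hRS : R ≤ S := (F.le_of_mem hψ).1
    have : Finite R := finite_of_le hRS
    have hcard : Nat.card P ≤ Nat.card R := by
      apply Nat.card_le_card_of_injective (φ.codRestrict R h)
      intro a b hab
      apply F.injective_of_mem hφ
      have := congrArg (fun x : R => (x : Ω)) hab
      exact this
    exact good_comp (hφk hk) (hψk (hk.trans hcard)) h
  inv_mem := by
    rintro P φ ⟨hφ, hφk⟩
    obtain ⟨ψ, hψ, hψφ⟩ := F.inv_mem hφ
    refine ⟨ψ, ⟨hψ, fun hk' => ?_⟩, hψφ⟩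
    have hk : k ≤ Nat.card P := by
      rw [← Cfsg.Agent.Lib.Helper89.card_range_eq F hφ]
      exact hk'
    refine good_inv (hφk hk) (fun y => ?_) (fun x y hxy => ?_)
    · obtain ⟨x, hx⟩ := y.2
      exact ⟨x, hx⟩
    · have hy : y = ⟨φ x, ⟨x, rfl⟩⟩ := Subtype.ext hxy.symm
      rw [hy, hψφ x]

/-- Alperin's theorem with a threshold, for `K`-good maps. -/
theorem good_of_goodAut [Finite S] (p : ℕ) [Fact p.Prime] (hS : IsPGroup p S)
    (F : FusionSystem S) (hF : F.IsSaturated p) (K : Subgroup Ω) (hK : CommIn S K) (k : ℕ)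
    (h : ∀ P : Subgroup Ω, F.IsFullyNormalized P → F.IsCentric P → k ≤ Nat.card P →
      ∀ φ ∈ F.Hom P, φ.range = P → Good K φ) :
    ∀ (A : Subgroup Ω) (φ : A →* Ω), φ ∈ F.Hom A → k ≤ Nat.card A → Good K φ := by
  classical
  let E : FusionSystem S := thrGood F K hK k
  have hSc : F.IsCentric S := by
    refine ⟨le_rfl, fun R hR => ?_⟩
    have hRS : R ≤ S := isConj_le_right F hR
    have hcard : Nat.card R = Nat.card S := Cfsg.Agent.Lib.Helper89.isConj_card_eq F hR
    have : R = S := Subgroup.eq_of_le_of_card_ge hRS hcard.ge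
    rw [this]
    exact centralizerIn_le S S
  have hFE : F ≤ E := by
    apply Cfsg.Agent.S5082.result p hS F hF E
    intro P hP α hα
    have hPS : P ≤ S := by
      rcases hP with hPeq | hess
      · exact hPeq.le
      · exact hess.1.1
    have hPc : F.IsCentric P := by
      rcases hP with hPeq | hess
      · rw [hPeq]; exact hSc
      · exact hess.1
    have hPfn : F.IsFullyNormalized P := by
      rcases hP with hPeq | hess
      · rw [hPeq]; exact Cfsg.Agent.Lib.Helper89.isFullyNormalized_self F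
      · exact hess.2.1
    rw [mem_autGroup_iff E hPS]
    have hφ := (mem_autGroup_iff F hPS).mp hα
    refine ⟨hφ, fun hk => ?_⟩
    have hr : (P.subtype.comp α.toMonoidHom).range = P := by
      ext y
      constructor
      · rintro ⟨x, rfl⟩
        exact (α x).2
      · intro hy
        exact ⟨α.symm ⟨y, hy⟩, by simp⟩
    exact h P hPfn hPc hk _ hφ hr
  intro A φ hφ hk
  have h1 : φ ∈ E.Hom A := hFE A hφ
  exact h1.2 hk

theorem focal_le_iff (F : FusionSystem S) (K : Subgroup Ω) :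
    F.focalSubgroup ≤ K ↔ ∀ (P : Subgroup Ω) (φ : P →* Ω), φ ∈ F.Hom P → Good K φ := by
  constructor
  · intro h P φ hφ x
    exact h (Subgroup.subset_closure ⟨P, φ, x, hφ, rfl⟩)
  · intro h
    unfold focalSubgroup
    rw [Subgroup.closure_le]
    rintro y ⟨P, φ, x, hφ, rfl⟩
    exact h P φ hφ x

/-! ### The measure -/

open Cfsg.Agent.Lib.Helper90.GT in
/-- The number of maps of the system. -/
noncomputable def mu {T : Subgroup Ω} (E : FusionSystem T) : ℕ := (morSet E).ncard

open Cfsg.Agent.Lib.Helper90.GT in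
theorem mu_lt_of_subset {T T' : Subgroup Ω} [Finite T'] (E : FusionSystem T) (F : FusionSystem T')
    (hsub : ∀ P : Subgroup Ω, E.Hom P ⊆ F.Hom P) (hne : ∃ (P : Subgroup Ω) (φ : P →* Ω), φ ∈ F.Hom P ∧ φ ∉ E.Hom P) :
    mu E < mu F := by
  unfold mu
  apply Set.ncard_lt_ncard _ (morSet_finite F)
  refine ⟨fun x hx => hsub x.1 hx, ?_⟩
  intro h
  obtain ⟨P, φ, hφ, hφE⟩ := hne
  exact hφE (h (a := ⟨P, φ⟩) hφ)

/-- If the normalizer system of `V` has as many maps as `F`, then `V` is normal in `F`. -/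
theorem mu_normalizerSystem_lt [Finite S] (F : FusionSystem S) (V : Subgroup Ω) (hV : V ≤ S)
    (hnot : ¬ F.IsNormal V) : mu (normalizerSystem F V hV) < mu F := by
  apply mu_lt_of_subset
  · intro P φ hφ
    exact hφ.1
  · by_contra hcon
    push Not at hcon
    apply hnot
    refine ⟨hV, fun P φ hφ => ?_⟩
    obtain ⟨-, -, -, ψ, hψ, hext, hmap⟩ := hcon P φ hφ
    exact ⟨ψ, hψ, hext, hmap⟩

/-! ### The focal subgroup of the normalizer of `W(S)` -/

/-- The focal subgroup of `N_F(W(S))`, defined without reference to a normalizer system. -/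
def focN (W : ∀ (Q : Type u) [Group Q], Subgroup Q) {T : Subgroup Ω} (E : FusionSystem T) : Subgroup Ω :=
  Subgroup.closure {y : Ω | ∃ (P : Subgroup Ω) (φ : P →* Ω) (x : P),
    φ ∈ E.normalizerHom (subFunctor W T) P ∧ y = (x : Ω)⁻¹ * φ x}

theorem good_of_mem_normalizerHom (W : ∀ (Q : Type u) [Group Q], Subgroup Q) {T : Subgroup Ω}
    (E : FusionSystem T) {P : Subgroup Ω} {φ : P →* Ω} (hφ : φ ∈ E.normalizerHom (subFunctor W T) P) :
    Good (focN W E) φ := fun x => Subgroup.subset_closure ⟨P, φ, x, hφ, rfl⟩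

theorem focN_eq_of_isNormalizerSystem (W : ∀ (Q : Type u) [Group Q], Subgroup Q) {T : Subgroup Ω}
    (E : FusionSystem T) (N : FusionSystem (normalizerIn T (subFunctor W T)))
    (hN : E.IsNormalizerSystem (subFunctor W T) N) : N.focalSubgroup = focN W E := by
  unfold focalSubgroup focN
  congr 1
  ext y
  constructor
  · rintro ⟨P, φ, x, hφ, rfl⟩
    rw [hN P] at hφ
    exact ⟨P, φ, x, hφ, rfl⟩
  · rintro ⟨P, φ, x, hφ, rfl⟩
    rw [← hN P] at hφ
    exact ⟨P, φ, x, hφ, rfl⟩

/-- The image of `W(A)` under an injective homomorphism with image `A'` is `W(A')`. -/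
theorem map_subFunctor {p : ℕ} (W : ∀ (Q : Type u) [Group Q], Subgroup Q)
    (hW2 : ∀ (Q R : Type u) [Group Q] [Group R] [Finite Q], IsPGroup p Q → ∀ φ : Q ≃* R,
      (W Q).map φ.toMonoidHom = W R)
    {A A' : Subgroup Ω} [Finite A] (hA : IsPGroup p A) (φ : A →* Ω) (hinj : Function.Injective φ)
    (hr : φ.range = A') : ((subFunctor W A).subgroupOf A).map φ = subFunctor W A' := by
  subst hr
  have h1 : (subFunctor W A).subgroupOf A = W ↥A := by
    unfold subFunctor Subgroup.subgroupOf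
    exact Subgroup.comap_map_eq_self_of_injective A.subtype_injective _
  have h2 := hW2 ↥A ↥φ.range hA (MonoidHom.ofInjective hinj)
  rw [h1]
  unfold subFunctor
  rw [← h2, Subgroup.map_map]
  congr 1

theorem subFunctor_congr (W : ∀ (Q : Type u) [Group Q], Subgroup Q) {A B : Subgroup Ω} (h : A = B) :
    subFunctor W A = subFunctor W B := by
  subst h
  rfl

/-- The commutators of `T` lie in `focN`. -/
theorem commIn_focN [Finite S] {p : ℕ} (hS : IsPGroup p S) (W : ∀ (Q : Type u) [Group Q], Subgroup Q)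
    (hW2 : ∀ (Q R : Type u) [Group Q] [Group R] [Finite Q], IsPGroup p Q → ∀ φ : Q ≃* R,
      (W Q).map φ.toMonoidHom = W R) (F : FusionSystem S) : CommIn S (focN W F) := by
  intro x hx g hg
  have hN : normalizerIn S (subFunctor W S) = S := normalizerIn_subFunctor_self hS W hW2
  have hmem : conjHom S g ∈ F.normalizerHom (subFunctor W S) S := by
    apply Cfsg.Agent.Lib.Helper90.GT.mem_normalizerHom_of_le F (F.conj_mem le_rfl hg) (subFunctor_le W S)
      hN.ge
    have hgn : g ∈ Subgroup.normalizer (subFunctor W S : Set Ω) :=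
      subFunctor_normalizer hS W hW2 S le_rfl g (Subgroup.le_normalizer hg)
    ext y
    constructor
    · rintro ⟨z, hz, rfl⟩
      have hz' : (z : Ω) ∈ subFunctor W S := hz
      exact (Subgroup.mem_normalizer_iff.mp hgn _).mp hz'
    · intro hy
      have h1 : g⁻¹ * y * g ∈ subFunctor W S := (Subgroup.mem_normalizer_iff''.mp hgn _).mp hy
      refine ⟨⟨g⁻¹ * y * g, subFunctor_le W S h1⟩, h1, ?_⟩
      show g * (g⁻¹ * y * g) * g⁻¹ = y
      group
  exact good_of_mem_normalizerHom W F hmem ⟨x, hx⟩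

end Cfsg.Agent.Lib.Helper53.Tr
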