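import Mathlib

/-!
# Keystone K4 (orbit equation) for S2140, plus a Burnside counting helper.
-/

set_option autoImplicit false

namespace Cfsg.Agent.Lib.Helper53.MinIdx

open MulAction

/-- Burnside count for a subgroup all of whose non-identity elements have `f` fixed points. -/
theorem orbits_mul_card {G : Type*} [Group G] [Finite G] (R : Subgroup G) (X : Type*)
    [MulAction G X] [Finite X]
    (f : ℕ) (hf : ∀ x ∈ R, x ≠ 1 → Nat.card (fixedBy X x) = f) :
    Nat.card (orbitRel.Quotient R X) * Nat.card R = Nat.card X + (Nat.card R - 1) * f := by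
  classical
  have : Fintype R := Fintype.ofFinite _
  have : Fintype X := Fintype.ofFinite _
  have : ∀ g : R, Fintype (fixedBy X g) := fun g => Fintype.ofFinite _
  have : Fintype (orbitRel.Quotient R X) := Fintype.ofFinite _
  have hB := MulAction.sum_card_fixedBy_eq_card_orbits_mul_card_group R X
  rw [Nat.card_eq_fintype_card, Nat.card_eq_fintype_card, ← hB]
  rw [← Finset.add_sum_erase Finset.univ _ (Finset.mem_univ (1 : R))]
  congr 1
  · rw [Nat.card_eq_fintype_card]
    apply Fintype.card_congr
    exact Equiv.subtypeUnivEquiv (fun x => by simp)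
  · rw [Finset.sum_const_nat (m := f)]
    · rw [Finset.card_erase_of_mem (Finset.mem_univ _), Finset.card_univ]
    · intro g hg
      have hg1 : g ≠ 1 := (Finset.mem_erase.mp hg).1
      have := hf g g.2 (fun h => hg1 (Subtype.ext h))
      rw [← Nat.card_eq_fintype_card]
      exact this

/-- The `Q`-orbit of the base coset has `H.relIndex Q` points. -/
theorem card_orbit_base {G : Type*} [Group G] [Finite G] (Q H : Subgroup G) :
    Nat.card (orbit Q ((1 : G) : G ⧸ H)) = H.relIndex Q := by
  have h := MulAction.index_stabilizer Q ((1 : G) : G ⧸ H)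
  rw [Nat.card_coe_set_eq, ← h, Subgroup.relIndex]
  congr 1
  ext t
  simp only [mem_stabilizer_iff, Subgroup.mem_subgroupOf]
  have e : t • ((1 : G) : G ⧸ H) = (((t : G) * 1 : G) : G ⧸ H) := rfl
  rw [e, mul_one, QuotientGroup.eq]
  constructor
  · intro h
    have := H.inv_mem h
    simpa using this
  · intro h
    have := H.inv_mem h
    simpa using this

/-- conjugating by an element normalising `Q` moves `Q`-orbits to `Q`-orbits of the same size. -/
theorem card_orbit_smul {G : Type*} [Group G] [Finite G] (Q : Subgroup G) (X : Type*)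
    [MulAction G X] (a : G)
    (ha : ∀ t ∈ Q, a * t * a⁻¹ ∈ Q) (ha' : ∀ t ∈ Q, a⁻¹ * t * a ∈ Q) (x : X) :
    Nat.card (orbit Q (a • x)) = Nat.card (orbit Q x) := by
  symm
  apply Nat.card_congr
  refine Equiv.subtypeEquiv (MulAction.toPerm a) ?_
  intro y
  simp only [MulAction.toPerm_apply]
  constructor
  · rintro ⟨t, rfl⟩
    refine ⟨⟨a * t * a⁻¹, ha t t.2⟩, ?_⟩
    simp only [Subgroup.smul_def]
    simp [mul_smul]
  · rintro ⟨t, ht⟩
    refine ⟨⟨a⁻¹ * t * a, ha' t t.2⟩, ?_⟩
    simp only [Subgroup.smul_def] at ht ⊢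
    simp only [mul_smul]
    rw [ht]
    simp

/-- K4 (orbit equation `d = s₀ (d - |Q| + 1)`, written without subtraction). -/
theorem K4_orbits {G : Type*} [Group G] [Finite G] (Q P H : Subgroup G) (hQP : Q ≤ P)
    (hnorm : ∀ a ∈ P, ∀ t ∈ Q, a * t * a⁻¹ ∈ Q)
    (htrans : ∀ g : G, ∃ a ∈ P, ∃ h ∈ H, g = a * h)
    (hfix : ∀ x ∈ Q, x ≠ 1 →
      Nat.card (MulAction.fixedBy (G ⧸ H) x) + Nat.card Q = H.index) :
    H.index + H.relIndex Q * Nat.card Q = H.relIndex Q * (H.index + 1) := by
  classical
  have hd : Nat.card (G ⧸ H) = H.index := rfl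
  -- all orbits have size s0
  have horb : ∀ x : G ⧸ H, Nat.card (orbit Q x) = H.relIndex Q := by
    intro x
    obtain ⟨g, rfl⟩ := QuotientGroup.mk_surjective x
    obtain ⟨a, haP, h, hh, rfl⟩ := htrans g
    have e1 : ((a * h : G) : G ⧸ H) = a • ((1 : G) : G ⧸ H) := by
      rw [MulAction.Quotient.smul_mk, smul_eq_mul, mul_one, QuotientGroup.eq]
      simpa using hh
    have ha' : ∀ t ∈ Q, a⁻¹ * t * a ∈ Q := by
      intro t ht
      have := hnorm a⁻¹ (P.inv_mem haP) t ht
      simpa using this
    rw [e1]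
    exact (card_orbit_smul Q (G ⧸ H) a (hnorm a haP) ha' _).trans (card_orbit_base Q H)
  -- card X = k * s0
  have : Fintype (G ⧸ H) := Fintype.ofFinite _
  have : Fintype (orbitRel.Quotient Q (G ⧸ H)) := Fintype.ofFinite _
  have hsum : Nat.card (G ⧸ H) = Nat.card (orbitRel.Quotient Q (G ⧸ H)) * H.relIndex Q := by
    rw [Nat.card_congr (MulAction.selfEquivSigmaOrbits' Q (G ⧸ H)), Nat.card_sigma]
    rw [Finset.sum_const_nat (m := H.relIndex Q)]
    · rw [Finset.card_univ, ← Nat.card_eq_fintype_card]
    · intro ω _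
      induction ω using Quotient.inductionOn' with
      | h x =>
        have : MulAction.orbitRel.Quotient.orbit
            (Quotient.mk'' x : orbitRel.Quotient Q (G ⧸ H)) = orbit Q x :=
          MulAction.orbitRel.Quotient.orbit_mk x
        rw [this]
        exact horb x
  -- Burnside
  have hB : Nat.card (orbitRel.Quotient Q (G ⧸ H)) * Nat.card Q =
      Nat.card (G ⧸ H) + (Nat.card Q - 1) * (H.index - Nat.card Q) :=
    orbits_mul_card Q (G ⧸ H) (H.index - Nat.card Q) (by
      intro x hx hx1
      have := hfix x hx hx1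
      omega)
  rw [hd] at hB hsum
  have hr1 : 1 ≤ Nat.card Q := Nat.card_pos
  have hdpos : 0 < H.index := Nat.pos_of_ne_zero Subgroup.index_ne_zero_of_finite
  have hdr : Nat.card Q = 1 ∨ Nat.card Q ≤ H.index := by
    by_cases hr2 : Nat.card Q = 1
    · exact Or.inl hr2
    · right
      have : ∃ x ∈ Q, x ≠ 1 := by
        by_contra hcon
        push Not at hcon
        have : Q = ⊥ := by
          rw [Subgroup.eq_bot_iff_forall]; exact hcon
        apply hr2
        rw [this]
        exact Subgroup.card_bot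
      obtain ⟨x, hx, hx1⟩ := this
      have := hfix x hx hx1
      omega
  clear hfix horb hd
  generalize H.index = d at *
  generalize Nat.card Q = r at *
  generalize H.relIndex Q = s at *
  generalize Nat.card (orbitRel.Quotient Q (G ⧸ H)) = k at *
  rcases hdr with rfl | hdr
  · simp at hB
    subst hB
    have hs1 : s = 1 := by
      have h2 : k * 1 = k * s := by rw [mul_one]; exact hsum
      exact (Nat.eq_of_mul_eq_mul_left hdpos h2).symm
    rw [hs1]; ring
  · obtain ⟨e, rfl⟩ := Nat.exists_eq_add_of_le hdr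
    obtain ⟨r', rfl⟩ := Nat.exists_eq_add_of_le hr1
    simp only [Nat.add_sub_cancel_left] at hB
    have hk' : k = e + 1 := by
      have h1 : k * (1 + r') = (e + 1) * (1 + r') := by rw [hB]; ring
      exact Nat.eq_of_mul_eq_mul_right (by omega) h1
    subst hk'
    nlinarith [hsum]
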