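import Mathlib
import Cfsg.Agent.Lib.Helper53.MinIdxK4

/-!
# Keystone K3 (star) for S2140.
-/

set_option autoImplicit false

namespace Cfsg.Agent.Lib.Helper53.MinIdx

open MulAction

/-- the natural map from `M₀`-orbits to `Q`-orbits, `M₀ ≤ Q`. -/
noncomputable def orbMap {G : Type*} [Group G] (Q M₀ : Subgroup G) (hM : M₀ ≤ Q) (X : Type*)
    [MulAction G X] : orbitRel.Quotient M₀ X → orbitRel.Quotient Q X :=
  Quotient.map' id (by
    intro x y h
    rw [orbitRel_apply] at h ⊢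
    obtain ⟨m, rfl⟩ := h
    exact ⟨⟨m, hM m.2⟩, rfl⟩)

theorem orbMap_mk {G : Type*} [Group G] (Q M₀ : Subgroup G) (hM : M₀ ≤ Q) (X : Type*)
    [MulAction G X] (x : X) :
    orbMap Q M₀ hM X (Quotient.mk'' x) = Quotient.mk'' x := rfl

theorem orbMap_surjective {G : Type*} [Group G] (Q M₀ : Subgroup G) (hM : M₀ ≤ Q) (X : Type*)
    [MulAction G X] : Function.Surjective (orbMap Q M₀ hM X) := by
  intro ω
  induction ω using Quotient.inductionOn' with
  | h x => exact ⟨Quotient.mk'' x, rfl⟩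

/-- a `Q`-orbit whose point stabiliser lies in `M₀` splits into at least `|Q : M₀|` orbits of `M₀`
(`Q` abelian). -/
theorem fiber_card_ge {G : Type*} [Group G] [Finite G] (Q M₀ : Subgroup G) (hM : M₀ ≤ Q)
    (hQc : ∀ x ∈ Q, ∀ y ∈ Q, x * y = y * x) (X : Type*) [MulAction G X] [Finite X] (x : X)
    (hx : ∀ t ∈ Q, t • x = x → t ∈ M₀) :
    M₀.relIndex Q ≤ Nat.card {μ : orbitRel.Quotient M₀ X //
      orbMap Q M₀ hM X μ = (Quotient.mk'' x : orbitRel.Quotient Q X)} := by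
  classical
  rw [Subgroup.relIndex, Subgroup.index]
  let φ : Q ⧸ M₀.subgroupOf Q → {μ : orbitRel.Quotient M₀ X //
      orbMap Q M₀ hM X μ = (Quotient.mk'' x : orbitRel.Quotient Q X)} := fun c =>
    Quotient.liftOn' c (fun q => ⟨Quotient.mk'' ((q : G) • x), by
        rw [orbMap_mk]
        apply Quotient.sound'
        rw [orbitRel_apply]
        exact ⟨q, rfl⟩⟩) (by
      intro q q' h
      rw [QuotientGroup.leftRel_apply, Subgroup.mem_subgroupOf] at h
      apply Subtype.ext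
      apply Quotient.sound'
      rw [orbitRel_apply]
      -- q • x = m • (q' • x) with m = q * q'⁻¹ ... use commutativity
      refine ⟨⟨((q⁻¹ * q' : Q) : G)⁻¹, M₀.inv_mem h⟩, ?_⟩
      simp only [Subgroup.smul_def]
      rw [← mul_smul]
      congr 1
      have hc := hQc q q.2 q' q'.2
      simp only [Subgroup.coe_mul, Subgroup.coe_inv, mul_inv_rev, inv_inv]
      rw [mul_assoc, hc, ← mul_assoc, inv_mul_cancel, one_mul])
  apply Nat.card_le_card_of_injective φ
  intro c c' hcc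
  induction c using Quotient.inductionOn' with
  | h q =>
  induction c' using Quotient.inductionOn' with
  | h q' =>
  have h3 : (Quotient.mk'' ((q : G) • x) : orbitRel.Quotient M₀ X) = Quotient.mk'' ((q' : G) • x) :=
    congrArg Subtype.val hcc
  have h4 := Quotient.exact' h3
  rw [orbitRel_apply] at h4
  obtain ⟨m, hm⟩ := h4
  simp only [Subgroup.smul_def] at hm
  -- m q' x = q x, so q⁻¹ m q' ∈ stab ≤ M₀
  have h5 : ((q : G)⁻¹ * (m : G) * (q' : G)) • x = x := by
    rw [mul_smul, mul_smul, hm, ← mul_smul, inv_mul_cancel, one_smul]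
  have h6 : (q : G)⁻¹ * (m : G) * (q' : G) ∈ M₀ :=
    hx _ (Q.mul_mem (Q.mul_mem (Q.inv_mem q.2) (hM m.2)) q'.2) h5
  apply Quotient.sound'
  rw [QuotientGroup.leftRel_apply, Subgroup.mem_subgroupOf]
  simp only [Subgroup.coe_mul, Subgroup.coe_inv]
  have hc : (q : G)⁻¹ * (m : G) = (m : G) * (q : G)⁻¹ :=
    hQc _ (Q.inv_mem q.2) _ (hM m.2)
  rw [hc, mul_assoc] at h6
  have := M₀.mul_mem (M₀.inv_mem m.2) h6
  simpa [mul_assoc] using this

/-- K3 (each maximal subgroup of `Q` contains the stabiliser of exactly one `Q`-orbit). -/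
theorem K3_star {G : Type*} [Group G] [Finite G] (Q H M₀ : Subgroup G)
    (hQc : ∀ x ∈ Q, ∀ y ∈ Q, x * y = y * x)
    (hfix : ∀ x ∈ Q, x ≠ 1 →
      Nat.card (MulAction.fixedBy (G ⧸ H) x) + Nat.card Q = H.index)
    (hM : M₀ ≤ Q) (hidx : (M₀.relIndex Q).Prime)
    (a : G) (h1 : ∀ t ∈ Q, t ∈ H → t ∈ M₀) (h2 : ∀ t ∈ Q, a⁻¹ * t * a ∈ H → t ∈ M₀) :
    ∃ t ∈ Q, t⁻¹ * a ∈ H := by
  classical
  by_contra hcon
  push Not at hcon
  have hne : (Quotient.mk'' ((1 : G) : G ⧸ H) : orbitRel.Quotient Q (G ⧸ H)) ≠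
      Quotient.mk'' (a • ((1 : G) : G ⧸ H)) := by
    intro h
    have h' := Quotient.exact' h
    rw [orbitRel_apply] at h'
    obtain ⟨t, ht'⟩ := h'
    have ht : t • (a • ((1 : G) : G ⧸ H)) = ((1 : G) : G ⧸ H) := ht'
    have e : t • (a • ((1 : G) : G ⧸ H)) = (((t : G) * (a * 1) : G) : G ⧸ H) := rfl
    rw [e, mul_one, QuotientGroup.eq] at ht
    apply hcon (t : G)⁻¹ (Q.inv_mem t.2)
    have := H.inv_mem ht
    simpa using this
  have hs0 : ∀ t ∈ Q, t • ((1 : G) : G ⧸ H) = ((1 : G) : G ⧸ H) → t ∈ M₀ := by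
    intro t ht h
    apply h1 t ht
    have e : t • ((1 : G) : G ⧸ H) = ((t * 1 : G) : G ⧸ H) := rfl
    rw [e, mul_one, QuotientGroup.eq] at h
    have := H.inv_mem h
    simpa using this
  have hsa : ∀ t ∈ Q, t • (a • ((1 : G) : G ⧸ H)) = a • ((1 : G) : G ⧸ H) → t ∈ M₀ := by
    intro t ht h
    apply h2 t ht
    have e : t • (a • ((1 : G) : G ⧸ H)) = ((t * (a * 1) : G) : G ⧸ H) := rfl
    have e' : a • ((1 : G) : G ⧸ H) = ((a * 1 : G) : G ⧸ H) := rfl
    rw [e, e', mul_one, QuotientGroup.eq] at h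
    have := H.inv_mem h
    simpa [mul_assoc] using this
  have hf0 : M₀.relIndex Q ≤ Nat.card {μ : orbitRel.Quotient M₀ (G ⧸ H) //
      orbMap Q M₀ hM (G ⧸ H) μ = Quotient.mk'' ((1 : G) : G ⧸ H)} :=
    fiber_card_ge Q M₀ hM hQc (G ⧸ H) _ hs0
  have hfa : M₀.relIndex Q ≤ Nat.card {μ : orbitRel.Quotient M₀ (G ⧸ H) //
      orbMap Q M₀ hM (G ⧸ H) μ = Quotient.mk'' (a • ((1 : G) : G ⧸ H))} :=
    fiber_card_ge Q M₀ hM hQc (G ⧸ H) _ hsa
  -- Burnside counts
  have hfQ : ∀ x ∈ Q, x ≠ 1 →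
      Nat.card (fixedBy (G ⧸ H) x) = H.index - Nat.card Q := by
    intro x hx hx1
    have := hfix x hx hx1
    omega
  have hBQ : Nat.card (orbitRel.Quotient Q (G ⧸ H)) * Nat.card Q =
      Nat.card (G ⧸ H) + (Nat.card Q - 1) * (H.index - Nat.card Q) :=
    orbits_mul_card Q (G ⧸ H) _ hfQ
  have hBM : Nat.card (orbitRel.Quotient M₀ (G ⧸ H)) * Nat.card M₀ =
      Nat.card (G ⧸ H) + (Nat.card M₀ - 1) * (H.index - Nat.card Q) :=
    orbits_mul_card M₀ (G ⧸ H) _ (fun x hx hx1 => hfQ x (hM hx) hx1)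
  have hd : Nat.card (G ⧸ H) = H.index := rfl
  rw [hd] at hBQ hBM
  have hcard : M₀.relIndex Q * Nat.card M₀ = Nat.card Q := by
    have h := Subgroup.card_mul_index (M₀.subgroupOf Q)
    rw [Nat.card_congr (Subgroup.subgroupOfEquivOfLe hM).toEquiv] at h
    rw [Subgroup.relIndex, mul_comm]
    exact h
  have hp2 : 2 ≤ M₀.relIndex Q := hidx.two_le
  have hr0 : 1 ≤ Nat.card M₀ := Nat.card_pos
  have hdr : Nat.card Q ≤ H.index := by
    have : ∃ x ∈ Q, x ≠ 1 := by
      by_contra hc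
      push Not at hc
      have : Q = ⊥ := by
        rw [Subgroup.eq_bot_iff_forall]; exact hc
      have h1 : Nat.card Q = 1 := by rw [this]; exact Subgroup.card_bot
      rw [h1] at hcard
      have := Nat.eq_one_of_mul_eq_one_right hcard
      omega
    obtain ⟨x, hx, hx1⟩ := this
    have := hfix x hx hx1
    omega
  -- fibre count
  have : Fintype (orbitRel.Quotient Q (G ⧸ H)) := Fintype.ofFinite _
  have : Fintype (orbitRel.Quotient M₀ (G ⧸ H)) := Fintype.ofFinite _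
  have hsum : Nat.card (orbitRel.Quotient M₀ (G ⧸ H)) =
      ∑ ω : orbitRel.Quotient Q (G ⧸ H),
        Nat.card {μ : orbitRel.Quotient M₀ (G ⧸ H) // orbMap Q M₀ hM (G ⧸ H) μ = ω} := by
    rw [← Nat.card_sigma]
    exact Nat.card_congr (Equiv.sigmaFiberEquiv (orbMap Q M₀ hM (G ⧸ H))).symm
  have hlow : Nat.card (orbitRel.Quotient Q (G ⧸ H)) + (M₀.relIndex Q - 1) + (M₀.relIndex Q - 1) ≤
      Nat.card (orbitRel.Quotient M₀ (G ⧸ H)) := by
    rw [hsum]
    have hg : ∀ ω : orbitRel.Quotient Q (G ⧸ H),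
        1 + (if ω = Quotient.mk'' ((1 : G) : G ⧸ H) then (M₀.relIndex Q - 1) else 0) +
          (if ω = Quotient.mk'' (a • ((1 : G) : G ⧸ H)) then (M₀.relIndex Q - 1) else 0) ≤
        Nat.card {μ : orbitRel.Quotient M₀ (G ⧸ H) // orbMap Q M₀ hM (G ⧸ H) μ = ω} := by
      intro ω
      have hpos : 1 ≤ Nat.card {μ : orbitRel.Quotient M₀ (G ⧸ H) //
          orbMap Q M₀ hM (G ⧸ H) μ = ω} := by
        obtain ⟨μ, hμ⟩ := orbMap_surjective Q M₀ hM (G ⧸ H) ω
        have : Nonempty {μ : orbitRel.Quotient M₀ (G ⧸ H) //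
          orbMap Q M₀ hM (G ⧸ H) μ = ω} := ⟨⟨μ, hμ⟩⟩
        exact Nat.card_pos
      by_cases hω0 : ω = Quotient.mk'' ((1 : G) : G ⧸ H)
      · have hωa : ω ≠ Quotient.mk'' (a • ((1 : G) : G ⧸ H)) := by
          rw [hω0]; exact hne
        rw [if_pos hω0, if_neg hωa]
        subst hω0
        have e1 : 1 + (M₀.relIndex Q - 1) + 0 = M₀.relIndex Q := by omega
        rw [e1]
        exact hf0
      · by_cases hωa : ω = Quotient.mk'' (a • ((1 : G) : G ⧸ H))
        · rw [if_neg hω0, if_pos hωa]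
          subst hωa
          have e1 : 1 + 0 + (M₀.relIndex Q - 1) = M₀.relIndex Q := by omega
          rw [e1]
          exact hfa
        · rw [if_neg hω0, if_neg hωa]
          omega
    calc Nat.card (orbitRel.Quotient Q (G ⧸ H)) + (M₀.relIndex Q - 1) + (M₀.relIndex Q - 1)
        = ∑ ω : orbitRel.Quotient Q (G ⧸ H),
          (1 + (if ω = Quotient.mk'' ((1 : G) : G ⧸ H) then (M₀.relIndex Q - 1) else 0) +
          (if ω = Quotient.mk'' (a • ((1 : G) : G ⧸ H)) then (M₀.relIndex Q - 1) else 0)) := by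
          rw [Finset.sum_add_distrib, Finset.sum_add_distrib, Finset.sum_ite_eq',
            Finset.sum_ite_eq']
          simp [Nat.card_eq_fintype_card]
      _ ≤ _ := Finset.sum_le_sum (fun ω _ => hg ω)
  -- arithmetic
  clear hsum hf0 hfa hs0 hsa hne hcon hfQ hfix
  generalize Nat.card (orbitRel.Quotient Q (G ⧸ H)) = kQ at *
  generalize Nat.card (orbitRel.Quotient M₀ (G ⧸ H)) = kM at *
  generalize M₀.relIndex Q = p at *
  generalize H.index = d at *
  generalize Nat.card M₀ = r0 at *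
  generalize Nat.card Q = r at *
  subst hcard
  obtain ⟨e, rfl⟩ := Nat.exists_eq_add_of_le hdr
  simp only [Nat.add_sub_cancel_left] at hBQ hBM
  obtain ⟨p', rfl⟩ := Nat.exists_eq_add_of_le hp2
  obtain ⟨r', rfl⟩ := Nat.exists_eq_add_of_le hr0
  have hkQ : kQ = e + 1 := by
    have h1 : kQ * ((2 + p') * (1 + r')) = (e + 1) * ((2 + p') * (1 + r')) := by
      rw [hBQ]
      have : (2 + p') * (1 + r') - 1 = 1 + p' + 2 * r' + p' * r' := by
        have : (2 + p') * (1 + r') = 1 + (1 + p' + 2 * r' + p' * r') := by ring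
        omega
      rw [this]; ring
    exact Nat.eq_of_mul_eq_mul_right (by positivity) h1
  have hkM : kM = e + (2 + p') := by
    have h1 : kM * (1 + r') = (e + (2 + p')) * (1 + r') := by
      rw [hBM]
      simp only [Nat.add_sub_cancel_left]
      ring
    exact Nat.eq_of_mul_eq_mul_right (by positivity) h1
  subst hkQ hkM
  omega
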