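import Cfsg.Agent.Lib.Helper53.Basic

set_option autoImplicit false

namespace Cfsg.Agent.Lib.Helper53

open Cfsg

section

variable {Q : Type*} [Group Q] [Finite Q] {p : ℕ} [Fact p.Prime]

omit [Finite Q] [Fact (Nat.Prime p)] in
/-- A `p`-subgroup `N` normalized by a subnormal subgroup `K ≥ N` lies in `O_p`. -/
theorem le_pCore_of_subnormal {K : Subgroup Q} (hK : K.IsSubnormal) :
    ∀ N : Subgroup Q, N ≤ K → K ≤ Subgroup.normalizer (N : Set Q) → IsPGroup p N →
      N ≤ pCore p Q := by
  induction hK with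
  | top =>
    intro N _ hn hp
    have : N.Normal := Subgroup.normalizer_eq_top_iff.mp (top_le_iff.mp hn)
    exact le_pCore this hp
  | step K K₁ hle hsub hN ih =>
    intro N hNK hKN hp
    -- conjugates of N under K₁
    set S : Set Q := {x | ∃ k ∈ K₁, ∃ n ∈ N, x = k * n * k⁻¹} with hS
    set M := Subgroup.closure S with hM
    have hconjK : ∀ k ∈ K₁, ∀ x ∈ K, k * x * k⁻¹ ∈ K := by
      intro k hk x hx
      have := (Subgroup.normal_subgroupOf_iff hle).mp hN x k hx hk
      exact this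
    have hSK : S ⊆ K := by
      rintro x ⟨k, hk, n, hn, rfl⟩
      exact hconjK k hk n (hNK hn)
    have hNM : N ≤ M := by
      intro n hn
      apply Subgroup.subset_closure
      exact ⟨1, K₁.one_mem, n, hn, by simp⟩
    have hMK₁ : M ≤ K₁ := by
      rw [hM, Subgroup.closure_le]
      exact fun x hx => hle (hSK hx)
    have hK₁M : K₁ ≤ Subgroup.normalizer (M : Set Q) := by
      intro g hg
      apply Subgroup.normalizer_le_normalizer_closure
      rw [Subgroup.mem_set_normalizer_iff]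
      intro x
      constructor
      · rintro ⟨k, hk, n, hn, rfl⟩
        exact ⟨g * k, K₁.mul_mem hg hk, n, hn, by group⟩
      · rintro ⟨k, hk, n, hn, hx⟩
        refine ⟨g⁻¹ * k, K₁.mul_mem (K₁.inv_mem hg) hk, n, hn, ?_⟩
        have : x = g⁻¹ * (g * x * g⁻¹) * g := by group
        rw [this, hx]; group
    -- M is a p-group: inside a Sylow of K
    obtain ⟨P⟩ : Nonempty (Sylow p K) := inferInstance
    have hMP : M ≤ (P : Subgroup K).map K.subtype := by
      rw [hM, Subgroup.closure_le]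
      rintro x ⟨k, hk, n, hn, rfl⟩
      -- the conjugate subgroup
      set Nk : Subgroup Q := N.map (MulAut.conj k).toMonoidHom with hNk
      have hNkK : Nk ≤ K := by
        rintro _ ⟨y, hy, rfl⟩
        exact hconjK k hk y (hNK hy)
      have hNkp : IsPGroup p Nk := hp.map _
      have hNkn : (Nk.subgroupOf K).Normal := by
        rw [Subgroup.normal_subgroupOf_iff hNkK]
        rintro _ x ⟨y, hy, rfl⟩ hx
        have hx' : k⁻¹ * x * k ∈ K := by
          have := hconjK k⁻¹ (K₁.inv_mem hk) x hx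
          simpa using this
        have := conj_mem_of_le_normalizer hKN hx' hy
        refine ⟨(k⁻¹ * x * k) * y * (k⁻¹ * x * k)⁻¹, this, ?_⟩
        simp only [MulEquiv.coe_toMonoidHom, MulAut.conj_apply]
        group
      have hle' : Nk.subgroupOf K ≤ P :=
        @IsPGroup.le_sylow_of_normal p ↥K _ (Nk.subgroupOf K) hNkn (hNkp.comap_subtype) P
      have hmem : k * n * k⁻¹ ∈ Nk := ⟨n, hn, rfl⟩
      exact ⟨⟨k * n * k⁻¹, hNkK hmem⟩, hle' hmem, rfl⟩
    have hMp : IsPGroup p M := (P.isPGroup'.map K.subtype).to_le hMP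
    exact hNM.trans (ih M hMK₁ hK₁M hMp)

end

section

variable {L : Type*} [Group L] [Finite L] {p : ℕ} [Fact p.Prime]

/-- Quotient-free version: if `O_p(L/C) = 1` then subnormal subgroups inherit this. -/
theorem le_of_subnormal_of_pow_mem (C : Subgroup L) [C.Normal]
    (hC : ∀ D : Subgroup L, D.Normal → (∀ d ∈ D, ∃ k : ℕ, d ^ (p ^ k) ∈ C) → D ≤ C)
    {K : Subgroup L} (hK : K.IsSubnormal) (D : Subgroup L) (hDK : D ≤ K)
    (hKD : K ≤ Subgroup.normalizer (D : Set L)) (hpow : ∀ d ∈ D, ∃ k : ℕ, d ^ (p ^ k) ∈ C) :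
    D ≤ C := by
  have hbot : pCore p (L ⧸ C) = ⊥ := (pCore_quot_eq_bot_iff C).mpr hC
  have hsub : (K.map (QuotientGroup.mk' C)).IsSubnormal :=
    hK.map (QuotientGroup.mk'_surjective C)
  have hp : IsPGroup p (D.map (QuotientGroup.mk' C)) := by
    rintro ⟨x, hx⟩
    obtain ⟨d, hd, rfl⟩ := hx
    obtain ⟨k, hk⟩ := hpow d hd
    refine ⟨k, ?_⟩
    apply Subtype.ext
    rw [Subgroup.coe_pow, Subgroup.coe_one]
    show (QuotientGroup.mk' C d) ^ (p ^ k) = 1
    rw [← map_pow]
    exact (QuotientGroup.eq_one_iff _).mpr hk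
  have hnorm : K.map (QuotientGroup.mk' C) ≤
      Subgroup.normalizer ((D.map (QuotientGroup.mk' C) : Subgroup (L ⧸ C)) : Set (L ⧸ C)) :=
    (Subgroup.map_mono hKD).trans (Subgroup.le_normalizer_map _)
  have := le_pCore_of_subnormal hsub _ (Subgroup.map_mono hDK) hnorm hp
  rw [hbot] at this
  intro d hd
  have hd' : QuotientGroup.mk' C d ∈ D.map (QuotientGroup.mk' C) := ⟨d, hd, rfl⟩
  have := this hd'
  rw [Subgroup.mem_bot] at this
  exact (QuotientGroup.eq_one_iff _).mp this

end

end Cfsg.Agent.Lib.Helper53
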