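import Cfsg.Agent.Lib.Helper53.Conj
import Cfsg.Agent.Lib.Helper53.SylowNormal

set_option autoImplicit false

namespace Cfsg.Agent.Lib.Helper53

open Cfsg

section agree

variable {G : Type*} [Group G]

/-- `g` and `x` induce the same conjugation map on `D`. -/
def Agree (D : Subgroup G) (g x : G) : Prop := ∀ d ∈ D, g * d * g⁻¹ = x * d * x⁻¹

theorem Agree.refl (D : Subgroup G) (g : G) : Agree D g g := fun _ _ => rfl

theorem Agree.mono {D D' : Subgroup G} {g x : G} (h : Agree D g x) (hle : D' ≤ D) :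
    Agree D' g x := fun d hd => h d (hle hd)

theorem Agree.trans {D : Subgroup G} {g x y : G} (h1 : Agree D g x) (h2 : Agree D x y) :
    Agree D g y := fun d hd => (h1 d hd).trans (h2 d hd)

theorem Agree.comp {D : Subgroup G} {g₁ x₁ g₂ x₂ : G} (h1 : Agree D g₁ x₁)
    (h2 : Agree (D.map (MulAut.conj g₁).toMonoidHom) g₂ x₂) :
    Agree D (g₂ * g₁) (x₂ * x₁) := by
  intro d hd
  have e1 : g₂ * g₁ * d * (g₂ * g₁)⁻¹ = g₂ * (g₁ * d * g₁⁻¹) * g₂⁻¹ := by group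
  have e2 : x₂ * x₁ * d * (x₂ * x₁)⁻¹ = x₂ * (x₁ * d * x₁⁻¹) * x₂⁻¹ := by group
  rw [e1, e2, h2 _ (conj_mem_map_conj hd), h1 d hd]

theorem Agree.inv {D : Subgroup G} {g x : G} (h : Agree D g x) :
    Agree (D.map (MulAut.conj g).toMonoidHom) g⁻¹ x⁻¹ := by
  rintro _ ⟨d, hd, rfl⟩
  have h1 := h d hd
  change g⁻¹ * (g * d * g⁻¹) * g⁻¹⁻¹ = x⁻¹ * (g * d * g⁻¹) * x⁻¹⁻¹
  have e1 : g⁻¹ * (g * d * g⁻¹) * g⁻¹⁻¹ = d := by group
  have e2 : x⁻¹ * (g * d * g⁻¹) * x⁻¹⁻¹ = d := by rw [h1]; group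
  rw [e1, e2]

theorem agree_mul_centralizer {D : Subgroup G} {x c : G}
    (hc : c ∈ Subgroup.centralizer (D : Set G)) : Agree D (x * c) x := by
  intro d hd
  have : c * d = d * c := (hc d hd).symm
  have e : x * c * d * (x * c)⁻¹ = x * (c * d * c⁻¹) * x⁻¹ := by group
  rw [e, this]
  group

end agree

section sylow

variable {G : Type*} [Group G] [Finite G] {p : ℕ} [Fact p.Prime]

/-- Sylow conjugacy inside a normal subgroup `K`: a `p`-subgroup of `K` is conjugate by an element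
of `K` into `T ∩ K`. -/
theorem exists_conj_le_sylow_inf_normal (T : Sylow p G) (K : Subgroup G) [K.Normal]
    {P : Subgroup G} (hPK : P ≤ K) (hP : IsPGroup p P) :
    ∃ k ∈ K, P.map (MulAut.conj k).toMonoidHom ≤ (T : Subgroup G) ⊓ K := by
  obtain ⟨PK, hPKeq⟩ := exists_sylow_inf_normal T K
  have hP1 : IsPGroup p (P.subgroupOf K) := hP.comap_subtype
  obtain ⟨Q', hQ'⟩ := hP1.exists_le_sylow
  obtain ⟨k, hk⟩ := MulAction.exists_smul_eq K Q' PK
  refine ⟨k, k.2, ?_⟩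
  rintro _ ⟨a, ha, rfl⟩
  have h1 : (⟨a, hPK ha⟩ : K) ∈ (Q' : Subgroup K) := hQ' (Subgroup.mem_subgroupOf.2 ha)
  have h2 : k * ⟨a, hPK ha⟩ * k⁻¹ ∈ ((k • Q' : Sylow p K) : Subgroup K) := by
    rw [Sylow.coe_subgroup_smul]
    exact ⟨_, h1, rfl⟩
  rw [hk, hPKeq, Subgroup.mem_subgroupOf] at h2
  refine ⟨h2, ?_⟩
  exact (k * ⟨a, hPK ha⟩ * k⁻¹).2

/-- Sylow conjugacy for a Sylow subgroup of a subgroup `M`, phrased in the ambient group. -/
theorem exists_conj_le_sylow_subgroup {M : Subgroup G} (R : Sylow p M) {P : Subgroup G}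
    (hPM : P ≤ M) (hP : IsPGroup p P) :
    ∃ m ∈ M, P.map (MulAut.conj m).toMonoidHom ≤ (R : Subgroup M).map M.subtype := by
  have hP1 : IsPGroup p (P.subgroupOf M) := hP.comap_subtype
  obtain ⟨Q', hQ'⟩ := hP1.exists_le_sylow
  obtain ⟨m, hm⟩ := MulAction.exists_smul_eq M Q' R
  refine ⟨m, m.2, ?_⟩
  rintro _ ⟨a, ha, rfl⟩
  have h1 : (⟨a, hPM ha⟩ : M) ∈ (Q' : Subgroup M) := hQ' (Subgroup.mem_subgroupOf.2 ha)
  have h2 : m * ⟨a, hPM ha⟩ * m⁻¹ ∈ ((m • Q' : Sylow p M) : Subgroup M) := by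
    rw [Sylow.coe_subgroup_smul]
    exact ⟨_, h1, rfl⟩
  rw [hm] at h2
  exact ⟨_, h2, by simp⟩

end sylow

section localcontrol

variable {M : Type*} [Group M] [Finite M] {p : ℕ} [Fact p.Prime]

/-- chain stabilizer of `B ≥ A₁ ≥ 1`. -/
def chainStab (B A₁ : Subgroup M) (hB : B.Normal) (_hA₁ : A₁.Normal) : Subgroup M where
  carrier := {k | (∀ b ∈ B, k * b * k⁻¹ * b⁻¹ ∈ A₁) ∧ (∀ a ∈ A₁, k * a = a * k)}
  one_mem' := by
    refine ⟨fun b _ => ?_, fun a _ => by simp⟩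
    simp [A₁.one_mem]
  mul_mem' := by
    rintro k k' ⟨hk1, hk2⟩ ⟨hk'1, hk'2⟩
    refine ⟨fun b hb => ?_, fun a ha => ?_⟩
    · have h1 := hk'1 b hb
      have h2 := hk1 b hb
      have hcomm := hk2 _ h1
      have e : k * k' * b * (k * k')⁻¹ * b⁻¹ =
          (k * (k' * b * k'⁻¹ * b⁻¹) * k⁻¹) * (k * b * k⁻¹ * b⁻¹) := by group
      rw [e, hcomm]
      have e2 : k' * b * k'⁻¹ * b⁻¹ * k * k⁻¹ = k' * b * k'⁻¹ * b⁻¹ := by group
      rw [e2]
      exact A₁.mul_mem h1 h2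
    · rw [mul_assoc, hk'2 a ha, ← mul_assoc, hk2 a ha, mul_assoc]
  inv_mem' := by
    rintro k ⟨hk1, hk2⟩
    refine ⟨fun b hb => ?_, fun a ha => ?_⟩
    · have hb' : k⁻¹ * b * k ∈ B := by
        have := hB.conj_mem b hb k⁻¹
        simpa using this
      have h1 := hk1 _ hb'
      have e : k⁻¹ * b * k⁻¹⁻¹ * b⁻¹ = (k * (k⁻¹ * b * k) * k⁻¹ * (k⁻¹ * b * k)⁻¹)⁻¹ := by group
      rw [e]
      exact A₁.inv_mem h1
    · have := hk2 a ha
      calc k⁻¹ * a = k⁻¹ * (a * k) * k⁻¹ := by group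
        _ = k⁻¹ * (k * a) * k⁻¹ := by rw [this]
        _ = a * k⁻¹ := by group

omit [Finite M] in
theorem chainStab_normal (B A₁ : Subgroup M) (hB : B.Normal) (hA₁ : A₁.Normal) :
    (chainStab B A₁ hB hA₁).Normal := by
  constructor
  rintro k ⟨hk1, hk2⟩ m
  refine ⟨fun b hb => ?_, fun a ha => ?_⟩
  · have hb' : m⁻¹ * b * m ∈ B := by
      have := hB.conj_mem b hb m⁻¹
      simpa using this
    have h1 := hk1 _ hb'
    have e : m * k * m⁻¹ * b * (m * k * m⁻¹)⁻¹ * b⁻¹ =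
        m * (k * (m⁻¹ * b * m) * k⁻¹ * (m⁻¹ * b * m)⁻¹) * m⁻¹ := by group
    rw [e]
    exact hA₁.conj_mem _ h1 m
  · have ha' : m⁻¹ * a * m ∈ A₁ := by
      have := hA₁.conj_mem a ha m⁻¹
      simpa using this
    have h1 := hk2 _ ha'
    calc m * k * m⁻¹ * a = m * (k * (m⁻¹ * a * m)) * m⁻¹ := by group
      _ = m * ((m⁻¹ * a * m) * k) * m⁻¹ := by rw [h1]
      _ = a * (m * k * m⁻¹) := by group

/-- The local statement: `M = N_M(A₀) C_M(B)`. -/
theorem local_control (R : Sylow p M) (B : Subgroup M) (hBn : B.Normal)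
    (hBR : B ≤ R) (A₀ : Subgroup M) (hA₀R : A₀ ≤ R)
    (hA₀c : A₀ ≤ Subgroup.centralizer (A₀ : Set M))
    (hsc : ∀ a ∈ A₀, ∀ m : M, m * a * m⁻¹ ∈ (R : Subgroup M) → m * a * m⁻¹ ∈ A₀) :
    ∀ m : M, ∃ x ∈ Subgroup.normalizer (A₀ : Set M), ∃ c ∈ Subgroup.centralizer (B : Set M),
      m = x * c := by
  have hp : p.Prime := Fact.out
  set A₁ := A₀ ⊓ B with hA₁
  have hA₁n : A₁.Normal :=
    ⟨fun a ha m => ⟨hsc a ha.1 m (hBR (hBn.conj_mem a ha.2 m)), hBn.conj_mem a ha.2 m⟩⟩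
  set C := Subgroup.centralizer (B : Set M) with hC
  have hCn : C.Normal := by
    have := hBn
    rw [hC]; infer_instance
  set K := chainStab B A₁ hBn hA₁n with hK
  have hKn : K.Normal := chainStab_normal B A₁ hBn hA₁n
  -- C ≤ K
  have hCK : C ≤ K := by
    intro c hc
    refine ⟨fun b hb => ?_, fun a ha => ?_⟩
    · have : c * b = b * c := (hc b hb).symm
      have e : c * b * c⁻¹ * b⁻¹ = (c * b) * c⁻¹ * b⁻¹ := by group
      rw [e, this]
      have e2 : b * c * c⁻¹ * b⁻¹ = 1 := by group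
      rw [e2]; exact A₁.one_mem
    · exact (hc a ha.2).symm
  -- A₀ ≤ K
  have hA₀K : A₀ ≤ K := by
    intro a ha
    refine ⟨fun b hb => ⟨?_, ?_⟩, fun a' ha' => ?_⟩
    · have h1 : b * a⁻¹ * b⁻¹ ∈ A₀ := by
        apply hsc a⁻¹ (A₀.inv_mem ha) b
        exact Subgroup.mul_mem _ (Subgroup.mul_mem _ (hBR hb) (hA₀R (A₀.inv_mem ha)))
          (Subgroup.inv_mem _ (hBR hb))
      have e : a * b * a⁻¹ * b⁻¹ = a * (b * a⁻¹ * b⁻¹) := by group
      rw [e]; exact A₀.mul_mem ha h1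
    · have h1 : a * b * a⁻¹ ∈ B := hBn.conj_mem b hb a
      exact B.mul_mem h1 (B.inv_mem hb)
    · exact (hA₀c ha a' ha'.1).symm
  -- elements of K have p-power order mod C
  have hKpow : ∀ k ∈ K, ∃ j : ℕ, k ^ (p ^ j) ∈ C := by
    rintro k ⟨hk1, hk2⟩
    have hA₁p : IsPGroup p A₁ := R.isPGroup'.to_le (inf_le_left.trans hA₀R)
    obtain ⟨j, hj⟩ := IsPGroup.iff_card.mp hA₁p
    refine ⟨j, ?_⟩
    rw [hC, Subgroup.mem_centralizer_iff]
    intro b hb
    set f := k * b * k⁻¹ * b⁻¹ with hf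
    have hfA : f ∈ A₁ := hk1 b hb
    have hkf : k * f = f * k := hk2 f hfA
    have key : ∀ i : ℕ, k ^ i * b * (k ^ i)⁻¹ = f ^ i * b := by
      intro i
      induction i with
      | zero => simp
      | succ i ih =>
        have e : k ^ (i + 1) * b * (k ^ (i + 1))⁻¹ = k * (k ^ i * b * (k ^ i)⁻¹) * k⁻¹ := by
          rw [pow_succ']; group
        rw [e, ih]
        have hkfi : k * f ^ i = f ^ i * k := by
          have : Commute k f := hkf
          exact (this.pow_right i)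
        have e2 : k * (f ^ i * b) * k⁻¹ = (k * f ^ i) * (b * k⁻¹) := by group
        rw [e2, hkfi, pow_succ]
        have e3 : f ^ i * k * (b * k⁻¹) = f ^ i * (k * b * k⁻¹ * b⁻¹) * b := by group
        rw [e3]
    have h1 := key (p ^ j)
    have hfp : f ^ (p ^ j) = 1 := by
      rw [← hj]
      have : (⟨f, hfA⟩ : A₁) ^ Nat.card A₁ = 1 := pow_card_eq_one'
      have h := congrArg Subtype.val this
      rw [Subgroup.coe_pow] at h
      exact h
    rw [hfp, one_mul] at h1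
    -- b * k^n = k^n * b
    have : k ^ p ^ j * b = b * k ^ p ^ j := by
      calc k ^ p ^ j * b = (k ^ p ^ j * b * (k ^ p ^ j)⁻¹) * k ^ p ^ j := by group
        _ = b * k ^ p ^ j := by rw [h1]
    exact this.symm
  -- K ≤ R C
  have hKRC : ∀ k ∈ K, ∃ r ∈ (R : Subgroup M), r⁻¹ * k ∈ C := by
    intro k hk
    have hn : (K.map (QuotientGroup.mk' C)).Normal :=
      Subgroup.Normal.map hKn _ (QuotientGroup.mk'_surjective C)
    have hpg : IsPGroup p (K.map (QuotientGroup.mk' C)) := by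
      rintro ⟨x, hx⟩
      obtain ⟨d, hd, rfl⟩ := hx
      obtain ⟨j, hj⟩ := hKpow d hd
      refine ⟨j, ?_⟩
      apply Subtype.ext
      rw [Subgroup.coe_pow, Subgroup.coe_one]
      show (QuotientGroup.mk' C d) ^ (p ^ j) = 1
      rw [← map_pow]
      exact (QuotientGroup.eq_one_iff _).mpr hj
    have hle := IsPGroup.le_sylow_of_normal hpg
      (R.mapSurjective (QuotientGroup.mk'_surjective C))
    have hkm : QuotientGroup.mk' C k ∈ K.map (QuotientGroup.mk' C) := ⟨k, hk, rfl⟩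
    obtain ⟨r, hr, hreq⟩ := hle hkm
    exact ⟨r, hr, QuotientGroup.eq.mp hreq⟩
  -- R normalizes A₀
  have hRA₀ : ∀ r ∈ (R : Subgroup M), r ∈ Subgroup.normalizer (A₀ : Set M) := by
    intro r hr
    apply mem_normalizer_of_conj_mem
    intro a ha
    apply hsc a ha r
    exact Subgroup.mul_mem _ (Subgroup.mul_mem _ hr (hA₀R ha)) (Subgroup.inv_mem _ hr)
  intro m
  -- P = A₀^m ≤ K
  set P := A₀.map (MulAut.conj m).toMonoidHom with hP
  have hPK : P ≤ K := by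
    rintro _ ⟨a, ha, rfl⟩
    exact hKn.conj_mem a (hA₀K ha) m
  have hPp : IsPGroup p P := (R.isPGroup'.to_le hA₀R).map _
  have := hKn
  obtain ⟨k, hk, hle⟩ := exists_conj_le_sylow_inf_normal R K hPK hPp
  -- k m normalizes A₀
  have hkm : k * m ∈ Subgroup.normalizer (A₀ : Set M) := by
    apply mem_normalizer_of_conj_mem
    intro a ha
    apply hsc a ha (k * m)
    have h1 : m * a * m⁻¹ ∈ P := ⟨a, ha, rfl⟩
    have h2 := hle (conj_mem_map_conj (g := k) h1)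
    have e : k * m * a * (k * m)⁻¹ = k * (m * a * m⁻¹) * k⁻¹ := by group
    rw [e]
    exact h2.1
  obtain ⟨r, hr, hrc⟩ := hKRC k hk
  -- c := r⁻¹ k ∈ C,  k = r c, so r c m normalizes A₀, so c m normalizes A₀
  set c := r⁻¹ * k with hc
  have hcm : c * m ∈ Subgroup.normalizer (A₀ : Set M) := by
    have h1 := Subgroup.mul_mem _ (Subgroup.inv_mem _ (hRA₀ r hr)) hkm
    have e : r⁻¹ * (k * m) = c * m := by rw [hc]; group
    rwa [e] at h1
  refine ⟨c * m, hcm, (c * m)⁻¹ * c⁻¹ * (c * m), ?_, by group⟩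
  have := hCn.conj_mem c⁻¹ (C.inv_mem hrc) (c * m)⁻¹
  simpa [mul_assoc] using this

end localcontrol

end Cfsg.Agent.Lib.Helper53
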