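import Mathlib
import Cfsg.Agent.Lib.Helper02.BG1310Defs
import Cfsg.Agent.Lib.Helper12.CNMaxSub
import Cfsg.Agent.Lib.Helper71.BG10Sub
import Cfsg.Agent.Lib.Helper71.BG11a
import Cfsg.Agent.S1350
import Cfsg.Agent.S1378
import Cfsg.Agent.S1404

/-!
# K-LD2-A (keystone 143102, architect helper2, pack K-LemmaD2 = BG 13.10)

(A) from T-X and (P4): `M` is the only maximal subgroup over `N_G(Y)`, `Y ≤ C_{M_σ}(X)` of prime order.
-/

set_option autoImplicit false

namespace Cfsg.Agent.Lib.Helper53.BG1310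

open Cfsg Cfsg.Agent.Lib.Helper55 Cfsg.Agent.Lib.Helper31.BG134 Cfsg.Agent.Lib.Helper15.BG139
  Cfsg.Agent.Lib.Helper02.BG1310

variable {G : Type*} [Group G] [Finite G]

theorem ha_of_htx (hG : IsMinSimpleOddOrder G) (hTX : HTX G) (hP4 : HP4 G) : HA G := by
  intro M X Y p hM hp hXM hXc hY hYc L hL hNL
  have hYσ : Y ≤ sigmaCore M := hY.trans inf_le_left
  have hYX : Y ≤ Subgroup.centralizer (X : Set G) := hY.trans inf_le_right
  have hyσM : Nat.card Y ∈ sigma M :=
    Cfsg.Agent.Lib.Helper71.BG11.sigmaCore_pi hG hM hYc (Subgroup.card_dvd_of_le hYσ)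
  have hY1 : Y ≠ ⊥ := by
    intro h
    rw [h, Subgroup.card_bot] at hYc
    exact Nat.not_prime_one hYc
  have hYL : Y ≤ L := Subgroup.le_normalizer.trans hNL
  by_cases hyL : Nat.card Y ∈ sigma L
  · obtain ⟨g, hg⟩ := (Cfsg.Agent.S1378.result hG).2 M L hM hL ⟨_, hyσM, hyL⟩
    have hg2 : L = cj g M := hg
    have h1 : cj g⁻¹ Y ≤ M := by
      rw [← le_cj_iff, ← hg2]
      exact hYL
    haveI : Fact (Nat.card Y).Prime := ⟨hYc⟩
    have hYp : IsPGroup (Nat.card Y) Y := IsPGroup.of_card (n := 1) (by rw [pow_one])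
    have hYM : Y ≤ M := hYσ.trans (Cfsg.Agent.Lib.Helper71.BG11.sigmaCore_le M)
    obtain ⟨m, hm, c, hc, hgmc⟩ :=
      (Cfsg.Agent.S1404.result hG M hM (Nat.card Y) hyσM Y hYp hY1 hYM).1 g⁻¹ h1
    have hcL : c ∈ L := hNL (Subgroup.centralizer_le_normalizer _ hc)
    have hg' : g = c⁻¹ * m⁻¹ := by
      rw [← inv_inv g, hgmc, mul_inv_rev]
    have h2 : L = cj c⁻¹ M := by
      rw [hg2, hg', cj_mul, cj_eq_self_of_mem (M.inv_mem hm)]
    have h3 : cj c L = M := by
      rw [h2]
      exact cj_cj_inv c M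
    rw [← h3]
    exact (cj_eq_self_of_mem hcL).symm
  · exfalso
    have hpp : p.Prime := by
      rcases hp with h | h <;> exact h.1
    have hX1 : X ≠ ⊥ := by
      intro h
      rw [h, Subgroup.card_bot] at hXc
      rw [← hXc] at hpp
      exact Nat.not_prime_one hpp
    have hXtop : X ≠ ⊤ := by
      intro h
      apply hM.1
      rw [eq_top_iff, ← h]
      exact hXM
    obtain ⟨H, hH, hNH⟩ := Cfsg.Agent.Lib.Helper12.CNMaxSub.exists_coatom_normalizer_le hG hX1 hXtop
    have hCP : CP M X ≠ ⊥ := by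
      intro h
      apply hY1
      rw [eq_bot_iff, ← h]
      exact hY
    have hpH : p ∈ sigma H := hTX M H X p hM hH hp hXM hXc hCP hNH
    have hXH : X ≤ H := Subgroup.le_normalizer.trans hNH
    have hHall := (Cfsg.Agent.S1350.result hG H hH).1
    have hXHσ : X ≤ sigmaCore H :=
      Cfsg.Agent.Lib.Helper71.BG10.le_of_isPiHallOf_normal hHall
        (Cfsg.Agent.Lib.Helper71.BG11.le_normalizer_sigmaCore H) hXH (by
          intro q hq hqd
          rw [hXc] at hqd
          rw [(Nat.prime_dvd_prime_iff_eq hq hpp).1 hqd]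
          exact hpH)
    have hXY : X ≤ Subgroup.centralizer (Y : Set G) := by
      intro x hx
      rw [Subgroup.mem_centralizer_iff]
      intro y hy
      exact ((Subgroup.mem_centralizer_iff.1 (hYX hy)) x hx).symm
    have hCPH : CP H Y ≠ ⊥ := by
      intro h
      apply hX1
      rw [eq_bot_iff, ← h]
      exact le_inf hXHσ hXY
    have hyH := hP4 M H X Y p hM hH hp hXM hXc hNH hY hYc
    have hYH : Y ≤ H := (hYX.trans (Subgroup.centralizer_le_normalizer _)).trans hNH
    exact hyL (hTX H L Y (Nat.card Y) hH hL hyH hYH rfl hCPH hNL)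

end Cfsg.Agent.Lib.Helper53.BG1310
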