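import Mathlib
import Cfsg.Agent.Lib.Helper15.BG139Defs
import Cfsg.Agent.Lib.Helper31.BG12a
import Cfsg.Agent.Lib.Helper89.BG134CJ
import Cfsg.Agent.Lib.Helper13.BG12B
import Cfsg.Agent.Lib.Helper16.BG134Asm
import Cfsg.Agent.S1409
import Cfsg.Agent.S1417

/-! Keystone 137813 (K-S1378-K1, step 14 of BG 13.9): the local data at a maximal subgroup over `N_G(P)`. -/

set_option autoImplicit false

namespace Cfsg.Agent.Lib.Helper53.BG139

open Cfsg Cfsg.Agent.Lib.Helper55 Cfsg.Agent.Lib.Helper31.BG134 Cfsg.Agent.Lib.Helper15.BG139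

variable {G : Type*} [Group G] [Finite G]

/-- KEYSTONE 137813  K-S1378-K1  (step 14). -/
theorem POut.loc {M P H : Subgroup G} {r : ℕ} (o : POut M P r) (hH : IsCoatom H)
    (hNH : Subgroup.normalizer (P : Set G) ≤ H) (hST : SigmaTau G) (h131 : T131 G) :
    Loc M P H r ∧ (r ∈ sigma H ∨ r ∈ tau2 H) := by
  obtain ⟨hrp, hrσM, hrdvd, hrcomm, hrank1⟩ := o.hr1
  have : Fact r.Prime := ⟨hrp⟩
  -- `r ∈ σ(H)` or `r ∈ τ₂(H)`
  have hA : r ∈ sigma H ∨ r ∈ tau2 H := by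
    by_cases h : r ∈ sigma H
    · exact Or.inl h
    · right
      obtain ⟨⟨h2, h1⟩, _, _⟩ := Cfsg.Agent.S1409.result o.hG H hH r h P o.hPc hNH
      exact ⟨hrp, h, h2, h1⟩
  have hrτ1H : r ∉ tau1 H := by
    rintro ⟨_, hns, _, _, hrk1⟩
    rcases hA with h | h
    · exact hns h
    · exact h.2.2.2 hrk1
  -- not conjugate
  have hnc : ∀ g : G, cj g M ≠ H := by
    intro g hg
    rcases hA with h | h
    · have h1 := Cfsg.Agent.Lib.Helper31.BG12.mem_sigma_cj h g⁻¹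
      rw [← hg, cj_inv_cj] at h1
      exact hrσM h1
    · have h1 := Cfsg.Agent.Lib.Helper89.BG134.mem_tau2_cj h g⁻¹
      rw [← hg, cj_inv_cj] at h1
      exact h1.2.2.2 hrank1
  -- `σ(H) ∩ σ(M) = ∅`
  have hσ : ∀ q : ℕ, q ∈ sigma H → q ∉ sigma M := by
    intro q hqH hqM
    rcases hA with h | h
    · exact hST M H o.hM hH hnc q hqM hqH r o.hr1 h
    · obtain ⟨A, hAH, hAe, hAc⟩ := Cfsg.Agent.Lib.Helper13.BG12.exists_elemAb_sq_of_tau2 h
      have hnil := (Cfsg.Agent.S1417.result o.hG H hH r h A ⟨hAH, hAe, hAc⟩).1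
      exact Cfsg.Agent.Lib.Helper31.BG12.sigma_sigma_disjoint o.hG hH o.hM
        (Cfsg.Agent.Lib.Helper16.BG134.not_conj_symm hnc) hnil hqH hqM
  -- `M_σ ∩ H = C_{M_σ}(P)`
  have hC : sigmaCore M ⊓ H = CP M P := by
    apply le_antisymm
    · intro x hx
      refine ⟨hx.1, ?_⟩
      have hPH : P ≤ H := Subgroup.le_normalizer.trans hNH
      have hPp : IsPGroup r P := IsPGroup.of_card (n := 1) (by rw [o.hPc, pow_one])
      have hcent := h131 M H o.hM hH hnc r hrσM P hPp o.hPM hPH hrτ1H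
      show x ∈ Subgroup.centralizer (P : Set G)
      rw [Subgroup.mem_centralizer_iff]
      intro y hy
      have h1 := hcent hy
      rw [Subgroup.mem_centralizer_iff] at h1
      exact (h1 x hx).symm
    · intro x hx
      have hx2 : x ∈ Subgroup.centralizer (P : Set G) := hx.2
      exact ⟨hx.1, hNH (Subgroup.centralizer_le_normalizer (P : Set G) hx2)⟩
  exact ⟨⟨o, hH, hNH, hnc, hσ, hC⟩, hA⟩

end Cfsg.Agent.Lib.Helper53.BG139
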