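import Cfsg.Agent.Lib.Helper53.PReduced2

set_option autoImplicit false

namespace Cfsg.Agent.Lib.Helper53

open Cfsg

section

variable {G : Type*} [Group G]

theorem le_normalizer_of_conj_mem {H N : Subgroup G}
    (h : ∀ g ∈ H, ∀ n ∈ N, g * n * g⁻¹ ∈ N) : H ≤ Subgroup.normalizer (N : Set G) := by
  intro g hg
  rw [Subgroup.mem_normalizer_iff]
  intro n
  constructor
  · exact h g hg n
  · intro hn
    have := h g⁻¹ (H.inv_mem hg) _ hn
    simpa [mul_assoc] using this

theorem conj_mem_of_le_normalizer {H N : Subgroup G}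
    (h : H ≤ Subgroup.normalizer (N : Set G)) {g : G} (hg : g ∈ H) {n : G} (hn : n ∈ N) :
    g * n * g⁻¹ ∈ N :=
  ((Subgroup.mem_normalizer_iff.mp (h hg)) n).mp hn

theorem conj_mem_commutator {H₁ H₂ : Subgroup G} {g : G}
    (h1 : ∀ x ∈ H₁, g * x * g⁻¹ ∈ H₁) (h2 : ∀ x ∈ H₂, g * x * g⁻¹ ∈ H₂) :
    ∀ x ∈ ⁅H₁, H₂⁆, g * x * g⁻¹ ∈ ⁅H₁, H₂⁆ := by
  intro x hx
  have hm : (⁅H₁, H₂⁆).map (MulAut.conj g).toMonoidHom ≤ ⁅H₁, H₂⁆ := by
    rw [Subgroup.map_commutator]
    apply Subgroup.commutator_mono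
    · rintro _ ⟨y, hy, rfl⟩
      exact h1 y hy
    · rintro _ ⟨y, hy, rfl⟩
      exact h2 y hy
  exact hm ⟨x, hx, rfl⟩

theorem commutator_le_normalizer {H₁ H₂ K : Subgroup G}
    (h1 : K ≤ Subgroup.normalizer (H₁ : Set G)) (h2 : K ≤ Subgroup.normalizer (H₂ : Set G)) :
    K ≤ Subgroup.normalizer ((⁅H₁, H₂⁆ : Subgroup G) : Set G) := by
  apply le_normalizer_of_conj_mem
  intro g hg
  exact conj_mem_commutator (fun x hx => conj_mem_of_le_normalizer h1 hg hx)
    (fun x hx => conj_mem_of_le_normalizer h2 hg hx)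

/-- `O^p(H)` of a subgroup, viewed inside the ambient group. -/
def resid (p : ℕ) (H : Subgroup G) : Subgroup G :=
  Subgroup.closure {x : G | x ∈ H ∧ (orderOf x).Coprime p}

theorem resid_le (p : ℕ) (H : Subgroup G) : resid p H ≤ H := by
  unfold resid
  rw [Subgroup.closure_le]
  intro x hx
  exact hx.1

theorem resid_mono (p : ℕ) {H K : Subgroup G} (h : H ≤ K) : resid p H ≤ resid p K := by
  unfold resid
  apply Subgroup.closure_mono
  intro x hx
  exact ⟨h hx.1, hx.2⟩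

theorem map_pResidual_eq_resid (p : ℕ) (H : Subgroup G) :
    (pResidual p ↥H).map H.subtype = resid p H := by
  unfold pResidual resid
  rw [MonoidHom.map_closure]
  congr 1
  ext x
  constructor
  · rintro ⟨y, hy, rfl⟩
    refine ⟨y.2, ?_⟩
    have : orderOf (y : G) = orderOf y := Subgroup.orderOf_coe y
    rw [Subgroup.coe_subtype, this]
    exact hy
  · rintro ⟨hx, hc⟩
    refine ⟨⟨x, hx⟩, ?_, rfl⟩
    have : orderOf ((⟨x, hx⟩ : H) : G) = orderOf (⟨x, hx⟩ : H) := Subgroup.orderOf_coe _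
    show (orderOf (⟨x, hx⟩ : H)).Coprime p
    rw [← this]
    exact hc

theorem resid_normalizer (p : ℕ) {H K : Subgroup G} (h : K ≤ Subgroup.normalizer (H : Set G)) :
    K ≤ Subgroup.normalizer ((resid p H : Subgroup G) : Set G) := by
  intro g hg
  unfold resid
  apply Subgroup.normalizer_le_normalizer_closure
  rw [Subgroup.mem_set_normalizer_iff]
  intro x
  have hord : orderOf (g * x * g⁻¹) = orderOf x := (MulAut.conj g).orderOf_eq x
  constructor
  · rintro ⟨hx, hc⟩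
    exact ⟨conj_mem_of_le_normalizer h hg hx, by rw [hord]; exact hc⟩
  · rintro ⟨hx, hc⟩
    refine ⟨?_, by rw [← hord]; exact hc⟩
    have := conj_mem_of_le_normalizer h (K.inv_mem hg) hx
    simpa [mul_assoc] using this

end

end Cfsg.Agent.Lib.Helper53
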