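import Mathlib
import Cfsg.Agent.Lib.Helper66.DihedralIso
import Cfsg.Agent.Lib.Helper90.Involves
import Cfsg.Prelude.Def_LocalEven
import Cfsg.Agent.Lib.Helper53.Conj

set_option autoImplicit false

namespace Cfsg.Agent.Lib.Helper53

open Cfsg

section BtoC

variable {G : Type*} [Group G] {p : ℕ} [Fact p.Prime]

theorem exists_inverted_of_normalizes (P : Subgroup G) (hP : IsPGroup p P) :
    ∀ (k : ℕ) (x : G), orderOf x = 2 ^ k → x ∈ Subgroup.normalizer (P : Set G) →
      x ∉ Subgroup.centralizer (P : Set G) →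
      ∃ x y : G, (∃ k : ℕ, orderOf x = 2 ^ k) ∧ (∃ k : ℕ, orderOf y = p ^ k) ∧ y ≠ 1 ∧
        x * y * x⁻¹ = y⁻¹ := by
  intro k
  induction k with
  | zero =>
    intro x hx _ hC
    exfalso
    apply hC
    rw [pow_zero, orderOf_eq_one_iff] at hx
    rw [hx]
    exact Subgroup.one_mem _
  | succ k ih =>
    intro x hx hN hC
    by_cases h2 : x ^ 2 ∈ Subgroup.centralizer (P : Set G)
    · have hC' := hC
      rw [Subgroup.mem_centralizer_iff] at hC'
      push Not at hC'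
      obtain ⟨z, hz, hzx⟩ := hC'
      have hy : z⁻¹ * (x * z * x⁻¹) ∈ P :=
        P.mul_mem (P.inv_mem hz) ((Subgroup.mem_normalizer_iff.1 hN z).1 hz)
      refine ⟨x, z⁻¹ * (x * z * x⁻¹), ⟨k + 1, hx⟩, ?_, ?_, ?_⟩
      · obtain ⟨j, hj⟩ := (IsPGroup.iff_orderOf.1 hP) ⟨_, hy⟩
        exact ⟨j, by rw [← hj, Subgroup.orderOf_mk]⟩
      · intro h
        apply hzx
        have h3 : x * z * x⁻¹ = z := by
          have := congrArg (fun t => z * t) h
          simpa using this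
        calc z * x = (x * z * x⁻¹) * x := by rw [h3]
          _ = x * z := by group
      · have h3 : z * x ^ 2 = x ^ 2 * z := (Subgroup.mem_centralizer_iff.1 h2) z hz
        calc x * (z⁻¹ * (x * z * x⁻¹)) * x⁻¹
            = x * z⁻¹ * x⁻¹ * (x ^ 2 * z) * (x⁻¹ * x⁻¹) := by group
          _ = x * z⁻¹ * x⁻¹ * (z * x ^ 2) * (x⁻¹ * x⁻¹) := by rw [h3]
          _ = (z⁻¹ * (x * z * x⁻¹))⁻¹ := by group
    · apply ih (x ^ 2) _ (Subgroup.pow_mem _ hN 2) h2
      rw [orderOf_pow_of_dvd two_ne_zero (by rw [hx, pow_succ]; exact dvd_mul_left 2 _), hx,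
        pow_succ, Nat.mul_div_cancel _ (by norm_num)]

end BtoC

section CtoA

variable {G : Type*} [Group G] {p : ℕ} [Fact p.Prime]

theorem eq_one_of_inverted_of_commute (hp : p ≠ 2) {x y : G} (hyp : y ^ p = 1)
    (hxy : x * y * x⁻¹ = y⁻¹) (hc : x * y = y * x) : y = 1 := by
  have hpp : p.Prime := Fact.out
  have h1 : y = y⁻¹ := by
    rw [← hxy, hc, mul_inv_cancel_right]
  have h2 : y ^ 2 = 1 := by
    rw [pow_two]
    nth_rewrite 1 [h1]
    exact inv_mul_cancel y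
  have h3 : orderOf y ∣ Nat.gcd 2 p := Nat.dvd_gcd (orderOf_dvd_of_pow_eq_one h2)
    (orderOf_dvd_of_pow_eq_one hyp)
  have h4 : Nat.gcd 2 p = 1 := by
    rw [Nat.coprime_primes Nat.prime_two hpp |>.2 (Ne.symm hp)]
  rw [h4, Nat.dvd_one, orderOf_eq_one_iff] at h3
  exact h3

/-- core case: `y` of order `p`. -/
theorem involves_dihedral_of_inverted_prime (hp : p ≠ 2) {x y : G}
    (hx : ∃ k : ℕ, orderOf x = 2 ^ k) (hyp : y ^ p = 1) (hy1 : y ≠ 1)
    (hxy : x * y * x⁻¹ = y⁻¹) : Cfsg.Involves (DihedralGroup p) G := by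
  have hpp : p.Prime := Fact.out
  -- K = centralizer of x^2
  have hxK : x ∈ Subgroup.centralizer ({x ^ 2} : Set G) := by
    rw [Subgroup.mem_centralizer_iff]
    intro h hh
    rw [Set.mem_singleton_iff] at hh
    rw [hh, pow_two]
    group
  have hx2y : x ^ 2 * y = y * x ^ 2 := by
    have h1 : x * y = y⁻¹ * x := by
      rw [← hxy]
      group
    have h2 : x * y⁻¹ = y * x := by
      have : x * y⁻¹ * x⁻¹ = y := by
        have h3 := congrArg (fun t => t⁻¹) hxy
        simp only [mul_inv_rev, inv_inv] at h3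
        rw [← mul_assoc] at h3
        exact h3
      calc x * y⁻¹ = (x * y⁻¹ * x⁻¹) * x := by group
        _ = y * x := by rw [this]
    calc x ^ 2 * y = x * (x * y) := by rw [pow_two, mul_assoc]
      _ = x * (y⁻¹ * x) := by rw [h1]
      _ = (x * y⁻¹) * x := by rw [mul_assoc]
      _ = y * x * x := by rw [h2]
      _ = y * x ^ 2 := by rw [pow_two, mul_assoc]
  have hyK : y ∈ Subgroup.centralizer ({x ^ 2} : Set G) := by
    rw [Subgroup.mem_centralizer_iff]
    intro h hh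
    rw [Set.mem_singleton_iff] at hh
    rw [hh]
    exact hx2y
  -- x ∉ zpowers (x^2), y ∉ zpowers (x^2)
  have hynot : y ∉ Subgroup.zpowers (x ^ 2) := by
    rintro ⟨m, hm⟩
    apply hy1
    apply eq_one_of_inverted_of_commute hp hyp hxy
    rw [← hm]
    have : Commute x ((x ^ 2) ^ m) := ((Commute.refl x).pow_right 2).zpow_right m
    exact this.eq
  have hx1 : x ≠ 1 := by
    rintro rfl
    apply hy1
    apply eq_one_of_inverted_of_commute hp hyp hxy
    simp
  have hxnot : x ∉ Subgroup.zpowers (x ^ 2) := by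
    rintro ⟨m, hm⟩
    apply hx1
    obtain ⟨k, hk⟩ := hx
    have h1 : x ^ (2 * m - 1) = 1 := by
      rw [zpow_sub, zpow_mul, zpow_one]
      have : x ^ (2 : ℤ) = x ^ 2 := by norm_cast
      rw [this]
      simp only at hm
      rw [hm]
      exact mul_inv_cancel x
    have h2 : ((orderOf x : ℕ) : ℤ) ∣ 2 * m - 1 := orderOf_dvd_iff_zpow_eq_one.2 h1
    rw [hk] at h2
    rcases Nat.eq_zero_or_pos k with hk0 | hk0
    · rw [hk0, pow_zero, orderOf_eq_one_iff] at hk
      exact hk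
    · exfalso
      have h3 : (2 : ℤ) ∣ 2 * m - 1 := by
        refine dvd_trans ?_ h2
        have : (2 : ℕ) ∣ 2 ^ k := dvd_pow_self 2 hk0.ne'
        exact_mod_cast this
      omega
  -- the quotient
  let K : Subgroup G := Subgroup.centralizer ({x ^ 2} : Set G)
  let X : ↥K := ⟨x, hxK⟩
  let Y : ↥K := ⟨y, hyK⟩
  have hcentral : ∀ g : ↥K, g * X ^ 2 = X ^ 2 * g := by
    intro g
    apply Subtype.ext
    have := Subgroup.mem_centralizer_iff.1 g.2 (x ^ 2) rfl
    exact this.symm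
  have hnorm : (Subgroup.zpowers (X ^ 2)).Normal := by
    constructor
    rintro n ⟨m, rfl⟩ g
    have h1 : Commute g (X ^ 2) := hcentral g
    have h2 : g * (X ^ 2) ^ m * g⁻¹ = (X ^ 2) ^ m := by
      rw [(h1.zpow_right m).eq, mul_inv_cancel_right]
    show g * (X ^ 2) ^ m * g⁻¹ ∈ _
    rw [h2]
    exact ⟨m, rfl⟩
  let π : ↥K →* ↥K ⧸ Subgroup.zpowers (X ^ 2) := QuotientGroup.mk' (Subgroup.zpowers (X ^ 2))
  have hπ1 : ∀ g : ↥K, π g = 1 ↔ (g : G) ∈ Subgroup.zpowers (x ^ 2) := by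
    intro g
    rw [QuotientGroup.mk'_apply, QuotientGroup.eq_one_iff]
    constructor
    · rintro ⟨m, hm⟩
      refine ⟨m, ?_⟩
      have := congrArg Subtype.val hm
      simpa using this
    · rintro ⟨m, hm⟩
      refine ⟨m, ?_⟩
      apply Subtype.ext
      simpa using hm
  have ha2 : π X * π X = 1 := by
    rw [← map_mul, hπ1]
    show x * x ∈ _
    rw [← pow_two]
    exact Subgroup.mem_zpowers _
  have ha1 : π X ≠ 1 := by
    rw [Ne, hπ1]
    exact hxnot
  have hY1 : π Y ≠ 1 := by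
    rw [Ne, hπ1]
    exact hynot
  have hYp : π Y ^ p = 1 := by
    rw [← map_pow]
    have : Y ^ p = 1 := by
      apply Subtype.ext
      simpa using hyp
    rw [this, map_one]
  have hconj : π X * π Y * (π X)⁻¹ = (π Y)⁻¹ := by
    rw [← map_inv, ← map_mul, ← map_mul, ← map_inv]
    congr 1
    apply Subtype.ext
    simpa using hxy
  have hainv : (π X)⁻¹ = π X := inv_eq_of_mul_eq_one_left ha2
  have hb2 : (π X * π Y) * (π X * π Y) = 1 := by
    have h1 : π X * π Y * π X = (π Y)⁻¹ := by rw [← hconj, hainv]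
    calc π X * π Y * (π X * π Y) = (π X * π Y * π X) * π Y := by simp [mul_assoc]
      _ = 1 := by rw [h1]; simp
  have hoY : orderOf (π Y) = p := orderOf_eq_prime hYp hY1
  have hb1 : π X * π Y ≠ 1 := by
    intro h
    have h1 : π Y = π X := by
      have : π Y = (π X)⁻¹ := eq_inv_of_mul_eq_one_right h
      rw [this, hainv]
    have h2 : orderOf (π X) = 2 := orderOf_eq_prime ((pow_two _).trans ha2) ha1
    rw [h1, h2] at hoY
    exact hp hoY.symm
  have hoa : orderOf (π X) = 2 := orderOf_eq_prime ((pow_two _).trans ha2) ha1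
  have hob : orderOf (π X * π Y) = 2 := orderOf_eq_prime ((pow_two _).trans hb2) hb1
  obtain ⟨e⟩ := Cfsg.Agent.Lib.Helper66.nonempty_closure_pair_equiv_dihedral hoa hob
  have hprod : π X * (π X * π Y) = π Y := by rw [← mul_assoc, ha2, one_mul]
  rw [hprod, hoY] at e
  have hπs : Function.Surjective π := QuotientGroup.mk'_surjective _
  exact Cfsg.Agent.Lib.Helper90.involves_of_hom
    (K.subtype.comp ((Subgroup.closure ({π X, π X * π Y} : Set (↥K ⧸ Subgroup.zpowers (X ^ 2)))).comap π).subtype)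
    (e.toMonoidHom.comp (π.subgroupComap _))
    ((Subgroup.subtype_injective K).comp (Subgroup.subtype_injective _))
    (e.surjective.comp (MonoidHom.subgroupComap_surjective_of_surjective π _ hπs))

theorem involves_dihedral_of_inverted (hp : p ≠ 2) {x y : G}
    (hx : ∃ k : ℕ, orderOf x = 2 ^ k) (hy : ∃ k : ℕ, orderOf y = p ^ k) (hy1 : y ≠ 1)
    (hxy : x * y * x⁻¹ = y⁻¹) : Cfsg.Involves (DihedralGroup p) G := by
  have hpp : p.Prime := Fact.out
  obtain ⟨k, hk⟩ := hy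
  have hk0 : k ≠ 0 := by
    rintro rfl
    rw [pow_zero, orderOf_eq_one_iff] at hk
    exact hy1 hk
  obtain ⟨j, rfl⟩ := Nat.exists_eq_succ_of_ne_zero hk0
  apply involves_dihedral_of_inverted_prime hp hx (y := y ^ (p ^ j))
  · rw [← pow_mul, ← pow_succ, ← hk, pow_orderOf_eq_one]
  · intro h
    have h1 := orderOf_dvd_of_pow_eq_one h
    rw [hk] at h1
    have h2 := Nat.le_of_dvd (pow_pos hpp.pos j) h1
    have h3 : p ^ j < p ^ j.succ := Nat.pow_lt_pow_right hpp.one_lt (Nat.lt_succ_self j)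
    exact absurd h2 (not_le.2 h3)
  · rw [← conj_pow, hxy, inv_pow]

end CtoA

section AtoB

variable {G : Type*} [Group G] [Finite G] {p : ℕ} [Fact p.Prime]

theorem dih_r_one_zpow (n : ℕ) (m : ℤ) :
    (DihedralGroup.r 1 : DihedralGroup n) ^ m = DihedralGroup.r (m : ZMod n) := by
  induction m using Int.induction_on with
  | zero => simp
  | succ i ih => rw [zpow_add_one, ih]; simp
  | pred i ih => rw [zpow_sub_one, ih]; simp [sub_eq_add_neg]

theorem zpowers_r_one_normal (n : ℕ) :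
    (Subgroup.zpowers (DihedralGroup.r 1 : DihedralGroup n)).Normal := by
  constructor
  rintro _ ⟨m, rfl⟩ g
  rw [Subgroup.mem_zpowers_iff]
  show ∃ k : ℤ, (DihedralGroup.r 1 : DihedralGroup n) ^ k = g * (DihedralGroup.r 1 : DihedralGroup n) ^ m * g⁻¹
  cases g with
  | r i => exact ⟨m, by rw [dih_r_one_zpow]; simp⟩
  | sr i => exact ⟨-m, by rw [dih_r_one_zpow, dih_r_one_zpow]; simp⟩

theorem mem_zpowers_r_one_iff (n : ℕ) (g : DihedralGroup n) :
    g ∈ Subgroup.zpowers (DihedralGroup.r 1 : DihedralGroup n) ↔ ∃ i, g = DihedralGroup.r i := by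
  constructor
  · rintro ⟨m, rfl⟩
    exact ⟨_, dih_r_one_zpow n m⟩
  · rintro ⟨i, rfl⟩
    obtain ⟨k, rfl⟩ := ZMod.intCast_surjective i
    exact ⟨k, dih_r_one_zpow n k⟩

theorem exists_pow_prime_pow_order {K : Type*} [Group K] [Finite K] (q : ℕ) (hq : q.Prime) (g : K) :
    ∃ b a : ℕ, ¬ q ∣ b ∧ orderOf (g ^ b) = q ^ a := by
  obtain ⟨a, b, hb, hn⟩ := Nat.exists_eq_pow_mul_and_not_dvd (orderOf_pos g).ne' q hq.ne_one
  have hb0 : b ≠ 0 := by
    rintro rfl
    exact hb (dvd_zero q)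
  refine ⟨b, a, hb, ?_⟩
  rw [orderOf_pow_of_dvd hb0 (Dvd.intro_left _ hn.symm), hn,
    Nat.mul_div_cancel _ (Nat.pos_of_ne_zero hb0)]

theorem exists_normalizes_of_involves (hp : p ≠ 2) (h : Cfsg.Involves (DihedralGroup p) G) :
    ∃ (x : G) (P : Subgroup G), (∃ k : ℕ, orderOf x = 2 ^ k) ∧ IsPGroup p ↥P ∧
      x ∈ Subgroup.normalizer (P : Set G) ∧ x ∉ Subgroup.centralizer (P : Set G) := by
  have hpp : p.Prime := Fact.out
  obtain ⟨K, f, hf⟩ := Cfsg.Agent.Lib.Helper90.exists_hom_of_involves h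
  -- Step 1
  obtain ⟨g, hg⟩ := hf (DihedralGroup.r 1)
  obtain ⟨b, a, hb, hgo⟩ := exists_pow_prime_pow_order p hpp g
  have hfg' : f (g ^ b) = DihedralGroup.r (b : ZMod p) := by
    rw [map_pow, hg, DihedralGroup.r_one_pow]
  have hb0 : (b : ZMod p) ≠ 0 := by
    rw [Ne, ZMod.natCast_eq_zero_iff]
    exact hb
  -- Step 2
  obtain ⟨M, hMn, hmemM⟩ : ∃ M : Subgroup ↥K, M.Normal ∧
      ∀ k : ↥K, k ∈ M ↔ ∃ i, f k = DihedralGroup.r i := by
    refine ⟨(Subgroup.zpowers (DihedralGroup.r 1 : DihedralGroup p)).comap f,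
      (zpowers_r_one_normal p).comap f, ?_⟩
    intro k
    rw [Subgroup.mem_comap, mem_zpowers_r_one_iff]
  have hg'M : g ^ b ∈ M := (hmemM _).2 ⟨_, hfg'⟩
  have hPg : IsPGroup p (Subgroup.zpowers (⟨g ^ b, hg'M⟩ : ↥M)) := by
    apply IsPGroup.of_card (n := a)
    rw [Nat.card_zpowers, Subgroup.orderOf_mk, hgo]
  obtain ⟨P, hP⟩ := hPg.exists_le_sylow
  -- Step 3
  have hfrat := Sylow.normalizer_sup_eq_top P
  obtain ⟨k₀, hk₀⟩ := hf (DihedralGroup.sr 0)
  have hk₀mem : k₀ ∈ Subgroup.normalizer (((P : Subgroup ↥M).map M.subtype : Subgroup ↥K) : Set ↥K) ⊔ M := by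
    rw [hfrat]
    trivial
  have hk₀mem' : k₀ ∈ ((Subgroup.normalizer (((P : Subgroup ↥M).map M.subtype : Subgroup ↥K) : Set ↥K) ⊔ M :
      Subgroup ↥K) : Set ↥K) := hk₀mem
  rw [Subgroup.mul_normal] at hk₀mem'
  obtain ⟨n, hn, m, hm, hnm⟩ := Set.mem_mul.1 hk₀mem'
  obtain ⟨j, hj⟩ := (hmemM _).1 hm
  have hfn : f n = DihedralGroup.sr (-j) := by
    have h1 : f n = f k₀ * (f m)⁻¹ := by
      rw [← hnm, map_mul, mul_inv_cancel_right]
    rw [h1, hk₀, hj]
    simp
  -- Step 4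
  obtain ⟨b', a', hb', hno⟩ := exists_pow_prime_pow_order 2 Nat.prime_two n
  have hodd : Odd b' := Nat.odd_iff.2 (Nat.two_dvd_ne_zero.1 hb')
  have hfx : f (n ^ b') = DihedralGroup.sr (-j) := by
    rw [map_pow, hfn]
    obtain ⟨c, rfl⟩ := hodd
    rw [pow_succ, pow_mul, pow_two, DihedralGroup.sr_mul_self, one_pow, one_mul]
  -- Steps 5, 6
  refine ⟨((n ^ b' : ↥K) : G), (((P : Subgroup ↥M).map M.subtype : Subgroup ↥K)).map K.subtype,
    ⟨a', by rw [Subgroup.orderOf_coe, hno]⟩, ?_, ?_, ?_⟩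
  · exact (P.2.map _).map _
  · apply mem_normalizer_of_conj_mem
    rintro _ ⟨q, hq, rfl⟩
    have hxN := Subgroup.pow_mem _ hn b'
    exact ⟨n ^ b' * q * (n ^ b')⁻¹, (Subgroup.mem_normalizer_iff.1 hxN q).1 hq, by simp⟩
  · intro hC
    have hmem : ((g ^ b : ↥K) : G) ∈ (((P : Subgroup ↥M).map M.subtype : Subgroup ↥K)).map K.subtype :=
      ⟨g ^ b, ⟨⟨g ^ b, hg'M⟩, hP (Subgroup.mem_zpowers _), rfl⟩, rfl⟩
    have hcomm := Subgroup.mem_centralizer_iff.1 hC _ hmem
    have hcomm' : g ^ b * n ^ b' = n ^ b' * g ^ b := by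
      apply Subtype.ext
      simpa using hcomm
    have h2 := congrArg f hcomm'
    rw [map_mul, map_mul, hfg', hfx, DihedralGroup.r_mul_sr, DihedralGroup.sr_mul_r] at h2
    have h3 : -j - (b : ZMod p) = -j + (b : ZMod p) := by
      injection h2
    have h4 : (2 : ZMod p) * (b : ZMod p) = 0 := by
      have h5 : -j - (b : ZMod p) + (j + (b : ZMod p)) = -j + (b : ZMod p) + (j + (b : ZMod p)) := by
        rw [h3]
      have h6 : -j - (b : ZMod p) + (j + (b : ZMod p)) = 0 := by ring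
      have h7 : -j + (b : ZMod p) + (j + (b : ZMod p)) = 2 * (b : ZMod p) := by ring
      rw [← h7, ← h5, h6]
    rcases mul_eq_zero.1 h4 with h5 | h5
    · have h6 : ((2 : ℕ) : ZMod p) = 0 := by exact_mod_cast h5
      rw [ZMod.natCast_eq_zero_iff] at h6
      have := (Nat.prime_dvd_prime_iff_eq hpp Nat.prime_two).1 h6
      exact hp this
    · exact hb0 h5

end AtoB

end Cfsg.Agent.Lib.Helper53
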