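import Cfsg.Agent.Lib.Helper60.FHDefs

/-!
# K-S1142-I : the Schur-type sum of the 2-dimensional representation in closed form
(pure real analysis; keystone for helper60's Feit-Higman S1142)
-/

set_option autoImplicit false

open Cfsg.Agent.Lib.Helper60.FH Finset

namespace Cfsg.Agent.Lib.Helper53.FH

/-- telescoping cosine sum -/
theorem two_sin_mul_sum_cos (θ φ : ℝ) (n : ℕ) :
    2 * Real.sin θ * ∑ m ∈ range n, Real.cos (2 * (m : ℝ) * θ + φ) =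
      Real.sin (2 * (n : ℝ) * θ + (φ - θ)) - Real.sin (φ - θ) := by
  induction n with
  | zero => simp
  | succ n ih =>
    rw [Finset.sum_range_succ, mul_add, ih]
    push_cast
    have h1 : Real.sin (2 * ((n : ℝ) + 1) * θ + (φ - θ)) =
        Real.sin ((2 * (n : ℝ) * θ + φ) + θ) := by ring_nf
    have h2 : Real.sin (2 * (n : ℝ) * θ + (φ - θ)) =
        Real.sin ((2 * (n : ℝ) * θ + φ) - θ) := by ring_nf
    rw [h1, h2, Real.sin_add, Real.sin_sub]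
    ring

theorem altL_real_even (a b : ℝ) (m : ℕ) : altL a b (2 * m) = (a * b) ^ m := by
  induction m with
  | zero => simp
  | succ m ih =>
    have : 2 * (m + 1) = (2 * m + 1) + 1 := by ring
    rw [this, altL_succ, altL_succ, ih]
    ring

theorem altL_real_odd (a b : ℝ) (m : ℕ) : altL a b (2 * m + 1) = a * (a * b) ^ m := by
  rw [altL_succ, altL_real_even, mul_comm b a]

theorem Qr_comm (q1 q2 : ℝ) : Qr q2 q1 = Qr q1 q2 := by
  unfold Qr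
  rw [mul_comm]

theorem pseq_comm (q1 q2 θ : ℝ) (m : ℕ) : pseq q2 q1 θ m = pseq q1 q2 θ m := by
  unfold pseq
  rw [Qr_comm]

theorem Qr_sq {q1 q2 : ℝ} (hq1 : 0 < q1) (hq2 : 0 < q2) : Qr q1 q2 ^ 2 = q1 * q2 := by
  unfold Qr
  exact Real.sq_sqrt (mul_pos hq1 hq2).le

theorem Qr_pos {q1 q2 : ℝ} (hq1 : 0 < q1) (hq2 : 0 < q2) : 0 < Qr q1 q2 := by
  unfold Qr
  exact Real.sqrt_pos.mpr (mul_pos hq1 hq2)

/-- the even term of the cycle, as a function of a real index -/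
noncomputable def Ge (θ : ℝ) (x : ℝ) : ℝ := 2 + 2 * Real.cos (x * θ)

/-- the odd term of the cycle, as a function of a real index -/
noncomputable def Go (q1 q2 θ : ℝ) (x : ℝ) : ℝ :=
  (q1 * (q2 - 1) ^ 2 * (1 - Real.cos ((x - 1) * θ)) +
    2 * (q1 - 1) * (q2 - 1) * Qr q1 q2 * (Real.cos θ - Real.cos (x * θ)) +
    q2 * (q1 - 1) ^ 2 * (1 - Real.cos ((x + 1) * θ))) / (2 * (q1 * q2) * Real.sin θ ^ 2)

theorem term_even {q1 q2 : ℝ} (hq1 : 0 < q1) (hq2 : 0 < q2) (θ : ℝ) (m : ℕ) :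
    (altL q1 q2 (2 * m))⁻¹ * (2 * (Qr q1 q2) ^ m * Real.cos (m * θ)) ^ 2 =
      Ge θ ((2 * m : ℕ) : ℝ) := by
  rw [altL_real_even, Ge]
  have hQ := Qr_sq hq1 hq2
  have hQp := Qr_pos hq1 hq2
  set Q := Qr q1 q2 with hQdef
  have hQm : (q1 * q2) ^ m = (Q ^ m) ^ 2 := by rw [← hQ, ← pow_mul, ← pow_mul, mul_comm]
  have hQm0 : Q ^ m ≠ 0 := pow_ne_zero _ hQp.ne'
  have h2 : ((2 * m : ℕ) : ℝ) * θ = 2 * ((m : ℝ) * θ) := by push_cast; ring
  rw [h2, Real.cos_two_mul, hQm]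
  field_simp
  ring

theorem odd_core (q1 q2 Q s A B Qm : ℝ) (hq1 : q1 ≠ 0) (hQ0 : Q ≠ 0) (hs : s ≠ 0)
    (hQm : Qm ≠ 0) (hQ : Q ^ 2 = q1 * q2) :
    (q1 * Qm ^ 2)⁻¹ *
      (q1 * (q2 - 1) * (Qm * A / (Q * s)) + (q1 - 1) * (Qm * Q * B / (Q * s))) ^ 2 =
    (q1 * (q2 - 1) ^ 2 * (1 - (1 - 2 * A ^ 2)) +
      2 * (q1 - 1) * (q2 - 1) * Q * (2 * A * B) +
      q2 * (q1 - 1) ^ 2 * (1 - (1 - 2 * B ^ 2))) / (2 * (q1 * q2) * s ^ 2) := by
  have h2 : q2 = Q ^ 2 / q1 := by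
    field_simp
    linarith [hQ]
  subst h2
  have : q1 * (Q ^ 2 / q1) = Q ^ 2 := by field_simp
  rw [this]
  field_simp
  ring

theorem term_odd {q1 q2 : ℝ} (hq1 : 0 < q1) (hq2 : 0 < q2) (θ : ℝ) (hs : Real.sin θ ≠ 0) (m : ℕ) :
    (altL q1 q2 (2 * m + 1))⁻¹ *
      (q1 * (q2 - 1) * pseq q1 q2 θ m + (q1 - 1) * pseq q1 q2 θ (m + 1)) ^ 2 =
      Go q1 q2 θ ((2 * m + 1 : ℕ) : ℝ) := by
  rw [altL_real_odd, Go]
  have hQ := Qr_sq hq1 hq2
  have hQp := Qr_pos hq1 hq2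
  set Q := Qr q1 q2 with hQdef
  have hQm : (q1 * q2) ^ m = (Q ^ m) ^ 2 := by rw [← hQ, ← pow_mul, ← pow_mul, mul_comm]
  have hQm0 : Q ^ m ≠ 0 := pow_ne_zero _ hQp.ne'
  set α : ℝ := (m : ℝ) * θ with hα
  have e1 : (((2 * m + 1 : ℕ) : ℝ) - 1) * θ = 2 * α := by push_cast; ring
  have e2 : ((2 * m + 1 : ℕ) : ℝ) * θ = 2 * α + θ := by push_cast; ring
  have e3 : (((2 * m + 1 : ℕ) : ℝ) + 1) * θ = 2 * (α + θ) := by push_cast; ring
  have e4 : ((m + 1 : ℕ) : ℝ) * θ = α + θ := by push_cast; ring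
  rw [e1, e2, e3]
  unfold pseq
  rw [e4, ← hQdef, ← hα]
  have c1 : Real.cos (2 * α) = 1 - 2 * Real.sin α ^ 2 := by
    rw [Real.cos_two_mul, Real.cos_sq']; ring
  have c3 : Real.cos (2 * (α + θ)) = 1 - 2 * Real.sin (α + θ) ^ 2 := by
    rw [Real.cos_two_mul, Real.cos_sq']; ring
  have c2 : Real.cos θ - Real.cos (2 * α + θ) = 2 * Real.sin α * Real.sin (α + θ) := by
    have h1 : Real.cos (2 * α + θ) = Real.cos ((α + θ) + α) := by ring_nf
    have h0 : Real.cos θ = Real.cos ((α + θ) - α) := by ring_nf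
    rw [h1, h0, Real.cos_add, Real.cos_sub]
    ring
  rw [c1, c3, c2, hQm, pow_succ Q m]
  exact odd_core q1 q2 Q (Real.sin θ) (Real.sin α) (Real.sin (α + θ)) (Q ^ m) hq1.ne' hQp.ne' hs
    hQm0 hQ

/-- the cycle term -/
noncomputable def Gc (q1 q2 θ : ℝ) (k : ℕ) : ℝ :=
  if Even k then Ge θ (k : ℝ) else Go q1 q2 θ (k : ℝ)

theorem Go_reflect (q1 q2 θ : ℝ) (N : ℝ)
    (hper : ∀ x : ℝ, Real.cos ((N - x) * θ) = Real.cos (x * θ)) (x : ℝ) :
    Go q1 q2 θ (N - x) = Go q2 q1 θ x := by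
  unfold Go
  have h1 : (N - x - 1) * θ = (N - (x + 1)) * θ := by ring
  have h3 : (N - x + 1) * θ = (N - (x - 1)) * θ := by ring
  rw [h1, h3, hper, hper, hper, Qr_comm q1 q2]
  ring

theorem sum_range_two_mul (f : ℕ → ℝ) (n : ℕ) :
    ∑ k ∈ range (2 * n), f k = ∑ m ∈ range n, (f (2 * m) + f (2 * m + 1)) := by
  induction n with
  | zero => simp
  | succ n ih =>
    rw [show 2 * (n + 1) = 2 * n + 1 + 1 by ring, sum_range_succ, sum_range_succ, ih,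
      sum_range_succ]
    ring

theorem sum_cycle (g : ℕ → ℝ) (n : ℕ) :
    ∑ k ∈ range n, (g (2 * n - k) + g (k + 1)) = ∑ k ∈ range (2 * n), g (k + 1) := by
  rw [two_mul, Finset.sum_range_add, Finset.sum_add_distrib, add_comm]
  congr 1
  rw [← Finset.sum_range_reflect (fun j => g (n + j + 1)) n]
  apply Finset.sum_congr rfl
  intro k hk
  rw [Finset.mem_range] at hk
  congr 1
  omega

/-- K-S1142-I -/
theorem dsum_closed (q1 q2 : ℝ) (hq1 : 0 < q1) (hq2 : 0 < q2) (n j : ℕ) (hj : 1 ≤ j)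
    (hjn : 2 * j < n) (hodd : Odd n → q1 = q2) (chiU chiV : ℕ → ℝ)
    (hUe : ∀ m : ℕ, chiU (2 * m) = 2 * (Qr q1 q2) ^ m * Real.cos (m * theta n j))
    (hVe : ∀ m : ℕ, chiV (2 * m) = 2 * (Qr q1 q2) ^ m * Real.cos (m * theta n j))
    (hUo : ∀ m : ℕ, chiU (2 * m + 1) =
      q1 * (q2 - 1) * pseq q1 q2 (theta n j) m + (q1 - 1) * pseq q1 q2 (theta n j) (m + 1))
    (hVo : ∀ m : ℕ, chiV (2 * m + 1) =
      q2 * (q1 - 1) * pseq q1 q2 (theta n j) m + (q2 - 1) * pseq q1 q2 (theta n j) (m + 1)) :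
    ∑ k ∈ Finset.range n, ((altL q2 q1 k)⁻¹ * (chiV k) ^ 2 +
        (altL q1 q2 (k + 1))⁻¹ * (chiU (k + 1)) ^ 2) = Dclosed q1 q2 n (theta n j) := by
  have hn0 : 0 < n := by omega
  have hnR : (0 : ℝ) < n := by exact_mod_cast hn0
  have hjR : (1 : ℝ) ≤ j := by exact_mod_cast hj
  have hjnR : 2 * (j : ℝ) < n := by exact_mod_cast hjn
  set θ := theta n j with hθdef
  have hθ : θ = 2 * Real.pi * j / n := rfl
  have hθ0 : 0 < θ := by
    rw [hθ]; have := Real.pi_pos; positivity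
  have hθ1 : θ < Real.pi := by
    rw [hθ, div_lt_iff₀ hnR]
    have := Real.pi_pos
    nlinarith
  have hs : Real.sin θ ≠ 0 := (Real.sin_pos_of_pos_of_lt_pi hθ0 hθ1).ne'
  have h2nθ : 2 * (n : ℝ) * θ = ((2 * j : ℕ) : ℝ) * (2 * Real.pi) := by
    rw [hθ]; push_cast; field_simp
  -- periodicity
  have hper : ∀ x : ℝ, Real.cos ((2 * (n : ℝ) - x) * θ) = Real.cos (x * θ) := by
    intro x
    have : (2 * (n : ℝ) - x) * θ = -(x * θ) + ((2 * j : ℕ) : ℝ) * (2 * Real.pi) := by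
      rw [← h2nθ]; ring
    rw [this, Real.cos_add_nat_mul_two_pi, Real.cos_neg]
  have hsum : ∀ φ : ℝ, ∑ m ∈ range n, Real.cos (2 * (m : ℝ) * θ + φ) = 0 := by
    intro φ
    have h := two_sin_mul_sum_cos θ φ n
    rw [h2nθ, add_comm, Real.sin_add_nat_mul_two_pi, sub_self] at h
    rcases mul_eq_zero.mp h with h | h
    · exact absurd h (mul_ne_zero two_ne_zero hs)
    · exact h
  -- the terms
  have hU : ∀ k : ℕ, (altL q1 q2 k)⁻¹ * (chiU k) ^ 2 = Gc q1 q2 θ k := by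
    intro k
    rcases Nat.even_or_odd' k with ⟨m, rfl | rfl⟩
    · rw [hUe, term_even hq1 hq2, Gc, if_pos (even_two_mul m)]
    · rw [hUo, term_odd hq1 hq2 θ hs, Gc, if_neg (by simp)]
  have hV : ∀ k : ℕ, k ≤ 2 * n → (altL q2 q1 k)⁻¹ * (chiV k) ^ 2 = Gc q1 q2 θ (2 * n - k) := by
    intro k hk
    rcases Nat.even_or_odd' k with ⟨m, rfl | rfl⟩
    · rw [hVe, ← Qr_comm q1 q2, term_even hq2 hq1, Gc, if_pos (by rw [Nat.even_iff]; omega)]
      rw [Nat.cast_sub hk, Ge, Ge]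
      push_cast
      rw [hper]
    · rw [hVo, ← pseq_comm q1 q2, ← pseq_comm q1 q2, term_odd hq2 hq1 θ hs, Gc,
        if_neg (by rw [Nat.even_iff]; omega)]
      rw [Nat.cast_sub hk]
      push_cast
      rw [Go_reflect q1 q2 θ (2 * (n : ℝ)) hper]
  -- reindex
  have hS : ∑ k ∈ Finset.range n, ((altL q2 q1 k)⁻¹ * (chiV k) ^ 2 +
        (altL q1 q2 (k + 1))⁻¹ * (chiU (k + 1)) ^ 2) =
      ∑ m ∈ range n, (Gc q1 q2 θ (2 * m + 1) + Gc q1 q2 θ (2 * m + 1 + 1)) := by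
    rw [← sum_range_two_mul (fun k => Gc q1 q2 θ (k + 1)), ← sum_cycle]
    apply Finset.sum_congr rfl
    intro k hk
    rw [Finset.mem_range] at hk
    rw [hU, hV k (by omega)]
  rw [hS]
  have hQ := Qr_sq hq1 hq2
  set Q := Qr q1 q2 with hQdef
  set den : ℝ := 2 * (q1 * q2) * Real.sin θ ^ 2 with hden
  have hden0 : den ≠ 0 := by
    rw [hden]
    have := hq1.ne'
    have := hq2.ne'
    positivity
  set a1 : ℝ := q1 * (q2 - 1) ^ 2 with ha1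
  set a2 : ℝ := q2 * (q1 - 1) ^ 2 with ha2
  set b : ℝ := 2 * (q1 - 1) * (q2 - 1) * Q with hb
  have hterm : ∀ m : ℕ, Gc q1 q2 θ (2 * m + 1) + Gc q1 q2 θ (2 * m + 1 + 1) =
      ((a1 + b * Real.cos θ + a2) / den + 2) - (a1 / den) * Real.cos (2 * (m : ℝ) * θ + 0)
        - (b / den) * Real.cos (2 * (m : ℝ) * θ + θ)
        + (2 - a2 / den) * Real.cos (2 * (m : ℝ) * θ + 2 * θ) := by
    intro m
    rw [Gc, if_neg (by simp), Gc, if_pos (by rw [Nat.even_iff]; omega), Go, Ge, ← hQdef, ← hden,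
      ← ha1, ← ha2, ← hb]
    have e1 : (((2 * m + 1 : ℕ) : ℝ) - 1) * θ = 2 * (m : ℝ) * θ + 0 := by push_cast; ring
    have e2 : ((2 * m + 1 : ℕ) : ℝ) * θ = 2 * (m : ℝ) * θ + θ := by push_cast; ring
    have e3 : (((2 * m + 1 : ℕ) : ℝ) + 1) * θ = 2 * (m : ℝ) * θ + 2 * θ := by push_cast; ring
    have e4 : ((2 * m + 1 + 1 : ℕ) : ℝ) * θ = 2 * (m : ℝ) * θ + 2 * θ := by push_cast; ring
    rw [e1, e2, e3, e4]
    field_simp
    ring
  rw [Finset.sum_congr rfl (fun m _ => hterm m)]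
  rw [Finset.sum_add_distrib, Finset.sum_sub_distrib, Finset.sum_sub_distrib,
    ← Finset.mul_sum, ← Finset.mul_sum, ← Finset.mul_sum, hsum, hsum, hsum,
    Finset.sum_const, Finset.card_range]
  simp only [mul_zero, sub_zero, add_zero, nsmul_eq_mul]
  unfold Dclosed
  have hden' : 2 * q1 * q2 * Real.sin θ ^ 2 = den := by rw [hden]; ring
  rw [← hQdef, hden']
  have key : a1 + b * Real.cos θ + a2 + 2 * den =
      (q1 + q2 + 2 * Q * Real.cos θ) * (q1 * q2 + 1 - 2 * Q * Real.cos θ) := by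
    rw [hden, ha1, ha2, hb, Real.sin_sq]
    linear_combination (4 * Real.cos θ ^ 2) * hQ
  rw [mul_assoc (n : ℝ), ← key]
  field_simp

end Cfsg.Agent.Lib.Helper53.FH
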