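import Mathlib
import Cfsg.Agent.Lib.Helper53.FusIN2
import Cfsg.Agent.Lib.Helper53.FusWC6
import Cfsg.Agent.Lib.Helper53.NpcFunctor
import Cfsg.Agent.Lib.Helper41.Frobenius
import Cfsg.Agent.Lib.Helper52.PCore

/-!
# Inner fusion, part 3: the step through a model, and the local-to-global principle
-/

set_option autoImplicit false

namespace Cfsg.Agent.Lib.Helper53.FusIN

open Cfsg Cfsg.FusionSystem Cfsg.Agent.Lib.Helper87 Cfsg.Agent.Lib.Helper53.FusWC

universe u

variable {Ω : Type u} [Group Ω] {S : Subgroup Ω}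

/-- The automorphism of `K` given by a map of the system from `K` onto `K`. -/
noncomputable def autOfHom (F : FusionSystem S) {K : Subgroup Ω} (φ : K →* Ω) (hφ : φ ∈ F.Hom K)
    (hr : φ.range = K) : MulAut K :=
  MulEquiv.ofBijective (φ.codRestrict K (fun x => hr.le ⟨x, rfl⟩))
    ⟨fun a b hab => F.injective_of_mem hφ (congrArg (fun x : K => (x : Ω)) hab),
     fun y => by
      obtain ⟨x, hx⟩ := hr.ge y.2
      exact ⟨x, Subtype.ext hx⟩⟩

theorem autOfHom_apply (F : FusionSystem S) {K : Subgroup Ω} (φ : K →* Ω) (hφ : φ ∈ F.Hom K)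
    (hr : φ.range = K) (x : K) : ((autOfHom F φ hφ hr x : K) : Ω) = φ x := rfl

theorem autOfHom_mem (F : FusionSystem S) {K : Subgroup Ω} (hK : K ≤ S) (φ : K →* Ω)
    (hφ : φ ∈ F.Hom K) (hr : φ.range = K) : autOfHom F φ hφ hr ∈ F.autGroup K := by
  rw [mem_autGroup_iff F hK]
  exact hom_congr F hφ (fun x => rfl)

theorem aut_eq_one_of_coprime {K : Type*} [Group K] (α : MulAut K) {a b : ℕ} (ha : α ^ a = 1)
    (hb : α ^ b = 1) (hab : a.Coprime b) : α = 1 := by
  have h1 := orderOf_dvd_of_pow_eq_one ha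
  have h2 := orderOf_dvd_of_pow_eq_one hb
  have h3 : orderOf α ∣ 1 := by
    have := Nat.dvd_gcd h1 h2
    rwa [Nat.Coprime.gcd_eq_one hab] at this
  exact orderOf_eq_one_iff.mp (Nat.dvd_one.mp h3)

/-- Powers of an automorphism induced by conjugation in a realizing group. -/
theorem ι_pow_aut {N₀ : Subgroup Ω} {L : Type*} [Group L] (ι : N₀ →* L) {K : Subgroup Ω}
    (hK : K ≤ N₀) (α : MulAut K) (g : L)
    (h : ∀ x : K, ι ⟨(α x : K), hK (α x).2⟩ = g * ι ⟨x, hK x.2⟩ * g⁻¹) (j : ℕ) (x : K) :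
    ι ⟨((α ^ j) x : K), hK ((α ^ j) x).2⟩ = g ^ j * ι ⟨x, hK x.2⟩ * (g ^ j)⁻¹ := by
  induction j with
  | zero => simp
  | succ j ih =>
    have h1 : (α ^ (j + 1)) x = α ((α ^ j) x) := by
      rw [pow_succ']; rfl
    have h2 := h ((α ^ j) x)
    rw [ih] at h2
    have h3 : ι ⟨((α ^ (j + 1)) x : K), hK ((α ^ (j + 1)) x).2⟩ =
        ι ⟨(α ((α ^ j) x) : K), hK (α ((α ^ j) x)).2⟩ := by
      congr 2
      rw [h1]
    rw [h3, h2, pow_succ']
    group

/-- Powers of an automorphism induced by conjugation by an element. -/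
theorem pow_aut_conj {K : Subgroup Ω} (α : MulAut K) (s : Ω)
    (h : ∀ x : K, ((α x : K) : Ω) = s * x * s⁻¹) (j : ℕ) (x : K) :
    (((α ^ j) x : K) : Ω) = s ^ j * x * (s ^ j)⁻¹ := by
  induction j with
  | zero => simp
  | succ j ih =>
    have h1 : (α ^ (j + 1)) x = α ((α ^ j) x) := by
      rw [pow_succ']; rfl
    rw [h1, h, ih, pow_succ']
    group

/-- If the realizing group is the image of `N_S(T)`, all `F`-automorphisms of `T` are induced by
elements of `S`. -/
theorem innAut_of_model_top [Finite S] {T : Subgroup Ω} (F : FusionSystem S) (hT : T ≤ S)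
    (N : FusionSystem (normalizerIn S T)) (hN : F.IsNormalizerSystem T N)
    {L : Type*} [Group L] (ι : normalizerIn S T →* L) (hι : N.IsRealizedBy ι)
    (htop : ∀ g : L, g ∈ ι.range) : InnAut F T := by
  intro φ hφ hr
  have hφN : φ ∈ N.Hom T := mem_nsys_hom_self F hT N hN φ hφ hr
  obtain ⟨g, hg⟩ := exists_conj_of_mem_hom N hι hφN
  obtain ⟨t, rfl⟩ := htop g
  refine ⟨t, (normalizerIn_le S T) t.2, fun x => ?_⟩
  have h1 := hg x
  rw [← map_inv, ← map_mul, ← map_mul] at h1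
  have h2 := hι.1 h1
  exact congrArg (fun y : normalizerIn S T => (y : Ω)) h2

/-- A model with a normal `p`-complement is a `p`-group. -/
theorem range_eq_top_of_npc {p : ℕ} [Fact p.Prime] {N₀ : Subgroup Ω} (N : FusionSystem N₀)
    {L : Type u} [Group L] (ι : N₀ →* L) (hmodel : N.IsModel p L ι)
    (hnpc : HasNormalPComplement p L) : ∀ g : L, g ∈ ι.range := by
  have : Finite L := hmodel.1
  obtain ⟨P, hP⟩ := hmodel.2.2.1
  have hQn : (Cfsg.pCore p L).Normal := Cfsg.Agent.Lib.Helper52.pCore_normal p L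
  have h1 : IsPGroup p (⊤ : Subgroup L) :=
    Cfsg.Agent.Lib.Helper53.isPGroup_of_npc_of_le (Cfsg.pCore p L)
      (Cfsg.Agent.Lib.Helper52.pCore_isPGroup p L) hmodel.2.2.2 ⊤ le_top
      (Cfsg.Agent.Lib.Helper41.hasNormalPComplement_subgroup hnpc ⊤)
  have h2 : (P : Subgroup L) = ⊤ := by
    have := P.3 h1 le_top
    exact this.symm
  intro g
  rw [← hP, h2]
  exact Subgroup.mem_top g

end Cfsg.Agent.Lib.Helper53.FusIN
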