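import Mathlib
import Cfsg.Agent.Lib.Helper53.FusIN3
import Cfsg.Agent.Lib.Helper53.FusWC5

/-!
# Inner fusion, part 4: the local-to-global principle

`inner_main`: if the `F`-automorphism groups of the nontrivial characteristic subgroups of `S` are
`p`-groups, and every model `L` of `N_F(T)` (`T` fully normalized centric) has a normal `p`-complement as
soon as the elements of order prime to `p` of `N_L(K)` centralize `K` for every nontrivial characteristic
subgroup `K` of the Sylow subgroup `N_S(T)` of `L`, then every map of `F` is induced by an element of `S`.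
-/

set_option autoImplicit false

namespace Cfsg.Agent.Lib.Helper53.FusIN

open Cfsg Cfsg.FusionSystem Cfsg.Agent.Lib.Helper87 Cfsg.Agent.Lib.Helper53.FusWC

universe u

variable {Ω : Type u} [Group Ω] {S : Subgroup Ω}

/-- Elements normalizing `N₀` normalize its characteristic subgroups. -/
theorem char_normalizer [Finite S] {N₀ K : Subgroup Ω} (hN₀ : N₀ ≤ S) (hK : K ≤ N₀)
    (hchar : (K.subgroupOf N₀).Characteristic) (s : Ω)
    (hs : s ∈ Subgroup.normalizer (N₀ : Set Ω)) : s ∈ Subgroup.normalizer (K : Set Ω) := by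
  have : Finite K := finite_of_le (hK.trans hN₀)
  apply Cfsg.Agent.Lib.Helper87.mem_normalizer_of_conj_mem
  intro y hy
  have h1 := Subgroup.characteristic_iff_map_eq.mp hchar (conjAut N₀ s hs)
  have h2 : (conjAut N₀ s hs) ⟨y, hK hy⟩ ∈ K.subgroupOf N₀ := by
    rw [← h1]
    exact ⟨⟨y, hK hy⟩, Subgroup.mem_subgroupOf.mpr hy, rfl⟩
  exact Subgroup.mem_subgroupOf.mp h2

/-- In a group realizing `N_F(T)`, the elements of order prime to `p` normalizing the image of `K`
centralize it, as soon as the `F`-automorphisms of `K` have `p`-power order. -/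
theorem model_centralizes [Finite S] {p : ℕ} [Fact p.Prime] {T : Subgroup Ω} (F : FusionSystem S)
    (N : FusionSystem (normalizerIn S T)) (hN : F.IsNormalizerSystem T N)
    {L : Type*} [Group L] [Finite L] (ι : normalizerIn S T →* L) (hι : N.IsRealizedBy ι)
    (K : Subgroup Ω) (hK : K ≤ normalizerIn S T)
    (hpow : ∀ α ∈ F.autGroup K, ∃ m : ℕ, α ^ (p ^ m) = 1)
    (g : L) (hg : g ∈ Subgroup.normalizer ((push ι K : Subgroup L) : Set L))
    (hgo : (orderOf g).Coprime p) :
    g ∈ Subgroup.centralizer ((push ι K : Subgroup L) : Set L) := by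
  have hpush : ∀ x : K, g * ι ⟨x, hK x.2⟩ * g⁻¹ ∈ push ι K := fun x =>
    (Subgroup.mem_normalizer_iff.mp hg _).mp (coe_mem_push hK x)
  have h : ∀ x : K, g * ι ⟨x, hK x.2⟩ * g⁻¹ ∈ ι.range := fun x => push_le_range ι K (hpush x)
  have hφN : pullConj ι hι.1 K hK g h ∈ N.Hom K := pullConj_mem_hom N hι K hK g h
  have hφF : pullConj ι hι.1 K hK g h ∈ F.Hom K := by
    rw [hN K] at hφN
    exact hφN.1
  have hKS : K ≤ S := hK.trans (normalizerIn_le S T)
  have : Finite K := finite_of_le hKS
  have hr : (pullConj ι hι.1 K hK g h).range = K := by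
    apply Subgroup.eq_of_le_of_card_ge
    · rintro _ ⟨x, rfl⟩
      have h1 := ι_pullConj ι hι.1 K hK g h x
      have h2 := hpush x
      rw [← h1] at h2
      obtain ⟨s, hs, hs'⟩ := mem_push.mp h2
      have h3 := hι.1 hs'
      have h4 := congrArg (fun y : normalizerIn S T => (y : Ω)) h3
      simp only at h4
      rw [← h4]
      exact hs
    · exact (Cfsg.Agent.Lib.Helper89.card_range_eq F hφF).ge
  set α := autOfHom F _ hφF hr with hα
  have hαmem : α ∈ F.autGroup K := autOfHom_mem F hKS _ hφF hr
  obtain ⟨m, hm⟩ := hpow α hαmem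
  have hαι : ∀ x : K, ι ⟨(α x : K), hK (α x).2⟩ = g * ι ⟨x, hK x.2⟩ * g⁻¹ := fun x =>
    ι_pullConj ι hι.1 K hK g h x
  have hn : α ^ (orderOf g) = 1 := by
    ext x
    have h1 := ι_pow_aut ι hK α g hαι (orderOf g) x
    rw [pow_orderOf_eq_one, one_mul, inv_one, mul_one] at h1
    have h2 := hι.1 h1
    exact congrArg (fun y : normalizerIn S T => (y : Ω)) h2
  have hcop : (orderOf g).Coprime (p ^ m) := Nat.Coprime.pow_right m hgo
  have hα1 : α = 1 := aut_eq_one_of_coprime α hn hm hcop
  rw [Subgroup.mem_centralizer_iff]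
  intro y hy
  obtain ⟨s, hs, rfl⟩ := mem_push.mp hy
  have h1 := hαι ⟨s, hs⟩
  rw [hα1] at h1
  have h2 : ι s = g * ι s * g⁻¹ := h1
  calc ι s * g = g * ι s * g⁻¹ * g := by rw [← h2]
    _ = g * ι s := by group

/-- Automorphisms induced by elements of the `p`-group `S` have `p`-power order. -/
theorem pow_of_innAut [Finite S] {p : ℕ} (hS : IsPGroup p S) (F : FusionSystem S)
    {K : Subgroup Ω} (hK : K ≤ S) (h : InnAut F K) :
    ∀ α ∈ F.autGroup K, ∃ m : ℕ, α ^ (p ^ m) = 1 := by
  intro α hα
  have hφ := (mem_autGroup_iff F hK).mp hα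
  have hr : (K.subtype.comp α.toMonoidHom).range = K := by
    ext y
    constructor
    · rintro ⟨x, rfl⟩
      exact (α x).2
    · intro hy
      exact ⟨α.symm ⟨y, hy⟩, by simp⟩
  obtain ⟨s, hs, hsα⟩ := h _ hφ hr
  obtain ⟨m, hm⟩ := hS ⟨s, hs⟩
  have hm' : s ^ (p ^ m) = 1 := by
    have := congrArg (fun y : S => (y : Ω)) hm
    simpa using this
  refine ⟨m, ?_⟩
  ext x
  have h1 := pow_aut_conj α s (fun x => hsα x) (p ^ m) x
  rw [hm'] at h1
  simpa using h1

theorem pow_of_isPGroup {p : ℕ} (F : FusionSystem S) {K : Subgroup Ω}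
    (h : IsPGroup p (F.autGroup K)) : ∀ α ∈ F.autGroup K, ∃ m : ℕ, α ^ (p ^ m) = 1 := by
  intro α hα
  obtain ⟨m, hm⟩ := h ⟨α, hα⟩
  refine ⟨m, ?_⟩
  have := congrArg (fun y : F.autGroup K => (y : MulAut K)) hm
  simpa using this

/-- The local hypothesis on models. -/
def ModelHypInn (p : ℕ) (F : FusionSystem S) : Prop :=
  ∀ T : Subgroup Ω, F.IsFullyNormalized T → F.IsCentric T →
    ∀ N : FusionSystem (normalizerIn S T), F.IsNormalizerSystem T N →
    ∀ (L : Type u) [Group L] (ι : normalizerIn S T →* L), N.IsModel p L ι →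
      (∀ K : Subgroup Ω, K ≤ normalizerIn S T → K ≠ ⊥ →
        (K.subgroupOf (normalizerIn S T)).Characteristic →
        ∀ g ∈ Subgroup.normalizer ((push ι K : Subgroup L) : Set L), (orderOf g).Coprime p →
          g ∈ Subgroup.centralizer ((push ι K : Subgroup L) : Set L)) →
      HasNormalPComplement p L

theorem inner_main [Finite S] (p : ℕ) [Fact p.Prime] (hS : IsPGroup p S)
    (F : FusionSystem S) (hF : F.IsSaturated p)
    (h : ∀ Q : Subgroup Ω, Q ≤ S → Q ≠ ⊥ → (Q.subgroupOf S).Characteristic →
      IsPGroup p (F.autGroup Q))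
    (hGT : ModelHypInn p F) :
    ∀ (A : Subgroup Ω) (φ : A →* Ω), φ ∈ F.Hom A → IsSConj S φ := by
  classical
  have hcardN : ∀ P : Subgroup Ω, P ≤ S → Nat.card P ≤ Nat.card (normalizerIn S P) := by
    intro P hP
    have : Finite ↥(normalizerIn S P) := finite_of_le (normalizerIn_le S P)
    exact Subgroup.card_le_of_le (le_normalizerIn hP)
  have hC : ∀ m k : ℕ, Nat.card S + 1 ≤ k + m →
      ∀ P : Subgroup Ω, F.IsFullyNormalized P → F.IsCentric P →
        k ≤ Nat.card (normalizerIn S P) → InnAut F P := by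
    intro m
    induction m with
    | zero =>
      intro k hk P _ _ hkP
      exfalso
      have h1 : Nat.card (normalizerIn S P) ≤ Nat.card S :=
        Subgroup.card_le_of_le (normalizerIn_le S P)
      omega
    | succ m ih =>
      intro k hk P hfn hc hkP
      have hCk := ih (k + 1) (by omega)
      by_cases hbig : k + 1 ≤ Nat.card (normalizerIn S P)
      · exact hCk P hfn hc hbig
      have hMk := innMaps_of_innAut p hS F hF (k + 1)
        (fun P' hfn' hc' hk' => hCk P' hfn' hc' (hk'.trans (hcardN P' hfn'.1)))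
      have hPS : P ≤ S := hfn.1
      have hNS : normalizerIn S P ≤ S := normalizerIn_le S P
      have : Finite ↥(normalizerIn S P) := finite_of_le hNS
      have hNp : IsPGroup p ↥(normalizerIn S P) := hS.to_le hNS
      set N := normalizerSystem F P hPS with hNdef
      have hN : F.IsNormalizerSystem P N := normalizerSystem_isNormalizerSystem F P hPS
      have hNsat : N.IsSaturated p := Cfsg.Agent.S5098.result p hS F hF P hfn N hN
      have hNn : N.IsNormal P := nsys_isNormal F P hPS N hN
      have hNc : N.IsCentric P := nsys_isCentric F P hc N hN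
      obtain ⟨L, hL, ι, hmodel⟩ := Cfsg.Agent.S5090.result p hNp N ⟨hNsat, P, hNn, hNc⟩
      have hι : N.IsRealizedBy ι := hmodel.2.1
      have : Finite L := hmodel.1
      apply innAut_of_model_top F hPS N hN ι hι
      apply range_eq_top_of_npc N ι hmodel
      apply hGT P hfn hc N hN L ι hmodel
      intro K hK hKne hKchar g hg hgo
      have hKS : K ≤ S := hK.trans hNS
      apply model_centralizes F N hN ι hι K hK ?_ g hg hgo
      by_cases htop : normalizerIn S P = S
      · apply pow_of_isPGroup F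
        apply h K hKS hKne
        rw [htop] at hKchar
        exact hKchar
      · apply pow_of_innAut hS F hKS
        obtain ⟨s, hs, hsn⟩ := Cfsg.Agent.Lib.Helper89.exists_mem_normalizerIn_not_mem hS hNS htop
        have hle : normalizerIn S (normalizerIn S P) ≤ normalizerIn S K := by
          intro t ht
          exact ⟨ht.1, char_normalizer hNS hK hKchar t ht.2⟩
        have : Finite ↥(normalizerIn S K) := finite_of_le (normalizerIn_le S _)
        have hlt : Nat.card (normalizerIn S P) < Nat.card (normalizerIn S K) :=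
          Cfsg.Agent.Lib.Helper89.card_lt_of_mem_not_mem
            ((le_normalizerIn hNS).trans hle) (hle hs) hsn
        have hk' : k + 1 ≤ Nat.card (normalizerIn S K) := by omega
        exact innAut_of_big_normalizer p hS F hF (k + 1) hCk hMk K hKS hk'
  have hC0 := hC (Nat.card S + 1) 0 (by omega)
  have hM0 := innMaps_of_innAut p hS F hF 0
    (fun P hfn hc _ => hC0 P hfn hc (Nat.zero_le _))
  intro A φ hφ
  exact hM0 A φ hφ (Nat.zero_le _)

end Cfsg.Agent.Lib.Helper53.FusIN
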