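import Mathlib
import Cfsg.Agent.Lib.Helper53.FusIN4
import Cfsg.Agent.Lib.Helper53.CharNpc2
import Cfsg.Prelude.Def_FusionReduction

/-!
# Inner fusion, part 5: the local hypothesis from Thompson's theorem for groups
-/

set_option autoImplicit false

namespace Cfsg.Agent.Lib.Helper53.FusIN

open Cfsg Cfsg.FusionSystem Cfsg.Agent.Lib.Helper87 Cfsg.Agent.Lib.Helper53.FusWC

universe u

variable {Ω : Type u} [Group Ω] {S : Subgroup Ω}

theorem modelHypInn_of_free {p : ℕ} [Fact p.Prime] (F : FusionSystem S)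
    (hp : p ≠ 2 ∨ F.IsSectionFree p (Equiv.Perm (Fin 4))) : ModelHypInn p F := by
  intro T hfn hc N hN L _ ι hmodel hpre
  have : Finite L := hmodel.1
  obtain ⟨P', hP'⟩ := hmodel.2.2.1
  have hinj : Function.Injective ι := hmodel.2.1.1
  have hΦ : p ≠ 2 ∨ ¬ Involves (Equiv.Perm (Fin 4)) L :=
    hp.imp id (fun h => h T hfn hc N hN L ι hmodel)
  apply Cfsg.Agent.Lib.Helper53.CharNpc.npc_of_charHyp hΦ P'
  intro K' hK'char hK'ne g hg hgo
  let e : ↥(normalizerIn S T) ≃* ↥(P' : Subgroup L) :=
    (MonoidHom.ofInjective hinj).trans (MulEquiv.subgroupCongr hP'.symm)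
  have he : ∀ x, ((e x : ↥(P' : Subgroup L)) : L) = ι x := fun x => rfl
  have hK₀char : (K'.map e.symm.toMonoidHom).Characteristic :=
    Cfsg.Agent.Lib.Helper58.KChar.characteristic_map_equiv e.symm K'
  have hKle : (K'.map e.symm.toMonoidHom).map (normalizerIn S T).subtype ≤ normalizerIn S T :=
    Subgroup.map_subtype_le _
  have hKsub : ((K'.map e.symm.toMonoidHom).map (normalizerIn S T).subtype).subgroupOf
      (normalizerIn S T) = K'.map e.symm.toMonoidHom :=
    Subgroup.comap_map_eq_self_of_injective (normalizerIn S T).subtype_injective _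
  have hKne : (K'.map e.symm.toMonoidHom).map (normalizerIn S T).subtype ≠ ⊥ := by
    intro hbot
    apply hK'ne
    have h1 := (Subgroup.map_eq_bot_iff_of_injective _
      (normalizerIn S T).subtype_injective).mp hbot
    exact (Subgroup.map_eq_bot_iff_of_injective _ e.symm.injective).mp h1
  have hpush : push ι ((K'.map e.symm.toMonoidHom).map (normalizerIn S T).subtype) =
      K'.map (P' : Subgroup L).subtype := by
    unfold push
    rw [hKsub]
    ext y
    constructor
    · rintro ⟨x, ⟨k, hk, rfl⟩, rfl⟩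
      refine ⟨k, hk, ?_⟩
      have := he (e.symm k)
      rw [MulEquiv.apply_symm_apply] at this
      exact this
    · rintro ⟨k, hk, rfl⟩
      refine ⟨e.symm k, ⟨k, hk, rfl⟩, ?_⟩
      have := he (e.symm k)
      rw [MulEquiv.apply_symm_apply] at this
      exact this.symm
  have h1 := hpre _ hKle hKne (by rw [hKsub]; exact hK₀char) g (by rw [hpush]; exact hg) hgo
  rw [hpush] at h1
  exact h1

end Cfsg.Agent.Lib.Helper53.FusIN
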