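import Mathlib
import Cfsg.Agent.Lib.Helper53.FusWC8
import Cfsg.Agent.Lib.Helper53.WGMain
import Cfsg.Agent.Lib.Helper41.SecTransport

/-!
# Weak closure in fusion systems, part 9: functors with quadratic local elements
-/

set_option autoImplicit false

namespace Cfsg.Agent.Lib.Helper53.FusWC

open Cfsg Cfsg.FusionSystem Cfsg.Agent.Lib.Helper87
open scoped commutatorElement

universe u

/-- The local hypothesis of the group-theoretic theorem from the hypothesis `hq` on all finite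
groups. -/
theorem locHyp_of_hq {p : ℕ} [Fact p.Prime] (W : ∀ (Q : Type u) [Group Q], Subgroup Q)
    (hW : IsCharPFunctor.{u} p W)
    (hq : ∀ (G : Type u) [Group G] [Finite G] (P : Sylow p G),
      ¬ (((W ↥(P : Subgroup G)).map (P : Subgroup G).subtype : Subgroup G)).Normal →
      ∃ g : G, g ∈ (P : Subgroup G) ∧ g ∉ Cfsg.pCore p G ∧
        ⁅⁅Subgroup.center ↥(Cfsg.pCore p G) |>.map (Cfsg.pCore p G).subtype,
          Subgroup.zpowers g⁆, Subgroup.zpowers g⁆ = ⊥)
    {L : Type u} [Group L] (X : Type u) [Group X] [Finite X] (ι : X →* L)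
    (hι : Function.Injective ι) (S : Sylow p X) :
    Cfsg.Agent.Lib.Helper53.WG.LocHyp p
      (Cfsg.Agent.Lib.Helper53.WG.pull (inducedFunctor (G := L) W) ι) (S : Subgroup X) := by
  have hpull : Cfsg.Agent.Lib.Helper53.WG.pull (inducedFunctor (G := L) W) ι (S : Subgroup X) =
      inducedFunctor W (S : Subgroup X) := by
    rw [Cfsg.Agent.Lib.Helper53.WG.pull_apply,
      Cfsg.Agent.Lib.Helper41.inducedFunctor_map_injective W hW ι hι (S : Subgroup X) S.2,
      Subgroup.comap_map_eq_self_of_injective hι]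
  intro hnot
  rw [hpull] at hnot
  have hnn : ¬ (((W ↥(S : Subgroup X)).map (S : Subgroup X).subtype : Subgroup X)).Normal := by
    intro h
    apply hnot
    have : Subgroup.normalizer ((inducedFunctor W (S : Subgroup X) : Subgroup X) : Set X) = ⊤ :=
      Subgroup.normalizer_eq_top_iff.mpr h
    rw [this]
  obtain ⟨g, hgS, hgQ, hquad⟩ := hq X S hnn
  refine ⟨g, hgS, hgQ, fun u hu k l => ?_⟩
  have hu' : u ∈ (Subgroup.center ↥(Cfsg.pCore p X)).map (Cfsg.pCore p X).subtype := by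
    refine ⟨⟨u, hu.1⟩, ?_, rfl⟩
    rw [SetLike.mem_coe, Subgroup.mem_center_iff]
    intro q
    exact Subtype.ext (Subgroup.mem_centralizer_iff.mp hu.2 q q.2)
  have h1 : ⁅⁅u, g ^ k⁆, g ^ l⁆ ∈
      ⁅⁅(Subgroup.center ↥(Cfsg.pCore p X)).map (Cfsg.pCore p X).subtype,
        Subgroup.zpowers g⁆, Subgroup.zpowers g⁆ :=
    Subgroup.commutator_mem_commutator
      (Subgroup.commutator_mem_commutator hu'
        (Subgroup.zpow_mem _ (Subgroup.mem_zpowers _) k))
      (Subgroup.zpow_mem _ (Subgroup.mem_zpowers _) l)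
  rw [hquad] at h1
  exact Subgroup.mem_bot.mp h1

variable {Ω : Type u} [Group Ω] {S : Subgroup Ω}

/-- The model hypothesis for `p`-th powers of central elements, from the hypothesis `hq`. -/
theorem modelHyp_of_hq [Finite S] {p : ℕ} [Fact p.Prime] (hS : IsPGroup p S)
    (F : FusionSystem S)
    (W : ∀ (Q : Type u) [Group Q], Subgroup Q)
    (hW1 : ∀ (Q : Type u) [Group Q] [Finite Q], IsPGroup p Q → Nontrivial Q → W Q ≠ ⊥)
    (hW2 : ∀ (Q R : Type u) [Group Q] [Group R] [Finite Q], IsPGroup p Q → ∀ φ : Q ≃* R,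
      (W Q).map φ.toMonoidHom = W R)
    (hWZ : ∀ (Q : Type u) [Group Q] [Finite Q], IsPGroup p Q → Subgroup.center Q ≤ W Q)
    (hq : ∀ (G : Type u) [Group G] [Finite G] (P : Sylow p G),
      ¬ (((W ↥(P : Subgroup G)).map (P : Subgroup G).subtype : Subgroup G)).Normal →
      ∃ g : G, g ∈ (P : Subgroup G) ∧ g ∉ Cfsg.pCore p G ∧
        ⁅⁅Subgroup.center ↥(Cfsg.pCore p G) |>.map (Cfsg.pCore p G).subtype,
          Subgroup.zpowers g⁆, Subgroup.zpowers g⁆ = ⊥)
    (x : Ω) (z : Ω) (hzS : z ∈ S) (hzZ : z ∈ Subgroup.centralizer (S : Set Ω)) (hzx : z ^ p = x) :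
    ModelHyp p F (subFunctor W) x := by
  have hW : IsCharPFunctor.{u} p W := ⟨hW1, hW2⟩
  have hxS : x ∈ S := by rw [← hzx]; exact S.pow_mem hzS p
  have hxZ : x ∈ Subgroup.centralizer (S : Set Ω) := by
    rw [← hzx]; exact Subgroup.pow_mem _ hzZ p
  apply modelHyp_of_local hS F W hW2 hWZ x hxS hxZ
  intro T hfn hc N hN L _ _ ι hmodel hzN P hP _ h3 g hg
  have hTS : T ≤ S := hfn.1
  have hzc : ∀ y ∈ S, y * z = z * y := fun y hy =>
    (Subgroup.mem_centralizer_iff.mp hzZ y hy)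
  have hzT : z ∈ T := by
    apply hc.2 T (isConj_refl F hTS)
    rw [mem_centralizerIn]
    exact ⟨hzS, fun y hy => hzc y (hTS hy)⟩
  have hzN' : z ∈ normalizerIn S T := le_normalizerIn hTS hzT
  have hWZ' : ∀ P : Subgroup L, IsPGroup p ↥P →
      P ⊓ Subgroup.centralizer (P : Set L) ≤ inducedFunctor W P := by
    intro P hPp y hy
    refine ⟨⟨y, hy.1⟩, hWZ ↥P hPp ?_, rfl⟩
    rw [Subgroup.mem_center_iff]
    intro q
    exact Subtype.ext (Subgroup.mem_centralizer_iff.mp hy.2 q q.2)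
  have hpull : ∀ P : Subgroup L,
      Cfsg.Agent.Lib.Helper53.WG.pull (inducedFunctor (G := L) W) (MonoidHom.id L) P =
        inducedFunctor W P := by
    intro P
    rw [Cfsg.Agent.Lib.Helper53.WG.pull_apply, Subgroup.map_id, Subgroup.comap_id]
  have main := Cfsg.Agent.Lib.Helper53.WG.wgStmt_all (inducedFunctor (G := L) W)
    (Cfsg.Agent.Lib.Helper41.isConjugacyFunctor_inducedFunctor W hW L) hWZ'
    (fun X _ _ ι hι S => locHyp_of_hq W hW hq X ι hι S)
    (Nat.card L) L (MonoidHom.id L) Function.injective_id rfl (P : Subgroup L) P.2 P.not_dvd_index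
  rw [hpull] at main
  have hAP : ({ι ⟨x, hzN⟩} : Set L) ⊆ Cfsg.Agent.Lib.Helper53.WG.PowZ p (P : Subgroup L) := by
    intro a ha
    rw [Set.mem_singleton_iff] at ha
    rw [ha]
    apply Subgroup.subset_closure
    refine ⟨ι ⟨z, hzN'⟩, Subgroup.mem_inf.mpr ⟨by rw [hP]; exact ⟨_, rfl⟩, ?_⟩, ?_⟩
    · rw [Subgroup.mem_centralizer_iff]
      intro y hy
      rw [SetLike.mem_coe, hP] at hy
      obtain ⟨n, rfl⟩ := hy
      rw [← map_mul, ← map_mul]
      congr 1
      exact Subtype.ext (hzc n ((normalizerIn_le S T) n.2))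
    · show (ι ⟨z, hzN'⟩) ^ p = ι ⟨x, hzN⟩
      rw [← map_pow]
      congr 1
      exact Subtype.ext hzx
  have hNn : Subgroup.normalizer ((inducedFunctor W (P : Subgroup L) : Subgroup L) : Set L) ≤
      Subgroup.normalizer ({ι ⟨x, hzN⟩} : Set L) := by
    intro n hn
    apply Cfsg.Agent.Lib.Helper53.WG.mem_normalizer_of_commute
    intro a ha
    rw [Set.mem_singleton_iff] at ha
    rw [ha]
    obtain ⟨c, hc', hcx⟩ := h3
    have h5 := Subgroup.mem_center_iff.mp hc' ⟨n, hn⟩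
    have h6 := congrArg Subtype.val h5
    rw [← hcx]
    exact h6
  have h1 := main {ι ⟨x, hzN⟩} hAP hNn g (by
    intro a ha
    rw [Set.mem_singleton_iff] at ha
    rw [ha]; exact hg)
  rw [Subgroup.mem_set_normalizer_iff] at h1
  exact (h1 (ι ⟨x, hzN⟩)).mp rfl

end Cfsg.Agent.Lib.Helper53.FusWC
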