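import Mathlib

/-!
# K-G2I-N1 (keystone 217712, pack S2177, architect helper37): `|Q ⊔ L| ≤ |Q| |L|` when `L` normalises `Q`
-/

set_option autoImplicit false

open scoped Pointwise

namespace Cfsg.Agent.Lib.Helper53.G2Inv

theorem card_sup_le_mul {G : Type*} [Group G] [Finite G] (Q L : Subgroup G)
    (h : L ≤ Subgroup.normalizer (Q : Set G)) : Nat.card ↥(Q ⊔ L) ≤ Nat.card ↥Q * Nat.card ↥L := by
  have e : ((Q ⊔ L : Subgroup G) : Set G) = (Q : Set G) * (L : Set G) :=
    Subgroup.coe_mul_of_right_le_normalizer_left Q L h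
  have h1 : Nat.card ↥(Q ⊔ L) = Nat.card ↥(((Q ⊔ L : Subgroup G) : Set G)) := rfl
  rw [h1, e]
  exact Set.natCard_mul_le

end Cfsg.Agent.Lib.Helper53.G2Inv
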