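import Mathlib

/-!
# K-GS pack (S4840), leaf KILL `q8_kill` (keystone 484011): hypothesis form
-/

set_option autoImplicit false

namespace Cfsg.Agent.Lib.Helper53.GS

universe u

variable {Γ V : Type u} [Group Γ] [Finite Γ] [CommGroup V] [Finite V]

/-- arithmetic core -/
theorem kill_arith (u a b m c : ℕ) (k : ℕ) (hk : u = 3 ^ k) (hu2 : 2 ≤ u)
    (h1 : (u * u - 1) * 3 ^ a = 24 * (m * 3 ^ b)) (hm : m ≤ u - 1) (hm0 : m ≠ 0)
    (hc : m * 3 ^ b = 2 * c) : False := by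
  -- `3 ∣ u`
  have hk1 : k ≠ 0 := by
    rintro rfl
    simp at hk
    omega
  obtain ⟨k', rfl⟩ := Nat.exists_eq_succ_of_ne_zero hk1
  have h3u : 3 ∣ u := by rw [hk, pow_succ]; exact Dvd.intro_left _ rfl
  have hcop : Nat.Coprime (u * u - 1) (3 ^ (b + 1)) := by
    apply Nat.Coprime.pow_right
    rw [Nat.coprime_comm, Nat.Prime.coprime_iff_not_dvd Nat.prime_three]
    intro h
    have h2 : 3 ∣ u * u := Dvd.dvd.mul_right h3u u
    have h3 : 1 ≤ u * u := by nlinarith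
    have h4 : 3 ∣ u * u - (u * u - 1) := Nat.dvd_sub h2 h
    have h5 : u * u - (u * u - 1) = 1 := by omega
    rw [h5] at h4
    omega
  have hdvd : (u * u - 1) ∣ 8 * m * 3 ^ (b + 1) := by
    refine ⟨3 ^ a, ?_⟩
    rw [h1, pow_succ]; ring
  have hdvd2 : (u * u - 1) ∣ 8 * m := hcop.dvd_of_dvd_mul_right hdvd
  have hle : u * u - 1 ≤ 8 * m := Nat.le_of_dvd (by omega) hdvd2
  -- `u = 3`
  have hu3 : u = 3 := by
    by_contra hne
    have hk2 : k' ≠ 0 := by
      rintro rfl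
      simp at hk
      exact hne hk
    obtain ⟨k'', rfl⟩ := Nat.exists_eq_succ_of_ne_zero hk2
    have h9 : 9 ≤ u := by
      rw [hk, pow_succ, pow_succ]
      have : 1 ≤ 3 ^ k'' := Nat.one_le_pow _ _ (by norm_num)
      nlinarith
    have h10 : 9 * u ≤ u * u := Nat.mul_le_mul_right u h9
    generalize u * u = q at *
    omega
  subst hu3
  -- `8 * 3 ^ a = 24 * (2 c)`
  rw [hc] at h1
  have h6 : 3 ^ a = 6 * c := by
    norm_num at h1
    omega
  have h7 : 2 ∣ 3 ^ a := ⟨3 * c, by rw [h6]; ring⟩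
  have h8 : 2 ∣ 3 := Nat.prime_two.dvd_of_dvd_pow h7
  omega

/-- KILL in hypothesis form: the conclusions of the leaves B2, K2, K3, K4 (instantiated at `Γ`, `V`, `ρ`)
are hypotheses. -/
theorem q8_kill_of [Nontrivial V] (hV : IsPGroup 3 V)
    (ρ : Γ →* MulAut V)
    (R : Subgroup Γ) (e : R ≃* QuaternionGroup 2)
    (hB2 : ∃ a : ℕ, Nat.card Γ = (Nat.card V - 1) * 3 ^ a)
    (hK2 : ∀ z : Γ, z * z = 1 → z ≠ 1 → ∀ v : V, ρ z v = v⁻¹)
    (hK3 : ∀ (i j : MulAut V), (∀ v : V, i (i v) = v⁻¹) → (∀ v : V, j (j v) = v⁻¹) →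
      (∀ v : V, i (j v) = (j (i v))⁻¹) → ∀ U : Subgroup V, (∀ v : V, v ∈ U ↔ i v * j v = v) →
      Nat.card V = Nat.card U * Nat.card U)
    (hK4 : ∀ (C : Subgroup Γ) (U : Subgroup V), U ≠ ⊥ → (∀ c ∈ C, ∀ u ∈ U, ρ c u ∈ U) →
      ∃ m b : ℕ, Nat.card C = m * 3 ^ b ∧ m ≤ Nat.card U - 1) :
    Nat.card Γ ≠ 24 * Nat.card (Subgroup.centralizer (R : Set Γ)) := by
  intro hcard
  have hmul : ∀ x y : QuaternionGroup 2,
      ((e.symm (x * y) : R) : Γ) = (e.symm x : Γ) * (e.symm y : Γ) := by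
    intro x y; rw [map_mul]; rfl
  have q1 : (QuaternionGroup.xa 0 : QuaternionGroup 2) * QuaternionGroup.xa 0 =
      QuaternionGroup.a 2 := by decide
  have q2 : (QuaternionGroup.xa 1 : QuaternionGroup 2) * QuaternionGroup.xa 1 =
      QuaternionGroup.a 2 := by decide
  have q3 : (QuaternionGroup.xa 0 : QuaternionGroup 2) * QuaternionGroup.xa 1 =
      QuaternionGroup.xa 1 * QuaternionGroup.xa 0 * QuaternionGroup.a 2 := by decide
  have q4 : (QuaternionGroup.a 2 : QuaternionGroup 2) * QuaternionGroup.a 2 = 1 := by decide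
  have q5 : (QuaternionGroup.a 2 : QuaternionGroup 2) ≠ 1 := by decide
  have q6 : ∀ q : QuaternionGroup 2, q * QuaternionGroup.a 2 = QuaternionGroup.a 2 * q := by decide
  set gi : Γ := ((e.symm (QuaternionGroup.xa 0) : R) : Γ) with hgi
  set gj : Γ := ((e.symm (QuaternionGroup.xa 1) : R) : Γ) with hgj
  set gz : Γ := ((e.symm (QuaternionGroup.a 2) : R) : Γ) with hgz
  have hgiR : gi ∈ R := (e.symm (QuaternionGroup.xa 0)).2
  have hgjR : gj ∈ R := (e.symm (QuaternionGroup.xa 1)).2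
  have hii : gi * gi = gz := by rw [hgi, hgz, ← hmul, q1]
  have hjj : gj * gj = gz := by rw [hgj, hgz, ← hmul, q2]
  have hij : gi * gj = gj * gi * gz := by rw [hgi, hgj, hgz, ← hmul, ← hmul, ← hmul, q3]
  have hzz : gz * gz = 1 := by
    rw [hgz, ← hmul, q4, map_one]; rfl
  have hz1 : gz ≠ 1 := by
    intro h
    apply q5
    have h2 : (e.symm (QuaternionGroup.a 2) : R) = 1 := Subtype.ext h
    have h3 := congrArg e h2
    simpa using h3
  have hzC : gz ∈ Subgroup.centralizer (R : Set Γ) := by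
    rw [Subgroup.mem_centralizer_iff]
    intro r hr
    have h1 : r = ((e.symm (e ⟨r, hr⟩) : R) : Γ) := by simp
    rw [h1, hgz, ← hmul, ← hmul, q6]
  have hzinv : ∀ v : V, ρ gz v = v⁻¹ := hK2 gz hzz hz1
  have hi : ∀ v : V, ρ gi (ρ gi v) = v⁻¹ := by
    intro v
    rw [← MulAut.mul_apply, ← map_mul, hii, hzinv]
  have hj : ∀ v : V, ρ gj (ρ gj v) = v⁻¹ := by
    intro v
    rw [← MulAut.mul_apply, ← map_mul, hjj, hzinv]
  have hijv : ∀ v : V, ρ gi (ρ gj v) = (ρ gj (ρ gi v))⁻¹ := by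
    intro v
    rw [← MulAut.mul_apply, ← map_mul, hij, map_mul, map_mul, MulAut.mul_apply, MulAut.mul_apply,
      hzinv, map_inv, map_inv]
  -- the eigenspace
  let U : Subgroup V :=
    { carrier := {v | ρ gi v * ρ gj v = v}
      mul_mem' := by
        intro x y hx hy
        simp only [Set.mem_ofPred_eq] at hx hy ⊢
        rw [map_mul, map_mul]
        calc ρ gi x * ρ gi y * (ρ gj x * ρ gj y) = (ρ gi x * ρ gj x) * (ρ gi y * ρ gj y) := by
              rw [mul_mul_mul_comm]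
          _ = x * y := by rw [hx, hy]
      one_mem' := by simp
      inv_mem' := by
        intro x hx
        simp only [Set.mem_ofPred_eq] at hx ⊢
        rw [map_inv, map_inv, ← mul_inv, hx] }
  have hUmem : ∀ v : V, v ∈ U ↔ ρ gi v * ρ gj v = v := fun v => Iff.rfl
  have hVU : Nat.card V = Nat.card U * Nat.card U := hK3 (ρ gi) (ρ gj) hi hj hijv U hUmem
  have hV2 : 2 ≤ Nat.card V := Finite.one_lt_card
  have hU2 : 2 ≤ Nat.card U := by
    by_contra h
    have h1 : Nat.card U ≤ 1 := by omega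
    have h2 : Nat.card U * Nat.card U ≤ 1 := by
      calc Nat.card U * Nat.card U ≤ 1 * 1 := Nat.mul_le_mul h1 h1
        _ = 1 := by norm_num
    omega
  have hUne : U ≠ ⊥ := by
    intro h
    rw [h, Subgroup.card_bot] at hU2
    omega
  have hCU : ∀ c ∈ Subgroup.centralizer (R : Set Γ), ∀ u ∈ U, ρ c u ∈ U := by
    intro c hc u hu
    rw [hUmem] at hu ⊢
    have h1 : gi * c = c * gi := (Subgroup.mem_centralizer_iff.1 hc) gi hgiR
    have h2 : gj * c = c * gj := (Subgroup.mem_centralizer_iff.1 hc) gj hgjR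
    rw [← MulAut.mul_apply, ← MulAut.mul_apply, ← map_mul, ← map_mul, h1, h2, map_mul, map_mul,
      MulAut.mul_apply, MulAut.mul_apply, ← map_mul, hu]
  obtain ⟨m, b, hCm, hm⟩ := hK4 (Subgroup.centralizer (R : Set Γ)) U hUne hCU
  obtain ⟨a, ha⟩ := hB2
  have hUp : IsPGroup 3 U := hV.to_subgroup U
  have : Fact (Nat.Prime 3) := ⟨Nat.prime_three⟩
  obtain ⟨k, hk⟩ := IsPGroup.iff_card.mp hUp
  -- `2 ∣ card C`
  have h2C : 2 ∣ Nat.card (Subgroup.centralizer (R : Set Γ)) := by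
    have : Fact (Nat.Prime 2) := ⟨Nat.prime_two⟩
    have ho : orderOf gz = 2 := orderOf_eq_prime (by rw [pow_two]; exact hzz) hz1
    have h1 := orderOf_dvd_natCard (⟨gz, hzC⟩ : Subgroup.centralizer (R : Set Γ))
    rwa [Subgroup.orderOf_mk, ho] at h1
  obtain ⟨c, hc⟩ := h2C
  have hm0 : m ≠ 0 := by
    rintro rfl
    rw [zero_mul] at hCm
    have : 0 < Nat.card (Subgroup.centralizer (R : Set Γ)) := Nat.card_pos
    omega
  apply kill_arith (Nat.card U) a b m c k hk hU2 _ hm hm0 (by rw [← hCm, hc])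
  rw [← hVU, ← ha, hcard, hCm]

end Cfsg.Agent.Lib.Helper53.GS
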