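import Mathlib
import Cfsg.Agent.Lib.Helper83.GSDefs
import Cfsg.Agent.Lib.Helper53.GSKillCore
import Cfsg.Agent.Lib.Helper50.GSB2
import Cfsg.Agent.Lib.Helper96.GSK2
import Cfsg.Agent.Lib.Helper29.GSK3
import Cfsg.Agent.Lib.Helper85.GSK4

/-!
# K-GS pack (S4840), leaf KILL `q8_kill` (keystone 484011): exact spec signature
-/

set_option autoImplicit false

namespace Cfsg.Agent.Lib.Helper53.GS

open Cfsg.Agent.Lib.Helper83.GS (Good)

universe u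

variable {Γ V : Type u} [Group Γ] [Finite Γ] [CommGroup V] [Finite V]

/-- KILL (HARD, GATING; glue of B2, K2, K3, K4 + arithmetic): `p = 3`, `R ≅ Q_8` normal:
`|Γ| ≠ 24 |C_Γ(R)|`. -/
theorem q8_kill [Nontrivial V] (hV : IsPGroup 3 V) (hV3 : ∀ v : V, v ^ 3 = 1)
    (ρ : Γ →* MulAut V)
    (htrans : ∀ v w : V, v ≠ 1 → w ≠ 1 → ∃ g : Γ, ρ g v = w)
    (hstab : ∀ (g : Γ) (v : V), v ≠ 1 → ρ g v = v → ∃ k : ℕ, g ^ (3 ^ k) = 1)
    (R : Subgroup Γ) [R.Normal] (e : R ≃* QuaternionGroup 2) :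
    Nat.card Γ ≠ 24 * Nat.card (Subgroup.centralizer (R : Set Γ)) := by
  have : Fact (Nat.Prime 3) := ⟨Nat.prime_three⟩
  exact q8_kill_of hV ρ R e
    (Cfsg.Agent.Lib.Helper50.GS.card_eq 3 ρ htrans hstab)
    (fun z hz hz1 v =>
      Cfsg.Agent.Lib.Helper96.GS.involution_inverts 3 (by norm_num) ρ hstab z hz hz1 v)
    (fun i j hi hj hij U hU =>
      Cfsg.Agent.Lib.Helper29.GS.card_eq_sq_of_quaternion_action hV3 i j hi hj hij U hU)
    (fun C U hU1 hCU => Cfsg.Agent.Lib.Helper85.GS.card_le_of_preserves 3 ρ hstab C U hU1 hCU)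

end Cfsg.Agent.Lib.Helper53.GS
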