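import Mathlib
import Cfsg.Prelude.Def_Transfer

set_option autoImplicit false

namespace Cfsg.Agent.Lib.Helper53

open scoped commutatorElement

/-- coordinates on a group making it the Heisenberg group over `ZMod p` -/
structure HeisData (p : ℕ) (P : Type*) [Group P] where
  h : ZMod p → ZMod p → ZMod p → P
  h_mul : ∀ a b c a' b' c', h a b c * h a' b' c' = h (a + a') (b + b') (c + c' + a * b')
  h_inj : ∀ a b c a' b' c', h a b c = h a' b' c' → a = a' ∧ b = b' ∧ c = c'
  h_surj : ∀ x : P, ∃ a b c, x = h a b c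

namespace HeisData

variable {p : ℕ} [Fact p.Prime] {P : Type*} [Group P] (D : HeisData p P)

include D

theorem h_zero : D.h 0 0 0 = 1 := by
  have h1 := D.h_mul 0 0 0 0 0 0
  simp only [add_zero, mul_zero] at h1
  exact mul_eq_left.1 h1

theorem h_inv (a b c : ZMod p) : (D.h a b c)⁻¹ = D.h (-a) (-b) (-c + a * b) := by
  rw [inv_eq_iff_mul_eq_one, D.h_mul, ← D.h_zero]
  congr 1 <;> ring

theorem h_pow (a b c : ZMod p) (n : ℕ) :
    D.h a b c ^ n = D.h (n * a) (n * b) (n * c + (n.choose 2 : ℕ) * (a * b)) := by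
  induction n with
  | zero => simp [D.h_zero]
  | succ k ih =>
    rw [pow_succ, ih, D.h_mul]
    have h2 : ((k + 1).choose 2 : ℕ) = k + k.choose 2 := by
      rw [Nat.choose_succ_succ' k 1, Nat.choose_one_right]
    congr 1
    · push_cast; ring
    · push_cast; ring
    · rw [h2]; push_cast; ring

theorem h_pow_p (hp : p ≠ 2) (a b c : ZMod p) : D.h a b c ^ p = 1 := by
  have hpp : p.Prime := Fact.out
  rw [D.h_pow, ← D.h_zero]
  have h1 : ((p : ℕ) : ZMod p) = 0 := ZMod.natCast_self p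
  have h2 : ((p.choose 2 : ℕ) : ZMod p) = 0 := by
    rw [ZMod.natCast_eq_zero_iff]
    apply hpp.dvd_choose_self (by norm_num)
    have := hpp.two_le
    omega
  rw [h1, h2]
  congr 1 <;> ring

/-- the bijection with triples -/
noncomputable def equivTriple : (ZMod p × ZMod p × ZMod p) ≃ P :=
  Equiv.ofBijective (fun t => D.h t.1 t.2.1 t.2.2) (by
    constructor
    · rintro ⟨a, b, c⟩ ⟨a', b', c'⟩ h
      obtain ⟨h1, h2, h3⟩ := D.h_inj _ _ _ _ _ _ h
      exact Prod.ext h1 (Prod.ext h2 h3)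
    · intro x
      obtain ⟨a, b, c, rfl⟩ := D.h_surj x
      exact ⟨⟨a, b, c⟩, rfl⟩)

theorem card_eq : Nat.card P = p ^ 3 := by
  rw [← Nat.card_congr D.equivTriple, Nat.card_prod, Nat.card_prod, Nat.card_zmod]
  ring

theorem isPGroup : IsPGroup p P := IsPGroup.of_card D.card_eq

theorem commute_iff (a b c a' b' c' : ZMod p) :
    D.h a b c * D.h a' b' c' = D.h a' b' c' * D.h a b c ↔ a * b' = a' * b := by
  rw [D.h_mul, D.h_mul]
  constructor
  · intro h
    obtain ⟨_, _, h3⟩ := D.h_inj _ _ _ _ _ _ h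
    have : c + c' + a * b' = c + c' + a' * b := by rw [h3]; ring
    exact add_left_cancel this
  · intro h
    congr 1
    · ring
    · ring
    · rw [h]; ring

theorem mem_center_iff (x : P) : x ∈ Subgroup.center P ↔ ∃ c, x = D.h 0 0 c := by
  rw [Subgroup.mem_center_iff]
  obtain ⟨a, b, c, rfl⟩ := D.h_surj x
  constructor
  · intro h
    have h1 := (D.commute_iff 0 1 0 a b c).1 (h (D.h 0 1 0))
    have h2 := (D.commute_iff 1 0 0 a b c).1 (h (D.h 1 0 0))
    simp at h1 h2
    refine ⟨c, ?_⟩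
    rw [← h1, h2]
  · rintro ⟨c', hc'⟩ g
    obtain ⟨a', b', c'', rfl⟩ := D.h_surj g
    obtain ⟨ha, hb, _⟩ := D.h_inj _ _ _ _ _ _ hc'
    rw [D.commute_iff, ha, hb]
    ring

theorem card_center : Nat.card (Subgroup.center P) = p := by
  have hmem : ∀ c : ZMod p, D.h 0 0 c ∈ Subgroup.center P := fun c => (D.mem_center_iff _).2 ⟨c, rfl⟩
  have : Nat.card (ZMod p) = Nat.card (Subgroup.center P) := by
    apply Nat.card_eq_of_bijective (fun c : ZMod p => (⟨D.h 0 0 c, hmem c⟩ : Subgroup.center P))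
    constructor
    · intro c c' h
      have h1 := congrArg Subtype.val h
      exact (D.h_inj _ _ _ _ _ _ h1).2.2
    · rintro ⟨x, hx⟩
      obtain ⟨c, rfl⟩ := (D.mem_center_iff x).1 hx
      exact ⟨c, rfl⟩
  rw [← this, Nat.card_zmod]

theorem commutatorElement_eq (a b c a' b' c' : ZMod p) :
    ⁅D.h a b c, D.h a' b' c'⁆ = D.h 0 0 (a * b' - a' * b) := by
  have h1 : D.h a b c * D.h a' b' c' = D.h 0 0 (a * b' - a' * b) * (D.h a' b' c' * D.h a b c) := by
    rw [D.h_mul, D.h_mul, D.h_mul]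
    congr 1 <;> ring
  rw [commutatorElement_def, mul_assoc, ← mul_inv_rev, h1, mul_inv_cancel_right]

theorem commutator_eq_center : commutator P = Subgroup.center P := by
  apply le_antisymm
  · rw [commutator_def, Subgroup.commutator_le]
    intro x _ y _
    obtain ⟨a, b, c, rfl⟩ := D.h_surj x
    obtain ⟨a', b', c', rfl⟩ := D.h_surj y
    rw [D.commutatorElement_eq]
    exact (D.mem_center_iff _).2 ⟨_, rfl⟩
  · intro x hx
    obtain ⟨c, rfl⟩ := (D.mem_center_iff x).1 hx
    have h1 : D.h 0 0 c = ⁅D.h 1 0 0, D.h 0 c 0⁆ := by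
      rw [D.commutatorElement_eq]
      congr 1
      ring
    rw [h1, commutator_def]
    exact Subgroup.commutator_mem_commutator (Subgroup.mem_top _) (Subgroup.mem_top _)

/-- the subgroup `a = 0` -/
def subA : Subgroup P where
  carrier := {x | ∃ b c, x = D.h 0 b c}
  mul_mem' := by
    rintro _ _ ⟨b, c, rfl⟩ ⟨b', c', rfl⟩
    exact ⟨b + b', c + c' + 0 * b', by rw [D.h_mul, add_zero]⟩
  one_mem' := ⟨0, 0, D.h_zero.symm⟩
  inv_mem' := by
    rintro _ ⟨b, c, rfl⟩
    exact ⟨-b, -c + 0 * b, by rw [D.h_inv, neg_zero]⟩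

/-- the subgroup `b = 0` -/
def subB : Subgroup P where
  carrier := {x | ∃ a c, x = D.h a 0 c}
  mul_mem' := by
    rintro _ _ ⟨a, c, rfl⟩ ⟨a', c', rfl⟩
    exact ⟨a + a', c + c' + a * 0, by rw [D.h_mul, add_zero]⟩
  one_mem' := ⟨0, 0, D.h_zero.symm⟩
  inv_mem' := by
    rintro _ ⟨a, c, rfl⟩
    exact ⟨-a, -c + a * 0, by rw [D.h_inv, neg_zero]⟩

theorem mem_subA_iff (a b c : ZMod p) : D.h a b c ∈ D.subA ↔ a = 0 := by
  constructor
  · rintro ⟨b', c', h⟩
    exact (D.h_inj _ _ _ _ _ _ h).1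
  · rintro rfl
    exact ⟨b, c, rfl⟩

theorem mem_subB_iff (a b c : ZMod p) : D.h a b c ∈ D.subB ↔ b = 0 := by
  constructor
  · rintro ⟨a', c', h⟩
    exact (D.h_inj _ _ _ _ _ _ h).2.1
  · rintro rfl
    exact ⟨a, c, rfl⟩

theorem exists_natCast_mul_eq {a : ZMod p} (ha : a ≠ 0) (t : ZMod p) :
    ∃ n : ℕ, (n : ZMod p) * a = t := by
  refine ⟨(t * a⁻¹).val, ?_⟩
  rw [ZMod.natCast_zmod_val, mul_assoc, inv_mul_cancel₀ ha, mul_one]

theorem subA_isCoatom : IsCoatom D.subA := by
  constructor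
  · intro h
    have h1 : D.h 1 0 0 ∈ D.subA := by rw [h]; exact Subgroup.mem_top _
    rw [D.mem_subA_iff] at h1
    exact one_ne_zero h1
  · intro K hK
    obtain ⟨x, hxK, hxA⟩ := SetLike.exists_of_lt hK
    obtain ⟨a, b, c, rfl⟩ := D.h_surj x
    rw [D.mem_subA_iff] at hxA
    have h1 : D.h a 0 0 ∈ K := by
      have h2 : D.h a 0 0 = D.h a b c * (D.h 0 b (c - a * b))⁻¹ := by
        rw [D.h_inv, D.h_mul]
        congr 1 <;> ring
      rw [h2]
      exact K.mul_mem hxK (K.inv_mem (hK.le ⟨_, _, rfl⟩))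
    rw [eq_top_iff]
    intro y _
    obtain ⟨a', b', c', rfl⟩ := D.h_surj y
    obtain ⟨n, hn⟩ := D.exists_natCast_mul_eq hxA a'
    have h3 : D.h a' b' c' = D.h a 0 0 ^ n * D.h 0 b' (c' - a' * b') := by
      rw [D.h_pow, D.h_mul, hn]
      congr 1 <;> ring
    rw [h3]
    exact K.mul_mem (K.pow_mem h1 n) (hK.le ⟨_, _, rfl⟩)

theorem subB_isCoatom : IsCoatom D.subB := by
  constructor
  · intro h
    have h1 : D.h 0 1 0 ∈ D.subB := by rw [h]; exact Subgroup.mem_top _
    rw [D.mem_subB_iff] at h1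
    exact one_ne_zero h1
  · intro K hK
    obtain ⟨x, hxK, hxB⟩ := SetLike.exists_of_lt hK
    obtain ⟨a, b, c, rfl⟩ := D.h_surj x
    rw [D.mem_subB_iff] at hxB
    have h1 : D.h 0 b 0 ∈ K := by
      have h2 : D.h 0 b 0 = (D.h a 0 (c - a * b))⁻¹ * D.h a b c := by
        rw [D.h_inv, D.h_mul]
        congr 1 <;> ring
      rw [h2]
      exact K.mul_mem (K.inv_mem (hK.le ⟨_, _, rfl⟩)) hxK
    rw [eq_top_iff]
    intro y _
    obtain ⟨a', b', c', rfl⟩ := D.h_surj y
    obtain ⟨n, hn⟩ := D.exists_natCast_mul_eq hxB b'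
    have h3 : D.h a' b' c' = D.h a' 0 (c' - a' * b') * D.h 0 b 0 ^ n := by
      rw [D.h_pow, D.h_mul, hn]
      congr 1 <;> ring
    rw [h3]
    exact K.mul_mem (hK.le ⟨_, _, rfl⟩) (K.pow_mem h1 n)

theorem center_le_coatom {M : Subgroup P} (hM : IsCoatom M) : Subgroup.center P ≤ M := by
  intro z hz
  by_contra hzM
  have hN : M.Normal := by
    rw [← Subgroup.normalizer_eq_top_iff]
    have h1 : M ≤ Subgroup.normalizer (M : Set P) := Subgroup.le_normalizer
    have h2 : z ∈ Subgroup.normalizer (M : Set P) := Subgroup.center_le_normalizer (M : Set P) hz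
    by_contra hne
    rcases lt_or_eq_of_le h1 with h3 | h3
    · exact hne (hM.2 _ h3)
    · apply hzM
      rw [h3]
      exact h2
  have htop : Subgroup.zpowers z ⊔ M = ⊤ := by
    apply hM.2
    apply lt_of_le_of_ne le_sup_right
    intro h
    apply hzM
    rw [h]
    exact Subgroup.mem_sup_left (Subgroup.mem_zpowers z)
  have hdecomp : ∀ x : P, ∃ i : ℤ, (z ^ i)⁻¹ * x ∈ M := by
    intro x
    have hx : x ∈ ((Subgroup.zpowers z ⊔ M : Subgroup P) : Set P) := by
      rw [htop]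
      exact Set.mem_univ _
    rw [Subgroup.mul_normal] at hx
    obtain ⟨_, ⟨i, rfl⟩, m, hm, rfl⟩ := Set.mem_mul.1 hx
    refine ⟨i, ?_⟩
    simpa using hm
  have hcomm : IsMulCommutative (P ⧸ M) := by
    constructor
    constructor
    intro a b
    induction a using QuotientGroup.induction_on with
    | H x =>
      induction b using QuotientGroup.induction_on with
      | H y =>
        obtain ⟨i, hi⟩ := hdecomp x
        obtain ⟨j, hj⟩ := hdecomp y
        have hx : (QuotientGroup.mk x : P ⧸ M) = QuotientGroup.mk (z ^ i) := (QuotientGroup.eq.2 hi).symm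
        have hy : (QuotientGroup.mk y : P ⧸ M) = QuotientGroup.mk (z ^ j) := (QuotientGroup.eq.2 hj).symm
        rw [hx, hy, ← QuotientGroup.mk_mul, ← QuotientGroup.mk_mul, ← zpow_add, ← zpow_add, add_comm]
  have hle := Subgroup.Normal.quotient_commutative_iff_commutator_le.1 hcomm
  rw [D.commutator_eq_center] at hle
  exact hzM (hle hz)

theorem frattini_eq_center : frattini P = Subgroup.center P := by
  apply le_antisymm
  · intro x hx
    have h1 := frattini_le_coatom D.subA_isCoatom hx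
    have h2 := frattini_le_coatom D.subB_isCoatom hx
    obtain ⟨a, b, c, rfl⟩ := D.h_surj x
    rw [D.mem_subA_iff] at h1
    rw [D.mem_subB_iff] at h2
    rw [h1, h2]
    exact (D.mem_center_iff _).2 ⟨c, rfl⟩
  · unfold frattini Order.radical
    exact le_iInf₂ (fun K hK => D.center_le_coatom hK)

theorem isExtraspecial : Cfsg.IsExtraspecial p P :=
  ⟨⟨D.isPGroup, D.frattini_eq_center, D.commutator_eq_center⟩, D.card_center⟩

theorem exponent_eq (hp : p ≠ 2) : Monoid.exponent P = p := by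
  have hpp : p.Prime := Fact.out
  have h1 : Monoid.exponent P ∣ p := by
    apply Monoid.exponent_dvd_of_forall_pow_eq_one
    intro x
    obtain ⟨a, b, c, rfl⟩ := D.h_surj x
    exact D.h_pow_p hp a b c
  rcases (Nat.dvd_prime hpp).1 h1 with h2 | h2
  · exfalso
    rw [Monoid.exp_eq_one_iff] at h2
    have h3 : D.h 1 0 0 = D.h 0 0 0 := Subsingleton.elim _ _
    exact one_ne_zero (D.h_inj _ _ _ _ _ _ h3).1
  · exact h2

end HeisData

end Cfsg.Agent.Lib.Helper53
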