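import Mathlib

set_option autoImplicit false

/-!
# Minimal degree of primitive groups, part 1: orbital neighbourhoods and distinguishing sets
-/

namespace Cfsg.Agent.Lib.Helper53.MinDeg

open MulAction
open scoped Pointwise

section Closed

variable {G Ω : Type*} [Group G] [MulAction G Ω]

/-- In a primitive action, a nonempty set closed under the out-neighbours of a nondiagonal
orbital is everything. -/
theorem closed_eq_univ [Finite Ω] [IsPreprimitive G Ω] {a b : Ω} (hab : a ≠ b) :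
    ∀ (C : Set Ω), C.Nonempty → (∀ x : G, x • a ∈ C → x • b ∈ C) → C = Set.univ := by
  intro C
  induction' hn : C.ncard using Nat.strong_induction_on with n ih generalizing C
  intro hne hC
  by_cases hblk : IsBlock G C
  · rcases (IsPreprimitive.isTrivialBlock_of_isBlock hblk) with hs | hu
    · exfalso
      obtain ⟨c, hc⟩ := hne
      obtain ⟨y, hy⟩ := exists_smul_eq G a c
      have h2 : y • a ∈ C := hy ▸ hc
      have h1 : y • b ∈ C := hC y h2
      have := hs h1 h2
      exact hab (smul_left_cancel y this).symm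
    · exact hu
  · rw [isBlock_iff_smul_eq_of_mem] at hblk
    push Not at hblk
    obtain ⟨g, a', ha', hga', hne'⟩ := hblk
    have hsub : (C ∩ g • C) ⊂ C := by
      refine ⟨Set.inter_subset_left, fun hCsub => hne' ?_⟩
      have h1 : C ⊆ g • C := fun z hz => (hCsub hz).2
      have h2 : (g • C).ncard ≤ C.ncard := by
        rw [Set.ncard_smul_set]
      exact (Set.eq_of_subset_of_ncard_le h1 h2 (Set.toFinite _)).symm
    have hlt : (C ∩ g • C).ncard < n := by
      rw [← hn]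
      exact Set.ncard_lt_ncard hsub (Set.toFinite _)
    have hne2 : (C ∩ g • C).Nonempty := ⟨g • a', hga', Set.smul_mem_smul_set ha'⟩
    have hcl2 : ∀ x : G, x • a ∈ C ∩ g • C → x • b ∈ C ∩ g • C := by
      intro x hx
      refine ⟨hC x hx.1, ?_⟩
      have h3 : (g⁻¹ * x) • a ∈ C := by
        have := hx.2
        rw [Set.mem_smul_set_iff_inv_smul_mem] at this
        rwa [mul_smul]
      have h4 := hC _ h3
      rw [Set.mem_smul_set_iff_inv_smul_mem]
      rwa [mul_smul] at h4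
    have := ih _ hlt (C ∩ g • C) rfl hne2 hcl2
    apply Set.eq_univ_of_univ_subset
    rw [← this]
    exact Set.inter_subset_left

end Closed

section Defs

variable (G : Type*) {Ω : Type*} [Group G] [MulAction G Ω] [Fintype Ω]

open Classical in
/-- out-neighbourhood of `α'` in the orbital of `(a,b)` -/
noncomputable def Nb (a b α' : Ω) : Finset Ω :=
  Finset.univ.filter (fun β' => ∃ x : G, x • a = α' ∧ x • b = β')

open Classical in
/-- the points `γ` such that no element fixing `γ` maps `α` to `β` -/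
noncomputable def Dst (α β : Ω) : Finset Ω :=
  Finset.univ.filter (fun γ => ∀ h : G, h • γ = γ → h • α ≠ β)

variable {G}

theorem mem_Nb {a b α' β' : Ω} : β' ∈ Nb G a b α' ↔ ∃ x : G, x • a = α' ∧ x • b = β' := by
  simp [Nb]

theorem mem_Dst {α β γ : Ω} : γ ∈ Dst G α β ↔ ∀ h : G, h • γ = γ → h • α ≠ β := by
  simp [Dst]

theorem smul_mem_Nb {a b α' β' : Ω} (x : G) :
    x • β' ∈ Nb G a b (x • α') ↔ β' ∈ Nb G a b α' := by
  rw [mem_Nb, mem_Nb]
  constructor
  · rintro ⟨y, hy1, hy2⟩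
    refine ⟨x⁻¹ * y, ?_, ?_⟩
    · rw [mul_smul, hy1, inv_smul_smul]
    · rw [mul_smul, hy2, inv_smul_smul]
  · rintro ⟨y, hy1, hy2⟩
    refine ⟨x * y, ?_, ?_⟩
    · rw [mul_smul, hy1]
    · rw [mul_smul, hy2]

theorem card_Nb_smul (a b α' : Ω) (x : G) :
    (Nb G a b (x • α')).card = (Nb G a b α').card := by
  refine Finset.card_nbij' (fun β' => x⁻¹ • β') (fun β' => x • β') ?_ ?_ ?_ ?_
  · intro β' hβ'
    have := (smul_mem_Nb (a := a) (b := b) (α' := α') (β' := x⁻¹ • β') x)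
    rw [smul_inv_smul] at this
    exact this.mp hβ'
  · intro β' hβ'
    exact (smul_mem_Nb x).mpr hβ'
  · intro β' _
    simp
  · intro β' _
    simp

theorem card_Nb_eq [IsPretransitive G Ω] (a b α' : Ω) :
    (Nb G a b α').card = (Nb G a b a).card := by
  obtain ⟨x, hx⟩ := exists_smul_eq G a α'
  rw [← hx, card_Nb_smul]

theorem smul_mem_Dst {α β γ : Ω} (x : G) :
    x • γ ∈ Dst G (x • α) (x • β) ↔ γ ∈ Dst G α β := by
  rw [mem_Dst, mem_Dst]
  constructor
  · intro H h hγ hαβ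
    refine H (x * h * x⁻¹) ?_ ?_
    · rw [mul_smul, mul_smul, inv_smul_smul, hγ]
    · rw [mul_smul, mul_smul, inv_smul_smul, hαβ]
  · intro H h hγ hαβ
    refine H (x⁻¹ * h * x) ?_ ?_
    · rw [mul_smul, mul_smul, hγ, inv_smul_smul]
    · rw [mul_smul, mul_smul, hαβ, inv_smul_smul]

theorem card_Dst_smul (α β : Ω) (x : G) :
    (Dst G (x • α) (x • β)).card = (Dst G α β).card := by
  refine Finset.card_nbij' (fun γ => x⁻¹ • γ) (fun γ => x • γ) ?_ ?_ ?_ ?_
  · intro γ hγ
    have := (smul_mem_Dst (α := α) (β := β) (γ := x⁻¹ • γ) x)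
    rw [smul_inv_smul] at this
    exact this.mp hγ
  · intro γ hγ
    exact (smul_mem_Dst x).mpr hγ
  · intro γ _
    simp
  · intro γ _
    simp

variable [DecidableEq Ω]

theorem Dst_triangle (α β γ : Ω) : Dst G α γ ⊆ Dst G α β ∪ Dst G β γ := by
  intro δ hδ
  by_contra hcon
  rw [Finset.mem_union, not_or] at hcon
  obtain ⟨h1, h2⟩ := hcon
  rw [mem_Dst] at h1 h2 hδ
  push Not at h1 h2
  obtain ⟨u, hu1, hu2⟩ := h1
  obtain ⟨v, hv1, hv2⟩ := h2
  refine hδ (v * u) ?_ ?_
  · rw [mul_smul, hu1, hv1]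
  · rw [mul_smul, hu2, hv2]

theorem card_Dst_triangle (α β γ : Ω) :
    (Dst G α γ).card ≤ (Dst G α β).card + (Dst G β γ).card :=
  (Finset.card_le_card (Dst_triangle α β γ)).trans (Finset.card_union_le _ _)

omit [DecidableEq Ω] in
theorem Dst_self (α : Ω) : Dst G α α = ∅ := by
  ext γ
  simp only [mem_Dst, Finset.notMem_empty, iff_false]
  intro H
  exact H 1 (one_smul _ _) (one_smul _ _)

omit [DecidableEq Ω] in
theorem mem_Dst_self_left {α β : Ω} (h : α ≠ β) : α ∈ Dst G α β := by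
  rw [mem_Dst]
  intro u hu
  rwa [hu]

theorem Nb_sdiff_subset_Dst (a b α β' : Ω) : Nb G a b α \ Nb G a b β' ⊆ Dst G α β' := by
  intro γ hγ
  rw [Finset.mem_sdiff] at hγ
  rw [mem_Dst]
  intro h hγfix hαβ
  apply hγ.2
  have := (smul_mem_Nb (a := a) (b := b) h).mpr hγ.1
  rwa [hγfix, hαβ] at this

theorem Nb_sdiff_subset_Dst' (a b α β' : Ω) : Nb G a b β' \ Nb G a b α ⊆ Dst G α β' := by
  intro γ hγ
  rw [Finset.mem_sdiff] at hγ
  rw [mem_Dst]
  intro h hγfix hαβ
  apply hγ.2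
  have h1 : h⁻¹ • γ = γ := by rw [inv_smul_eq_iff, hγfix]
  have h2 : h⁻¹ • β' = α := by rw [inv_smul_eq_iff, hαβ]
  have := (smul_mem_Nb (a := a) (b := b) h⁻¹).mpr hγ.1
  rwa [h1, h2] at this

omit [DecidableEq Ω] in
theorem Dst_subset_support {g : G} {α β : Ω} (hg : g • α = β) :
    ∀ γ ∈ Dst G α β, g • γ ≠ γ := by
  intro γ hγ hfix
  rw [mem_Dst] at hγ
  exact hγ g hfix hg

/-- Key lemma: every point has an out-neighbour separated from it by `γ`. -/
theorem exists_mem_Nb_mem_Dst [IsPreprimitive G Ω] {a b : Ω} (hab : a ≠ b) (γ α' : Ω) :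
    ∃ β' ∈ Nb G a b α', γ ∈ Dst G α' β' := by
  by_contra hcon
  push Not at hcon
  -- the orbit of `α'` under the stabilizer of `γ` is closed
  let O : Set Ω := {ω | ∃ h : G, h • γ = γ ∧ h • α' = ω}
  have hO : O = Set.univ := by
    apply closed_eq_univ (G := G) hab O ⟨α', 1, one_smul _ _, one_smul _ _⟩
    rintro x ⟨h, hγ, hα'⟩
    have h1 : (h⁻¹ * x) • b ∈ Nb G a b α' := by
      rw [mem_Nb]
      refine ⟨h⁻¹ * x, ?_, rfl⟩
      rw [mul_smul, ← hα', inv_smul_smul]
    have h2 := hcon _ h1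
    rw [mem_Dst] at h2
    push Not at h2
    obtain ⟨u, hu1, hu2⟩ := h2
    refine ⟨h * u, ?_, ?_⟩
    · rw [mul_smul, hu1, hγ]
    · rw [mul_smul, hu2, mul_smul, smul_inv_smul]
  have hγO : γ ∈ O := by rw [hO]; trivial
  obtain ⟨h, hγ, hα'⟩ := hγO
  have hαγ : α' = γ := by
    have : h • α' = h • γ := by rw [hα', hγ]
    exact smul_left_cancel h this
  -- then `O = {γ}`
  have ha : a ∈ O := by rw [hO]; trivial
  have hb : b ∈ O := by rw [hO]; trivial
  obtain ⟨u, hu1, hu2⟩ := ha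
  obtain ⟨v, hv1, hv2⟩ := hb
  apply hab
  rw [← hu2, ← hv2, hαγ, hu1, hv1]

end Defs

end Cfsg.Agent.Lib.Helper53.MinDeg
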