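import Cfsg.Agent.Lib.Helper53.MinDeg1

set_option autoImplicit false

/-!
# Minimal degree of primitive groups, part 2: the counting inequalities
-/

namespace Cfsg.Agent.Lib.Helper53.MinDeg

open MulAction
open scoped Pointwise

variable {G Ω : Type*} [Group G] [MulAction G Ω] [Fintype Ω] [DecidableEq Ω]

omit [DecidableEq Ω] in
theorem card_Dst_of_mem_Nb {a b α' β' : Ω} (h : β' ∈ Nb G a b α') :
    (Dst G α' β').card = (Dst G a b).card := by
  rw [mem_Nb] at h
  obtain ⟨x, hx1, hx2⟩ := h
  rw [← hx1, ← hx2, card_Dst_smul]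

open Classical in
/-- `n ≤ k * d` for every nondiagonal orbital of a primitive group. -/
theorem card_le_card_Nb_mul_card_Dst [IsPreprimitive G Ω] {a b : Ω} (hab : a ≠ b) :
    Fintype.card Ω ≤ (Nb G a b a).card * (Dst G a b).card := by
  set k := (Nb G a b a).card with hk
  set d := (Dst G a b).card with hd
  set n := Fintype.card Ω with hn
  let f : Ω → Ω → Ω → ℕ := fun γ α' β' =>
    if (β' ∈ Nb G a b α' ∧ γ ∈ Dst G α' β') then 1 else 0
  have hlow : n * n ≤ ∑ γ : Ω, ∑ α' : Ω, ∑ β' : Ω, f γ α' β' := by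
    have h1 : ∀ γ α' : Ω, 1 ≤ ∑ β' : Ω, f γ α' β' := by
      intro γ α'
      obtain ⟨β', hβ'1, hβ'2⟩ := exists_mem_Nb_mem_Dst (G := G) hab γ α'
      have h2 : f γ α' β' ≤ ∑ β'' : Ω, f γ α' β'' :=
        Finset.single_le_sum (f := fun β'' => f γ α' β'') (fun _ _ => Nat.zero_le _)
          (Finset.mem_univ β')
      have h3 : f γ α' β' = 1 := by
        simp only [f]
        rw [if_pos ⟨hβ'1, hβ'2⟩]
      omega
    calc n * n = ∑ _γ : Ω, ∑ _α' : Ω, 1 := by
          simp [hn]
      _ ≤ _ := Finset.sum_le_sum (fun γ _ => Finset.sum_le_sum (fun α' _ => h1 γ α'))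
  have hup : ∑ γ : Ω, ∑ α' : Ω, ∑ β' : Ω, f γ α' β' = n * (k * d) := by
    rw [Finset.sum_comm]
    have h1 : ∀ α' : Ω, ∑ γ : Ω, ∑ β' : Ω, f γ α' β' = k * d := by
      intro α'
      rw [Finset.sum_comm]
      have h2 : ∀ β' : Ω, ∑ γ : Ω, f γ α' β' = if β' ∈ Nb G a b α' then d else 0 := by
        intro β'
        by_cases hβ' : β' ∈ Nb G a b α'
        · rw [if_pos hβ', hd, ← card_Dst_of_mem_Nb hβ', Finset.card_eq_sum_ones,
            ← Finset.sum_filter_add_sum_filter_not Finset.univ (fun γ => γ ∈ Dst G α' β')]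
          have e1 : ∑ γ ∈ Finset.univ.filter (fun γ => γ ∈ Dst G α' β'), f γ α' β' =
              ∑ γ ∈ Dst G α' β', 1 := by
            have : Finset.univ.filter (fun γ => γ ∈ Dst G α' β') = Dst G α' β' := by
              ext γ; simp
            rw [this]
            apply Finset.sum_congr rfl
            intro γ hγ
            simp only [f]
            rw [if_pos ⟨hβ', hγ⟩]
          have e2 : ∑ γ ∈ Finset.univ.filter (fun γ => ¬ γ ∈ Dst G α' β'), f γ α' β' = 0 := by
            apply Finset.sum_eq_zero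
            intro γ hγ
            rw [Finset.mem_filter] at hγ
            simp only [f]
            rw [if_neg (fun h => hγ.2 h.2)]
          rw [e1, e2, add_zero]
        · rw [if_neg hβ']
          apply Finset.sum_eq_zero
          intro γ _
          simp only [f]
          rw [if_neg (fun h => hβ' h.1)]
      rw [Finset.sum_congr rfl (fun β' _ => h2 β')]
      rw [← Finset.sum_filter]
      have : Finset.univ.filter (fun β' => β' ∈ Nb G a b α') = Nb G a b α' := by
        ext γ; simp
      rw [this, Finset.sum_const, smul_eq_mul, card_Nb_eq]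
    rw [Finset.sum_congr rfl (fun α' _ => h1 α')]
    rw [Finset.sum_const, smul_eq_mul, Finset.card_univ]
  rw [hup] at hlow
  have hnpos : 0 < n := by
    rw [hn]
    exact Fintype.card_pos_iff.mpr ⟨a⟩
  exact Nat.le_of_mul_le_mul_left hlow hnpos

end Cfsg.Agent.Lib.Helper53.MinDeg
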