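import Cfsg.Agent.Lib.Helper53.MinDeg2

set_option autoImplicit false

/-!
# Minimal degree of primitive groups, part 3: the bound `n ≤ 4 d²` when the point stabilizer
is not transitive on the remaining points
-/

namespace Cfsg.Agent.Lib.Helper53.MinDeg

open MulAction
open scoped Pointwise

variable {G Ω : Type*} [Group G] [MulAction G Ω] [Fintype Ω] [DecidableEq Ω]

omit [DecidableEq Ω] in
theorem mem_Nb_swap {a b α' γ : Ω} : γ ∈ Nb G a b α' ↔ α' ∈ Nb G b a γ := by
  rw [mem_Nb, mem_Nb]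
  constructor
  · rintro ⟨x, h1, h2⟩; exact ⟨x, h2, h1⟩
  · rintro ⟨x, h1, h2⟩; exact ⟨x, h2, h1⟩

open Classical in
omit [DecidableEq Ω] in
theorem card_Nb_swap [IsPretransitive G Ω] (a b : Ω) :
    (Nb G b a b).card = (Nb G a b a).card := by
  have h1 : ∑ α' : Ω, (Nb G a b α').card = Fintype.card Ω * (Nb G a b a).card := by
    rw [Finset.sum_congr rfl (fun α' _ => card_Nb_eq a b α'), Finset.sum_const, smul_eq_mul,
      Finset.card_univ]
  have h2 : ∑ γ : Ω, (Nb G b a γ).card = Fintype.card Ω * (Nb G b a b).card := by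
    rw [Finset.sum_congr rfl (fun γ _ => card_Nb_eq b a γ), Finset.sum_const, smul_eq_mul,
      Finset.card_univ]
  have h3 : ∑ α' : Ω, (Nb G a b α').card = ∑ γ : Ω, (Nb G b a γ).card := by
    have e1 : ∀ α' : Ω, (Nb G a b α').card = ∑ γ : Ω, if γ ∈ Nb G a b α' then 1 else 0 := by
      intro α'
      rw [← Finset.card_filter]
      congr 1
      ext γ; simp
    have e2 : ∀ γ : Ω, (Nb G b a γ).card = ∑ α' : Ω, if γ ∈ Nb G a b α' then 1 else 0 := by
      intro γ
      rw [← Finset.card_filter]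
      congr 1
      ext α'; simp [mem_Nb_swap]
    rw [Finset.sum_congr rfl (fun α' _ => e1 α'), Finset.sum_congr rfl (fun γ _ => e2 γ),
      Finset.sum_comm]
  have hpos : 0 < Fintype.card Ω := Fintype.card_pos_iff.mpr ⟨a⟩
  have : Fintype.card Ω * (Nb G b a b).card = Fintype.card Ω * (Nb G a b a).card := by
    rw [← h1, ← h2, h3]
  exact Nat.eq_of_mul_eq_mul_left hpos this

open Classical in
theorem sum_card_Nb_inter [IsPretransitive G Ω] (a b : Ω) :
    ∑ β : Ω, (Nb G a b a ∩ Nb G a b β).card = (Nb G a b a).card * (Nb G a b a).card := by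
  have e1 : ∀ β : Ω, (Nb G a b a ∩ Nb G a b β).card =
      ∑ γ ∈ Nb G a b a, if γ ∈ Nb G a b β then 1 else 0 := by
    intro β
    rw [← Finset.card_filter, Finset.filter_mem_eq_inter]
  rw [Finset.sum_congr rfl (fun β _ => e1 β), Finset.sum_comm]
  have e2 : ∀ γ : Ω, (∑ β : Ω, if γ ∈ Nb G a b β then 1 else 0) = (Nb G a b a).card := by
    intro γ
    rw [← Finset.card_filter, ← card_Nb_swap a b, ← card_Nb_eq b a γ]
    congr 1
    ext β; simp [mem_Nb_swap]
  rw [Finset.sum_congr rfl (fun γ _ => e2 γ), Finset.sum_const, smul_eq_mul]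

theorem sub_le_card_Nb_inter [IsPretransitive G Ω] (a b β : Ω) (t : ℕ)
    (ht : (Dst G a β).card ≤ 2 * t) :
    (Nb G a b a).card - t ≤ (Nb G a b a ∩ Nb G a b β).card := by
  have h1 : (Nb G a b a \ Nb G a b β ∪ Nb G a b β \ Nb G a b a).card ≤ (Dst G a β).card :=
    Finset.card_le_card (Finset.union_subset (Nb_sdiff_subset_Dst a b a β)
      (Nb_sdiff_subset_Dst' a b a β))
  have hdisj : Disjoint (Nb G a b a \ Nb G a b β) (Nb G a b β \ Nb G a b a) := by
    rw [Finset.disjoint_left]
    intro γ h1 h2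
    rw [Finset.mem_sdiff] at h1 h2
    exact h1.2 h2.1
  rw [Finset.card_union_of_disjoint hdisj] at h1
  have h2 := Finset.card_sdiff_add_card_inter (Nb G a b a) (Nb G a b β)
  have h3 := Finset.card_sdiff_add_card_inter (Nb G a b β) (Nb G a b a)
  rw [Finset.inter_comm] at h3
  rw [card_Nb_eq a b β] at h3
  omega

theorem arith_aux {n k d l T : ℕ} (hd : 1 ≤ d) (h1 : n ≤ k * d) (h2 : n ≤ l * (2 * d))
    (h3 : 1 + k + l ≤ T) (h4 : T * (k - d) ≤ k * k) : n ≤ 4 * d ^ 2 := by
  rcases Nat.lt_or_ge k (2 * d) with hk | hk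
  · calc n ≤ k * d := h1
      _ ≤ (2 * d) * d := Nat.mul_le_mul_right _ hk.le
      _ ≤ 4 * d ^ 2 := by nlinarith
  · obtain ⟨e, rfl⟩ : ∃ e, k = e + d := ⟨k - d, by omega⟩
    have he : d ≤ e := by omega
    rw [Nat.add_sub_cancel] at h4
    have h5 : (1 + (e + d) + l) * e ≤ (e + d) * (e + d) :=
      (Nat.mul_le_mul_right _ h3).trans h4
    have h6 : (1 + l) * e ≤ (2 * d) * e := by nlinarith
    have he0 : 0 < e := by omega
    have h7 : 1 + l ≤ 2 * d := Nat.le_of_mul_le_mul_right h6 he0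
    calc n ≤ l * (2 * d) := h2
      _ ≤ (2 * d) * (2 * d) := Nat.mul_le_mul_right _ (by omega)
      _ = 4 * d ^ 2 := by ring

open Classical in
/-- If the stabilizer of `a` is not transitive on the other points, then `n ≤ 4 d²`. -/
theorem card_le_of_not_forall_mem_Nb [IsPreprimitive G Ω] {a b : Ω} (hab : a ≠ b)
    (hnc : ¬ (∀ c, c ≠ a → c ∈ Nb G a b a)) :
    Fintype.card Ω ≤ 4 * (Dst G a b).card ^ 2 := by
  set k := (Nb G a b a).card with hk
  set d := (Dst G a b).card with hd
  have hd1 : 1 ≤ d := Finset.card_pos.mpr ⟨a, mem_Dst_self_left hab⟩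
  -- find an edge leaving `{a} ∪ Nb a`
  have hex : ∃ x : G, (x • a = a ∨ x • a ∈ Nb G a b a) ∧ x • b ≠ a ∧ x • b ∉ Nb G a b a := by
    by_contra hcon
    push Not at hcon
    apply hnc
    have := closed_eq_univ (G := G) hab ({a} ∪ (Nb G a b a : Set Ω)) ⟨a, Or.inl rfl⟩ (by
      intro x hx
      by_cases hxb : x • b = a
      · exact Or.inl hxb
      · right
        refine hcon x ?_ hxb
        rcases hx with hx | hx
        · exact Or.inl hx
        · exact Or.inr hx)
    intro c hc
    have hc' : c ∈ ({a} ∪ (Nb G a b a : Set Ω)) := by rw [this]; trivial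
    rcases hc' with hc' | hc'
    · exact absurd hc' hc
    · exact hc'
  obtain ⟨x, hx1, hx2, hx3⟩ := hex
  set β' := x • a with hβ'
  set β'' := x • b with hβ''
  have hd' : (Dst G a β').card ≤ d := by
    rcases hx1 with hx1 | hx1
    · rw [hx1, Dst_self]; simp
    · rw [card_Dst_of_mem_Nb hx1]
  have hd'' : (Dst G β' β'').card = d :=
    card_Dst_of_mem_Nb (mem_Nb.mpr ⟨x, rfl, rfl⟩)
  have hd2 : (Dst G a β'').card ≤ 2 * d := by
    have := card_Dst_triangle (G := G) a β' β''
    omega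
  have hab'' : a ≠ β'' := fun h => hx2 h.symm
  set L := Nb G a β'' a with hL
  have hn2 : Fintype.card Ω ≤ L.card * (2 * d) :=
    (card_le_card_Nb_mul_card_Dst (G := G) hab'').trans (Nat.mul_le_mul_left _ hd2)
  have hn1 : Fintype.card Ω ≤ k * d := card_le_card_Nb_mul_card_Dst (G := G) hab
  set T := Finset.univ.filter (fun β : Ω => (Dst G a β).card ≤ 2 * d) with hT
  -- the three disjoint pieces of `T`
  have haT : a ∈ T := by
    rw [hT, Finset.mem_filter]
    refine ⟨Finset.mem_univ _, ?_⟩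
    rw [Dst_self]; simp
  have hNT : Nb G a b a ⊆ T := by
    intro β hβ
    rw [hT, Finset.mem_filter]
    refine ⟨Finset.mem_univ _, ?_⟩
    rw [card_Dst_of_mem_Nb hβ]
    omega
  have hLT : L ⊆ T := by
    intro β hβ
    rw [hT, Finset.mem_filter]
    refine ⟨Finset.mem_univ _, ?_⟩
    rw [card_Dst_of_mem_Nb hβ]
    exact hd2
  have haN : a ∉ Nb G a b a := by
    intro h
    rw [mem_Nb] at h
    obtain ⟨y, hy1, hy2⟩ := h
    apply hab
    have : y • a = y • b := by rw [hy1, hy2]
    exact smul_left_cancel y this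
  have haL : a ∉ L := by
    intro h
    rw [hL, mem_Nb] at h
    obtain ⟨y, hy1, hy2⟩ := h
    apply hab''
    have : y • a = y • β'' := by rw [hy1, hy2]
    exact smul_left_cancel y this
  have hNL : Disjoint (Nb G a b a) L := by
    rw [Finset.disjoint_left]
    intro β h1 h2
    rw [hL, mem_Nb] at h2
    obtain ⟨y, hy1, hy2⟩ := h2
    -- `β = y • β''` with `y • a = a`, so `β'' = y⁻¹ • β ∈ Nb a`
    apply hx3
    have := (smul_mem_Nb (a := a) (b := b) (α' := a) (β' := β) y⁻¹).mpr h1
    have h3 : y⁻¹ • a = a := by rw [inv_smul_eq_iff, hy1]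
    have h4 : y⁻¹ • β = β'' := by rw [inv_smul_eq_iff, hy2]
    rwa [h3, h4] at this
  have hcardT : 1 + k + L.card ≤ T.card := by
    have hsub : insert a (Nb G a b a ∪ L) ⊆ T := by
      intro β hβ
      rw [Finset.mem_insert, Finset.mem_union] at hβ
      rcases hβ with rfl | hβ | hβ
      · exact haT
      · exact hNT hβ
      · exact hLT hβ
    have hcard : (insert a (Nb G a b a ∪ L)).card = 1 + k + L.card := by
      rw [Finset.card_insert_of_notMem, Finset.card_union_of_disjoint hNL]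
      · omega
      · rw [Finset.mem_union]
        push Not
        exact ⟨haN, haL⟩
    rw [← hcard]
    exact Finset.card_le_card hsub
  have hTk : T.card * (k - d) ≤ k * k := by
    calc T.card * (k - d) = ∑ _β ∈ T, (k - d) := by
          rw [Finset.sum_const, smul_eq_mul]
      _ ≤ ∑ β ∈ T, (Nb G a b a ∩ Nb G a b β).card := by
          apply Finset.sum_le_sum
          intro β hβ
          rw [hT, Finset.mem_filter] at hβ
          exact sub_le_card_Nb_inter a b β d hβ.2
      _ ≤ ∑ β : Ω, (Nb G a b a ∩ Nb G a b β).card :=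
          Finset.sum_le_sum_of_subset (Finset.subset_univ _)
      _ = k * k := sum_card_Nb_inter a b
  exact arith_aux hd1 hn1 hn2 hcardT hTk

end Cfsg.Agent.Lib.Helper53.MinDeg
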