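import Cfsg.Agent.Lib.Helper53.MinDeg3

set_option autoImplicit false

/-!
# Minimal degree of primitive groups, part 4: the doubly transitive case
-/

namespace Cfsg.Agent.Lib.Helper53.MinDeg

open MulAction Equiv
open scoped Pointwise

section ThreeCycle

variable {Ω : Type*} [Fintype Ω] [DecidableEq Ω]

/-- Two permutations whose supports meet in exactly one point have a 3-cycle as commutator. -/
theorem isThreeCycle_comm {σ τ : Perm Ω} {a : Ω} (hσ : σ a ≠ a) (hτ : τ a ≠ a)
    (h : ∀ ω, σ ω ≠ ω → τ ω ≠ ω → ω = a) : (σ * τ * σ⁻¹ * τ⁻¹).IsThreeCycle := by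
  have hσ' : ∀ y, τ y ≠ y → y ≠ a → σ y = y := by
    intro y h1 h2
    by_contra h3
    exact h2 (h y h3 h1)
  have hτ' : ∀ y, σ y ≠ y → y ≠ a → τ y = y := by
    intro y h1 h2
    by_contra h3
    exact h2 (h y h1 h3)
  have hσσ : ∀ y, σ y ≠ y → σ (σ y) ≠ σ y := fun y hy => σ.injective.ne hy
  have hττ : ∀ y, τ y ≠ y → τ (τ y) ≠ τ y := fun y hy => τ.injective.ne hy
  have h1 : τ a ≠ σ a := by
    intro he
    have := h (τ a) (he ▸ hσσ a hσ) (hττ a hτ)
    exact hτ this
  have h2 : τ a ≠ a := hτ
  have h3 : σ a ≠ a := hσ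
  -- `σ` fixes `τ a`, `τ` fixes `σ a`
  have h4 : σ (τ a) = τ a := hσ' _ (hττ a hτ) hτ
  have h5 : τ (σ a) = σ a := hτ' _ (hσσ a hσ) hσ
  set R : Perm Ω := swap (τ a) (σ a) * swap (τ a) a with hR
  have hRfix : ∀ z, z ≠ a → z ≠ τ a → z ≠ σ a → R z = z := by
    intro z z1 z2 z3
    rw [hR, Perm.mul_apply, swap_apply_of_ne_of_ne z2 z1, swap_apply_of_ne_of_ne z2 z3]
  have hRa : R a = σ a := by
    rw [hR, Perm.mul_apply, swap_apply_right, swap_apply_left]
  have hRτ : R (τ a) = a := by
    rw [hR, Perm.mul_apply, swap_apply_left, swap_apply_of_ne_of_ne h2.symm h3.symm]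
  have hRσ : R (σ a) = τ a := by
    rw [hR, Perm.mul_apply, swap_apply_of_ne_of_ne h1.symm h3, swap_apply_right]
  have key : ∀ w, σ (τ w) = R (τ (σ w)) := by
    intro w
    by_cases hwa : w = a
    · subst hwa
      rw [h4, h5, hRσ]
    · by_cases hσw : σ w = w
      · rw [hσw]
        by_cases hτw : τ w = w
        · rw [hτw, hσw]
          symm
          apply hRfix w hwa
          · intro he
            apply hττ a hτ
            rw [← he]; exact hτw
          · intro he
            apply hσσ a hσ
            rw [← he]; exact hσw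
        · by_cases hτwa : τ w = a
          · rw [hτwa, hRa]
          · have h6 : σ (τ w) = τ w := hσ' _ (hττ w hτw) hτwa
            rw [h6]
            symm
            apply hRfix _ hτwa
            · exact fun he => hwa (τ.injective he)
            · intro he
              -- `σ a` is fixed by `τ`, but `τ w` is not
              apply hττ w hτw
              rw [he]; exact h5
      · have hτw : τ w = w := hτ' w hσw hwa
        rw [hτw]
        by_cases hσwa : σ w = a
        · rw [hσwa, hRτ]
        · have h6 : τ (σ w) = σ w := hτ' _ (hσσ w hσw) hσwa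
          rw [h6]
          symm
          apply hRfix _ hσwa
          · intro he
            apply hσσ w hσw
            rw [he]; exact h4
          · exact fun he => hwa (σ.injective he)
  have hc : σ * τ * σ⁻¹ * τ⁻¹ = R := by
    ext y
    have := key (σ⁻¹ (τ⁻¹ y))
    simp only [Perm.mul_apply]
    rw [this]
    simp
  rw [hc]
  exact Perm.isThreeCycle_swap_mul_swap_same h1 h2 h3

end ThreeCycle

section Separation

variable {G Ω : Type*} [Group G] [MulAction G Ω] [Fintype Ω] [DecidableEq Ω]

open Classical in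
/-- Separation lemma in the stabilizer of `a`, acting transitively on the other points. -/
theorem exists_smul_disjoint [Fintype G] {a : Ω}
    (htr : ∀ c d : Ω, c ≠ a → d ≠ a → ∃ x : G, x • a = a ∧ x • c = d) (S' : Finset Ω)
    (haS : a ∉ S') (hcard : S'.card * S'.card < Fintype.card Ω - 1) :
    ∃ h : G, h • a = a ∧ ∀ s ∈ S', h • s ∉ S' := by
  by_contra hcon
  push Not at hcon
  obtain ⟨H, hH⟩ : ∃ H : Finset G, ∀ h, h ∈ H ↔ h • a = a :=
    ⟨Finset.univ.filter (fun h : G => h • a = a), by simp⟩
  have h1H : (1 : G) ∈ H := (hH 1).mpr (one_smul _ _)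
  have hHpos : 0 < H.card := Finset.card_pos.mpr ⟨1, h1H⟩
  let N : Ω → Ω → ℕ := fun s t => (H.filter (fun h => h • s = t)).card
  -- `N s t` does not depend on `t`
  have hN1 : ∀ s t t' : Ω, t ≠ a → t' ≠ a → N s t ≤ N s t' := by
    intro s t t' ht ht'
    obtain ⟨u, hu1, hu2⟩ := htr t t' ht ht'
    apply Finset.card_le_card_of_injOn (fun h => u * h)
    · intro h hh
      rw [Finset.mem_coe, Finset.mem_filter, hH] at hh ⊢
      refine ⟨?_, ?_⟩
      · rw [mul_smul, hh.1, hu1]
      · rw [mul_smul, hh.2, hu2]
    · intro h _ h' _ he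
      exact mul_left_cancel he
  have hN2 : ∀ s : Ω, s ≠ a → ∑ t ∈ Finset.univ.erase a, N s t = H.card := by
    intro s hs
    symm
    apply Finset.card_eq_sum_card_fiberwise
    intro h hh
    rw [Finset.mem_coe, hH] at hh
    rw [Finset.mem_coe, Finset.mem_erase]
    refine ⟨?_, Finset.mem_univ _⟩
    intro he
    apply hs
    have he' : h • s = a := he
    have : h • s = h • a := by rw [he', hh]
    exact smul_left_cancel h this
  have hN3 : ∀ s t : Ω, s ≠ a → t ≠ a → (Fintype.card Ω - 1) * N s t = H.card := by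
    intro s t hs ht
    rw [← hN2 s hs]
    have : ∑ t' ∈ Finset.univ.erase a, N s t' = ∑ _t' ∈ Finset.univ.erase a, N s t := by
      apply Finset.sum_congr rfl
      intro t' ht'
      rw [Finset.mem_erase] at ht'
      exact le_antisymm (hN1 s t' t ht'.1 ht) (hN1 s t t' ht ht'.1)
    rw [this, Finset.sum_const, smul_eq_mul, Finset.card_erase_of_mem (Finset.mem_univ a),
      Finset.card_univ]
  -- counting
  have hcount : H.card ≤ ∑ s ∈ S', ∑ t ∈ S', N s t := by
    have e1 : ∀ h ∈ H, 1 ≤ ∑ s ∈ S', ∑ t ∈ S', if h • s = t then 1 else 0 := by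
      intro h hh
      rw [hH] at hh
      obtain ⟨s, hs, hs'⟩ := hcon h hh
      have e2 : (∑ t ∈ S', if h • s = t then 1 else 0) ≤
          ∑ s' ∈ S', ∑ t ∈ S', if h • s' = t then 1 else 0 :=
        Finset.single_le_sum (f := fun s' => ∑ t ∈ S', if h • s' = t then 1 else 0)
          (fun _ _ => Nat.zero_le _) hs
      have e3 : (if h • s = h • s then 1 else 0) ≤ ∑ t ∈ S', if h • s = t then 1 else 0 :=
        Finset.single_le_sum (f := fun t => if h • s = t then 1 else 0)
          (fun _ _ => Nat.zero_le _) hs'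
      rw [if_pos rfl] at e3
      omega
    calc H.card = ∑ _h ∈ H, 1 := by simp
      _ ≤ ∑ h ∈ H, ∑ s ∈ S', ∑ t ∈ S', if h • s = t then 1 else 0 := Finset.sum_le_sum e1
      _ = ∑ s ∈ S', ∑ t ∈ S', N s t := by
          rw [Finset.sum_comm]
          apply Finset.sum_congr rfl
          intro s _
          rw [Finset.sum_comm]
          apply Finset.sum_congr rfl
          intro t _
          simp only [N]
          rw [Finset.card_filter]
  have hfinal : (Fintype.card Ω - 1) * H.card ≤ (S'.card * S'.card) * H.card := by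
    calc (Fintype.card Ω - 1) * H.card ≤ (Fintype.card Ω - 1) * ∑ s ∈ S', ∑ t ∈ S', N s t :=
          Nat.mul_le_mul_left _ hcount
      _ = ∑ s ∈ S', ∑ t ∈ S', (Fintype.card Ω - 1) * N s t := by
          rw [Finset.mul_sum]
          apply Finset.sum_congr rfl
          intro s _
          rw [Finset.mul_sum]
      _ = ∑ _s ∈ S', ∑ _t ∈ S', H.card := by
          apply Finset.sum_congr rfl
          intro s hs
          apply Finset.sum_congr rfl
          intro t ht
          exact hN3 s t (fun he => haS (he ▸ hs)) (fun he => haS (he ▸ ht))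
      _ = (S'.card * S'.card) * H.card := by
          simp only [Finset.sum_const, smul_eq_mul]
          ring
  have := Nat.le_of_mul_le_mul_right hfinal hHpos
  omega

end Separation

end Cfsg.Agent.Lib.Helper53.MinDeg
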