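import Cfsg.Agent.Lib.Helper53.MinDeg4

set_option autoImplicit false

/-!
# Minimal degree of primitive groups, part 5: assembly
-/

namespace Cfsg.Agent.Lib.Helper53.MinDeg

open MulAction Equiv
open scoped Pointwise

variable {G Ω : Type*} [Group G] [MulAction G Ω] [Fintype Ω] [DecidableEq Ω]

omit [Fintype Ω] [DecidableEq Ω] in
theorem isPreprimitive_range [IsPreprimitive G Ω] :
    IsPreprimitive (toPermHom G Ω).range Ω := by
  let φ : G → (toPermHom G Ω).range := fun x => ⟨toPermHom G Ω x, ⟨x, rfl⟩⟩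
  let f : Ω →ₑ[φ] Ω := { toFun := id, map_smul' := fun _ _ => rfl }
  exact IsPreprimitive.of_surjective (f := f) Function.surjective_id

open Classical in
/-- The doubly transitive case. -/
theorem card_le_of_forall_mem_Nb [Finite G] [IsPreprimitive G Ω]
    (hA : ¬ alternatingGroup Ω ≤ (toPermHom G Ω).range) {g : G} {a : Ω} (hga : g • a ≠ a)
    (htr : ∀ c, c ≠ a → c ∈ Nb G a (g • a) a) :
    Fintype.card Ω ≤ 4 * (Finset.univ.filter (fun ω : Ω => g • ω ≠ ω)).card ^ 2 := by
  have := Fintype.ofFinite G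
  obtain ⟨S, hS⟩ : ∃ S : Finset Ω, ∀ ω, ω ∈ S ↔ g • ω ≠ ω :=
    ⟨Finset.univ.filter (fun ω : Ω => g • ω ≠ ω), by simp⟩
  have hSeq : Finset.univ.filter (fun ω : Ω => g • ω ≠ ω) = S := by
    ext ω; simp [hS]
  rw [hSeq]
  have haS : a ∈ S := (hS a).mpr hga
  by_contra hlt
  push Not at hlt
  have hm1 : 1 ≤ S.card := Finset.card_pos.mpr ⟨a, haS⟩
  have hcardS' : (S.erase a).card = S.card - 1 := Finset.card_erase_of_mem haS
  have hcard : (S.erase a).card * (S.erase a).card < Fintype.card Ω - 1 := by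
    rw [hcardS']
    have h1 : (S.card - 1) * (S.card - 1) ≤ S.card * S.card :=
      Nat.mul_le_mul (Nat.sub_le _ _) (Nat.sub_le _ _)
    have h2 : S.card * S.card < 4 * S.card ^ 2 := by nlinarith
    omega
  have htr' : ∀ c d : Ω, c ≠ a → d ≠ a → ∃ x : G, x • a = a ∧ x • c = d := by
    intro c d hc hd
    obtain ⟨y, hy1, hy2⟩ := mem_Nb.mp (htr c hc)
    obtain ⟨z, hz1, hz2⟩ := mem_Nb.mp (htr d hd)
    refine ⟨z * y⁻¹, ?_, ?_⟩
    · rw [mul_smul, inv_smul_eq_iff.mpr hy1.symm, hz1]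
    · rw [mul_smul, ← hy2, inv_smul_smul, hz2]
  obtain ⟨h, hha, hdisj⟩ := exists_smul_disjoint htr' (S.erase a) (Finset.notMem_erase a S) hcard
  have hha' : h⁻¹ • a = a := by rw [inv_smul_eq_iff, hha]
  set σ : Perm Ω := toPermHom G Ω g with hσ
  set τ : Perm Ω := toPermHom G Ω (h * g * h⁻¹) with hτ
  have hσa : ∀ ω, σ ω = g • ω := fun ω => rfl
  have hτa : ∀ ω, τ ω = h • g • h⁻¹ • ω := fun ω => by
    rw [hτ, toPermHom_apply, toPerm_apply, mul_smul, mul_smul]
  have h3 : (σ * τ * σ⁻¹ * τ⁻¹).IsThreeCycle := by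
    apply isThreeCycle_comm (a := a)
    · rw [hσa]; exact hga
    · rw [hτa, hha']
      intro he
      apply hga
      rw [← inv_smul_eq_iff.mpr he.symm, hha']
    · intro ω h1 h2
      by_contra hω
      rw [hσa] at h1
      rw [hτa] at h2
      have h4 : g • h⁻¹ • ω ≠ h⁻¹ • ω := by
        intro he
        apply h2
        rw [he, smul_inv_smul]
      have h5 : h⁻¹ • ω ≠ a := by
        intro he
        apply hω
        rw [← smul_inv_smul h ω, he, hha]
      have h6 : h⁻¹ • ω ∈ S.erase a := Finset.mem_erase.mpr ⟨h5, (hS _).mpr h4⟩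
      have h7 := hdisj _ h6
      rw [smul_inv_smul] at h7
      exact h7 (Finset.mem_erase.mpr ⟨hω, (hS _).mpr h1⟩)
  have hmem : σ * τ * σ⁻¹ * τ⁻¹ ∈ (toPermHom G Ω).range := by
    have h1 : σ ∈ (toPermHom G Ω).range := ⟨g, rfl⟩
    have h2 : τ ∈ (toPermHom G Ω).range := ⟨_, rfl⟩
    exact Subgroup.mul_mem _ (Subgroup.mul_mem _ (Subgroup.mul_mem _ h1 h2)
      (Subgroup.inv_mem _ h1)) (Subgroup.inv_mem _ h2)
  have hprim : IsPreprimitive (toPermHom G Ω).range Ω := isPreprimitive_range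
  exact hA (Equiv.Perm.alternatingGroup_le_of_isPreprimitive_of_isThreeCycle_mem hprim h3 hmem)

open Classical in
/-- **Minimal degree bound**: a primitive group not containing the alternating group has
`n ≤ 4 m²`, where `m` is the number of points moved by a nonidentity element. -/
theorem card_le_four_mul_sq [Finite G] [FaithfulSMul G Ω] [IsPreprimitive G Ω]
    (hA : ¬ alternatingGroup Ω ≤ (toPermHom G Ω).range) (g : G) (hg : g ≠ 1) :
    Fintype.card Ω ≤ 4 * (Finset.univ.filter (fun ω : Ω => g • ω ≠ ω)).card ^ 2 := by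
  have hex : ∃ a : Ω, g • a ≠ a := by
    by_contra hcon
    push Not at hcon
    apply hg
    apply FaithfulSMul.eq_of_smul_eq_smul (α := Ω)
    intro ω
    rw [hcon ω, one_smul]
  obtain ⟨a, hga⟩ := hex
  by_cases htr : ∀ c, c ≠ a → c ∈ Nb G a (g • a) a
  · exact card_le_of_forall_mem_Nb hA hga htr
  · have h1 := card_le_of_not_forall_mem_Nb (G := G) (a := a) (b := g • a) (Ne.symm hga) htr
    have h2 : (Dst G a (g • a)).card ≤ (Finset.univ.filter (fun ω : Ω => g • ω ≠ ω)).card := by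
      apply Finset.card_le_card
      intro γ hγ
      rw [Finset.mem_filter]
      exact ⟨Finset.mem_univ _, Dst_subset_support (g := g) rfl γ hγ⟩
    calc Fintype.card Ω ≤ 4 * (Dst G a (g • a)).card ^ 2 := h1
      _ ≤ _ := Nat.mul_le_mul_left _ (Nat.pow_le_pow_left h2 2)

end Cfsg.Agent.Lib.Helper53.MinDeg
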