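import Mathlib
import Cfsg.Agent.Lib.Helper52.QuadSylow

/-!
# K-NQ CORE (S2787): a faithful quadratic `p`-element outside `O_p` forces a bad pair in a `2`-subgroup

`Γ` finite acting faithfully on a finite abelian group `V` of exponent `p` (`p` odd), `α ≠ 1` acting quadratically, every normal
`p`-subgroup of `Γ` trivial.  Then some `2`-subgroup of `Γ` contains `x, y` with `x² ≠ 1`, `y² ≠ 1`, `x y ≠ y x`.
-/

set_option autoImplicit false

namespace Cfsg.Agent.Lib.Helper53.NQ

open Cfsg.Agent.Lib.Helper52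

/-- a quadratically acting element of a faithful action on a group of exponent `p` has `p`-th power `1` -/
theorem pow_p_eq_one_of_quadratic_action {Γ V : Type*} [Group Γ] [CommGroup V] {p : ℕ}
    (hexp : ∀ v : V, v ^ p = 1) (c : Γ →* MulAut V) (hinj : Function.Injective c)
    (α : Γ) (hq : ∀ v, c α (c α v / v) = c α v / v) : α ^ p = 1 := by
  apply hinj
  rw [map_one, map_pow]
  have key : ∀ (n : ℕ) (v : V), (c α ^ n) v = (c α v / v) ^ n * v := by
    intro n
    induction n with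
    | zero => intro v; simp
    | succ n ih =>
      intro v
      rw [pow_succ', MulAut.mul_apply, ih v, map_mul, map_pow, hq v, pow_succ]
      have : c α v = (c α v / v) * v := by rw [div_mul_cancel]
      nth_rewrite 2 [this]
      rw [mul_assoc]
  ext v
  rw [key p v, hexp, one_mul]
  rfl

/-- conjugates of quadratic elements are quadratic -/
theorem quadratic_action_conj {Γ V : Type*} [Group Γ] [CommGroup V] (c : Γ →* MulAut V)
    (α g : Γ) (hq : ∀ v, c α (c α v / v) = c α v / v) :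
    ∀ v, c (g * α * g⁻¹) (c (g * α * g⁻¹) v / v) = c (g * α * g⁻¹) v / v := by
  intro v
  have e : ∀ w : V, c (g * α * g⁻¹) w = c g (c α (c g⁻¹ w)) := by
    intro w
    rw [map_mul, map_mul, MulAut.mul_apply, MulAut.mul_apply]
  have hgg : ∀ w : V, c g (c g⁻¹ w) = w := by
    intro w
    rw [← MulAut.mul_apply, ← map_mul, mul_inv_cancel, map_one, MulAut.one_apply]
  have hgg' : ∀ w : V, c g⁻¹ (c g w) = w := by
    intro w
    rw [← MulAut.mul_apply, ← map_mul, inv_mul_cancel, map_one, MulAut.one_apply]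
  set w := c g⁻¹ v with hw
  have hv : v = c g w := by rw [hw, hgg]
  have e1 : c (g * α * g⁻¹) v / v = c g (c α w / w) := by
    rw [e v, ← hw, map_div, ← hv]
  rw [e1, e, hgg', hq w]

theorem exists_bad_pair {Γ V : Type*} [Group Γ] [Finite Γ] [CommGroup V] [Finite V] {p : ℕ} [Fact p.Prime]
    (hp : p ≠ 2) (hexp : ∀ v : V, v ^ p = 1) (c : Γ →* MulAut V) (hinj : Function.Injective c)
    (α : Γ) (hα : α ≠ 1) (hq : ∀ v, c α (c α v / v) = c α v / v)
    (hcore : ∀ N : Subgroup Γ, N.Normal → IsPGroup p N → N = ⊥) :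
    ∃ T : Subgroup Γ, IsPGroup 2 T ∧ ∃ x ∈ T, ∃ y ∈ T, x * x ≠ 1 ∧ y * y ≠ 1 ∧ x * y ≠ y * x := by
  classical
  have hαp : α ^ p = 1 := pow_p_eq_one_of_quadratic_action hexp c hinj α hq
  have hX : IsPGroup p (Subgroup.zpowers α) := by
    rintro ⟨x, hx⟩
    obtain ⟨k, rfl⟩ := Subgroup.mem_zpowers_iff.mp hx
    refine ⟨1, Subtype.ext ?_⟩
    show (α ^ k) ^ p ^ 1 = 1
    rw [pow_one, ← zpow_natCast, ← zpow_mul, mul_comm, zpow_mul, zpow_natCast, hαp, one_zpow]
  -- Baer–Suzuki
  obtain ⟨g, hg⟩ : ∃ g : Γ, ¬ IsPGroup p ↥(Subgroup.zpowers α ⊔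
      (Subgroup.zpowers α).map (MulAut.conj g).toMonoidHom) := by
    by_contra hcon
    push Not at hcon
    obtain ⟨N, hN, hNp, hXN⟩ := Cfsg.Agent.S0199.result (Subgroup.zpowers α) hX hcon
    have hNbot := hcore N hN hNp
    apply hα
    have : α ∈ N := hXN (Subgroup.mem_zpowers _)
    rw [hNbot] at this
    exact Subgroup.mem_bot.mp this
  set β : Γ := g * α * g⁻¹ with hβ
  set Δ : Subgroup Γ := Subgroup.closure {α, β} with hΔ
  have hαΔ : α ∈ Δ := Subgroup.subset_closure (by simp)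
  have hβΔ : β ∈ Δ := Subgroup.subset_closure (by simp)
  have hnp : ¬ IsPGroup p ↥Δ := by
    intro hP
    apply hg
    have hsub : Subgroup.zpowers α ⊔ (Subgroup.zpowers α).map (MulAut.conj g).toMonoidHom ≤ Δ := by
      rw [MonoidHom.map_zpowers]
      apply sup_le
      · rw [Subgroup.zpowers_le]; exact hαΔ
      · rw [Subgroup.zpowers_le]; exact hβΔ
    rintro ⟨y, hy⟩
    obtain ⟨n, hn⟩ := hP ⟨y, hsub hy⟩
    refine ⟨n, ?_⟩
    have h1 : y ^ p ^ n = 1 := by simpa using congrArg Subtype.val hn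
    apply Subtype.ext
    rw [Subgroup.coe_pow, Subgroup.coe_one]
    exact h1
  have hgen := closure_pair_subtype_eq_top α β Δ hΔ hαΔ hβΔ
  have hβq := quadratic_action_conj c α g hq
  obtain ⟨E, _, _, _, φ, hφ⟩ := exists_hom_SL2_of_quadratic_action (p := p) (V := V) hexp
    (⟨α, hαΔ⟩ : Δ) ⟨β, hβΔ⟩ hgen (c.comp Δ.subtype)
    (hinj.comp Δ.subtype_injective) (fun v => hq v) (fun v => hβq v) hnp
  have hβp : β ^ p = 1 := by
    rw [hβ, conj_pow, hαp]; simp
  have : Fact (Nat.Prime 2) := ⟨Nat.prime_two⟩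
  have T₀ : Sylow 2 ↥Δ := default
  by_contra hcon
  push Not at hcon
  have hpair : ∀ x ∈ (T₀ : Subgroup Δ), ∀ y ∈ (T₀ : Subgroup Δ),
      x * x = 1 ∨ y * y = 1 ∨ x * y = y * x := by
    intro x hx y hy
    have hT : IsPGroup 2 ((T₀ : Subgroup Δ).map Δ.subtype) := T₀.2.map _
    by_contra hno
    push Not at hno
    obtain ⟨h1, h2, h3⟩ := hno
    have := hcon _ hT (x : Γ) ⟨x, hx, rfl⟩ (y : Γ) ⟨y, hy, rfl⟩
      (fun h => h1 (Subtype.ext (by simpa using h))) (fun h => h2 (Subtype.ext (by simpa using h)))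
    exact h3 (Subtype.ext (by simpa using this))
  apply hφ
  have hsurj : Function.Surjective φ.rangeRestrict := φ.rangeRestrict_surjective
  have h2E : (2 : E) ≠ 0 := two_ne_zero_of_charP (p := p) hp
  refine isPGroup_of_abelian_sylow_two (E := E) (p := p) hp φ.range ?_ (T₀.mapSurjective hsurj) ?_
  · have h1 : (Subgroup.closure {(⟨α, hαΔ⟩ : Δ), ⟨β, hβΔ⟩}).map φ.rangeRestrict = ⊤ := by
      rw [hgen, ← MonoidHom.range_eq_map, MonoidHom.range_eq_top.mpr hsurj]
    rw [MonoidHom.map_closure] at h1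
    rw [eq_top_iff, ← h1]
    apply Subgroup.closure_mono
    rintro _ ⟨x, hx, rfl⟩
    refine ⟨1, ?_⟩
    rw [pow_one, ← map_pow]
    rcases hx with rfl | rfl
    · have : (⟨α, hαΔ⟩ : Δ) ^ p = 1 := Subtype.ext (by simpa using hαp)
      rw [this, map_one]
    · have : (⟨β, hβΔ⟩ : Δ) ^ p = 1 := Subtype.ext (by simpa using hβp)
      rw [this, map_one]
  · rintro x hx y hy
    obtain ⟨x', hx', rfl⟩ := (hx : x ∈ (T₀ : Subgroup Δ).map φ.rangeRestrict)
    obtain ⟨y', hy', rfl⟩ := (hy : y ∈ (T₀ : Subgroup Δ).map φ.rangeRestrict)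
    have hsc : ∀ z : Δ, z * z = 1 → ∀ w : Δ, φ.rangeRestrict z * φ.rangeRestrict w =
        φ.rangeRestrict w * φ.rangeRestrict z := by
      intro z hz w
      apply Subtype.ext
      have hzz : φ z * φ z = 1 := by rw [← map_mul, hz, map_one]
      have hs := isScalarSL_of_mul_self h2E hzz
      exact hs.comm (φ w)
    rcases hpair x' hx' y' hy' with h | h | h
    · exact hsc x' h y'
    · exact (hsc y' h x').symm
    · rw [← map_mul, ← map_mul, h]

end Cfsg.Agent.Lib.Helper53.NQ
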