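import Mathlib
import Cfsg.Agent.Lib.Helper53.NQCore

/-!
# K-NQ GLUE (S2787): from the subgroup setting `V, H ≤ N(V)` to the abstract action of `H / C_H(V)` on `V`
-/

set_option autoImplicit false

open scoped commutatorElement

namespace Cfsg.Agent.Lib.Helper53.NQ

open Cfsg.Agent.Lib.Helper52

theorem core_of_mulEquiv {Γ P : Type*} [Group Γ] [Group P] (e : Γ ≃* P) {p : ℕ}
    (h : ∀ N : Subgroup P, N.Normal → IsPGroup p N → N = ⊥) :
    ∀ N : Subgroup Γ, N.Normal → IsPGroup p N → N = ⊥ := by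
  intro N hN hNp
  have h1 : (N.map e.toMonoidHom).Normal := hN.map _ e.surjective
  have h2 : IsPGroup p (N.map e.toMonoidHom) := hNp.map _
  have h3 := h _ h1 h2
  exact (Subgroup.map_eq_bot_iff_of_injective N e.injective).mp h3

theorem pair_of_mulEquiv {Γ P : Type*} [Group Γ] [Group P] (e : Γ ≃* P)
    (h : ∀ T : Subgroup P, IsPGroup 2 T → ∀ x ∈ T, ∀ y ∈ T, x * x = 1 ∨ y * y = 1 ∨ x * y = y * x) :
    ∀ T : Subgroup Γ, IsPGroup 2 T → ∀ x ∈ T, ∀ y ∈ T, x * x = 1 ∨ y * y = 1 ∨ x * y = y * x := by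
  intro T hT x hx y hy
  rcases h (T.map e.toMonoidHom) (hT.map _) (e x) ⟨x, hx, rfl⟩ (e y) ⟨y, hy, rfl⟩ with h1 | h1 | h1
  · left
    apply e.injective
    rw [map_mul, h1, map_one]
  · right; left
    apply e.injective
    rw [map_mul, h1, map_one]
  · right; right
    apply e.injective
    rw [map_mul, map_mul, h1]

/-- the subgroup version of `exists_bad_pair` -/
theorem commutator_eq_bot_of_quadratic {G : Type*} [Group G] [Finite G] {p : ℕ} [Fact p.Prime] (hp : p ≠ 2)
    (V H : Subgroup G) (hV : Cfsg.IsElementaryAbelian p V) (hHV : H ≤ Subgroup.normalizer (V : Set G))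
    [hn : ((Subgroup.centralizer (V : Set G)).subgroupOf H).Normal]
    (hcore : ∀ N : Subgroup (↥H ⧸ (Subgroup.centralizer (V : Set G)).subgroupOf H),
      N.Normal → IsPGroup p N → N = ⊥)
    (hpair : ∀ T : Subgroup (↥H ⧸ (Subgroup.centralizer (V : Set G)).subgroupOf H), IsPGroup 2 T →
      ∀ x ∈ T, ∀ y ∈ T, x * x = 1 ∨ y * y = 1 ∨ x * y = y * x)
    (A : Subgroup G) (hA : A ≤ H) (hquad : ⁅⁅V, A⁆, A⁆ = ⊥) : ⁅V, A⁆ = ⊥ := by
  classical
  by_contra hne
  have hex : ∃ a ∈ A, a ∉ Subgroup.centralizer (V : Set G) := by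
    by_contra h
    push Not at h
    apply hne
    rw [Subgroup.commutator_comm, Subgroup.commutator_eq_bot_iff_le_centralizer]
    exact h
  obtain ⟨a, haA, hac⟩ := hex
  have haH : a ∈ H := hA haA
  let _ : CommGroup V :=
    { (inferInstance : Group V) with mul_comm := fun x y => @mul_comm' _ _ hV.1 x y }
  have hexp : ∀ v : V, v ^ p = 1 := fun v => Subtype.ext (by simp [hV.2 v v.2])
  have hker : ∀ g : H, conjAutOfLeNormalizer V H hHV g = 1 ↔
      g ∈ (Subgroup.centralizer (V : Set G)).subgroupOf H := by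
    intro g
    rw [Subgroup.mem_subgroupOf, Subgroup.mem_centralizer_iff]
    constructor
    · intro hg v hv
      have h1 : (g : G) * v * (g : G)⁻¹ = v := by
        rw [← conjAutOfLeNormalizer_coe V H hHV g ⟨v, hv⟩, hg]; rfl
      calc v * (g : G) = ((g : G) * v * (g : G)⁻¹) * g := by rw [h1]
        _ = g * v := by simp [mul_assoc]
    · intro hg
      ext v
      rw [conjAutOfLeNormalizer_coe, MulAut.one_apply, ← hg v v.2]
      simp
  let c : (↥H ⧸ (Subgroup.centralizer (V : Set G)).subgroupOf H) →* MulAut V :=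
    QuotientGroup.lift _ (conjAutOfLeNormalizer V H hHV) (fun g hg => (hker g).mpr hg)
  have hinj : Function.Injective c := by
    rw [injective_iff_map_eq_one]
    intro x hx
    obtain ⟨g, rfl⟩ := QuotientGroup.mk_surjective x
    exact (QuotientGroup.eq_one_iff g).mpr ((hker g).mp hx)
  set α : ↥H ⧸ (Subgroup.centralizer (V : Set G)).subgroupOf H := QuotientGroup.mk ⟨a, haH⟩ with hαdef
  have hα : α ≠ 1 := by
    intro h
    have := (QuotientGroup.eq_one_iff _).mp h
    exact hac (Subgroup.mem_subgroupOf.mp this)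
  have ha' : ⁅⁅V, Subgroup.zpowers a⁆, Subgroup.zpowers a⁆ = ⊥ := by
    have hle : Subgroup.zpowers a ≤ A := (Subgroup.zpowers_le).mpr haA
    exact le_bot_iff.mp (hquad ▸ Subgroup.commutator_mono (Subgroup.commutator_mono le_rfl hle) hle)
  have hqα : ∀ v, c α (c α v / v) = c α v / v := by
    intro v
    show conjAutOfLeNormalizer V H hHV ⟨a, haH⟩ (conjAutOfLeNormalizer V H hHV ⟨a, haH⟩ v / v) =
      conjAutOfLeNormalizer V H hHV ⟨a, haH⟩ v / v
    apply Subtype.ext
    show a * (a * v * a⁻¹ / v) * a⁻¹ = a * v * a⁻¹ / v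
    rw [div_eq_mul_inv]
    exact conj_comm_of_quadratic V a ha' v v.2
  obtain ⟨T, hT, x, hx, y, hy, h1, h2, h3⟩ := exists_bad_pair hp hexp c hinj α hα hqα hcore
  rcases hpair T hT x hx y hy with h | h | h
  · exact h1 h
  · exact h2 h
  · exact h3 h

end Cfsg.Agent.Lib.Helper53.NQ
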