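import Cfsg.Agent.Lib.Helper53.QdSylow

set_option autoImplicit false

namespace Cfsg.Agent.Lib.Helper53

open Matrix
open scoped commutatorElement

section CharPCard

theorem charP_of_card_eq {F : Type*} [Field F] [Fintype F] {p n : ℕ} [Fact p.Prime]
    (hF : Fintype.card F = p ^ n) : CharP F p := by
  have hp : p.Prime := Fact.out
  obtain ⟨r, hr, m, hrp, hm⟩ := FiniteField.card' F
  have h1 : r ∣ p ^ n := by
    rw [← hF, hm]
    exact dvd_pow_self r m.ne_zero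
  have h2 : r = p := (Nat.prime_dvd_prime_iff_eq hrp hp).1 (hrp.dvd_of_dvd_pow h1)
  rw [← h2]
  exact hr

end CharPCard

section Layer

variable {G : Type*} [Group G] {F : Type*} [Field F] {V L : Subgroup G}
  (ρ : ↥L →* Matrix.SpecialLinearGroup (Fin 2) F) (ψ : Additive ↥V ≃+ (Fin 2 → F))

/-- the coordinate map -/
def coord (v : ↥V) : Fin 2 → F := ψ (Additive.ofMul v)

theorem coord_mul (v w : ↥V) : coord ψ (v * w) = coord ψ v + coord ψ w := by
  unfold coord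
  rw [ofMul_mul, map_add]

theorem coord_one : coord ψ (1 : ↥V) = 0 := by
  unfold coord
  rw [ofMul_one, map_zero]

theorem coord_inv (v : ↥V) : coord ψ v⁻¹ = -coord ψ v := by
  unfold coord
  rw [ofMul_inv, map_neg]

theorem coord_injective : Function.Injective (coord ψ) := fun v w h => by
  unfold coord at h
  exact Additive.ofMul.injective (ψ.injective h)

theorem coord_surjective : Function.Surjective (coord ψ) := fun x => by
  obtain ⟨a, ha⟩ := ψ.surjective x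
  exact ⟨Additive.toMul a, ha⟩

/-- the action hypothesis of a natural module -/
def ActHyp : Prop :=
  ∀ (l : ↥L) (v : ↥V), ∃ w : ↥V, (w : G) = (l : G) * (v : G) * (l : G)⁻¹ ∧
    ψ (Additive.ofMul w) = ((ρ l : Matrix.SpecialLinearGroup (Fin 2) F) : Matrix (Fin 2) (Fin 2) F).mulVec
      (ψ (Additive.ofMul v))

variable {ρ ψ}

theorem coord_conj (hact : ActHyp ρ ψ) (l : ↥L) (v : ↥V) (h : (l : G) * (v : G) * (l : G)⁻¹ ∈ V) :
    coord ψ ⟨(l : G) * (v : G) * (l : G)⁻¹, h⟩ = ρ l • coord ψ v := by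
  obtain ⟨w, hw, hw'⟩ := hact l v
  have : w = ⟨(l : G) * (v : G) * (l : G)⁻¹, h⟩ := Subtype.ext hw
  rw [← this]
  exact hw'

theorem conj_mem_of_actHyp (hact : ActHyp ρ ψ) (l : ↥L) (v : ↥V) :
    (l : G) * (v : G) * (l : G)⁻¹ ∈ V := by
  obtain ⟨w, hw, _⟩ := hact l v
  rw [← hw]
  exact w.2

/-- conjugation fixes `v` iff the matrix fixes the coordinate vector -/
theorem conj_eq_iff (hact : ActHyp ρ ψ) (l : ↥L) (v : ↥V) :
    (l : G) * (v : G) * (l : G)⁻¹ = (v : G) ↔ ρ l • coord ψ v = coord ψ v := by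
  rw [← coord_conj hact l v (conj_mem_of_actHyp hact l v)]
  constructor
  · intro h
    congr 1
    exact Subtype.ext h
  · intro h
    exact congrArg Subtype.val (coord_injective ψ h)

/-- the commutator `[v, l]` lies in `V` -/
theorem comm_mem_of_actHyp (hact : ActHyp ρ ψ) (l : ↥L) (v : ↥V) :
    ⁅(v : G), (l : G)⁆ ∈ V := by
  have h1 : ⁅(v : G), (l : G)⁆ = (v : G) * ((l : G) * ((v⁻¹ : ↥V) : G) * (l : G)⁻¹) := by
    rw [commutatorElement_def, Subgroup.coe_inv]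
    group
  rw [h1]
  exact V.mul_mem v.2 (conj_mem_of_actHyp hact l v⁻¹)

theorem coord_comm (hact : ActHyp ρ ψ) (l : ↥L) (v : ↥V) :
    coord ψ ⟨⁅(v : G), (l : G)⁆, comm_mem_of_actHyp hact l v⟩ = coord ψ v - ρ l • coord ψ v := by
  have h1 : (⟨⁅(v : G), (l : G)⁆, comm_mem_of_actHyp hact l v⟩ : ↥V) =
      v * ⟨(l : G) * ((v⁻¹ : ↥V) : G) * (l : G)⁻¹, conj_mem_of_actHyp hact l v⁻¹⟩ := by
    apply Subtype.ext
    show ⁅(v : G), (l : G)⁆ = (v : G) * ((l : G) * ((v⁻¹ : ↥V) : G) * (l : G)⁻¹)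
    rw [commutatorElement_def, Subgroup.coe_inv]
    group
  rw [h1, coord_mul, coord_conj hact, coord_inv, smul_neg, sub_eq_add_neg]

end Layer

section Model

variable {F : Type*} [Field F]

theorem smul_smul_eq_of_smul_eq {u : Fin 2 → F} {A : Matrix.SpecialLinearGroup (Fin 2) F}
    (hA : A • u = u) (c : F) : A • (c • u) = c • u := by
  rw [smul_comm A c u, hA]

theorem utr_one_conj_ne_one (B : Matrix.SpecialLinearGroup (Fin 2) F) {b : F} (hb : b ≠ 0) :
    B * utr b * B⁻¹ ≠ 1 := by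
  intro h
  have h9 : B⁻¹ * (B * utr b * B⁻¹) * B = B⁻¹ * 1 * B := by rw [h]
  have h10 : B⁻¹ * (B * utr b * B⁻¹) * B = utr b := by group
  rw [h10] at h9
  have h8 : utr b = 1 := by
    rw [h9]
    group
  rw [utr_eq_one_iff] at h8
  exact hb h8

/-- (M1) fixed by the whole stabilizer of `u` iff on the line of `u` -/
theorem fixed_by_stab_iff {u : Fin 2 → F} (hu : u ≠ 0) (w : Fin 2 → F) :
    (∀ A : Matrix.SpecialLinearGroup (Fin 2) F, A • u = u → A • w = w) ↔ ∃ c : F, w = c • u := by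
  constructor
  · intro h
    obtain ⟨B, hB⟩ := exists_sl2_smul_e0_eq u hu
    have hAu : (B * utr (1 : F) * B⁻¹) • u = u := (smul_eq_iff_of_smul_e0 hB _).2 ⟨1, rfl⟩
    exact eq_smul_of_smul_eq hu hAu (utr_one_conj_ne_one B one_ne_zero) (h _ hAu)
  · rintro ⟨c, rfl⟩ A hA
    exact smul_smul_eq_of_smul_eq hA c

/-- (M2) -/
theorem fixed_by_iff {u : Fin 2 → F} (hu : u ≠ 0) {A : Matrix.SpecialLinearGroup (Fin 2) F}
    (hA : A • u = u) (hA1 : A ≠ 1) (w : Fin 2 → F) :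
    A • w = w ↔ ∃ c : F, w = c • u := by
  constructor
  · intro h
    exact eq_smul_of_smul_eq hu hA hA1 h
  · rintro ⟨c, rfl⟩
    exact smul_smul_eq_of_smul_eq hA c

/-- (M3) -/
theorem sub_smul_mem_line {u : Fin 2 → F} (hu : u ≠ 0) {A : Matrix.SpecialLinearGroup (Fin 2) F}
    (hA : A • u = u) (w : Fin 2 → F) : ∃ c : F, w - A • w = c • u := by
  obtain ⟨B, hB⟩ := exists_sl2_smul_e0_eq u hu
  obtain ⟨b, rfl⟩ := (smul_eq_iff_of_smul_e0 hB A).1 hA
  refine ⟨-(b * (B⁻¹ • w) 1), ?_⟩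
  rw [neg_smul, ← smul_sub_eq_smul hB, neg_sub]

/-- (M4) -/
theorem exists_sub_smul_eq {u : Fin 2 → F} (hu : u ≠ 0) {A : Matrix.SpecialLinearGroup (Fin 2) F}
    (hA : A • u = u) (hA1 : A ≠ 1) (c : F) : ∃ w : Fin 2 → F, w - A • w = c • u := by
  obtain ⟨B, hB⟩ := exists_sl2_smul_e0_eq u hu
  obtain ⟨b, rfl⟩ := (smul_eq_iff_of_smul_e0 hB A).1 hA
  have hb : b ≠ 0 := by
    intro hb
    apply hA1
    rw [hb, utr_zero, mul_one, mul_inv_cancel]
  refine ⟨B • ![0, -c / b], ?_⟩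
  rw [← neg_sub, smul_sub_eq_smul hB, inv_smul_smul, ← neg_smul]
  congr 1
  simp
  field_simp

/-- (M5) -/
theorem exists_stab_sub_smul_eq {u : Fin 2 → F} (hu : u ≠ 0) {w : Fin 2 → F}
    (hw : ¬ ∃ c : F, w = c • u) (c : F) :
    ∃ A : Matrix.SpecialLinearGroup (Fin 2) F, A • u = u ∧ w - A • w = c • u := by
  obtain ⟨B, hB⟩ := exists_sl2_smul_e0_eq u hu
  have hd : (B⁻¹ • w) 1 ≠ 0 := by
    intro h0
    apply hw
    refine ⟨(B⁻¹ • w) 0, ?_⟩
    rw [← hB, ← smul_comm, eq_comm, smul_eq_iff_eq_inv_smul]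
    ext i
    fin_cases i
    · simp [e0]
    · simpa [e0] using h0.symm
  refine ⟨B * utr (-c / (B⁻¹ • w) 1) * B⁻¹, (smul_eq_iff_of_smul_e0 hB _).2 ⟨_, rfl⟩, ?_⟩
  rw [← neg_sub, smul_sub_eq_smul hB, ← neg_smul]
  congr 1
  field_simp

end Model

section NatMod

variable {G : Type*} [Group G] {F : Type*} [Field F] {V L : Subgroup G}
  {ρ : ↥L →* Matrix.SpecialLinearGroup (Fin 2) F} {ψ : Additive ↥V ≃+ (Fin 2 → F)}

theorem rho_injective (hker : ρ.ker = (Subgroup.centralizer (V : Set G)).subgroupOf L)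
    (hf : L ⊓ Subgroup.centralizer (V : Set G) = ⊥) : Function.Injective ρ := by
  rw [← MonoidHom.ker_eq_bot_iff, hker, Subgroup.subgroupOf_eq_bot, disjoint_iff, inf_comm]
  exact hf

theorem sylow_char [Fintype F] {p : ℕ} [Fact p.Prime] [CharP F p]
    (hinj : Function.Injective ρ) (S : Sylow p ↥L) :
    ∃ u : Fin 2 → F, u ≠ 0 ∧ ∀ l : ↥L, l ∈ (S : Subgroup ↥L) ↔ ρ l • u = u := by
  obtain ⟨u, hu, hfix⟩ := exists_fixed_vector_of_isPGroup (p := p)
    ((S : Subgroup ↥L).map ρ) (S.2.map ρ)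
  refine ⟨u, hu, ?_⟩
  have hR : IsPGroup p ((MulAction.stabilizer (Matrix.SpecialLinearGroup (Fin 2) F) u).comap ρ) :=
    (stabilizer_isPGroup hu).comap_of_injective ρ hinj
  have hle : (S : Subgroup ↥L) ≤
      (MulAction.stabilizer (Matrix.SpecialLinearGroup (Fin 2) F) u).comap ρ :=
    fun l hl => hfix _ ⟨l, hl, rfl⟩
  have h := S.is_maximal' hR hle
  intro l
  rw [← h]
  exact Iff.rfl

theorem commute_iff (hact : ActHyp ρ ψ) (l : ↥L) (v : ↥V) :
    (l : G) * (v : G) = (v : G) * (l : G) ↔ ρ l • coord ψ v = coord ψ v := by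
  rw [← conj_eq_iff hact, mul_inv_eq_iff_eq_mul]

variable {u : Fin 2 → F} {S : Subgroup ↥L}

/-- (Z1) -/
theorem mem_centralizer_map_iff (hu : u ≠ 0) (hS : ∀ l : ↥L, l ∈ S ↔ ρ l • u = u)
    (hsurj : Function.Surjective ρ) (hact : ActHyp ρ ψ) (v : ↥V) :
    (v : G) ∈ Subgroup.centralizer ((S.map L.subtype : Subgroup G) : Set G) ↔
      ∃ c : F, coord ψ v = c • u := by
  rw [← fixed_by_stab_iff hu, Subgroup.mem_centralizer_iff]
  constructor
  · intro h A hA
    obtain ⟨l, rfl⟩ := hsurj A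
    have hl : l ∈ S := (hS l).2 hA
    have h1 := h (l : G) ⟨l, hl, rfl⟩
    exact (commute_iff hact l v).1 h1
  · rintro h _ ⟨l, hl, rfl⟩
    exact (commute_iff hact l v).2 (h _ ((hS l).1 hl))

/-- (Z2) -/
theorem mem_centralizer_singleton_iff (hu : u ≠ 0) (hact : ActHyp ρ ψ) (hinj : Function.Injective ρ)
    {s : ↥L} (hs : ρ s • u = u) (hs1 : s ≠ 1) (v : ↥V) :
    (v : G) ∈ Subgroup.centralizer ({(s : G)} : Set G) ↔ ∃ c : F, coord ψ v = c • u := by
  have hne : ρ s ≠ 1 := by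
    intro h
    apply hs1
    apply hinj
    rw [h, map_one]
  rw [← fixed_by_iff hu hs hne, Subgroup.mem_centralizer_iff]
  constructor
  · intro h
    exact (commute_iff hact s v).1 (h _ rfl)
  · intro h t ht
    rw [Set.mem_singleton_iff] at ht
    rw [ht]
    exact (commute_iff hact s v).2 h

/-- (R1) -/
theorem commutator_le_inf_centralizer (hu : u ≠ 0) (hS : ∀ l : ↥L, l ∈ S ↔ ρ l • u = u)
    (hsurj : Function.Surjective ρ) (hact : ActHyp ρ ψ) :
    ⁅V, S.map L.subtype⁆ ≤ V ⊓ Subgroup.centralizer ((S.map L.subtype : Subgroup G) : Set G) := by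
  rw [Subgroup.commutator_le]
  rintro v hv _ ⟨l, hl, rfl⟩
  have hmem := comm_mem_of_actHyp hact l ⟨v, hv⟩
  refine ⟨hmem, ?_⟩
  have h1 := (mem_centralizer_map_iff hu hS hsurj hact ⟨_, hmem⟩).2
  apply h1
  rw [coord_comm hact l ⟨v, hv⟩]
  exact sub_smul_mem_line hu ((hS l).1 hl) _

/-- (R2) -/
theorem inf_centralizer_le_commutator_zpowers (hu : u ≠ 0) (hS : ∀ l : ↥L, l ∈ S ↔ ρ l • u = u)
    (hsurj : Function.Surjective ρ) (hact : ActHyp ρ ψ) (hinj : Function.Injective ρ)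
    {s : ↥L} (hs : s ∈ S) (hs1 : s ≠ 1) :
    V ⊓ Subgroup.centralizer ((S.map L.subtype : Subgroup G) : Set G) ≤
      ⁅V, Subgroup.zpowers (s : G)⁆ := by
  rintro x ⟨hxV, hxC⟩
  obtain ⟨c, hc⟩ := (mem_centralizer_map_iff hu hS hsurj hact ⟨x, hxV⟩).1 hxC
  have hne : ρ s ≠ 1 := by
    intro h
    apply hs1
    apply hinj
    rw [h, map_one]
  obtain ⟨w, hw⟩ := exists_sub_smul_eq hu ((hS s).1 hs) hne c
  obtain ⟨v, rfl⟩ := coord_surjective ψ w
  have h1 : (⟨⁅(v : G), (s : G)⁆, comm_mem_of_actHyp hact s v⟩ : ↥V) = ⟨x, hxV⟩ := by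
    apply coord_injective ψ
    rw [coord_comm hact, hw, hc]
  have h2 : ⁅(v : G), (s : G)⁆ = x := congrArg Subtype.val h1
  rw [← h2]
  exact Subgroup.commutator_mem_commutator v.2 (Subgroup.mem_zpowers _)

/-- (R3) -/
theorem inf_centralizer_singleton_eq (hu : u ≠ 0) (hS : ∀ l : ↥L, l ∈ S ↔ ρ l • u = u)
    (hsurj : Function.Surjective ρ) (hact : ActHyp ρ ψ) (hinj : Function.Injective ρ)
    {s : ↥L} (hs : s ∈ S) (hs1 : s ≠ 1) :
    V ⊓ Subgroup.centralizer ({(s : G)} : Set G) =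
      V ⊓ Subgroup.centralizer ((S.map L.subtype : Subgroup G) : Set G) := by
  ext x
  constructor
  · rintro ⟨hxV, hxC⟩
    refine ⟨hxV, ?_⟩
    exact (mem_centralizer_map_iff hu hS hsurj hact ⟨x, hxV⟩).2
      ((mem_centralizer_singleton_iff hu hact hinj ((hS s).1 hs) hs1 ⟨x, hxV⟩).1 hxC)
  · rintro ⟨hxV, hxC⟩
    refine ⟨hxV, ?_⟩
    exact (mem_centralizer_singleton_iff hu hact hinj ((hS s).1 hs) hs1 ⟨x, hxV⟩).2
      ((mem_centralizer_map_iff hu hS hsurj hact ⟨x, hxV⟩).1 hxC)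

/-- (R4) -/
theorem closure_comm_eq (hu : u ≠ 0) (hS : ∀ l : ↥L, l ∈ S ↔ ρ l • u = u)
    (hsurj : Function.Surjective ρ) (hact : ActHyp ρ ψ)
    {v : G} (hv : v ∈ V)
    (hvC : v ∉ Subgroup.centralizer ((S.map L.subtype : Subgroup G) : Set G)) :
    Subgroup.closure {x : G | ∃ t ∈ S.map L.subtype, x = v * t * v⁻¹ * t⁻¹} =
      V ⊓ Subgroup.centralizer ((S.map L.subtype : Subgroup G) : Set G) := by
  apply le_antisymm
  · rw [Subgroup.closure_le]
    rintro x ⟨t, ht, rfl⟩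
    apply commutator_le_inf_centralizer hu hS hsurj hact
    exact Subgroup.commutator_mem_commutator hv ht
  · rintro x ⟨hxV, hxC⟩
    obtain ⟨c, hc⟩ := (mem_centralizer_map_iff hu hS hsurj hact ⟨x, hxV⟩).1 hxC
    have hw : ¬ ∃ c : F, coord ψ (⟨v, hv⟩ : ↥V) = c • u := by
      intro h
      exact hvC ((mem_centralizer_map_iff hu hS hsurj hact ⟨v, hv⟩).2 h)
    obtain ⟨A, hA, hAw⟩ := exists_stab_sub_smul_eq hu hw c
    obtain ⟨l, rfl⟩ := hsurj A
    have hl : l ∈ S := (hS l).2 hA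
    have h1 : (⟨⁅v, (l : G)⁆, comm_mem_of_actHyp hact l ⟨v, hv⟩⟩ : ↥V) = ⟨x, hxV⟩ := by
      apply coord_injective ψ
      rw [coord_comm hact l ⟨v, hv⟩, hAw, hc]
    have h2 : ⁅v, (l : G)⁆ = x := congrArg Subtype.val h1
    rw [← h2]
    apply Subgroup.subset_closure
    exact ⟨(l : G), ⟨l, hl, rfl⟩, rfl⟩

/-- (R5) -/
theorem card_V [Fintype F] (ψ : Additive ↥V ≃+ (Fin 2 → F)) :
    Nat.card ↥V = Fintype.card F ^ 2 := by
  have h1 : Nat.card ↥V = Nat.card (Fin 2 → F) :=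
    Nat.card_congr (Additive.ofMul.trans (ψ : Additive ↥V ≃ (Fin 2 → F)))
  rw [h1, Nat.card_eq_fintype_card, Fintype.card_fun, Fintype.card_fin]

/-- (R6) -/
theorem card_inf_centralizer [Fintype F] (hu : u ≠ 0) (hS : ∀ l : ↥L, l ∈ S ↔ ρ l • u = u)
    (hsurj : Function.Surjective ρ) (hact : ActHyp ρ ψ) :
    Nat.card ↥(V ⊓ Subgroup.centralizer ((S.map L.subtype : Subgroup G) : Set G)) =
      Fintype.card F := by
  rw [← Nat.card_eq_fintype_card]
  symm
  have hmem : ∀ c : F, ((coord_surjective ψ (c • u)).choose : G) ∈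
      V ⊓ Subgroup.centralizer ((S.map L.subtype : Subgroup G) : Set G) := by
    intro c
    refine ⟨(coord_surjective ψ (c • u)).choose.2, ?_⟩
    exact (mem_centralizer_map_iff hu hS hsurj hact _).2 ⟨c, (coord_surjective ψ (c • u)).choose_spec⟩
  apply Nat.card_eq_of_bijective (fun c : F => (⟨_, hmem c⟩ :
    ↥(V ⊓ Subgroup.centralizer ((S.map L.subtype : Subgroup G) : Set G))))
  constructor
  · intro c d hcd
    have h1 : (coord_surjective ψ (c • u)).choose = (coord_surjective ψ (d • u)).choose := by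
      apply Subtype.ext
      have h0 := congrArg Subtype.val hcd
      exact h0
    have h2 : c • u = d • u := by
      rw [← (coord_surjective ψ (c • u)).choose_spec, ← (coord_surjective ψ (d • u)).choose_spec, h1]
    by_contra hne
    apply hu
    have h3 : (c - d) • u = 0 := by rw [sub_smul, h2, sub_self]
    rcases smul_eq_zero.1 h3 with h4 | h4
    · exact absurd (sub_eq_zero.1 h4) hne
    · exact h4
  · rintro ⟨x, hxV, hxC⟩
    obtain ⟨c, hc⟩ := (mem_centralizer_map_iff hu hS hsurj hact ⟨x, hxV⟩).1 hxC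
    refine ⟨c, ?_⟩
    apply Subtype.ext
    show ((coord_surjective ψ (c • u)).choose : G) = x
    have h1 : (coord_surjective ψ (c • u)).choose = ⟨x, hxV⟩ := by
      apply coord_injective ψ
      rw [(coord_surjective ψ (c • u)).choose_spec, hc]
    rw [h1]

end NatMod

end Cfsg.Agent.Lib.Helper53
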