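import Cfsg.Agent.Lib.Helper53.NatSL2

set_option autoImplicit false

namespace Cfsg.Agent.Lib.Helper53

open Matrix
open scoped commutatorElement

section Diag

variable {F : Type*} [Field F]

/-- diagonal matrix -/
def dg (a : F) (ha : a ≠ 0) : Matrix.SpecialLinearGroup (Fin 2) F :=
  sl2mk a 0 0 a⁻¹ (by simp [ha])

theorem dg_coe (a : F) (ha : a ≠ 0) :
    ((dg a ha : Matrix.SpecialLinearGroup (Fin 2) F) : Matrix (Fin 2) (Fin 2) F) = !![a, 0; 0, a⁻¹] := rfl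

theorem dg_smul (a : F) (ha : a ≠ 0) (w : Fin 2 → F) : dg a ha • w = ![a * w 0, a⁻¹ * w 1] := by
  ext i
  rw [sl2_smul_apply, dg_coe]
  fin_cases i <;> simp

theorem conj_dg_smul {B : Matrix.SpecialLinearGroup (Fin 2) F} {u : Fin 2 → F}
    (hB : B • (e0 : Fin 2 → F) = u) (a : F) (ha : a ≠ 0) :
    (B * dg a ha * B⁻¹) • u = a • u := by
  rw [mul_smul, mul_smul, ← hB, inv_smul_smul, dg_smul, ← smul_comm]
  congr 1
  ext i
  fin_cases i <;> simp [e0]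

/-- decomposition of a vector along `u = B • e0` and `B • e1` -/
theorem eq_smul_add (B : Matrix.SpecialLinearGroup (Fin 2) F) (w : Fin 2 → F) :
    w = B • ![(B⁻¹ • w) 0, (B⁻¹ • w) 1] := by
  rw [eq_comm, smul_eq_iff_eq_inv_smul]
  ext i
  fin_cases i <;> simp

end Diag

section NatMod2

variable {G : Type*} [Group G] {F : Type*} [Field F] {V L : Subgroup G}
  {ρ : ↥L →* Matrix.SpecialLinearGroup (Fin 2) F} {ψ : Additive ↥V ≃+ (Fin 2 → F)}
  {u : Fin 2 → F} {S : Subgroup ↥L}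

theorem V_comm (ψ : Additive ↥V ≃+ (Fin 2 → F)) (a b : ↥V) : a * b = b * a := by
  apply coord_injective ψ
  rw [coord_mul, coord_mul, add_comm]

/-- elements whose matrix stabilizes the line of `u` normalize `T` -/
theorem mem_normalizer_of_smul_eq [Finite G] (hu : u ≠ 0) (hS : ∀ l : ↥L, l ∈ S ↔ ρ l • u = u)
    {g : ↥L} {c : F} (hc : ρ g • u = c • u) :
    (g : G) ∈ Subgroup.normalizer ((S.map L.subtype : Subgroup G) : Set G) := by
  have hc0 : c ≠ 0 := by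
    rintro rfl
    rw [zero_smul, smul_eq_iff_eq_inv_smul, smul_zero] at hc
    exact hu hc
  have hinv : (ρ g)⁻¹ • u = c⁻¹ • u := by
    rw [inv_smul_eq_iff, smul_comm (ρ g) c⁻¹ u, hc, smul_smul, inv_mul_cancel₀ hc0, one_smul]
  apply mem_normalizer_of_conj_mem
  rintro _ ⟨s, hs, rfl⟩
  refine ⟨g * s * g⁻¹, ?_, by simp⟩
  have hs' : ρ s • u = u := (hS s).1 hs
  apply (hS _).2
  rw [map_mul, map_mul, map_inv, mul_smul, mul_smul, hinv, smul_comm (ρ s) c⁻¹ u, hs',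
    smul_comm (ρ g) c⁻¹ u, hc, smul_smul, inv_mul_cancel₀ hc0, one_smul]

/-- the conjugate Sylow subgroup is the stabilizer of the image vector -/
theorem conj_sylow_char (hS : ∀ l : ↥L, l ∈ S ↔ ρ l • u = u) (g : ↥L) :
    ∀ l : ↥L, l ∈ S.map (MulAut.conj g).toMonoidHom ↔ ρ l • (ρ g • u) = ρ g • u := by
  intro l
  rw [mem_map_conj_iff, hS, map_mul, map_mul, map_inv, mul_smul, mul_smul, inv_smul_eq_iff]

theorem map_conj_map_subtype (g : ↥L) :
    (S.map (MulAut.conj g).toMonoidHom).map L.subtype =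
      (S.map L.subtype).map (MulAut.conj (g : G)).toMonoidHom := by
  rw [Subgroup.map_map, Subgroup.map_map]
  congr 1

theorem line_of_snd_zero {B : Matrix.SpecialLinearGroup (Fin 2) F}
    (hB : B • (e0 : Fin 2 → F) = u) {w : Fin 2 → F} (h : (B⁻¹ • w) 1 = 0) :
    w = (B⁻¹ • w) 0 • u := by
  rw [← hB, ← smul_comm, eq_comm, smul_eq_iff_eq_inv_smul]
  ext i
  fin_cases i
  · simp [e0]
  · simpa [e0] using h.symm

theorem exists_decomp {B : Matrix.SpecialLinearGroup (Fin 2) F}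
    (hB : B • (e0 : Fin 2 → F) = u) {x : Fin 2 → F} (hx : (B⁻¹ • x) 1 ≠ 0) (y : Fin 2 → F) :
    ∃ a b : F, y = a • u + b • x := by
  refine ⟨(B⁻¹ • y) 0 - (B⁻¹ • y) 1 / (B⁻¹ • x) 1 * (B⁻¹ • x) 0, (B⁻¹ • y) 1 / (B⁻¹ • x) 1, ?_⟩
  have hlin : ∀ (a b : F), B⁻¹ • (a • u + b • x) = a • (e0 : Fin 2 → F) + b • (B⁻¹ • x) := by
    intro a b
    rw [smul_add, smul_comm B⁻¹ a u, smul_comm B⁻¹ b x]
    congr 2
    rw [← hB, inv_smul_smul]
  apply (MulAction.injective B⁻¹)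
  show B⁻¹ • y = B⁻¹ • (_ + _)
  rw [hlin]
  ext i
  fin_cases i
  · simp [e0]
  · simp [e0]
    field_simp

/-- (a) -/
theorem isInternalDirectProduct_of_not_mem_normalizer [Finite G] (hu : u ≠ 0)
    (hS : ∀ l : ↥L, l ∈ S ↔ ρ l • u = u) (hsurj : Function.Surjective ρ) (hact : ActHyp ρ ψ)
    (g : ↥L) (hg : (g : G) ∉ Subgroup.normalizer ((S.map L.subtype : Subgroup G) : Set G)) :
    Cfsg.IsInternalDirectProduct
      (V ⊓ Subgroup.centralizer ((S.map L.subtype : Subgroup G) : Set G))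
      (V ⊓ Subgroup.centralizer
        (((S.map L.subtype).map (MulAut.conj (g : G)).toMonoidHom : Subgroup G) : Set G)) V := by
  have hu' : ρ g • u ≠ 0 := by
    intro h
    rw [smul_eq_iff_eq_inv_smul, smul_zero] at h
    exact hu h
  have hS' := conj_sylow_char hS g
  have hind : ¬ ∃ c : F, ρ g • u = c • u := by
    rintro ⟨c, hc⟩
    exact hg (mem_normalizer_of_smul_eq hu hS hc)
  rw [← map_conj_map_subtype]
  obtain ⟨B, hB⟩ := exists_sl2_smul_e0_eq u hu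
  have hx1 : (B⁻¹ • (ρ g • u)) 1 ≠ 0 := by
    intro h0
    exact hind ⟨_, line_of_snd_zero hB h0⟩
  refine ⟨inf_le_left, inf_le_left, ?_, ?_, ?_⟩
  · rintro a ⟨ha, _⟩ b ⟨hb, _⟩
    exact congrArg Subtype.val (V_comm ψ ⟨a, ha⟩ ⟨b, hb⟩)
  · rw [Subgroup.eq_bot_iff_forall]
    intro x hx
    obtain ⟨hx1'', hx2''⟩ := Subgroup.mem_inf.1 hx
    obtain ⟨hxV, hx1'⟩ := Subgroup.mem_inf.1 hx1''
    obtain ⟨_, hx2⟩ := Subgroup.mem_inf.1 hx2''
    obtain ⟨c, hc⟩ := (mem_centralizer_map_iff hu hS hsurj hact ⟨x, hxV⟩).1 hx1'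
    obtain ⟨c', hc'⟩ := (mem_centralizer_map_iff hu' hS' hsurj hact ⟨x, hxV⟩).1 hx2
    have hc0 : c' = 0 := by
      by_contra hne
      apply hind
      refine ⟨c'⁻¹ * c, ?_⟩
      rw [← smul_smul, ← hc, hc', smul_smul, inv_mul_cancel₀ hne, one_smul]
    rw [hc0, zero_smul] at hc'
    have h1 : (⟨x, hxV⟩ : ↥V) = 1 := by
      apply coord_injective ψ
      rw [hc', coord_one]
    exact congrArg Subtype.val h1
  · apply le_antisymm (sup_le inf_le_left inf_le_left)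
    intro y hy
    obtain ⟨a, b, hab⟩ := exists_decomp hB hx1 (coord ψ ⟨y, hy⟩)
    obtain ⟨y1, hy1⟩ := coord_surjective ψ (a • u)
    obtain ⟨y2, hy2⟩ := coord_surjective ψ (b • (ρ g • u))
    have h1 : (⟨y, hy⟩ : ↥V) = y1 * y2 := by
      apply coord_injective ψ
      rw [coord_mul, hy1, hy2, hab]
    have h2 : y = (y1 : G) * (y2 : G) := congrArg Subtype.val h1
    rw [h2]
    apply Subgroup.mul_mem_sup
    · exact ⟨y1.2, (mem_centralizer_map_iff hu hS hsurj hact y1).2 ⟨a, hy1⟩⟩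
    · exact ⟨y2.2, (mem_centralizer_map_iff hu' hS' hsurj hact y2).2 ⟨b, hy2⟩⟩

/-- (b) -/
theorem inf_centralizer_singleton_eq_bot {p : ℕ} [Fact p.Prime] [CharP F p]
    (hinj : Function.Injective ρ) (hact : ActHyp ρ ψ) (x : ↥L) (hx1 : x ≠ 1)
    (hx : (orderOf (x : G)).Coprime p) :
    V ⊓ Subgroup.centralizer ({(x : G)} : Set G) = ⊥ := by
  rw [Subgroup.eq_bot_iff_forall]
  intro v hv
  obtain ⟨hvV, hvC⟩ := Subgroup.mem_inf.1 hv
  rw [Subgroup.mem_centralizer_iff] at hvC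
  have h1 := (commute_iff hact x ⟨v, hvV⟩).1 (hvC _ rfl)
  by_cases h0 : coord ψ (⟨v, hvV⟩ : ↥V) = 0
  · have h2 : (⟨v, hvV⟩ : ↥V) = 1 := by
      apply coord_injective ψ
      rw [h0, coord_one]
    exact congrArg Subtype.val h2
  · exfalso
    have h2 := pow_char_eq_one_of_smul_eq (p := p) h0 h1
    have h3 : x ^ p = 1 := by
      apply hinj
      rw [map_pow, h2, map_one]
    have h4 : orderOf x ∣ p := orderOf_dvd_of_pow_eq_one h3
    rw [Subgroup.orderOf_coe] at hx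
    have h5 : orderOf x = 1 := Nat.Coprime.eq_one_of_dvd hx h4
    exact hx1 (orderOf_eq_one_iff.1 h5)

/-- an element of `N_L(T)` acting as the scalar `a` on the line of `u` -/
theorem exists_mem_normalizer_smul [Finite G] (hu : u ≠ 0)
    (hS : ∀ l : ↥L, l ∈ S ↔ ρ l • u = u) (hsurj : Function.Surjective ρ)
    {B : Matrix.SpecialLinearGroup (Fin 2) F} (hB : B • (e0 : Fin 2 → F) = u) (a : F) (ha : a ≠ 0) :
    ∃ l : ↥L, ρ l = B * dg a ha * B⁻¹ ∧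
      (l : G) ∈ L ⊓ Subgroup.normalizer ((S.map L.subtype : Subgroup G) : Set G) := by
  obtain ⟨l, hl⟩ := hsurj (B * dg a ha * B⁻¹)
  refine ⟨l, hl, l.2, ?_⟩
  apply mem_normalizer_of_smul_eq hu hS (c := a)
  rw [hl, conj_dg_smul hB]

theorem conj_mem_of_mem_normalizer {U : Subgroup G} {g y : G}
    (hg : g ∈ Subgroup.normalizer (U : Set G)) (hy : y ∈ U) : g * y * g⁻¹ ∈ U :=
  (Subgroup.mem_normalizer_iff.1 hg y).1 hy

/-- (c) -/
theorem eq_bot_or_eq_of_le_inf_centralizer [Finite G] (hu : u ≠ 0)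
    (hS : ∀ l : ↥L, l ∈ S ↔ ρ l • u = u) (hsurj : Function.Surjective ρ) (hact : ActHyp ρ ψ)
    (U : Subgroup G)
    (hU : U ≤ V ⊓ Subgroup.centralizer ((S.map L.subtype : Subgroup G) : Set G))
    (hN : L ⊓ Subgroup.normalizer ((S.map L.subtype : Subgroup G) : Set G) ≤
      Subgroup.normalizer (U : Set G)) :
    U = ⊥ ∨ U = V ⊓ Subgroup.centralizer ((S.map L.subtype : Subgroup G) : Set G) := by
  by_cases hbot : U = ⊥
  · exact Or.inl hbot
  right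
  apply le_antisymm hU
  obtain ⟨y, hyU, hy1⟩ : ∃ y ∈ U, y ≠ 1 := by
    obtain ⟨⟨y, hyU⟩, hy1⟩ := (Subgroup.ne_bot_iff_exists_ne_one).1 hbot
    exact ⟨y, hyU, fun h => hy1 (Subtype.ext h)⟩
  obtain ⟨hyV, hyC⟩ := Subgroup.mem_inf.1 (hU hyU)
  obtain ⟨c, hc⟩ := (mem_centralizer_map_iff hu hS hsurj hact ⟨y, hyV⟩).1 hyC
  have hc0 : c ≠ 0 := by
    rintro rfl
    rw [zero_smul] at hc
    apply hy1
    have h1 : (⟨y, hyV⟩ : ↥V) = 1 := by
      apply coord_injective ψ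
      rw [hc, coord_one]
    exact congrArg Subtype.val h1
  obtain ⟨B, hB⟩ := exists_sl2_smul_e0_eq u hu
  intro x hx
  obtain ⟨hxV, hxC⟩ := Subgroup.mem_inf.1 hx
  obtain ⟨c', hc'⟩ := (mem_centralizer_map_iff hu hS hsurj hact ⟨x, hxV⟩).1 hxC
  by_cases hc'0 : c' = 0
  · rw [hc'0, zero_smul] at hc'
    have h1 : (⟨x, hxV⟩ : ↥V) = 1 := by
      apply coord_injective ψ
      rw [hc', coord_one]
    have h2 : x = 1 := congrArg Subtype.val h1
    rw [h2]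
    exact U.one_mem
  · have ha : c' / c ≠ 0 := div_ne_zero hc'0 hc0
    obtain ⟨l, hl, hlN⟩ := exists_mem_normalizer_smul hu hS hsurj hB (c' / c) ha
    have h1 := conj_mem_of_mem_normalizer (hN hlN) hyU
    have h2 : (⟨(l : G) * y * (l : G)⁻¹, conj_mem_of_actHyp hact l ⟨y, hyV⟩⟩ : ↥V) = ⟨x, hxV⟩ := by
      apply coord_injective ψ
      rw [coord_conj hact l ⟨y, hyV⟩, hc, hc', hl, smul_comm _ c u, conj_dg_smul hB, smul_smul,
        mul_div_cancel₀ _ hc0]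
    have h3 : (l : G) * y * (l : G)⁻¹ = x := congrArg Subtype.val h2
    rw [← h3]
    exact h1

/-- (d) -/
theorem eq_or_eq_of_inf_centralizer_le [Finite G] (hu : u ≠ 0)
    (hS : ∀ l : ↥L, l ∈ S ↔ ρ l • u = u) (hsurj : Function.Surjective ρ) (hact : ActHyp ρ ψ)
    (U : Subgroup G)
    (hU1 : V ⊓ Subgroup.centralizer ((S.map L.subtype : Subgroup G) : Set G) ≤ U) (hU2 : U ≤ V)
    (hN : L ⊓ Subgroup.normalizer ((S.map L.subtype : Subgroup G) : Set G) ≤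
      Subgroup.normalizer (U : Set G)) :
    U = V ⊓ Subgroup.centralizer ((S.map L.subtype : Subgroup G) : Set G) ∨ U = V := by
  by_cases hle : U ≤ V ⊓ Subgroup.centralizer ((S.map L.subtype : Subgroup G) : Set G)
  · exact Or.inl (le_antisymm hle hU1)
  right
  apply le_antisymm hU2
  obtain ⟨y, hyU, hyn⟩ := SetLike.not_le_iff_exists.1 hle
  have hyV : y ∈ V := hU2 hyU
  have hw : ¬ ∃ c : F, coord ψ (⟨y, hyV⟩ : ↥V) = c • u := by
    intro h
    exact hyn ⟨hyV, (mem_centralizer_map_iff hu hS hsurj hact ⟨y, hyV⟩).2 h⟩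
  obtain ⟨B, hB⟩ := exists_sl2_smul_e0_eq u hu
  have hw1 : (B⁻¹ • coord ψ (⟨y, hyV⟩ : ↥V)) 1 ≠ 0 := by
    intro h0
    exact hw ⟨_, line_of_snd_zero hB h0⟩
  intro z hzV
  by_cases hz1 : (B⁻¹ • coord ψ (⟨z, hzV⟩ : ↥V)) 1 = 0
  · apply hU1
    exact ⟨hzV, (mem_centralizer_map_iff hu hS hsurj hact ⟨z, hzV⟩).2 ⟨_, line_of_snd_zero hB hz1⟩⟩
  · have ha : (B⁻¹ • coord ψ (⟨y, hyV⟩ : ↥V)) 1 / (B⁻¹ • coord ψ (⟨z, hzV⟩ : ↥V)) 1 ≠ 0 :=
      div_ne_zero hw1 hz1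
    obtain ⟨l, hl, hlN⟩ := exists_mem_normalizer_smul hu hS hsurj hB _ ha
    have h1 := conj_mem_of_mem_normalizer (hN hlN) hyU
    have hy'V := conj_mem_of_actHyp hact l ⟨y, hyV⟩
    -- z * y'⁻¹ lies in the centralizer part
    have h2 : z * ((l : G) * y * (l : G)⁻¹)⁻¹ ∈
        V ⊓ Subgroup.centralizer ((S.map L.subtype : Subgroup G) : Set G) := by
      have hmem : z * ((l : G) * y * (l : G)⁻¹)⁻¹ ∈ V := V.mul_mem hzV (V.inv_mem hy'V)
      refine ⟨hmem, ?_⟩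
      have h3 := (mem_centralizer_map_iff hu hS hsurj hact ⟨_, hmem⟩).2
      apply h3
      have h4 : (⟨z * ((l : G) * y * (l : G)⁻¹)⁻¹, hmem⟩ : ↥V) =
          ⟨z, hzV⟩ * (⟨(l : G) * y * (l : G)⁻¹, hy'V⟩ : ↥V)⁻¹ := rfl
      rw [h4, coord_mul, coord_inv, coord_conj hact l ⟨y, hyV⟩, hl]
      refine ⟨(B⁻¹ • coord ψ (⟨z, hzV⟩ : ↥V)) 0 -
        (B⁻¹ • coord ψ (⟨y, hyV⟩ : ↥V)) 1 / (B⁻¹ • coord ψ (⟨z, hzV⟩ : ↥V)) 1 *
          (B⁻¹ • coord ψ (⟨y, hyV⟩ : ↥V)) 0, ?_⟩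
      apply (MulAction.injective B⁻¹)
      show B⁻¹ • (_ + -_) = B⁻¹ • (_ • u)
      rw [smul_add, smul_neg, mul_smul, mul_smul, inv_smul_smul, dg_smul, smul_comm B⁻¹ _ u,
        ← hB, inv_smul_smul]
      ext i
      fin_cases i
      · simp [e0]
        ring
      · simp [e0]
        field_simp
        ring
    have h5 : z = (z * ((l : G) * y * (l : G)⁻¹)⁻¹) * ((l : G) * y * (l : G)⁻¹) := by group
    rw [h5]
    exact U.mul_mem (hU1 h2) h1

end NatMod2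

end Cfsg.Agent.Lib.Helper53
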