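import Mathlib
import Cfsg.Agent.Lib.Helper63.AltSpec

/-!
# K-NSE-B6 (keystone 343105, pack S3431): the same-order counts of `A_6` are `{1, 45, 80, 90, 144}`
-/

set_option autoImplicit false

namespace Cfsg.Agent.Lib.Helper53.Nse

open Equiv

/-- counting elements of a given order in the alternating group by a decidable predicate on permutations -/
theorem card_alt_orderOf {n : ℕ} (m : ℕ) (P : Perm (Fin n) → Prop) [DecidablePred P]
    (h : ∀ g : Perm (Fin n), orderOf g = m ↔ P g) :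
    Nat.card {g : ↥(alternatingGroup (Fin n)) // orderOf g = m} =
      (Finset.univ.filter (fun g : Perm (Fin n) => Perm.sign g = 1 ∧ P g)).card := by
  classical
  have e : {g : ↥(alternatingGroup (Fin n)) // orderOf g = m} ≃
      {g : Perm (Fin n) // Perm.sign g = 1 ∧ P g} :=
    { toFun := fun g => ⟨g.1.1, Perm.mem_alternatingGroup.mp g.1.2,
        (h _).mp (by rw [Subgroup.orderOf_coe]; exact g.2)⟩
      invFun := fun g => ⟨⟨g.1, Perm.mem_alternatingGroup.mpr g.2.1⟩, by
        rw [← Subgroup.orderOf_coe]; exact (h _).mpr g.2.2⟩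
      left_inv := fun g => rfl
      right_inv := fun g => rfl }
  rw [Nat.card_congr e, Nat.card_eq_fintype_card, Fintype.card_subtype]

theorem orderOf_eq_prime_iff' {M : Type*} [Monoid M] (g : M) (p : ℕ) [hp : Fact p.Prime] :
    orderOf g = p ↔ (g ^ p = 1 ∧ g ≠ 1) := orderOf_eq_prime_iff

theorem orderOf_eq_four_iff {M : Type*} [Monoid M] (g : M) :
    orderOf g = 4 ↔ (g ^ 4 = 1 ∧ g ^ 2 ≠ 1) := by
  constructor
  · intro h
    refine ⟨by rw [← h]; exact pow_orderOf_eq_one g, fun h2 => ?_⟩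
    have := orderOf_dvd_of_pow_eq_one h2
    rw [h] at this
    exact absurd this (by decide)
  · rintro ⟨h4, h2⟩
    have : Fact (Nat.Prime 2) := ⟨Nat.prime_two⟩
    exact orderOf_eq_prime_pow (p := 2) (n := 1) (by simpa using h2) (by simpa using h4)

set_option maxRecDepth 100000 in
theorem a6_count2 : (Finset.univ.filter (fun g : Perm (Fin 6) =>
    Perm.sign g = 1 ∧ (g ^ 2 = 1 ∧ g ≠ 1))).card = 45 := by
  decide +kernel

set_option maxRecDepth 100000 in
theorem a6_count3 : (Finset.univ.filter (fun g : Perm (Fin 6) =>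
    Perm.sign g = 1 ∧ (g ^ 3 = 1 ∧ g ≠ 1))).card = 80 := by
  decide +kernel

set_option maxRecDepth 100000 in
theorem a6_count4 : (Finset.univ.filter (fun g : Perm (Fin 6) =>
    Perm.sign g = 1 ∧ (g ^ 4 = 1 ∧ g ^ 2 ≠ 1))).card = 90 := by
  decide +kernel

set_option maxRecDepth 100000 in
theorem a6_count5 : (Finset.univ.filter (fun g : Perm (Fin 6) =>
    Perm.sign g = 1 ∧ (g ^ 5 = 1 ∧ g ≠ 1))).card = 144 := by
  decide +kernel

theorem a6_card_one : Nat.card {g : ↥(alternatingGroup (Fin 6)) // orderOf g = 1} = 1 := by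
  have : Unique {g : ↥(alternatingGroup (Fin 6)) // orderOf g = 1} :=
    { default := ⟨1, orderOf_one⟩
      uniq := fun g => Subtype.ext (orderOf_eq_one_iff.mp g.2) }
  exact Nat.card_unique

theorem nse_A6 : ((fun m : ℕ => Nat.card {g : ↥(alternatingGroup (Fin 6)) // orderOf g = m}) ''
    Set.range (orderOf : ↥(alternatingGroup (Fin 6)) → ℕ)) = (↑({1, 45, 80, 90, 144} : Finset ℕ) : Set ℕ) := by
  have : Fact (Nat.Prime 2) := ⟨Nat.prime_two⟩
  have : Fact (Nat.Prime 3) := ⟨Nat.prime_three⟩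
  have : Fact (Nat.Prime 5) := ⟨Nat.prime_five⟩
  have h2 : Nat.card {g : ↥(alternatingGroup (Fin 6)) // orderOf g = 2} = 45 := by
    rw [card_alt_orderOf 2 (fun g => g ^ 2 = 1 ∧ g ≠ 1) (fun g => orderOf_eq_prime_iff' g 2)]
    exact a6_count2
  have h3 : Nat.card {g : ↥(alternatingGroup (Fin 6)) // orderOf g = 3} = 80 := by
    rw [card_alt_orderOf 3 (fun g => g ^ 3 = 1 ∧ g ≠ 1) (fun g => orderOf_eq_prime_iff' g 3)]
    exact a6_count3
  have h4 : Nat.card {g : ↥(alternatingGroup (Fin 6)) // orderOf g = 4} = 90 := by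
    rw [card_alt_orderOf 4 (fun g => g ^ 4 = 1 ∧ g ^ 2 ≠ 1) (fun g => orderOf_eq_four_iff g)]
    exact a6_count4
  have h5 : Nat.card {g : ↥(alternatingGroup (Fin 6)) // orderOf g = 5} = 144 := by
    rw [card_alt_orderOf 5 (fun g => g ^ 5 = 1 ∧ g ≠ 1) (fun g => orderOf_eq_prime_iff' g 5)]
    exact a6_count5
  rw [Cfsg.Agent.Lib.Helper63.spec_A6]
  simp only [Set.image_insert_eq, Set.image_singleton, a6_card_one, h2, h3, h4, h5,
    Finset.coe_insert, Finset.coe_singleton]

end Cfsg.Agent.Lib.Helper53.Nse
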