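import Cfsg.Agent.Lib.Helper49.OElDefs
import Cfsg.Agent.Lib.Helper50.GeoBridge

/-!
# Keystone 598826 K-OEl-QM2 (`case_char2_ellM`) of helper49's S5988 / S5990 pack: the case `r = p = 2` of S5990

`case_char2_ellM_of` takes the leaves BRM (598810), S (598818), U (598819), X (598820) as hypotheses, in spec form
for the standard minus form `QM d F a b`.
-/

set_option autoImplicit false
set_option linter.unusedSectionVars false
set_option linter.unusedVariables false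

namespace Cfsg.Agent.Lib.Helper53.OEl

open Module Cfsg.Agent.Lib.Helper98.Elus Cfsg.Agent.Lib.Helper98.Sy Cfsg.Agent.Lib.Helper38.OhP
  Cfsg.Agent.Lib.Helper49.OEl

universe u
variable {F : Type u} [Field F]

/-- the index type of the minus form -/
abbrev IM (d : ℕ) : Type := (Fin (d - 1) ⊕ Fin (d - 1)) ⊕ Fin 2

theorem map_le_iff_inv_gen' {ι : Type} [Fintype ι] [DecidableEq ι] (g : (ι → F) →ₗ[F] (ι → F))
    (W : Submodule F (ι → F)) : W.map g ≤ W ↔ Inv g W :=
  ⟨fun h v hv => h ⟨v, hv, rfl⟩, fun h => by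
    rintro _ ⟨v, hv, rfl⟩
    exact h v hv⟩

/-- in characteristic two, `z * z = 1` forces `z = 1` -/
theorem eq_one_of_mul_self_char2 [CharP F 2] (z : F) (hz : z * z = 1) : z = 1 := by
  have h2 : (2 : F) = 0 := by
    have := CharP.cast_eq_zero F 2
    exact_mod_cast this
  have h1 : (z - 1) * (z - 1) = 0 := by
    have : (z - 1) * (z - 1) = z * z - 2 * z + 1 := by ring
    rw [this, hz]
    linear_combination (1 - z) * h2
  exact sub_eq_zero.1 (mul_self_eq_zero.1 h1)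

/-- **K-OEl-QM2 (598826)** with the leaves BRM, S, U, X as hypotheses -/
theorem case_char2_ellM_of [Fintype F] [CharP F 2] (d m : ℕ) (hd : 4 ≤ d) (hm : 2 ≤ m) (hme : Even m)
    (hmn : m + 2 ≤ 2 * d) (a b : F)
    (hab : ∀ x y : F, x ^ 2 + a * x * y + b * y ^ 2 = 0 → x = 0 ∧ y = 0)
    (Hqiso : ∀ x : GL (IM d) F, x ∈ Cfsg.Geo.omegaGL (Cfsg.quadFormMinus (d - 1) F a b) →
      QIso (QM d F a b) (Matrix.toLin' (x : Matrix (IM d) (IM d) F)))
    (Hell : ∀ W : Submodule F (IM d → F),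
      IsEllM d a b m W ↔ (finrank F W = m ∧ NonDeg (pB (QM d F a b)) W ∧ ¬ PlusQ (QM d F a b) W))
    (Hne : ∃ v, QM d F a b v ≠ 0)
    (HS : (Even d ∨ m % 4 = 2) → ∀ g : (IM d → F) →ₗ[F] (IM d → F), g * g = 1 → QIso (QM d F a b) g →
      ∃ W : Submodule F (IM d → F), Inv g W ∧ NonDeg (pB (QM d F a b)) W ∧ finrank F W = m ∧
        ¬ PlusQ (QM d F a b) W)
    (HU : ∀ g : (IM d → F) →ₗ[F] (IM d → F), g * g = 1 → QIso (QM d F a b) g →
      ∀ R0 : Submodule F (IM d → F), (∀ v ∈ R0, QM d F a b v = 0) → (∀ v, (g - 1) v ∈ R0) →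
        R0 ≤ LinearMap.ker (g - 1) → finrank F (LinearMap.ker (g - 1)) ≤ finrank F R0 + 2 →
        ∀ W : Submodule F (IM d → F), Inv g W → NonDeg (pB (QM d F a b)) W → 4 ∣ finrank F W →
          PlusQ (QM d F a b) W)
    (HX : Odd d → ∃ x : GL (IM d) F, x ∈ Cfsg.Geo.omegaGL (Cfsg.quadFormMinus (d - 1) F a b) ∧
      (x : Matrix (IM d) (IM d) F) * (x : Matrix (IM d) (IM d) F) = 1 ∧
      (∀ z : F, (x : Matrix (IM d) (IM d) F) ≠ z • (1 : Matrix (IM d) (IM d) F)) ∧
      ∃ R0 : Submodule F (IM d → F), (∀ v ∈ R0, QM d F a b v = 0) ∧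
        (∀ v, (Matrix.toLin' (x : Matrix (IM d) (IM d) F) - 1) v ∈ R0) ∧
        R0 ≤ LinearMap.ker (Matrix.toLin' (x : Matrix (IM d) (IM d) F) - 1) ∧
        finrank F (LinearMap.ker (Matrix.toLin' (x : Matrix (IM d) (IM d) F) - 1)) ≤
          finrank F R0 + 2) :
    (∀ x : GL (IM d) F, x ∈ Cfsg.Geo.omegaGL (Cfsg.quadFormMinus (d - 1) F a b) →
      (∃ z : F, ((x ^ 2 : GL (IM d) F) : Matrix (IM d) (IM d) F) =
        z • (1 : Matrix (IM d) (IM d) F)) →
      (∀ z : F, (x : Matrix (IM d) (IM d) F) ≠ z • (1 : Matrix (IM d) (IM d) F)) →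
      ∃ W : Submodule F (IM d → F), IsEllM d a b m W ∧
        W.map (Matrix.toLin' (x : Matrix (IM d) (IM d) F)) ≤ W) ↔
    (Even d ∨ m % 4 = 2) := by
  constructor
  · -- the derangement
    intro hall
    by_contra hcon
    push Not at hcon
    obtain ⟨hdo, hm4⟩ := hcon
    have hdodd : Odd d := Nat.not_even_iff_odd.1 hdo
    obtain ⟨x, hxΩ, hxx, hns, R0, hR0, hR, hRK, hK⟩ := HX hdodd
    have hsq : ∃ z : F, ((x ^ 2 : GL (IM d) F) : Matrix (IM d) (IM d) F) =
        z • (1 : Matrix (IM d) (IM d) F) := by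
      refine ⟨1, ?_⟩
      rw [pow_two, Units.val_mul, hxx, one_smul]
    obtain ⟨W, hW, hWx⟩ := hall x hxΩ hsq hns
    obtain ⟨hWm, hWnd, hWnp⟩ := (Hell W).1 hW
    apply hWnp
    have hgg : Matrix.toLin' (x : Matrix (IM d) (IM d) F) *
        Matrix.toLin' (x : Matrix (IM d) (IM d) F) = 1 := by
      rw [Module.End.mul_eq_comp, ← Matrix.toLin'_mul, hxx, Matrix.toLin'_one]
      rfl
    have h4 : 4 ∣ finrank F W := by
      rw [hWm]
      rcases hme with ⟨k, hk⟩
      omega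
    exact HU _ hgg (Hqiso x hxΩ) R0 hR0 hR hRK hK W ((map_le_iff_inv_gen' _ W).1 hWx) hWnd h4
  · intro hcond x hxΩ hsq hns
    obtain ⟨z, hz⟩ := hsq
    have hiso := Hqiso x hxΩ
    -- `z = 1`
    have hgg' : ∀ v, Matrix.toLin' (x : Matrix (IM d) (IM d) F)
        (Matrix.toLin' (x : Matrix (IM d) (IM d) F) v) = z • v := by
      intro v
      rw [← LinearMap.comp_apply, ← Matrix.toLin'_mul, ← Units.val_mul, ← pow_two, hz,
        Matrix.toLin'_apply, Matrix.smul_mulVec, Matrix.one_mulVec]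
    obtain ⟨v0, hv0⟩ := Hne
    have hz1 : z = 1 := by
      apply eq_one_of_mul_self_char2
      have h1 : QM d F a b (z • v0) = QM d F a b v0 := by
        rw [← hgg', hiso, hiso]
      rw [QuadraticMap.map_smul, smul_eq_mul] at h1
      exact mul_right_cancel₀ hv0 (by rw [h1, one_mul])
    have hgg : Matrix.toLin' (x : Matrix (IM d) (IM d) F) *
        Matrix.toLin' (x : Matrix (IM d) (IM d) F) = 1 := by
      apply LinearMap.ext
      intro v
      rw [Module.End.mul_apply, hgg', hz1, one_smul]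
      rfl
    obtain ⟨W, hWi, hWnd, hWm, hWnp⟩ := HS hcond _ hgg hiso
    exact ⟨W, (Hell W).2 ⟨hWm, hWnd, hWnp⟩, (map_le_iff_inv_gen' _ W).2 hWi⟩

end Cfsg.Agent.Lib.Helper53.OEl
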