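import Cfsg.Agent.Lib.Helper53.OElQM2
import Cfsg.Agent.Lib.Helper53.OElS
import Cfsg.Agent.Lib.Helper64.OElBRM
import Cfsg.Agent.Lib.Helper18.OElU
import Cfsg.Agent.Lib.Helper63.OElX

/-!
# Keystone 598826 K-OEl-QM2 (`case_char2_ellM`), exact spec signature

Wrapper of `case_char2_ellM_of` over the leaves BRM (helper64), S (`OElS.lean`), U (helper18), X (helper63).
-/

set_option autoImplicit false
set_option linter.unusedSectionVars false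
set_option linter.unusedVariables false

namespace Cfsg.Agent.Lib.Helper53.OEl

open Module Cfsg.Agent.Lib.Helper98.Elus Cfsg.Agent.Lib.Helper98.Sy Cfsg.Agent.Lib.Helper38.OhP
  Cfsg.Agent.Lib.Helper49.OEl

universe u
variable {F : Type u} [Field F]

/-- **K-OEl-QM2 (598826)**, exact spec signature -/
theorem case_char2_ellM [Fintype F] [CharP F 2] (d m : ℕ) (hd : 4 ≤ d) (hm : 2 ≤ m) (hme : Even m)
    (hmn : m + 2 ≤ 2 * d) (a b : F)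
    (hab : ∀ x y : F, x ^ 2 + a * x * y + b * y ^ 2 = 0 → x = 0 ∧ y = 0) :
    (∀ x : GL ((Fin (d - 1) ⊕ Fin (d - 1)) ⊕ Fin 2) F, x ∈ Cfsg.Geo.omegaGL (Cfsg.quadFormMinus (d - 1) F a b) →
      (∃ z : F, ((x ^ 2 : GL ((Fin (d - 1) ⊕ Fin (d - 1)) ⊕ Fin 2) F) : Matrix ((Fin (d - 1) ⊕ Fin (d - 1)) ⊕ Fin 2) ((Fin (d - 1) ⊕ Fin (d - 1)) ⊕ Fin 2) F) =
        z • (1 : Matrix ((Fin (d - 1) ⊕ Fin (d - 1)) ⊕ Fin 2) ((Fin (d - 1) ⊕ Fin (d - 1)) ⊕ Fin 2) F)) →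
      (∀ z : F, (x : Matrix ((Fin (d - 1) ⊕ Fin (d - 1)) ⊕ Fin 2) ((Fin (d - 1) ⊕ Fin (d - 1)) ⊕ Fin 2) F) ≠
        z • (1 : Matrix ((Fin (d - 1) ⊕ Fin (d - 1)) ⊕ Fin 2) ((Fin (d - 1) ⊕ Fin (d - 1)) ⊕ Fin 2) F)) →
      ∃ W : Submodule F ((Fin (d - 1) ⊕ Fin (d - 1)) ⊕ Fin 2 → F), IsEllM d a b m W ∧
        W.map (Matrix.toLin' (x : Matrix ((Fin (d - 1) ⊕ Fin (d - 1)) ⊕ Fin 2) ((Fin (d - 1) ⊕ Fin (d - 1)) ⊕ Fin 2) F)) ≤ W) ↔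
    (Even d ∨ m % 4 = 2) :=
  case_char2_ellM_of d m hd hm hme hmn a b hab
    (fun x hx => Cfsg.Agent.Lib.Helper64.OEl.qiso_of_mem_omegaGL_minus d a b x hx)
    (fun W => Cfsg.Agent.Lib.Helper64.OEl.isEllM_iff d a b m W)
    (Cfsg.Agent.Lib.Helper64.OEl.exists_QM_ne_zero d a b)
    (fun hcond g hg hiso => exists_fixed_ell_char2 (QM d F a b)
      (Cfsg.Agent.Lib.Helper64.OEl.nonDeg_QM d a b hab)
      (Cfsg.Agent.Lib.Helper64.OEl.not_plusQ_QM d (by omega) a b hab) d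
      (Cfsg.Agent.Lib.Helper64.OEl.finrank_QM d (by omega)) g hg hiso m hme hm hmn hcond)
    (fun g hg hiso R0 hR0 hR hRK hK W hW hWnd h4 =>
      Cfsg.Agent.Lib.Helper18.OEl.plusQ_of_a_invol (QM d F a b) g hg hiso R0 hR0 hR hRK hK W hW hWnd h4)
    (fun hdo => Cfsg.Agent.Lib.Helper63.OEl.exists_a_invol_minus d hdo hd a b hab)

end Cfsg.Agent.Lib.Helper53.OEl
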