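import Cfsg.Agent.Lib.Helper69.OPbDefs
import Cfsg.Agent.Lib.Helper98.Os1

/-!
# K-OPb-1 (keystone 598901, architect helper69; PARALLEL HAND by helper53)

A nondegenerate subspace `U` of a symmetric space over a finite field of odd characteristic contains an
isometric copy of every nondegenerate symmetric space of smaller dimension.
-/

set_option autoImplicit false

namespace Cfsg.Agent.Lib.Helper53.OPb

open Module Polynomial Cfsg.Agent.Lib.Helper98.Elus Cfsg.Agent.Lib.Helper98.Sy Cfsg.Agent.Lib.Helper69.OPb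

universe u
variable {F : Type u} [Field F] {V : Type u} [AddCommGroup V] [Module F V]

theorem card_mod_two_of_two_ne_zero [Fintype F] (h2 : (2 : F) ≠ 0) : Fintype.card F % 2 = 1 := by
  rcases Nat.mod_two_eq_zero_or_one (Fintype.card F) with h | h
  · exfalso
    have hc : ringChar F = 2 := (FiniteField.even_card_iff_char_two).2 h
    apply h2
    haveI : CharP F 2 := by
      rw [← hc]
      exact ringChar.charP F
    exact CharTwo.two_eq_zero
  · exact h

theorem isRefl_of_symm' {B : LinearMap.BilinForm F V} (hS : ∀ a b, B a b = B b a) : B.IsRefl := by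
  intro x y h
  rw [hS]
  exact h

/-- a nonzero nondegenerate symmetric space (`2 ≠ 0`) has an anisotropic vector -/
theorem exists_self_ne_zero (h2 : (2 : F) ≠ 0) (B : LinearMap.BilinForm F V)
    (hS : ∀ a b, B a b = B b a) (U : Submodule F V) (hU : NonDeg B U) (hne : U ≠ ⊥) :
    ∃ u ∈ U, B u u ≠ 0 := by
  by_contra hcon
  push Not at hcon
  obtain ⟨u, hu, hu0⟩ := Submodule.exists_mem_ne_zero_of_ne_bot hne
  apply hu0
  apply hU u hu
  intro v hv
  have h1 := hcon (u + v) (U.add_mem hu hv)
  have h3 := hcon u hu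
  have h4 := hcon v hv
  simp only [map_add, LinearMap.add_apply] at h1
  rw [h3, h4, hS v u] at h1
  have h5 : (2 : F) * B u v = 0 := by linear_combination h1
  exact (mul_eq_zero.1 h5).resolve_left h2

theorem nonDeg_span_singleton (B : LinearMap.BilinForm F V) (u : V) (hu : B u u ≠ 0) :
    NonDeg B (Submodule.span F {u}) := by
  intro x hx hx'
  obtain ⟨c, rfl⟩ := Submodule.mem_span_singleton.1 hx
  have h := hx' u (Submodule.mem_span_singleton_self u)
  rw [map_smul, LinearMap.smul_apply, smul_eq_mul] at h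
  rcases mul_eq_zero.1 h with h | h
  · rw [h, zero_smul]
  · exact absurd h hu

/-- splitting off an anisotropic vector -/
theorem split_props [FiniteDimensional F V] {B : LinearMap.BilinForm F V} (hS : ∀ a b, B a b = B b a)
    (U : Submodule F V) (hU : NonDeg B U) (u : V) (huU : u ∈ U) (hu : B u u ≠ 0) :
    NonDeg B (B.orthogonal (Submodule.span F {u}) ⊓ U) ∧
      finrank F ↥(B.orthogonal (Submodule.span F {u}) ⊓ U) + 1 = finrank F U ∧
      (∀ x ∈ B.orthogonal (Submodule.span F {u}) ⊓ U, B u x = 0) ∧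
      B.orthogonal (Submodule.span F {u}) ⊓ U ≤ U := by
  have hR := isRefl_of_symm' hS
  have hle : Submodule.span F {u} ≤ U := by
    rw [Submodule.span_singleton_le_iff_mem]
    exact huU
  obtain ⟨-, -, h3, h4⟩ := Cfsg.Agent.Lib.Helper98.Os.compl_props hR (Submodule.span F {u}) U
    (nonDeg_span_singleton B u hu) hle hU
  have hu0 : u ≠ 0 := by
    intro h
    apply hu
    rw [h]
    simp
  rw [finrank_span_singleton hu0] at h4
  refine ⟨h3, by omega, ?_, inf_le_right⟩
  intro x hx
  exact LinearMap.BilinForm.mem_orthogonal_iff.1 hx.1 u (Submodule.mem_span_singleton_self u)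

/-- a nondegenerate symmetric space of dimension at least two over a finite field of odd characteristic
represents every nonzero scalar -/
theorem exists_self_eq [Fintype F] (h2 : (2 : F) ≠ 0) [FiniteDimensional F V]
    (B : LinearMap.BilinForm F V) (hS : ∀ a b, B a b = B b a) (U : Submodule F V) (hU : NonDeg B U)
    (hdim : 2 ≤ finrank F U) (α : F) : ∃ u ∈ U, B u u = α := by
  have hne : U ≠ ⊥ := by
    intro h
    rw [h, finrank_bot] at hdim
    omega
  obtain ⟨w1, hw1U, hw1⟩ := exists_self_ne_zero h2 B hS U hU hne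
  obtain ⟨hnd1, hfr1, horth1, hle1⟩ := split_props hS U hU w1 hw1U hw1
  have hne1 : B.orthogonal (Submodule.span F {w1}) ⊓ U ≠ ⊥ := by
    intro h
    rw [h, finrank_bot] at hfr1
    omega
  obtain ⟨w2, hw2U1, hw2⟩ := exists_self_ne_zero h2 B hS _ hnd1 hne1
  have h12 : B w1 w2 = 0 := horth1 w2 hw2U1
  have h21 : B w2 w1 = 0 := by rw [hS]; exact h12
  have hf : degree (C (B w1 w1) * X ^ 2 : F[X]) = 2 := by
    rw [degree_C_mul_X_pow 2 hw1]
    rfl
  have hg : degree (C (B w2 w2) * X ^ 2 - C α : F[X]) = 2 := by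
    rw [degree_sub_C]
    · rw [degree_C_mul_X_pow 2 hw2]
      rfl
    · rw [degree_C_mul_X_pow 2 hw2]
      decide
  obtain ⟨a, b, hab⟩ := FiniteField.exists_root_sum_quadratic hf hg (card_mod_two_of_two_ne_zero h2)
  simp only [eval_mul, eval_C, eval_pow, eval_X, eval_sub] at hab
  refine ⟨a • w1 + b • w2, U.add_mem (U.smul_mem a hw1U) (U.smul_mem b (hle1 hw2U1)), ?_⟩
  simp only [map_add, map_smul, LinearMap.add_apply, LinearMap.smul_apply, smul_eq_mul, h12, h21]
  linear_combination hab

/-- the induction: a form preserving linear map into `U` -/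
theorem exists_hom_aux [Fintype F] (h2 : (2 : F) ≠ 0) [FiniteDimensional F V]
    (B : LinearMap.BilinForm F V) (hS : ∀ a b, B a b = B b a) :
    ∀ (n : ℕ) (V' : Type u) [AddCommGroup V'] [Module F V'] [FiniteDimensional F V']
      (B' : LinearMap.BilinForm F V'), (∀ a b, B' a b = B' b a) → NonDeg B' ⊤ → finrank F V' = n →
      ∀ U : Submodule F V, NonDeg B U → n < finrank F U →
      ∃ φ : V' →ₗ[F] V, (∀ x, φ x ∈ U) ∧ ∀ x y, B (φ x) (φ y) = B' x y := by
  intro n
  induction n with
  | zero =>
    intro V' _ _ _ B' hS' hV' hn U hU hlt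
    refine ⟨0, fun x => by simp, fun x y => ?_⟩
    have hx : x = 0 := by
      haveI : Subsingleton V' := Module.finrank_zero_iff.1 hn
      exact Subsingleton.elim _ _
    rw [hx]
    simp
  | succ n ih =>
    intro V' _ _ _ B' hS' hV' hn U hU hlt
    have htop : (⊤ : Submodule F V') ≠ ⊥ := by
      intro h
      have h0 : finrank F (⊤ : Submodule F V') = 0 := by rw [h, finrank_bot]
      rw [finrank_top] at h0
      omega
    obtain ⟨v', -, hv'⟩ := exists_self_ne_zero h2 B' hS' ⊤ hV' htop
    obtain ⟨hnd'', hfr'', horth'', -⟩ := split_props hS' ⊤ hV' v' Submodule.mem_top hv'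
    rw [finrank_top, hn] at hfr''
    -- the vector `u` in `U`
    obtain ⟨u, huU, hu⟩ := exists_self_eq h2 B hS U hU (by omega) (B' v' v')
    have hu0 : B u u ≠ 0 := by rw [hu]; exact hv'
    obtain ⟨hnd1, hfr1, horth1, hle1⟩ := split_props hS U hU u huU hu0
    -- the induction hypothesis on the complements
    set V'' : Submodule F V' := B'.orthogonal (Submodule.span F {v'}) ⊓ ⊤ with hV''
    set B'' : LinearMap.BilinForm F ↥V'' := B'.compl₁₂ V''.subtype V''.subtype with hB''
    have hB''a : ∀ x y : ↥V'', B'' x y = B' (x : V') (y : V') := by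
      intro x y
      simp [hB'', LinearMap.compl₁₂_apply]
    have hS'' : ∀ a b, B'' a b = B'' b a := by
      intro a b
      rw [hB''a, hB''a, hS']
    have hnd3 : NonDeg B'' ⊤ := by
      intro x _ hx
      apply Subtype.ext
      apply hnd'' x.1 x.2
      intro v hv
      have := hx ⟨v, hv⟩ Submodule.mem_top
      rw [hB''a] at this
      exact this
    obtain ⟨φ1, hφ1U, hφ1⟩ := ih ↥V'' B'' hS'' hnd3 (by omega)
      (B.orthogonal (Submodule.span F {u}) ⊓ U) hnd1 (by omega)
    -- the projections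
    set α := B' v' v' with hα
    set π : V' →ₗ[F] F := (α⁻¹ : F) • (B'.flip v') with hπ
    have hπa : ∀ x, π x = α⁻¹ * B' x v' := by
      intro x
      simp [hπ, LinearMap.flip_apply]
    have hmem : ∀ x : V', x - π x • v' ∈ V'' := by
      intro x
      refine ⟨LinearMap.BilinForm.mem_orthogonal_iff.2 ?_, Submodule.mem_top⟩
      intro w hw
      obtain ⟨c, rfl⟩ := Submodule.mem_span_singleton.1 hw
      show B' (c • v') (x - π x • v') = 0
      rw [map_smul, LinearMap.smul_apply, map_sub, map_smul, smul_eq_mul, smul_eq_mul, hπa, hS' v' x,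
        ← hα]
      field_simp
      ring
    set ρ : V' →ₗ[F] ↥V'' :=
      LinearMap.codRestrict V'' (LinearMap.id - π.smulRight v') (fun x => by
        simpa [LinearMap.smulRight_apply] using hmem x) with hρ
    have hρa : ∀ x, ((ρ x : ↥V'') : V') = x - π x • v' := by
      intro x
      simp [hρ, LinearMap.smulRight_apply]
    refine ⟨π.smulRight u + φ1.comp ρ, ?_, ?_⟩
    · intro x
      rw [LinearMap.add_apply, LinearMap.smulRight_apply, LinearMap.comp_apply]
      exact U.add_mem (U.smul_mem _ huU) (hle1 (hφ1U _))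
    · intro x y
      simp only [LinearMap.add_apply, LinearMap.smulRight_apply, LinearMap.comp_apply, map_add,
        map_smul, LinearMap.smul_apply, smul_eq_mul]
      have e1 : B u (φ1 (ρ y)) = 0 := horth1 _ (hφ1U _)
      have e2 : B (φ1 (ρ x)) u = 0 := by rw [hS]; exact horth1 _ (hφ1U _)
      rw [e1, e2, hφ1, hB''a, hρa, hρa, hu]
      simp only [map_sub, map_smul, LinearMap.sub_apply, LinearMap.smul_apply, smul_eq_mul, hπa,
        hS' v' y, ← hα]
      field_simp
      ring

/-- LEAF 1 (general target) -/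
theorem exists_sub_isoOnto [Fintype F] (h2 : (2 : F) ≠ 0) [FiniteDimensional F V]
    (B : LinearMap.BilinForm F V) (hS : ∀ a b, B a b = B b a)
    (U : Submodule F V) (hU : NonDeg B U)
    {V' : Type u} [AddCommGroup V'] [Module F V'] [FiniteDimensional F V']
    (B' : LinearMap.BilinForm F V') (hS' : ∀ a b, B' a b = B' b a) (hV' : NonDeg B' ⊤)
    (hlt : finrank F V' < finrank F U) :
    ∃ W : Submodule F V, W ≤ U ∧ NonDeg B W ∧
      ∃ e : W ≃ₗ[F] V', ∀ u v : W, B' (e u) (e v) = B (u : V) (v : V) := by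
  obtain ⟨φ, hφU, hφ⟩ := exists_hom_aux h2 B hS (finrank F V') V' B' hS' hV' rfl U hU hlt
  have hinj : Function.Injective φ := by
    rw [← LinearMap.ker_eq_bot, LinearMap.ker_eq_bot']
    intro x hx
    apply hV' x Submodule.mem_top
    intro y _
    rw [← hφ, hx]
    simp
  refine ⟨LinearMap.range φ, ?_, ?_, (LinearEquiv.ofInjective φ hinj).symm, ?_⟩
  · rintro w ⟨x, rfl⟩
    exact hφU x
  · rintro w ⟨x, rfl⟩ hw
    have hx : x = 0 := by
      apply hV' x Submodule.mem_top
      intro y _
      rw [← hφ]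
      exact hw (φ y) ⟨y, rfl⟩
    rw [hx, map_zero]
  · intro a b
    have ha : φ ((LinearEquiv.ofInjective φ hinj).symm a) = (a : V) := by
      rw [← LinearEquiv.ofInjective_apply φ (h := hinj), LinearEquiv.apply_symm_apply]
    have hb : φ ((LinearEquiv.ofInjective φ hinj).symm b) = (b : V) := by
      rw [← LinearEquiv.ofInjective_apply φ (h := hinj), LinearEquiv.apply_symm_apply]
    rw [← hφ, ha, hb]

/-- LEAF 1 (target a subspace of the same space) -/
theorem exists_sub_isoCls [Fintype F] (h2 : (2 : F) ≠ 0) [FiniteDimensional F V]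
    (B : LinearMap.BilinForm F V) (hS : ∀ a b, B a b = B b a)
    (U : Submodule F V) (hU : NonDeg B U) (W₀ : Submodule F V) (hW₀ : NonDeg B W₀)
    (hlt : finrank F W₀ < finrank F U) :
    ∃ W : Submodule F V, W ≤ U ∧ NonDeg B W ∧ IsoCls B W W₀ := by
  have hBa : ∀ x y : ↥W₀, (B.compl₁₂ W₀.subtype W₀.subtype) x y = B (x : V) (y : V) := by
    intro x y
    simp [LinearMap.compl₁₂_apply]
  have hS' : ∀ a b : ↥W₀, (B.compl₁₂ W₀.subtype W₀.subtype) a b =
      (B.compl₁₂ W₀.subtype W₀.subtype) b a := by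
    intro a b
    rw [hBa, hBa, hS]
  have hnd : NonDeg (B.compl₁₂ W₀.subtype W₀.subtype) ⊤ := by
    intro x _ hx
    apply Subtype.ext
    apply hW₀ x.1 x.2
    intro v hv
    have := hx ⟨v, hv⟩ Submodule.mem_top
    rw [hBa] at this
    exact this
  obtain ⟨W, hWU, hWnd, e, he⟩ := exists_sub_isoOnto h2 B hS U hU
    (B.compl₁₂ W₀.subtype W₀.subtype) hS' hnd hlt
  refine ⟨W, hWU, hWnd, e, fun w => ?_⟩
  rw [← hBa, he]

end Cfsg.Agent.Lib.Helper53.OPb
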