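import Mathlib

/-!
# K-PG2-T0 (keystone 345209, pack S3452, architect helper59)

A non-zero trace `t0` in `ZMod p`, `p ≥ 5`, with `t0 ^ 2 - 4` a non-square.  Rational parametrisation of the
conic `t ^ 2 - n c ^ 2 = 4` (`n` a fixed non-square) from the point `(2, 0)`:
`t = 2 (m ^ 2 + n) / (m ^ 2 - n)`, `c = 4 m / (m ^ 2 - n)`; `m = 1` or `m = 2` gives `t ≠ 0`, `c ≠ 0`.
-/

set_option autoImplicit false

namespace Cfsg.Agent.Lib.Helper53.PG2

theorem exists_t0 (p : ℕ) [Fact p.Prime] (hp : 5 ≤ p) :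
    ∃ t0 : ZMod p, t0 ≠ 0 ∧ ¬ IsSquare (t0 ^ 2 - 4) := by
  have hp2 : ringChar (ZMod p) ≠ 2 := by rw [ZMod.ringChar_zmod_n]; omega
  obtain ⟨n, hn⟩ := FiniteField.exists_nonsquare hp2
  have hnat : ∀ k : ℕ, 0 < k → k < 5 → ((k : ℕ) : ZMod p) ≠ 0 := by
    intro k hk0 hk5
    rw [Ne, ZMod.natCast_eq_zero_iff]
    intro h
    have := Nat.le_of_dvd hk0 h
    omega
  have h2 : (2 : ZMod p) ≠ 0 := by simpa using hnat 2 (by norm_num) (by norm_num)
  have h3 : (3 : ZMod p) ≠ 0 := by simpa using hnat 3 (by norm_num) (by norm_num)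
  have h4 : (4 : ZMod p) ≠ 0 := by simpa using hnat 4 (by norm_num) (by norm_num)
  have key : ∀ m : ZMod p, m ≠ 0 → m ^ 2 + n ≠ 0 →
      ∃ t0 : ZMod p, t0 ≠ 0 ∧ ¬ IsSquare (t0 ^ 2 - 4) := by
    intro m hm hmn
    have hd : m ^ 2 - n ≠ 0 := by
      intro h
      apply hn
      exact ⟨m, by linear_combination -h⟩
    have h4m : (4 : ZMod p) * m ≠ 0 := mul_ne_zero h4 hm
    refine ⟨2 * (m ^ 2 + n) / (m ^ 2 - n), div_ne_zero (mul_ne_zero h2 hmn) hd, ?_⟩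
    rintro ⟨s, hs⟩
    apply hn
    have e1 : (2 * (m ^ 2 + n)) ^ 2 - 4 * (m ^ 2 - n) ^ 2 = s * s * (m ^ 2 - n) ^ 2 := by
      rw [← hs]
      field_simp
    refine ⟨s * (m ^ 2 - n) / (4 * m), ?_⟩
    field_simp
    linear_combination e1
  by_cases h1 : (1 : ZMod p) ^ 2 + n = 0
  · have hn1 : n = -1 := by linear_combination h1
    refine key 2 h2 ?_
    rw [hn1]
    intro h
    apply h3
    linear_combination h
  · exact key 1 one_ne_zero h1

end Cfsg.Agent.Lib.Helper53.PG2
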