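import Mathlib

/-!
# K-PG2-UNIP (keystone 345211, pack S3452, architect helper59)

`K ∈ SL₂(p)` with `K ^ p = ± 1`, `K ≠ ± 1`, `t0 ≠ 0` with `t0 ^ 2 - 4` a non-square: the number of `i < p` with
`tr (K ^ i g) ^ 2 = t0 ^ 2` is even (it is `0` or `2`).
-/

set_option autoImplicit false

namespace Cfsg.Agent.Lib.Helper53.PG2

open Matrix

/-- Cayley--Hamilton for `2 × 2` matrices -/
theorem unip_ch_fin_two {F : Type*} [CommRing F] (M : Matrix (Fin 2) (Fin 2) F) :
    M * M = M.trace • M - M.det • (1 : Matrix (Fin 2) (Fin 2) F) := by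
  ext i j
  fin_cases i <;> fin_cases j <;>
    simp [Matrix.mul_apply, Fin.sum_univ_two, Matrix.trace_fin_two, Matrix.det_fin_two] <;> ring

/-- `M = ε (1 + N)`, `N² = 0`: the powers of `M` -/
theorem unip_pow_formula {F : Type*} [Field F] (M N : Matrix (Fin 2) (Fin 2) F) (ε : F)
    (hM : M = ε • (1 + N)) (hNN : N * N = 0) (i : ℕ) :
    M ^ i = ε ^ i • (1 + (i : F) • N) := by
  induction i with
  | zero => simp
  | succ i ih =>
    rw [pow_succ, ih, hM, smul_mul_smul_comm, ← pow_succ]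
    congr 1
    rw [mul_add, mul_one, add_mul, one_mul, smul_mul_assoc, hNN, smul_zero, add_zero]
    push_cast
    rw [add_smul, one_smul, add_assoc]

theorem unip_trace_formula {F : Type*} [Field F] (M N G : Matrix (Fin 2) (Fin 2) F) (ε : F)
    (hε : ε ^ 2 = 1) (hM : M = ε • (1 + N)) (hNN : N * N = 0) (i : ℕ) :
    ((M ^ i * G).trace) ^ 2 = (G.trace + (i : F) * (N * G).trace) ^ 2 := by
  rw [unip_pow_formula M N ε hM hNN i, Matrix.smul_mul, Matrix.trace_smul, Matrix.add_mul, Matrix.one_mul,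
    Matrix.trace_add, Matrix.smul_mul, Matrix.trace_smul, smul_eq_mul, smul_eq_mul, mul_pow, ← pow_mul,
    mul_comm i 2, pow_mul, hε, one_pow, one_mul]

/-- if `tr (N G) = 0` for a non-zero nilpotent `N` and `det G = 1` then `(tr G)² - 4` is a square -/
theorem unip_disc_isSquare {F : Type*} [Field F] (N G : Matrix (Fin 2) (Fin 2) F)
    (hN0 : N ≠ 0) (hNtr : N.trace = 0) (hNN : N * N = 0) (hG : G.det = 1) (hc : (N * G).trace = 0) :
    IsSquare (G.trace ^ 2 - 4) := by
  have h1 : N 0 0 * N 0 0 + N 0 1 * N 1 0 = 0 := by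
    have := congrFun (congrFun hNN 0) 0
    simpa [Matrix.mul_apply, Fin.sum_univ_two] using this
  have hw : N 1 1 = - N 0 0 := by
    rw [Matrix.trace_fin_two] at hNtr; linear_combination hNtr
  have h2 : N 0 0 * G 0 0 + N 0 1 * G 1 0 + N 1 0 * G 0 1 - N 0 0 * G 1 1 = 0 := by
    rw [Matrix.trace_fin_two] at hc
    simp only [Matrix.mul_apply, Fin.sum_univ_two, hw] at hc
    linear_combination hc
  have h3 : G 0 0 * G 1 1 - G 0 1 * G 1 0 = 1 := by rw [← hG, Matrix.det_fin_two]
  have hyz : N 0 1 ≠ 0 ∨ N 1 0 ≠ 0 := by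
    by_contra h
    push Not at h
    obtain ⟨hy, hz⟩ := h
    apply hN0
    have hx : N 0 0 = 0 := by
      rw [hy, zero_mul, add_zero] at h1
      exact mul_self_eq_zero.mp h1
    ext i j
    fin_cases i <;> fin_cases j <;> simp [hx, hy, hz, hw]
  rw [Matrix.trace_fin_two]
  rcases hyz with hy | hz
  · refine ⟨(N 0 1 * (G 0 0 - G 1 1) - 2 * N 0 0 * G 0 1) / N 0 1, ?_⟩
    field_simp
    linear_combination (4 * (N 0 1) ^ 2) * h3 + (4 * N 0 1 * G 0 1) * h2 - (4 * (G 0 1) ^ 2) * h1
  · refine ⟨(N 1 0 * (G 0 0 - G 1 1) - 2 * N 0 0 * G 1 0) / N 1 0, ?_⟩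
    field_simp
    linear_combination (4 * (N 1 0) ^ 2) * h3 + (4 * N 1 0 * G 1 0) * h2 - (4 * (G 1 0) ^ 2) * h1

theorem unip_even (p : ℕ) [Fact p.Prime] (hp : p ≠ 2) (t0 : ZMod p) (ht0 : t0 ≠ 0)
    (hns : ¬ IsSquare (t0 ^ 2 - 4)) (K g : Matrix.SpecialLinearGroup (Fin 2) (ZMod p))
    (hK : (K ^ p).1 = 1 ∨ (K ^ p).1 = -1) (hne : K.1 ≠ 1) (hne' : K.1 ≠ -1) :
    Even (Finset.card ((Finset.range p).filter (fun i => ((K ^ i * g).1.trace) ^ 2 = t0 ^ 2))) := by
  have hpp : p.Prime := Fact.out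
  have h2 : (2 : ZMod p) ≠ 0 := by
    have : ((2 : ℕ) : ZMod p) ≠ 0 := by
      rw [Ne, ZMod.natCast_eq_zero_iff]
      intro h
      exact hp ((Nat.prime_dvd_prime_iff_eq hpp Nat.prime_two).mp h)
    simpa using this
  set M : Matrix (Fin 2) (Fin 2) (ZMod p) := K.1 with hMdef
  set G : Matrix (Fin 2) (Fin 2) (ZMod p) := g.1 with hGdef
  have hMdet : M.det = 1 := K.2
  have hGdet : G.det = 1 := g.2
  obtain ⟨ε, hε1, hMp⟩ : ∃ ε : ZMod p, (ε = 1 ∨ ε = -1) ∧
      M ^ p = ε • (1 : Matrix (Fin 2) (Fin 2) (ZMod p)) := by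
    rcases hK with h | h
    · exact ⟨1, Or.inl rfl, by rw [one_smul, ← h, Matrix.SpecialLinearGroup.coe_pow]⟩
    · exact ⟨-1, Or.inr rfl, by rw [neg_smul, one_smul, ← h, Matrix.SpecialLinearGroup.coe_pow]⟩
  have hε : ε ^ 2 = 1 := by rcases hε1 with rfl | rfl <;> ring
  have hεε : ε * ε = 1 := by rw [← pow_two]; exact hε
  have htr : M.trace = 2 * ε := by
    have h := ZMod.trace_pow_card M
    rw [hMp, ZMod.pow_card, Matrix.trace_smul, Matrix.trace_one] at h
    rw [← h]
    simp [mul_comm]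
  set N : Matrix (Fin 2) (Fin 2) (ZMod p) := ε • M - 1 with hNdef
  have hM : M = ε • (1 + N) := by
    rw [hNdef, add_sub_cancel, smul_smul, hεε, one_smul]
  have hNtr : N.trace = 0 := by
    rw [hNdef, Matrix.trace_sub, Matrix.trace_smul, htr, Matrix.trace_one]
    simp only [Fintype.card_fin, smul_eq_mul]
    push_cast
    linear_combination 2 * hεε
  have hNN : N * N = 0 := by
    rw [hNdef, sub_mul, mul_sub, mul_sub, mul_one, one_mul, one_mul, smul_mul_smul_comm, unip_ch_fin_two, htr,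
      hMdet, hεε]
    module
  have hN0 : N ≠ 0 := by
    intro h
    have hM1 : M = ε • (1 : Matrix (Fin 2) (Fin 2) (ZMod p)) := by rw [hM, h, add_zero]
    rcases hε1 with rfl | rfl
    · exact hne (by rw [hM1, one_smul])
    · exact hne' (by rw [hM1, neg_smul, one_smul])
  set a := G.trace with ha
  set c := (N * G).trace with hc
  have hform : ∀ i : ℕ, ((K ^ i * g).1.trace) ^ 2 = (a + (i : ZMod p) * c) ^ 2 := by
    intro i
    rw [Matrix.SpecialLinearGroup.coe_mul, Matrix.SpecialLinearGroup.coe_pow]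
    exact unip_trace_formula M N G ε hε hM hNN i
  rw [Finset.filter_congr (fun i _ => by rw [hform i])]
  by_cases hc0 : c = 0
  · have hat : a ^ 2 ≠ t0 ^ 2 := by
      intro h
      apply hns
      rw [← h]
      exact unip_disc_isSquare N G hN0 hNtr hNN hGdet hc0
    rw [Finset.filter_false_of_mem]
    · simp
    · intro i _
      rw [hc0, mul_zero, add_zero]
      exact hat
  · set v1 : ZMod p := (t0 - a) / c with hv1
    set v2 : ZMod p := (-t0 - a) / c with hv2
    have hv : v1 ≠ v2 := by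
      intro h
      have h' := (div_left_inj' hc0).mp h
      apply ht0
      have h2t : 2 * t0 = 0 := by linear_combination h'
      exact (mul_eq_zero.mp h2t).resolve_left h2
    have hset : (Finset.range p).filter (fun i : ℕ => (a + (i : ZMod p) * c) ^ 2 = t0 ^ 2) =
        {v1.val, v2.val} := by
      ext i
      simp only [Finset.mem_filter, Finset.mem_range, Finset.mem_insert, Finset.mem_singleton]
      constructor
      · rintro ⟨hi, h⟩
        rcases sq_eq_sq_iff_eq_or_eq_neg.mp h with h | h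
        · left
          have hiv : (i : ZMod p) = v1 := by
            rw [hv1, eq_div_iff hc0]; linear_combination h
          rw [← hiv, ZMod.val_natCast_of_lt hi]
        · right
          have hiv : (i : ZMod p) = v2 := by
            rw [hv2, eq_div_iff hc0]; linear_combination h
          rw [← hiv, ZMod.val_natCast_of_lt hi]
      · rintro (rfl | rfl)
        · refine ⟨ZMod.val_lt _, ?_⟩
          rw [ZMod.natCast_zmod_val]
          have h1 : a + v1 * c = t0 := by
            rw [hv1, div_mul_cancel₀ _ hc0]; ring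
          rw [h1]
        · refine ⟨ZMod.val_lt _, ?_⟩
          rw [ZMod.natCast_zmod_val]
          have h1 : a + v2 * c = -t0 := by
            rw [hv2, div_mul_cancel₀ _ hc0]; ring
          rw [h1, neg_sq]
    rw [hset, Finset.card_pair (fun h => hv (ZMod.val_injective p h))]
    exact even_two

end Cfsg.Agent.Lib.Helper53.PG2
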