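import Cfsg.Prelude.Def_LocalEven

set_option autoImplicit false

namespace Cfsg.Agent.Lib.Helper53

open Cfsg

section pcore

variable {Q : Type*} [Group Q] {p : ℕ}

theorem pCore_eq_bot_iff :
    pCore p Q = ⊥ ↔ ∀ N : Subgroup Q, N.Normal → IsPGroup p N → N = ⊥ := by
  unfold pCore
  rw [sSup_eq_bot]
  constructor
  · intro h N hN hp
    exact h N ⟨hN, hp⟩
  · intro h N hN
    exact h N hN.1 hN.2

theorem le_pCore {N : Subgroup Q} (hN : N.Normal) (hp : IsPGroup p N) : N ≤ pCore p Q :=
  le_sSup ⟨hN, hp⟩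

end pcore

section quot

variable {L : Type*} [Group L] {p : ℕ}

/-- Criterion for `O_p(L/C) = 1` without quotient groups. -/
theorem pCore_quot_eq_bot_iff (C : Subgroup L) [C.Normal] :
    pCore p (L ⧸ C) = ⊥ ↔
      ∀ D : Subgroup L, D.Normal → (∀ d ∈ D, ∃ k : ℕ, d ^ (p ^ k) ∈ C) → D ≤ C := by
  rw [pCore_eq_bot_iff]
  constructor
  · intro h D hD hpow
    have hn : (D.map (QuotientGroup.mk' C)).Normal :=
      Subgroup.Normal.map hD _ (QuotientGroup.mk'_surjective C)
    have hp : IsPGroup p (D.map (QuotientGroup.mk' C)) := by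
      rintro ⟨x, hx⟩
      obtain ⟨d, hd, rfl⟩ := hx
      obtain ⟨k, hk⟩ := hpow d hd
      refine ⟨k, ?_⟩
      apply Subtype.ext
      rw [Subgroup.coe_pow, Subgroup.coe_one]
      show (QuotientGroup.mk' C d) ^ (p ^ k) = 1
      rw [← map_pow]
      exact (QuotientGroup.eq_one_iff _).mpr hk
    have := h _ hn hp
    intro d hd
    have hd' : QuotientGroup.mk' C d ∈ D.map (QuotientGroup.mk' C) := ⟨d, hd, rfl⟩
    rw [this, Subgroup.mem_bot] at hd'
    exact (QuotientGroup.eq_one_iff _).mp hd'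
  · intro h N hN hp
    have hD : (N.comap (QuotientGroup.mk' C)).Normal := hN.comap _
    have := h _ hD (by
      intro d hd
      obtain ⟨k, hk⟩ := hp ⟨QuotientGroup.mk' C d, hd⟩
      refine ⟨k, ?_⟩
      have : (QuotientGroup.mk' C d) ^ (p ^ k) = 1 := by
        simpa using congrArg Subtype.val hk
      rw [← map_pow] at this
      exact (QuotientGroup.eq_one_iff _).mp this)
    rw [eq_bot_iff]
    intro x hx
    obtain ⟨d, rfl⟩ := QuotientGroup.mk'_surjective C x
    rw [Subgroup.mem_bot]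
    exact (QuotientGroup.eq_one_iff _).mpr (this hx)

/-- Quotient-free form of `IsPReducedNormal`. -/
theorem isPReducedNormal_iff (V : Subgroup L) :
    IsPReducedNormal p V ↔ V.Normal ∧ IsElementaryAbelian p V ∧
      ∀ D : Subgroup L, D.Normal →
        (∀ d ∈ D, ∃ k : ℕ, d ^ (p ^ k) ∈ Subgroup.centralizer (V : Set L)) →
        D ≤ Subgroup.centralizer (V : Set L) := by
  unfold IsPReducedNormal
  constructor
  · rintro ⟨hV, hE, hC, h⟩
    exact ⟨hV, hE, (pCore_quot_eq_bot_iff _).mp h⟩
  · rintro ⟨hV, hE, h⟩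
    have := hV
    exact ⟨hV, hE, inferInstance, (pCore_quot_eq_bot_iff _).mpr h⟩

theorem isPReducedNormal_bot : IsPReducedNormal p (⊥ : Subgroup L) := by
  rw [isPReducedNormal_iff]
  refine ⟨inferInstance, ⟨?_, ?_⟩, ?_⟩
  · infer_instance
  · intro a ha
    rw [Subgroup.mem_bot] at ha
    simp [ha]
  · intro D _ _ d _
    rw [Subgroup.mem_centralizer_iff]
    intro h hh
    have : h = 1 := by simpa using hh
    subst this
    simp

theorem centralizer_sup (V W : Subgroup L) :
    Subgroup.centralizer ((V ⊔ W : Subgroup L) : Set L) =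
      Subgroup.centralizer (V : Set L) ⊓ Subgroup.centralizer (W : Set L) := by
  apply le_antisymm
  · exact le_inf (Subgroup.centralizer_le (by exact_mod_cast (le_sup_left : V ≤ V ⊔ W)))
      (Subgroup.centralizer_le (by exact_mod_cast (le_sup_right : W ≤ V ⊔ W)))
  · rw [Subgroup.le_centralizer_iff]
    rw [sup_le_iff]
    constructor
    · rw [← Subgroup.le_centralizer_iff]
      exact inf_le_left
    · rw [← Subgroup.le_centralizer_iff]
      exact inf_le_right

theorem isPReducedNormal_sup {V W : Subgroup L} (hV : IsPReducedNormal p V)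
    (hW : IsPReducedNormal p W) : IsPReducedNormal p (V ⊔ W) := by
  rw [isPReducedNormal_iff] at hV hW ⊢
  obtain ⟨hVn, ⟨hVc, hVe⟩, hVr⟩ := hV
  obtain ⟨hWn, ⟨hWc, hWe⟩, hWr⟩ := hW
  have := hVn
  have := hWn
  have hWV : W ≤ Subgroup.centralizer (V : Set L) := by
    apply hVr W hWn
    intro d hd
    refine ⟨1, ?_⟩
    rw [pow_one, hWe d hd]
    exact one_mem _
  have hVV : V ≤ Subgroup.centralizer (V : Set L) :=
    Subgroup.le_centralizer_iff_isMulCommutative.mpr hVc
  have hWW : W ≤ Subgroup.centralizer (W : Set L) :=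
    Subgroup.le_centralizer_iff_isMulCommutative.mpr hWc
  have hVW : V ≤ Subgroup.centralizer (W : Set L) := Subgroup.le_centralizer_iff.mp hWV
  refine ⟨inferInstance, ⟨?_, ?_⟩, ?_⟩
  · rw [← Subgroup.le_centralizer_iff_isMulCommutative, centralizer_sup]
    exact sup_le (le_inf hVV hVW) (le_inf hWV hWW)
  · intro a ha
    have : a ∈ ((V ⊔ W : Subgroup L) : Set L) := ha
    rw [Subgroup.mul_normal] at this
    obtain ⟨v, hv, w, hw, rfl⟩ := this
    have hcomm : Commute v w := by
      have := hVW hv w hw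
      exact this.symm
    rw [hcomm.mul_pow, hVe v hv, hWe w hw, one_mul]
  · intro D hD hpow
    rw [centralizer_sup]
    apply le_inf
    · apply hVr D hD
      intro d hd
      obtain ⟨k, hk⟩ := hpow d hd
      rw [centralizer_sup] at hk
      exact ⟨k, hk.1⟩
    · apply hWr D hD
      intro d hd
      obtain ⟨k, hk⟩ := hpow d hd
      rw [centralizer_sup] at hk
      exact ⟨k, hk.2⟩

theorem exists_max_isPReducedNormal [Finite L] :
    ∃ Y : Subgroup L, IsPReducedNormal p Y ∧ ∀ V : Subgroup L, IsPReducedNormal p V → V ≤ Y := by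
  have hfin : {V : Subgroup L | IsPReducedNormal p V}.Finite := Set.toFinite _
  obtain ⟨Y, hY, hmax⟩ := Set.exists_max_image _ (fun V : Subgroup L => Nat.card V) hfin
    ⟨⊥, isPReducedNormal_bot⟩
  refine ⟨Y, hY, fun V hV => ?_⟩
  have hsup := isPReducedNormal_sup hY hV
  have hle : Nat.card ↥(Y ⊔ V) ≤ Nat.card Y := hmax _ hsup
  have : Y = Y ⊔ V := Subgroup.eq_of_le_of_card_ge le_sup_left hle
  rw [this]
  exact le_sup_right

end quot

end Cfsg.Agent.Lib.Helper53
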