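import Cfsg.Agent.Lib.Helper53.QdChar
import Cfsg.Agent.Lib.Helper53.HeisLike

set_option autoImplicit false

namespace Cfsg.Agent.Lib.Helper53

open Matrix

theorem nonempty_heisData_of_eq_qstab {p : ℕ} [Fact p.Prime]
    (S' : Subgroup ↥(Cfsg.qdOver (ZMod p))) (u : Fin 2 → ZMod p) (hu : u ≠ 0) (hS : S' = qstab u) :
    Nonempty (HeisData p ↥S') := by
  subst hS
  obtain ⟨B, hB⟩ := exists_sl2_smul_e0_eq u hu
  refine ⟨{ h := fun a b c => qstabConj B u hB ⟨heis a b c, heis_mem a b c⟩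
            h_mul := ?_
            h_inj := ?_
            h_surj := ?_ }⟩
  · intro a b c a' b' c'
    rw [← map_mul]
    congr 1
    apply Subtype.ext
    exact heis_mul a b c a' b' c'
  · intro a b c a' b' c' h
    have h1 := (qstabConj B u hB).injective h
    exact heis_injective (congrArg Subtype.val h1)
  · intro x
    refine ⟨qmat (((qstabConj B u hB).symm x : ↥(qstab (e0 : Fin 2 → ZMod p))) : ↥(Cfsg.qdOver (ZMod p))) 0 1,
      qmat (((qstabConj B u hB).symm x : ↥(qstab (e0 : Fin 2 → ZMod p))) : ↥(Cfsg.qdOver (ZMod p))) 1 2,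
      qmat (((qstabConj B u hB).symm x : ↥(qstab (e0 : Fin 2 → ZMod p))) : ↥(Cfsg.qdOver (ZMod p))) 0 2, ?_⟩
    have h1 := eq_heis_of_mem ((qstabConj B u hB).symm x).2
    have h2 : (qstabConj B u hB).symm x = ⟨heis _ _ _, heis_mem _ _ _⟩ := Subtype.ext h1
    rw [← h2, MulEquiv.apply_symm_apply]

theorem sylow_qd_extraspecial (p : ℕ) [Fact p.Prime] (hp : p ≠ 2)
    (P : Sylow p ↥(Cfsg.qdOver (ZMod p))) :
    Cfsg.IsExtraspecial p ↥(P : Subgroup ↥(Cfsg.qdOver (ZMod p))) ∧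
      Nat.card ↥(P : Subgroup ↥(Cfsg.qdOver (ZMod p))) = p ^ 3 ∧
      Monoid.exponent ↥(P : Subgroup ↥(Cfsg.qdOver (ZMod p))) = p := by
  obtain ⟨u, hu, hS⟩ := sylow_eq_qstab P
  obtain ⟨D⟩ := nonempty_heisData_of_eq_qstab (P : Subgroup ↥(Cfsg.qdOver (ZMod p))) u hu hS
  exact ⟨D.isExtraspecial, D.card_eq, D.exponent_eq hp⟩

end Cfsg.Agent.Lib.Helper53
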