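import Mathlib
import Cfsg.Agent.Lib.Helper20.RU2Defs
import Cfsg.Agent.Lib.Helper73.RUDefs

/-!
# K-RU2-D (keystone 227804, pack S2278, architect helper20): the second filling step, all `1 + s (E_10 + E_20)`
-/

set_option autoImplicit false

namespace Cfsg.Agent.Lib.Helper53.RU2

open Matrix Cfsg.Agent.Lib.Helper73.RU Cfsg.Agent.Lib.Helper20.RU2

theorem d_phi_vecMul_A3 (F : Type*) [Field F] :
    (![1, -1, 1] : Fin 3 → F) ᵥ* A3 F = Pi.single 0 1 := by
  ext j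
  fin_cases j <;> simp [A3, Matrix.vecMul, dotProduct, Fin.sum_univ_three]

theorem d_A3_mulVec_e2 (F : Type*) [Field F] (c : F) :
    A3 F *ᵥ (c • (Pi.single 2 1 : Fin 3 → F)) =
      c • ((Pi.single 1 1 : Fin 3 → F) + Pi.single 2 1) := by
  ext j
  fin_cases j <;> simp [A3, Matrix.mulVec, dotProduct, Fin.sum_univ_three]

theorem row12_mem {F : Type*} [Field F] {G : Subgroup (SpecialLinearGroup (Fin 3) F)} {c' : F}
    (hc' : c' ≠ 0) (hA : InG G (A3 F))
    (hz : InG G (tvm (c' • (Pi.single 2 1 : Fin 3 → F)) (Pi.single 0 1)))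
    (h1 : ∀ s : F, InG G (tvm (s • (Pi.single 1 1 : Fin 3 → F)) (Pi.single 0 1))) :
    ∀ s : F, InG G (tvm (s • ((Pi.single 1 1 : Fin 3 → F) + Pi.single 2 1)) (Pi.single 0 1)) := by
  intro s
  set φ : Fin 3 → F := ![1, -1, 1] with hφ
  set w : Fin 3 → F := c' • ((Pi.single 1 1 : Fin 3 → F) + Pi.single 2 1) with hw
  -- the conjugate of `z` by `A3`
  have hwφ : InG G (tvm w φ) := by
    have e := mul_tvm (A3 F) (c' • (Pi.single 2 1 : Fin 3 → F)) φ
    rw [d_phi_vecMul_A3, d_A3_mulVec_e2] at e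
    have h : InG G (tvm w φ * A3 F) := by
      rw [← e]
      exact inG_mul hA hz
    exact inG_of_mul_right hA h
  set t : F := s / c' with ht
  set x : Fin 3 → F := t • (Pi.single 1 1 : Fin 3 → F) with hx
  have hχx : (Pi.single 0 1 : Fin 3 → F) ⬝ᵥ x = 0 := by
    simp [hx, dotProduct, Fin.sum_univ_three]
  have hφw : φ ⬝ᵥ w = 0 := by
    simp [hφ, hw, dotProduct, Fin.sum_univ_three]
  have hχw : (Pi.single 0 1 : Fin 3 → F) ⬝ᵥ w = 0 := by
    simp [hw, dotProduct, Fin.sum_univ_three]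
  have hφx : φ ⬝ᵥ x = -t := by
    simp [hφ, hx, dotProduct, Fin.sum_univ_three]
  have e := tvm_comm x (Pi.single 0 1) w φ hχx hφw hχw
  have hfin : -(φ ⬝ᵥ x) • w = s • ((Pi.single 1 1 : Fin 3 → F) + Pi.single 2 1) := by
    rw [hφx, neg_neg, hw, smul_smul, ht, div_mul_cancel₀ _ hc']
  rw [hfin] at e
  rw [← e]
  exact inG_mul (inG_mul (inG_mul (h1 t) hwφ) (inG_tvm_neg hχx (h1 t))) (inG_tvm_neg hφw hwφ)

end Cfsg.Agent.Lib.Helper53.RU2
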