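import Cfsg.Agent.Lib.Helper53.Qd
import Cfsg.Agent.Lib.Helper53.Conj

set_option autoImplicit false

namespace Cfsg.Agent.Lib.Helper53

open Matrix

section SL2

variable {F : Type*} [Field F]

/-- upper unitriangular matrix -/
def utr (b : F) : Matrix.SpecialLinearGroup (Fin 2) F := sl2mk 1 b 0 1 (by ring)

theorem utr_coe (b : F) :
    ((utr b : Matrix.SpecialLinearGroup (Fin 2) F) : Matrix (Fin 2) (Fin 2) F) = !![1, b; 0, 1] := rfl

theorem utr_smul (b : F) (w : Fin 2 → F) : utr b • w = ![w 0 + b * w 1, w 1] := by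
  ext i
  rw [sl2_smul_apply, utr_coe]
  fin_cases i <;> simp

theorem utr_add (b c : F) : utr (b + c) = utr b * utr c := by
  apply Matrix.SpecialLinearGroup.ext
  intro i j
  rw [Matrix.SpecialLinearGroup.coe_mul, utr_coe, utr_coe, utr_coe]
  fin_cases i <;> fin_cases j <;> simp [Matrix.mul_apply, Fin.sum_univ_two, add_comm]

theorem utr_zero : utr (0 : F) = 1 := by
  apply Matrix.SpecialLinearGroup.ext
  intro i j
  rw [utr_coe, Matrix.SpecialLinearGroup.coe_one]
  fin_cases i <;> fin_cases j <;> simp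

theorem utr_nsmul (n : ℕ) (b : F) : utr (n • b) = utr b ^ n := by
  induction n with
  | zero => simp [utr_zero]
  | succ k ih => rw [succ_nsmul, utr_add, ih, pow_succ]

theorem utr_injective : Function.Injective (utr (F := F)) := fun b c h => by
  have h' := congrArg (fun A : Matrix.SpecialLinearGroup (Fin 2) F =>
    (A : Matrix (Fin 2) (Fin 2) F) 0 1) h
  simpa [utr_coe] using h'

theorem utr_eq_one_iff (b : F) : utr b = 1 ↔ b = 0 := by
  rw [← utr_zero]
  exact utr_injective.eq_iff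

theorem utr_pow_char {p : ℕ} [CharP F p] (b : F) : utr b ^ p = 1 := by
  rw [← utr_nsmul, ← Nat.cast_smul_eq_nsmul F, CharP.cast_eq_zero, zero_smul, utr_zero]

/-- the first standard basis vector -/
def e0 : Fin 2 → F := ![1, 0]

/-- elements fixing `e0` are the upper unitriangular ones -/
theorem smul_e0_eq_iff (A : Matrix.SpecialLinearGroup (Fin 2) F) :
    A • (e0 : Fin 2 → F) = e0 ↔ ∃ b, A = utr b := by
  constructor
  · intro h
    have h0 := congrFun h 0
    have h1 := congrFun h 1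
    rw [sl2_smul_apply] at h0 h1
    simp [e0] at h0 h1
    have hd := A.2
    rw [Matrix.det_fin_two, h0, h1] at hd
    simp at hd
    refine ⟨(A : Matrix (Fin 2) (Fin 2) F) 0 1, ?_⟩
    apply Matrix.SpecialLinearGroup.ext
    intro i j
    rw [utr_coe]
    fin_cases i <;> fin_cases j <;> simp [h0, h1, hd]
  · rintro ⟨b, rfl⟩
    rw [utr_smul]
    ext i
    fin_cases i <;> simp [e0]

theorem exists_sl2_smul_e0_eq (w : Fin 2 → F) (hw : w ≠ 0) :
    ∃ A : Matrix.SpecialLinearGroup (Fin 2) F, A • (e0 : Fin 2 → F) = w :=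
  exists_sl2_smul_eq w hw

/-- the stabilizer of a vector `B • e0` -/
theorem smul_eq_iff_of_smul_e0 {B : Matrix.SpecialLinearGroup (Fin 2) F} {u : Fin 2 → F}
    (hB : B • (e0 : Fin 2 → F) = u) (A : Matrix.SpecialLinearGroup (Fin 2) F) :
    A • u = u ↔ ∃ b, A = B * utr b * B⁻¹ := by
  have h1 : A • u = u ↔ (B⁻¹ * A * B) • (e0 : Fin 2 → F) = e0 := by
    rw [mul_smul, mul_smul, hB, inv_smul_eq_iff, hB]
  rw [h1, smul_e0_eq_iff]
  constructor
  · rintro ⟨b, hb⟩
    exact ⟨b, by rw [← hb]; group⟩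
  · rintro ⟨b, hb⟩
    exact ⟨b, by rw [hb]; group⟩

theorem pow_char_eq_one_of_smul_eq {p : ℕ} [CharP F p] {u : Fin 2 → F} (hu : u ≠ 0)
    {A : Matrix.SpecialLinearGroup (Fin 2) F} (hA : A • u = u) : A ^ p = 1 := by
  obtain ⟨B, hB⟩ := exists_sl2_smul_e0_eq u hu
  obtain ⟨b, rfl⟩ := (smul_eq_iff_of_smul_e0 hB A).1 hA
  rw [conj_pow, utr_pow_char, mul_one, mul_inv_cancel]

/-- fixed vectors of a nontrivial element of the stabilizer of `u` are multiples of `u` -/
theorem eq_smul_of_smul_eq {u : Fin 2 → F} (hu : u ≠ 0)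
    {A : Matrix.SpecialLinearGroup (Fin 2) F} (hA : A • u = u) (hA1 : A ≠ 1)
    {w : Fin 2 → F} (hw : A • w = w) : ∃ c : F, w = c • u := by
  obtain ⟨B, hB⟩ := exists_sl2_smul_e0_eq u hu
  obtain ⟨b, rfl⟩ := (smul_eq_iff_of_smul_e0 hB A).1 hA
  have hb : b ≠ 0 := by
    intro hb
    apply hA1
    rw [hb, utr_zero, mul_one, mul_inv_cancel]
  rw [mul_smul, mul_smul, ← eq_inv_smul_iff, utr_smul] at hw
  have h1 := congrFun hw 0
  simp at h1
  have h2 : (B⁻¹ • w) 1 = 0 := by
    rcases h1 with h1 | h1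
    · exact absurd h1 hb
    · exact h1
  refine ⟨(B⁻¹ • w) 0, ?_⟩
  rw [← hB, ← smul_comm, eq_comm, smul_eq_iff_eq_inv_smul]
  ext i
  fin_cases i
  · simp [e0]
  · simpa [e0] using h2.symm

/-- `A • w - w` is a multiple of `u` for `A` in the stabilizer of `u` -/
theorem smul_sub_eq_smul {B : Matrix.SpecialLinearGroup (Fin 2) F} {u : Fin 2 → F}
    (hB : B • (e0 : Fin 2 → F) = u) (b : F) (w : Fin 2 → F) :
    (B * utr b * B⁻¹) • w - w = (b * (B⁻¹ • w) 1) • u := by
  have h1 : (B * utr b * B⁻¹) • w - w = B • (utr b • (B⁻¹ • w) - B⁻¹ • w) := by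
    rw [smul_sub, smul_inv_smul, mul_smul, mul_smul]
  rw [h1, utr_smul, ← hB, ← smul_comm]
  congr 1
  ext i
  fin_cases i <;> simp [e0]

end SL2

end Cfsg.Agent.Lib.Helper53
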