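import Mathlib

set_option autoImplicit false

namespace Cfsg.Agent.Lib.Helper53.SU4

/-- a computable model of the field with nine elements: `re + im * i`, `i * i = -1` over `Fin 3` -/
structure K9 where
  re : Fin 3
  im : Fin 3
deriving DecidableEq

namespace K9

instance : Fintype K9 :=
  Fintype.ofEquiv (Fin 3 × Fin 3) ⟨fun p => ⟨p.1, p.2⟩, fun x => (x.re, x.im), fun _ => rfl, fun _ => rfl⟩

instance : Zero K9 := ⟨⟨0, 0⟩⟩
instance : One K9 := ⟨⟨1, 0⟩⟩
instance : Add K9 := ⟨fun x y => ⟨x.re + y.re, x.im + y.im⟩⟩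
instance : Neg K9 := ⟨fun x => ⟨-x.re, -x.im⟩⟩
instance : Mul K9 := ⟨fun x y => ⟨x.re * y.re - x.im * y.im, x.re * y.im + x.im * y.re⟩⟩

instance : CommRing K9 :=
  CommRing.ofMinimalAxioms (by decide) (by decide) (by decide) (by decide) (by decide) (by decide) (by decide)

theorem card_eq : Fintype.card K9 = 9 := by decide

theorem exists_inv : ∀ x : K9, x ≠ 0 → ∃ y : K9, x * y = 1 := by decide

theorem re_add (x y : K9) : (x + y).re = x.re + y.re := rfl
theorem im_add (x y : K9) : (x + y).im = x.im + y.im := rfl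
theorem re_mul (x y : K9) : (x * y).re = x.re * y.re - x.im * y.im := rfl
theorem im_mul (x y : K9) : (x * y).im = x.re * y.im + x.im * y.re := rfl

section hom
variable {F : Type*} [Field F] [CharP F 3]

/-- `Fin 3` viewed as `ZMod 3` -/
def z (a : Fin 3) : ZMod 3 := a

theorem z_add (a b : Fin 3) : z (a + b) = z a + z b := rfl
theorem z_mul (a b : Fin 3) : z (a * b) = z a * z b := rfl
theorem z_sub (a b : Fin 3) : z (a - b) = z a - z b := by
  revert a b; decide
theorem z_zero : z 0 = 0 := rfl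
theorem z_one : z 1 = 1 := rfl

/-- the cast `Fin 3 → F` through the ring homomorphism from `ZMod 3` -/
noncomputable def cst (a : Fin 3) : F := ZMod.castHom (dvd_refl 3) F (z a)

theorem cst_add (a b : Fin 3) : cst (F := F) (a + b) = cst a + cst b := by
  unfold cst; rw [z_add, map_add]
theorem cst_mul (a b : Fin 3) : cst (F := F) (a * b) = cst a * cst b := by
  unfold cst; rw [z_mul, map_mul]
theorem cst_sub (a b : Fin 3) : cst (F := F) (a - b) = cst a - cst b := by
  unfold cst; rw [z_sub, map_sub]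
theorem cst_zero : cst (F := F) 0 = 0 := by
  unfold cst; rw [z_zero, map_zero]
theorem cst_one : cst (F := F) 1 = 1 := by
  unfold cst; rw [z_one, map_one]

/-- the ring homomorphism to a field of characteristic 3 containing a square root of `-1` -/
noncomputable def toField (i : F) (hi : i * i = -1) : K9 →+* F where
  toFun x := cst x.re + cst x.im * i
  map_one' := by
    show cst (F := F) (1 : Fin 3) + cst (F := F) (0 : Fin 3) * i = 1
    rw [cst_one, cst_zero]; ring
  map_zero' := by
    show cst (F := F) (0 : Fin 3) + cst (F := F) (0 : Fin 3) * i = 0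
    rw [cst_zero]; ring
  map_add' x y := by
    show cst (F := F) (x.re + y.re) + cst (F := F) (x.im + y.im) * i = _
    rw [cst_add, cst_add]
    ring
  map_mul' x y := by
    show cst (F := F) (x.re * y.re - x.im * y.im) + cst (F := F) (x.re * y.im + x.im * y.re) * i = _
    rw [cst_sub, cst_add, cst_mul, cst_mul, cst_mul, cst_mul]
    linear_combination (- cst (F := F) x.im * cst (F := F) y.im) * hi

theorem toField_injective (i : F) (hi : i * i = -1) : Function.Injective (toField i hi) := by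
  rw [injective_iff_map_eq_zero]
  intro x hx
  by_contra hne
  obtain ⟨y, hy⟩ := exists_inv x hne
  have := congrArg (toField i hi) hy
  rw [map_mul, hx, zero_mul, map_one] at this
  exact zero_ne_one this

end hom

end K9

section brute

/-- fourth power by squaring -/
def p4 {R : Type*} [CommRing R] (x : R) : R := (x * x) * (x * x)

/-- eighth power by squaring -/
def p8 {R : Type*} [CommRing R] (x : R) : R := p4 x * p4 x

/-- the invariant set, four explicit coordinates -/
def InX4 {R : Type*} [CommRing R] (a b c d : R) : Prop :=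
  (p8 a + p8 b + p8 c + p8 d = 1 ∧
     (a * b * c * d = 0 ∨
       (p4 a = p4 b ∧ p4 b = p4 c ∧ p4 c = p4 d ∧ (a * b * c * d) * (a * b * c * d) = 1))) ∨
  (p8 a + p8 b + p8 c + p8 d = -1 ∧ p4 a + p4 b + p4 c + p4 d ≠ 0)

theorem brute9 : ∀ a b c d : K9,
    InX4 a b c d ↔ InX4 (a + b + c + d) (a - b + c - d) (a + b - c - d) (a - b - c + d) := by
  unfold InX4 p8 p4
  decide +kernel

theorem p4_map {F : Type*} [CommRing F] (φ : K9 →+* F) (a : K9) : p4 (φ a) = φ (p4 a) := by
  unfold p4; simp only [map_mul]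

theorem p8_map {F : Type*} [CommRing F] (φ : K9 →+* F) (a : K9) : p8 (φ a) = φ (p8 a) := by
  unfold p8; rw [p4_map, map_mul]

theorem InX4_map {F : Type*} [CommRing F] (φ : K9 →+* F) (hφ : Function.Injective φ) (a b c d : K9) :
    InX4 (φ a) (φ b) (φ c) (φ d) ↔ InX4 a b c d := by
  unfold InX4
  have c0 : ∀ y : K9, φ y = 0 ↔ y = 0 := fun y =>
    ⟨fun h => hφ (h.trans (map_zero φ).symm), fun h => h ▸ map_zero φ⟩
  have c1 : ∀ y : K9, φ y = 1 ↔ y = 1 := fun y =>
    ⟨fun h => hφ (h.trans (map_one φ).symm), fun h => h ▸ map_one φ⟩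
  have cm : ∀ y : K9, φ y = -1 ↔ y = -1 := fun y =>
    ⟨fun h => hφ (h.trans (by rw [map_neg, map_one])), fun h => by rw [h, map_neg, map_one]⟩
  have ce : ∀ x y : K9, φ x = φ y ↔ x = y := fun x y => hφ.eq_iff
  have e1 : p8 (φ a) + p8 (φ b) + p8 (φ c) + p8 (φ d) = φ (p8 a + p8 b + p8 c + p8 d) := by
    simp only [p8_map, map_add]
  have e2 : φ a * φ b * φ c * φ d = φ (a * b * c * d) := by simp only [map_mul]
  have e3 : p4 (φ a) + p4 (φ b) + p4 (φ c) + p4 (φ d) = φ (p4 a + p4 b + p4 c + p4 d) := by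
    simp only [p4_map, map_add]
  rw [e1, e2, e3, ← map_mul, c1, cm, c0, c1, p4_map, p4_map, p4_map, p4_map, ce, ce, ce, Ne, c0]

theorem exists_pow4 : ∀ ν : K9, ν ≠ 0 → ν * ν * ν = ν → ∃ c : K9, p4 c * ν = 1 := by
  unfold p4
  decide

theorem omega_pow4 : p4 (⟨1, 1⟩ : K9) = -1 := by
  unfold p4
  decide

section field
variable {F : Type*} [Field F] [Fintype F]

theorem charP_three (hF : Fintype.card F = 9) : CharP F 3 := by
  obtain ⟨p, hp⟩ := CharP.exists F
  obtain ⟨n, hpp, hn⟩ := FiniteField.card F p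
  have h1 : p ∣ 3 ^ 2 := by
    have : p ∣ p ^ (n : ℕ) := dvd_pow_self p n.ne_zero
    rw [← hn, hF] at this
    exact this
  have h2 : p = 3 := (Nat.prime_dvd_prime_iff_eq hpp (by norm_num)).mp (hpp.dvd_of_dvd_pow h1)
  exact h2 ▸ hp

theorem exists_ringEquiv (hF : Fintype.card F = 9) : Nonempty (K9 ≃+* F) := by
  have _ : CharP F 3 := charP_three hF
  have hsq : IsSquare (-1 : F) := by
    rw [FiniteField.isSquare_neg_one_iff, hF]; decide
  obtain ⟨i, hi⟩ := hsq
  have hinj := K9.toField_injective i hi.symm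
  have hbij : Function.Bijective (K9.toField i hi.symm) := by
    rw [Fintype.bijective_iff_injective_and_card]
    exact ⟨hinj, by rw [K9.card_eq, hF]⟩
  exact ⟨RingEquiv.ofBijective _ hbij⟩

theorem three_eq_zero (hF : Fintype.card F = 9) : (3 : F) = 0 := by
  have _ : CharP F 3 := charP_three hF
  exact_mod_cast CharP.cast_eq_zero F 3

theorem brute (hF : Fintype.card F = 9) (a b c d : F) :
    InX4 a b c d ↔ InX4 (a + b + c + d) (a - b + c - d) (a + b - c - d) (a - b - c + d) := by
  obtain ⟨φ⟩ := exists_ringEquiv hF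
  obtain ⟨a, rfl⟩ := φ.surjective a
  obtain ⟨b, rfl⟩ := φ.surjective b
  obtain ⟨c, rfl⟩ := φ.surjective c
  obtain ⟨d, rfl⟩ := φ.surjective d
  have h1 : φ a + φ b + φ c + φ d = φ (a + b + c + d) := by simp only [map_add]
  have h2 : φ a - φ b + φ c - φ d = φ (a - b + c - d) := by simp only [map_add, map_sub]
  have h3 : φ a + φ b - φ c - φ d = φ (a + b - c - d) := by simp only [map_add, map_sub]
  have h4 : φ a - φ b - φ c + φ d = φ (a - b - c + d) := by simp only [map_add, map_sub]
  rw [h1, h2, h3, h4]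
  have key := InX4_map (φ : K9 →+* F) φ.injective
  exact (key a b c d).trans ((brute9 a b c d).trans (key _ _ _ _).symm)

/-- an element whose fourth power is `-1` -/
theorem exists_omega (hF : Fintype.card F = 9) : ∃ w : F, p4 w = -1 := by
  obtain ⟨φ⟩ := exists_ringEquiv hF
  refine ⟨φ ⟨1, 1⟩, ?_⟩
  have := p4_map (φ : K9 →+* F) ⟨1, 1⟩
  rw [omega_pow4, map_neg, map_one] at this
  exact this

/-- norms: a non-zero element fixed by the cube map is `c⁻⁴` -/
theorem exists_pow4_mul (hF : Fintype.card F = 9) (ν : F) (h0 : ν ≠ 0) (h3 : ν * ν * ν = ν) :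
    ∃ c : F, p4 c * ν = 1 := by
  obtain ⟨φ⟩ := exists_ringEquiv hF
  obtain ⟨ν, rfl⟩ := φ.surjective ν
  have h0' : ν ≠ 0 := fun h => h0 (by rw [h, map_zero])
  have h3' : ν * ν * ν = ν := φ.injective (by simpa only [map_mul] using h3)
  obtain ⟨c, hc⟩ := exists_pow4 ν h0' h3'
  refine ⟨φ c, ?_⟩
  have := p4_map (φ : K9 →+* F) c
  rw [RingEquiv.coe_toRingHom] at this
  rw [this, ← map_mul, hc, map_one]

end field

end brute

end Cfsg.Agent.Lib.Helper53.SU4
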