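import Cfsg.Prelude.Def_GeometricClasses
import Cfsg.Agent.Lib.Helper53.SU4Model
import Cfsg.Agent.Lib.Helper90.SLMaxX7
import Cfsg.Agent.Lib.Helper19.Unitary
import Cfsg.Agent.Lib.Helper51.SUMax2

/-!
# K-SU4-A: over `F₉` the stabiliser of an orthogonal frame is not maximal in `SU₄(3)`

In orthonormal coordinates `x` with respect to the frame, the set `X` of vectors all of whose
non-zero coordinates have the same norm, of weight 1, 2 or 4, with `(∏ xᵢ)² = 1` in weight 4
(the 60 points of the frames of the class-6 group `4 ∘ 2^{1+4}`) is preserved by the monomial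
isometries of determinant one and by the Hadamard matrix `H₂ ⊗ H₂`, but not by all of `SU₄(3)`.
-/

set_option autoImplicit false
set_option linter.unusedSectionVars false
set_option linter.unusedVariables false

namespace Cfsg.Agent.Lib.Helper53.SU4

open Cfsg Cfsg.Geo Matrix
open Cfsg.Agent.Lib.Helper90.SLMax (cv cv_add cv_smul cv_d Phi Bas Phi_mulVec Phi_mul_Bas
  Bas_mul_Phi det_Phi_Bas H4 H4_det H4_mulVec)
open Cfsg.Agent.Lib.Helper19 (hermForm_add_left hermForm_smul_left hermForm_add_right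
  hermForm_smul_right hermForm_conj frobQ frobQ_apply)
open scoped Matrix MatrixGroups

section
variable {F : Type*} [Field F]

local notation "V4" => (Fin 4 → F)
local notation "M4" => Matrix (Fin 4) (Fin 4) F
local notation "GL4" => Matrix.GeneralLinearGroup (Fin 4) F

theorem p4_mul (a b : F) : p4 (a * b) = p4 a * p4 b := by unfold p4; ring
theorem p8_mul (a b : F) : p8 (a * b) = p8 a * p8 b := by unfold p8 p4; ring
theorem p4_eq_pow (a : F) : p4 a = a ^ 4 := by unfold p4; ring
theorem p8_eq (a : F) : p8 a = p4 a * p4 a := rfl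

/-- sum of the eighth powers -/
def W8 (x : V4) : F := ∑ i, p8 (x i)
/-- sum of the fourth powers -/
def S4 (x : V4) : F := ∑ i, p4 (x i)
/-- product of the coordinates -/
def Pr (x : V4) : F := ∏ i, x i

/-- the invariant set, in coordinates -/
def InX (x : V4) : Prop :=
  (W8 x = 1 ∧ (Pr x = 0 ∨ ((∀ i j, p4 (x i) = p4 (x j)) ∧ Pr x * Pr x = 1))) ∨
  (W8 x = -1 ∧ S4 x ≠ 0)

theorem InX_iff (x : V4) : InX x ↔ InX4 (x 0) (x 1) (x 2) (x 3) := by
  unfold InX InX4 W8 S4 Pr
  rw [Fin.sum_univ_four, Fin.sum_univ_four, Fin.prod_univ_four]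
  have hall : (∀ i j, p4 (x i) = p4 (x j)) ↔
      (p4 (x 0) = p4 (x 1) ∧ p4 (x 1) = p4 (x 2) ∧ p4 (x 2) = p4 (x 3)) := by
    constructor
    · intro h
      exact ⟨h 0 1, h 1 2, h 2 3⟩
    · rintro ⟨h1, h2, h3⟩
      have h0 : ∀ i, p4 (x i) = p4 (x 0) := by
        intro i
        fin_cases i
        · rfl
        · exact h1.symm
        · exact (h1.trans h2).symm
        · exact (h1.trans (h2.trans h3)).symm
      intro i j
      rw [h0 i, h0 j]
  rw [hall]
  simp only [and_assoc]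

end

section
variable {F : Type*} [Field F] [Fintype F] {q : ℕ}

local notation "V4" => (Fin 4 → F)
local notation "M4" => Matrix (Fin 4) (Fin 4) F
local notation "GL4" => Matrix.GeneralLinearGroup (Fin 4) F
local notation "hh" => Cfsg.hermForm 4 F q

/-- orthonormal coordinates for a frame -/
structure OCoord (q : ℕ) (D : Fin 4 → Submodule F (Fin 4 → F)) where
  C : Cfsg.Agent.S5635.Coord D
  orth : ∀ i j, Cfsg.hermForm 4 F q (C.d i) (C.d j) = if i = j then 1 else 0
  dual : ∀ i (v : Fin 4 → F), C.φ i ⬝ᵥ v = Cfsg.hermForm 4 F q v (C.d i)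

theorem mem_GU_iff (g : GL4) : g ∈ Cfsg.GU 4 F q ↔ ∀ u v : V4, hh (g.1 *ᵥ u) (g.1 *ᵥ v) = hh u v :=
  Iff.rfl

theorem herm_sum_left {ι : Type*} (s : Finset ι) (a : ι → F) (w : ι → V4) (y : V4) :
    hh (∑ j ∈ s, a j • w j) y = ∑ j ∈ s, a j * hh (w j) y := by
  classical
  induction s using Finset.induction_on with
  | empty =>
    simp [Cfsg.hermForm]
  | insert j s hj ih =>
    rw [Finset.sum_insert hj, Finset.sum_insert hj, hermForm_add_left, hermForm_smul_left, ih]

theorem exists_ocoord (hF : Fintype.card F = q ^ 2) (hq : q = 3)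
    (D : Fin 4 → Submodule F (Fin 4 → F)) (hD : IsNondegenerateMDecomposition (Cfsg.hermForm 4 F q) 1 D) :
    Nonempty (OCoord q D) := by
  have hF9 : Fintype.card F = 9 := by rw [hF, hq]; norm_num
  obtain ⟨C⟩ := Cfsg.Agent.S5635.exists_coord D hD.decomp
  -- the norms of the basis vectors
  have hd0 : ∀ i, C.d i ≠ 0 := by
    intro i h0
    have := C.φ_d i
    rw [h0, dotProduct_zero] at this
    exact zero_ne_one this
  have hν0 : ∀ i, hh (C.d i) (C.d i) ≠ 0 := by
    intro i h0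
    obtain ⟨⟨x, hx, hne⟩, _⟩ := hD.nondegenerate i (C.d i) (C.d_mem i) (hd0 i)
    obtain ⟨a, rfl⟩ := C.span i x hx
    rw [hermForm_smul_left, h0, mul_zero] at hne
    exact hne rfl
  have hν3 : ∀ i, hh (C.d i) (C.d i) * hh (C.d i) (C.d i) * hh (C.d i) (C.d i) = hh (C.d i) (C.d i) := by
    intro i
    have := hermForm_conj hF (C.d i) (C.d i)
    rw [hq] at this
    rw [hq]
    linear_combination this
  have hc : ∀ i, ∃ c : F, p4 c * hh (C.d i) (C.d i) = 1 := fun i =>
    exists_pow4_mul hF9 _ (hν0 i) (hν3 i)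
  choose c hc using hc
  have hc0 : ∀ i, c i ≠ 0 := by
    intro i h0
    have := hc i
    rw [h0] at this
    unfold p4 at this
    simp at this
  have hnorm : ∀ i, hh (c i • C.d i) (c i • C.d i) = 1 := by
    intro i
    rw [hermForm_smul_left, hermForm_smul_right, ← hc i, p4_eq_pow, hq]
    ring
  have horth : ∀ i j, hh (c i • C.d i) (c j • C.d j) = if i = j then 1 else 0 := by
    intro i j
    by_cases hij : i = j
    · subst hij
      rw [if_pos rfl, hnorm]
    · rw [if_neg hij]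
      exact hD.orthogonal i j hij _ ((D i).smul_mem _ (C.d_mem i)) _ ((D j).smul_mem _ (C.d_mem j))
  have hdual : ∀ i (v : V4), (fun k => (c i • C.d i) k ^ q) ⬝ᵥ v = hh v (c i • C.d i) := by
    intro i v
    unfold Cfsg.hermForm dotProduct
    apply Finset.sum_congr rfl
    intro k _
    rw [mul_comm]
  refine ⟨⟨⟨fun i => c i • C.d i, fun i => fun k => (c i • C.d i) k ^ q,
    fun i => (D i).smul_mem _ (C.d_mem i), ?_, ?_, ?_⟩, horth, hdual⟩⟩
  · intro i w hw
    obtain ⟨a, rfl⟩ := C.span i w hw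
    refine ⟨a / c i, ?_⟩
    rw [smul_smul, div_mul_cancel₀ _ (hc0 i)]
  · intro i x hx
    rw [hdual]
    -- the kernel of `hh · (c i • d i)` contains the other members
    let K : Submodule F V4 :=
      { carrier := {x | hh x (c i • C.d i) = 0}
        add_mem' := by
          intro a b ha hb
          show hh (a + b) _ = 0
          rw [hermForm_add_left, ha, hb, add_zero]
        zero_mem' := by
          show hh 0 _ = 0
          simp [Cfsg.hermForm]
        smul_mem' := by
          intro a x hx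
          show hh (a • x) _ = 0
          rw [hermForm_smul_left, hx, mul_zero] }
    have hle : Cfsg.Agent.S5635.Sc D i ≤ K := by
      unfold Cfsg.Agent.S5635.Sc
      apply iSup₂_le
      intro j hj y hy
      exact hD.orthogonal j i hj y hy _ ((D i).smul_mem _ (C.d_mem i))
    exact hle hx
  · intro i
    rw [hdual, hnorm]

variable {D : Fin 4 → Submodule F (Fin 4 → F)}

theorem OCoord.cv_eq (O : OCoord q D) (v : V4) (i : Fin 4) : cv O.C v i = hh v (O.C.d i) :=
  O.dual i v

/-- Parseval -/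
theorem OCoord.herm_eq (O : OCoord q D) (hF : Fintype.card F = q ^ 2) (hT : iSup D = ⊤) (v w : V4) :
    hh v w = ∑ i, cv O.C v i * cv O.C w i ^ q := by
  have hv := O.C.expansion hT v
  conv_lhs => rw [← hv]
  rw [herm_sum_left]
  apply Finset.sum_congr rfl
  intro i _
  rw [O.cv_eq w i, hermForm_conj hF]
  rfl

/-- the stabiliser of the invariant set -/
def stabX (C : Cfsg.Agent.S5635.Coord D) : Subgroup GL4 where
  carrier := {g | ∀ v : V4, InX (cv C (g.1 *ᵥ v)) ↔ InX (cv C v)}
  one_mem' := by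
    intro v
    simp
  mul_mem' := by
    intro a b ha hb v
    rw [Cfsg.Agent.S5635.gl_mul_act, ha, hb]
  inv_mem' := by
    intro a ha v
    have := ha (a⁻¹.1 *ᵥ v)
    rw [Cfsg.Agent.S5635.gl_act_inv] at this
    exact this.symm

theorem mem_stabX (C : Cfsg.Agent.S5635.Coord D) (g : GL4) :
    g ∈ stabX C ↔ ∀ v : V4, InX (cv C (g.1 *ᵥ v)) ↔ InX (cv C v) := Iff.rfl

/-- monomial isometries of determinant one preserve the set -/
theorem stab_inf_su_le (hF : Fintype.card F = q ^ 2) (hq : q = 3) (O : OCoord q D) (hT : iSup D = ⊤) :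
    decompositionStabilizer D ⊓ (Cfsg.GU 4 F q ⊓ specialLinear (Fin 4) F) ≤ stabX O.C := by
  rintro g ⟨⟨σ, hσ⟩, hGU0, hdet⟩
  have hdet' : g.1.det = 1 := (Cfsg.Agent.S5635.mem_SL_iff g).mp hdet
  have hGU : ∀ u v : V4, hh (g.1 *ᵥ u) (g.1 *ᵥ v) = hh u v := (mem_GU_iff g).mp hGU0
  set C := O.C with hC
  -- the scalars
  have h1 : ∀ i, ∃ t : F, t • C.d (σ i) = g.1 *ᵥ C.d i := by
    intro i
    apply C.span (σ i)
    rw [← hσ i]
    exact ⟨C.d i, C.d_mem i, by rw [Matrix.toLin'_apply]⟩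
  choose t ht using h1
  -- coordinates of the image
  have hkey : ∀ (v : V4) (k : Fin 4), cv C (g.1 *ᵥ v) k = ∑ j, cv C v j * (t j * if k = σ j then 1 else 0) := by
    intro v k
    have hv := C.expansion hT v
    calc cv C (g.1 *ᵥ v) k = C.φ k ⬝ᵥ (g.1 *ᵥ ∑ j, (C.φ j ⬝ᵥ v) • C.d j) := by rw [hv]; rfl
      _ = ∑ j, cv C v j * (t j * if k = σ j then 1 else 0) := by
        rw [Matrix.mulVec_sum, dotProduct_sum]
        apply Finset.sum_congr rfl
        intro j _
        rw [Matrix.mulVec_smul, ← ht j, dotProduct_smul, dotProduct_smul, C.φ_dd]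
        simp [cv, smul_eq_mul]
  have hcoord : ∀ (v : V4) (i : Fin 4), cv C (g.1 *ᵥ v) (σ i) = t i * cv C v i := by
    intro v i
    rw [hkey v (σ i)]
    simp only [σ.injective.eq_iff]
    rw [Finset.sum_eq_single i]
    · simp [mul_comm]
    · intro j _ hji
      simp [Ne.symm hji]
    · intro h; exact absurd (Finset.mem_univ i) h
  -- the scalars have norm one
  have ht4 : ∀ i, p4 (t i) = 1 := by
    intro i
    have h2 := hGU (C.d i) (C.d i)
    rw [← ht i, hermForm_smul_left, hermForm_smul_right, O.orth, O.orth, if_pos rfl, if_pos rfl, hq] at h2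
    rw [p4_eq_pow]
    linear_combination h2
  have ht8 : ∀ i, p8 (t i) = 1 := by
    intro i
    rw [p8_eq, ht4, mul_one]
  -- the determinant
  have hprod : (∏ i, t i) * (∏ i, t i) = 1 := by
    set N : M4 := Phi C * g.1 * Bas C with hN
    have hNdet : N.det = 1 := by
      rw [hN, Matrix.det_mul, Matrix.det_mul, hdet', mul_one, det_Phi_Bas]
    have hNentry : ∀ k i, N k i = t i * if k = σ i then 1 else 0 := by
      intro k i
      have e1 : N k i = cv C (g.1 *ᵥ C.d i) k := by
        rw [hN, Matrix.mul_assoc, Matrix.mul_apply]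
        show ∑ j, Phi C k j * (g.1 * Bas C) j i = C.φ k ⬝ᵥ (g.1 *ᵥ C.d i)
        unfold dotProduct
        apply Finset.sum_congr rfl
        intro j _
        congr 1
      rw [e1, ← ht i, cv_smul, Pi.smul_apply, cv_d, Pi.single_apply, smul_eq_mul]
    have hNN : Nᵀ * N = Matrix.diagonal fun i => t i ^ 2 := by
      ext i j
      rw [Matrix.mul_apply, Matrix.diagonal_apply]
      simp only [Matrix.transpose_apply, hNentry]
      by_cases hij : i = j
      · subst hij
        rw [if_pos rfl, Finset.sum_eq_single (σ i)]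
        · simp; ring
        · intro k _ hk
          simp [hk]
        · intro h; exact absurd (Finset.mem_univ _) h
      · rw [if_neg hij]
        apply Finset.sum_eq_zero
        intro k _
        by_cases h1 : k = σ i
        · have h2 : k ≠ σ j := fun h2 => hij (σ.injective (h1.symm.trans h2))
          simp [h2]
        · simp [h1]
    have := congrArg Matrix.det hNN
    rw [Matrix.det_mul, Matrix.det_transpose, hNdet, Matrix.det_diagonal, Finset.prod_pow] at this
    rw [← pow_two, ← this, mul_one]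
  -- invariance
  intro v
  have hW : W8 (cv C (g.1 *ᵥ v)) = W8 (cv C v) := by
    unfold W8
    rw [← Equiv.sum_comp σ (fun k => p8 (cv C (g.1 *ᵥ v) k))]
    apply Finset.sum_congr rfl
    intro i _
    rw [hcoord, p8_mul, ht8, one_mul]
  have hS : S4 (cv C (g.1 *ᵥ v)) = S4 (cv C v) := by
    unfold S4
    rw [← Equiv.sum_comp σ (fun k => p4 (cv C (g.1 *ᵥ v) k))]
    apply Finset.sum_congr rfl
    intro i _
    rw [hcoord, p4_mul, ht4, one_mul]
  have hP : Pr (cv C (g.1 *ᵥ v)) = (∏ i, t i) * Pr (cv C v) := by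
    unfold Pr
    rw [← Equiv.prod_comp σ (fun k => cv C (g.1 *ᵥ v) k)]
    simp only [hcoord]
    rw [Finset.prod_mul_distrib]
  have hT0 : (∏ i, t i) ≠ 0 := by
    intro h0
    rw [h0, mul_zero] at hprod
    exact zero_ne_one hprod
  have hP0 : Pr (cv C (g.1 *ᵥ v)) = 0 ↔ Pr (cv C v) = 0 := by
    rw [hP, mul_eq_zero]
    exact ⟨fun h => h.resolve_left hT0, Or.inr⟩
  have hPP : Pr (cv C (g.1 *ᵥ v)) * Pr (cv C (g.1 *ᵥ v)) = Pr (cv C v) * Pr (cv C v) := by
    rw [hP]
    linear_combination (Pr (cv C v) * Pr (cv C v)) * hprod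
  have hall : (∀ k l, p4 (cv C (g.1 *ᵥ v) k) = p4 (cv C (g.1 *ᵥ v) l)) ↔
      (∀ i j, p4 (cv C v i) = p4 (cv C v j)) := by
    have e : ∀ i, p4 (cv C (g.1 *ᵥ v) (σ i)) = p4 (cv C v i) := by
      intro i
      rw [hcoord, p4_mul, ht4, one_mul]
    constructor
    · intro h i j
      rw [← e i, ← e j]
      exact h _ _
    · intro h k l
      have hk := e (σ.symm k)
      have hl := e (σ.symm l)
      rw [Equiv.apply_symm_apply] at hk hl
      rw [hk, hl]
      exact h _ _
  unfold InX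
  rw [hW, hS, hP0, hPP, hall]

/-- the Hadamard element of `GL₄` in the coordinates `C` -/
noncomputable def hadGL (hF9 : Fintype.card F = 9) (C : Cfsg.Agent.S5635.Coord D) : GL4 :=
  Matrix.GeneralLinearGroup.mkOfDetNeZero (Bas C * H4 F * Phi C) (by
    rw [Matrix.det_mul, Matrix.det_mul, H4_det, mul_comm (Bas C).det, mul_assoc, mul_comm (Bas C).det,
      det_Phi_Bas, mul_one]
    have h3 := three_eq_zero hF9
    intro h16
    have : (1 : F) = 0 := by linear_combination h16 - 5 * h3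
    exact one_ne_zero this)

theorem hadGL_val (hF9 : Fintype.card F = 9) (C : Cfsg.Agent.S5635.Coord D) :
    (hadGL hF9 C).1 = Bas C * H4 F * Phi C := rfl

theorem hadGL_det (hF9 : Fintype.card F = 9) (C : Cfsg.Agent.S5635.Coord D) :
    (hadGL hF9 C).1.det = 1 := by
  rw [hadGL_val, Matrix.det_mul, Matrix.det_mul, H4_det, mul_comm (Bas C).det, mul_assoc,
    mul_comm (Bas C).det, det_Phi_Bas, mul_one]
  have h3 := three_eq_zero hF9
  linear_combination 5 * h3

theorem cv_hadGL (hF9 : Fintype.card F = 9) (C : Cfsg.Agent.S5635.Coord D) (v : V4) :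
    cv C ((hadGL hF9 C).1 *ᵥ v) = H4 F *ᵥ cv C v := by
  rw [hadGL_val, ← Phi_mulVec, ← Phi_mulVec, Matrix.mulVec_mulVec, ← Matrix.mul_assoc,
    ← Matrix.mul_assoc, Phi_mul_Bas, Matrix.one_mul, Matrix.mulVec_mulVec]

theorem hadGL_mem_stabX (hF9 : Fintype.card F = 9) (C : Cfsg.Agent.S5635.Coord D) :
    hadGL hF9 C ∈ stabX C := by
  rw [mem_stabX]
  intro v
  rw [cv_hadGL, InX_iff, InX_iff, H4_mulVec]
  exact (brute hF9 _ _ _ _).symm

theorem hadGL_mem_GU (hF : Fintype.card F = q ^ 2) (hq : q = 3) (O : OCoord q D) (hT : iSup D = ⊤)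
    (hF9 : Fintype.card F = 9) : hadGL hF9 O.C ∈ Cfsg.GU 4 F q := by
  rw [mem_GU_iff]
  intro u v
  rw [O.herm_eq hF hT, O.herm_eq hF hT u v, cv_hadGL, cv_hadGL, H4_mulVec, H4_mulVec,
    Fin.sum_univ_four, Fin.sum_univ_four]
  have h3 := three_eq_zero hF9
  simp only [← frobQ_apply hF]
  simp only [Matrix.cons_val_zero, Matrix.cons_val_one, Matrix.cons_val_two, Matrix.cons_val_three,
    Matrix.head_cons, Matrix.tail_cons, map_add, map_sub]
  linear_combination (cv O.C u 0 * frobQ hF (cv O.C v 0) + cv O.C u 1 * frobQ hF (cv O.C v 1)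
    + cv O.C u 2 * frobQ hF (cv O.C v 2) + cv O.C u 3 * frobQ hF (cv O.C v 3)) * h3

theorem hadGL_not_mem (hF9 : Fintype.card F = 9) (C : Cfsg.Agent.S5635.Coord D) :
    hadGL hF9 C ∉ decompositionStabilizer D := by
  rintro ⟨σ, hσ⟩
  have h1 : (hadGL hF9 C).1 *ᵥ C.d 0 ∈ D (σ 0) := by
    rw [← hσ 0]
    exact ⟨C.d 0, C.d_mem 0, by rw [Matrix.toLin'_apply]⟩
  obtain ⟨c, hc⟩ := C.span (σ 0) _ h1
  have h2 : cv C ((hadGL hF9 C).1 *ᵥ C.d 0) = c • Pi.single (σ 0) 1 := by
    rw [← hc, cv_smul, cv_d]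
  rw [cv_hadGL, cv_d, H4_mulVec] at h2
  obtain ⟨j, hj⟩ : ∃ j : Fin 4, j ≠ σ 0 := by
    by_cases h : σ 0 = 0
    · exact ⟨1, by rw [h]; decide⟩
    · exact ⟨0, fun h' => h h'.symm⟩
  have h3 := congrFun h2 j
  have h4 : (c • Pi.single (σ 0) (1 : F) : Fin 4 → F) j = 0 := by
    rw [Pi.smul_apply, Pi.single_apply, if_neg hj, smul_zero]
  rw [h4] at h3
  fin_cases j <;> simp at h3

/-- an element of `SU₄(3)` not preserving the set -/
theorem exists_not_mem_stabX (hF : Fintype.card F = q ^ 2) (hq : q = 3) (O : OCoord q D) (hT : iSup D = ⊤) :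
    ∃ g : GL4, g ∈ Cfsg.GU 4 F q ⊓ specialLinear (Fin 4) F ∧ g ∉ stabX O.C := by
  have hF9 : Fintype.card F = 9 := by rw [hF, hq]; norm_num
  have h3 := three_eq_zero hF9
  obtain ⟨w, hw⟩ := exists_omega hF9
  set C := O.C with hC
  -- the two vectors
  set d : V4 := C.d 0 with hd
  set d' : V4 := C.d 0 + C.d 1 + w • C.d 2 with hd'
  have e1 : cv C d = ![1, 0, 0, 0] := by
    rw [hd, cv_d]
    ext i
    fin_cases i <;> simp
  have e2 : cv C d' = ![1, 1, w, 0] := by
    rw [hd', cv_add, cv_add, cv_smul, cv_d, cv_d, cv_d]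
    ext i
    fin_cases i <;> simp
  have hw4 : w * w ^ q = -1 := by
    rw [hq, ← hw, p4_eq_pow]; ring
  have n1 : hh d d = 1 := by
    rw [hd, O.orth, if_pos rfl]
  have n2 : hh d' d' = 1 := by
    rw [O.herm_eq hF hT, e2, Fin.sum_univ_four]
    simp only [Matrix.cons_val_zero, Matrix.cons_val_one, Matrix.cons_val_two, Matrix.cons_val_three,
      Matrix.head_cons, Matrix.tail_cons]
    rw [hw4, hq]
    ring
  have hd0 : d ≠ 0 := by
    intro h0
    rw [h0] at n1
    simp [Cfsg.hermForm] at n1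
  have hd'0 : d' ≠ 0 := by
    intro h0
    rw [h0] at n2
    simp [Cfsg.hermForm] at n2
  obtain ⟨M, hM, hMd, hMdet⟩ := Cfsg.Agent.Lib.Helper51.exists_iso_same_norm_det hF (by norm_num : 3 ≤ 4)
    d d' hd0 hd'0 (n1.trans n2.symm) 1 (by simp)
  have hdetne : M.det ≠ 0 := by rw [hMdet]; exact one_ne_zero
  refine ⟨Matrix.GeneralLinearGroup.mkOfDetNeZero M hdetne, ?_, ?_⟩
  · rw [Cfsg.Agent.Lib.Helper51.mem_GUSL_iff]
    exact ⟨hM, hMdet⟩
  · intro hmem
    rw [mem_stabX] at hmem
    have h := hmem d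
    have hval : (Matrix.GeneralLinearGroup.mkOfDetNeZero M hdetne).1 = M := rfl
    rw [hval, hMd, e1, e2, InX_iff, InX_iff] at h
    have hR : InX4 (1 : F) 0 0 0 := by
      unfold InX4 p8 p4
      left
      refine ⟨by ring, Or.inl (by ring)⟩
    have hL := h.mpr hR
    have hw8 : p8 w = 1 := by rw [p8_eq, hw]; ring
    have hsum : p8 (1 : F) + p8 1 + p8 w + p8 0 = 0 := by
      rw [hw8]
      unfold p8 p4
      linear_combination h3
    unfold InX4 at hL
    simp only [Matrix.cons_val_zero, Matrix.cons_val_one, Matrix.cons_val_two, Matrix.cons_val_three,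
      Matrix.head_cons, Matrix.tail_cons] at hL
    rcases hL with ⟨hL, _⟩ | ⟨hL, _⟩
    · rw [hsum] at hL
      exact zero_ne_one hL
    · rw [hsum] at hL
      have : (1 : F) = 0 := by linear_combination hL
      exact one_ne_zero this

end

/-- **K-SU4-A** -/
theorem not_isMaximalIn_frame_of_three {F : Type*} [Field F] [Fintype F] {q : ℕ}
    (hF : Fintype.card F = q ^ 2) (hq : q = 3)
    (D : Fin 4 → Submodule F (Fin 4 → F)) (hD : IsNondegenerateMDecomposition (Cfsg.hermForm 4 F q) 1 D) :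
    ¬ IsMaximalIn (Cfsg.GU 4 F q ⊓ specialLinear (Fin 4) F)
        (decompositionStabilizer D ⊓ (Cfsg.GU 4 F q ⊓ specialLinear (Fin 4) F)) := by
  have hF9 : Fintype.card F = 9 := by rw [hF, hq]; norm_num
  obtain ⟨O⟩ := exists_ocoord hF hq D hD
  have hT := hD.decomp.iSup_eq_top
  rintro ⟨_, hmax⟩
  rcases hmax (stabX O.C ⊓ (Cfsg.GU 4 F q ⊓ specialLinear (Fin 4) F))
    (le_inf (stab_inf_su_le hF hq O hT) inf_le_right) inf_le_right with h | h
  · have h1 : hadGL hF9 O.C ∈ stabX O.C ⊓ (Cfsg.GU 4 F q ⊓ specialLinear (Fin 4) F) :=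
      ⟨hadGL_mem_stabX hF9 O.C, hadGL_mem_GU hF hq O hT hF9,
        (Cfsg.Agent.S5635.mem_SL_iff _).mpr (hadGL_det hF9 O.C)⟩
    rw [h] at h1
    exact hadGL_not_mem hF9 O.C h1.1
  · obtain ⟨g, hg, hgX⟩ := exists_not_mem_stabX hF hq O hT
    rw [← h] at hg
    exact hgX hg.1

end Cfsg.Agent.Lib.Helper53.SU4
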