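import Mathlib
import Cfsg.Agent.Lib.Helper38.SpF.Defs

/-!
# K-SpF-FR (keystone 597504): a `K`-symplectic frame

Hands-on induction (no module structure over `↥K` is set up): split off hyperbolic `K`-pairs.
-/

set_option autoImplicit false
set_option linter.unusedSectionVars false
set_option linter.unusedVariables false

namespace Cfsg.Agent.Lib.Helper53.SpF

open Cfsg Cfsg.Geo Cfsg.Agent.Lib.Helper38.SpF
open scoped Matrix

section
variable {F : Type*} [Field F] {ι : Type} [Fintype ι] [DecidableEq ι]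

/-- hypotheses on the form and the field subalgebra -/
structure Hyp (f : (ι → F) → (ι → F) → F) (K : Subalgebra F (Matrix ι ι F)) : Prop where
  add_left : ∀ u u' v, f (u + u') v = f u v + f u' v
  smul_left : ∀ (c : F) u v, f (c • u) v = c * f u v
  add_right : ∀ u v v', f u (v + v') = f u v + f u v'
  smul_right : ∀ (c : F) u v, f u (c • v) = c * f u v
  comm : ∀ x ∈ K, ∀ y ∈ K, x * y = y * x
  inv : ∀ x ∈ K, x ≠ 0 → ∃ y ∈ K, x * y = 1
  sa : ∀ a ∈ K, ∀ u v, f (a *ᵥ u) v = f u (a *ᵥ v)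
  alt : ∀ a ∈ K, ∀ v, f (a *ᵥ v) v = 0

variable {f : (ι → F) → (ι → F) → F} {K : Subalgebra F (Matrix ι ι F)}

/-- the `K`-linear combination `∑ a_j u_j + ∑ b_j w_j` -/
def cmb {m : ℕ} (K : Subalgebra F (Matrix ι ι F)) (u w : Fin m → (ι → F)) (a b : Fin m → ↥K) : ι → F :=
  ∑ j, (a j : Matrix ι ι F) *ᵥ u j + ∑ j, (b j : Matrix ι ι F) *ᵥ w j

namespace Hyp

theorem self (h : Hyp f K) (v : ι → F) : f v v = 0 := by
  have := h.alt 1 K.one_mem v
  rwa [Matrix.one_mulVec] at this

theorem zero_left (h : Hyp f K) (v : ι → F) : f 0 v = 0 := by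
  have := h.smul_left 0 0 v
  rwa [zero_smul, zero_mul] at this

theorem zero_right (h : Hyp f K) (v : ι → F) : f v 0 = 0 := by
  have := h.smul_right 0 v 0
  rwa [zero_smul, zero_mul] at this

theorem swap (h : Hyp f K) (u v : ι → F) : f u v = - f v u := by
  have h1 := h.self (u + v)
  rw [h.add_left, h.add_right, h.add_right, h.self, h.self] at h1
  linear_combination h1

theorem neg_right (h : Hyp f K) (u v : ι → F) : f u (-v) = - f u v := by
  have := h.smul_right (-1) u v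
  rwa [neg_one_smul, neg_one_mul] at this

theorem sub_right (h : Hyp f K) (u v v' : ι → F) : f u (v - v') = f u v - f u v' := by
  rw [sub_eq_add_neg, h.add_right, h.neg_right, sub_eq_add_neg]

/-- the functional `c ↦ f (c u) x` on `K` -/
def fn (h : Hyp f K) (u x : ι → F) : ↥K →ₗ[F] F where
  toFun c := f ((c : Matrix ι ι F) *ᵥ u) x
  map_add' c c' := by
    show f (((c + c' : ↥K) : Matrix ι ι F) *ᵥ u) x = _
    rw [Subalgebra.coe_add, Matrix.add_mulVec, h.add_left]
  map_smul' r c := by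
    show f (((r • c : ↥K) : Matrix ι ι F) *ᵥ u) x = _
    rw [Subalgebra.coe_smul, Matrix.smul_mulVec, h.smul_left]
    rfl

theorem fn_apply (h : Hyp f K) (u x : ι → F) (c : ↥K) : h.fn u x c = f ((c : Matrix ι ι F) *ᵥ u) x := rfl

/-- multiplication by a non-zero element of `K` is onto -/
theorem exists_mul_eq (h : Hyp f K) (a : ↥K) (ha : a ≠ 0) (c : ↥K) : ∃ e : ↥K, a * e = c := by
  have ha' : (a : Matrix ι ι F) ≠ 0 := fun h0 => ha (Subtype.ext h0)
  obtain ⟨y, hy, hay⟩ := h.inv a a.2 ha'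
  refine ⟨⟨y, hy⟩ * c, ?_⟩
  apply Subtype.ext
  rw [Subalgebra.coe_mul, Subalgebra.coe_mul, ← mul_assoc]
  show (a : Matrix ι ι F) * y * (c : Matrix ι ι F) = c
  rw [hay, one_mul]

/-- every functional on `K` is `φ₀ (a * ·)` -/
theorem exists_rep (h : Hyp f K) (φ₀ φ : ↥K →ₗ[F] F) (h0 : φ₀ ≠ 0) :
    ∃ a : ↥K, ∀ c : ↥K, φ c = φ₀ (a * c) := by
  let L : ↥K →ₗ[F] (↥K →ₗ[F] F) := (LinearMap.mul F ↥K).compr₂ φ₀
  have hL : ∀ a c : ↥K, L a c = φ₀ (a * c) := fun a c => rfl
  have hinj : Function.Injective L := by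
    rw [injective_iff_map_eq_zero]
    intro a ha
    by_contra hne
    apply h0
    ext c
    obtain ⟨e, he⟩ := h.exists_mul_eq a hne c
    rw [← he, ← hL, ha]
    rfl
  have hdim : Module.finrank F ↥K = Module.finrank F (↥K →ₗ[F] F) :=
    (Subspace.dual_finrank_eq (K := F) (V := ↥K)).symm
  have hsurj : Function.Surjective L :=
    (LinearMap.injective_iff_surjective_of_finrank_eq_finrank hdim).mp hinj
  obtain ⟨a, ha⟩ := hsurj φ
  exact ⟨a, fun c => by rw [← ha, hL]⟩

/-- a non-zero element of `K` is detected by `lam (c * ·)` -/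
theorem exists_lam_ne (h : Hyp f K) (lam : ↥K →ₗ[F] F) (hlam : lam ≠ 0) (x : ↥K) (hx : x ≠ 0) :
    ∃ c : ↥K, lam (c * x) ≠ 0 := by
  by_contra hall
  push Not at hall
  apply hlam
  ext c
  obtain ⟨e, he⟩ := h.exists_mul_eq x hx c
  have := hall e
  have hxe : e * x = x * e := Subtype.ext (by
    rw [Subalgebra.coe_mul, Subalgebra.coe_mul]
    exact h.comm _ e.2 _ x.2)
  rw [hxe, he] at this
  rw [this]
  rfl

theorem mul_mulVec (a c : ↥K) (u : ι → F) :
    ((a * c : ↥K) : Matrix ι ι F) *ᵥ u = (a : Matrix ι ι F) *ᵥ ((c : Matrix ι ι F) *ᵥ u) := by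
  rw [Subalgebra.coe_mul, Matrix.mulVec_mulVec]

theorem mul_comm' (h : Hyp f K) (a c : ↥K) : a * c = c * a := Subtype.ext (by
  rw [Subalgebra.coe_mul, Subalgebra.coe_mul]
  exact h.comm _ a.2 _ c.2)

/-- `f (c u) (e u) = 0` -/
theorem line_iso (h : Hyp f K) (u : ι → F) (c e : ↥K) :
    f ((c : Matrix ι ι F) *ᵥ u) ((e : Matrix ι ι F) *ᵥ u) = 0 := by
  rw [← h.sa e e.2, ← mul_mulVec]
  exact h.alt _ (e * c).2 u

end Hyp

/-- the main induction -/
theorem exists_frame_aux (h : Hyp f K) (lam : ↥K →ₗ[F] F) (hlam : lam ≠ 0) :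
    ∀ (n : ℕ) (W : Submodule F (ι → F)), Module.finrank F W = n →
      (∀ a ∈ K, ∀ w ∈ W, a *ᵥ w ∈ W) → (∀ u ∈ W, (∀ w ∈ W, f u w = 0) → u = 0) →
      ∃ (m : ℕ) (u w : Fin m → (ι → F)), (∀ j, u j ∈ W) ∧ (∀ j, w j ∈ W) ∧
        (∀ a b a' b' : Fin m → ↥K, cmb K u w a b = cmb K u w a' b' → a = a' ∧ b = b') ∧
        (∀ x ∈ W, ∃ a b : Fin m → ↥K, cmb K u w a b = x) ∧
        (∀ a b a' b' : Fin m → ↥K,
          f (cmb K u w a b) (cmb K u w a' b') = lam (∑ j, (a j * b' j - b j * a' j))) := by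
  intro n
  induction n using Nat.strong_induction_on with
  | _ n ih =>
  intro W hn hinv hnd
  by_cases hW : W = ⊥
  · -- the trivial frame
    refine ⟨0, fun j => 0, fun j => 0, fun j => j.elim0, fun j => j.elim0, ?_, ?_, ?_⟩
    · intro a b a' b' _
      exact ⟨Subsingleton.elim _ _, Subsingleton.elim _ _⟩
    · intro x hx
      rw [hW, Submodule.mem_bot] at hx
      refine ⟨fun j => 0, fun j => 0, ?_⟩
      rw [hx]
      simp [cmb]
    · intro a b a' b'
      simp [cmb, h.zero_left]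
  · -- split off a hyperbolic pair
    obtain ⟨u₀, hu₀W, hu₀⟩ := Submodule.exists_mem_ne_zero_of_ne_bot hW
    have hw₁ : ∃ w₁ ∈ W, f u₀ w₁ ≠ 0 := by
      by_contra hall
      push Not at hall
      exact hu₀ (hnd u₀ hu₀W hall)
    obtain ⟨w₁, hw₁W, hw₁⟩ := hw₁
    have hφ₀ : h.fn u₀ w₁ ≠ 0 := by
      intro h0
      apply hw₁
      have := congrArg (fun φ : ↥K →ₗ[F] F => φ 1) h0
      simp only [Hyp.fn_apply, Subalgebra.coe_one, Matrix.one_mulVec, LinearMap.zero_apply] at this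
      exact this
    obtain ⟨a₁, ha₁⟩ := h.exists_rep (h.fn u₀ w₁) lam hφ₀
    set w₀ : ι → F := (a₁ : Matrix ι ι F) *ᵥ w₁ with hw₀
    have hw₀W : w₀ ∈ W := hinv _ a₁.2 _ hw₁W
    -- the basic identities
    have E1 : ∀ c : ↥K, f ((c : Matrix ι ι F) *ᵥ u₀) w₀ = lam c := by
      intro c
      rw [ha₁ c, Hyp.fn_apply, Hyp.mul_mulVec, h.sa _ a₁.2]
    have I3 : ∀ c e : ↥K, f ((c : Matrix ι ι F) *ᵥ u₀) ((e : Matrix ι ι F) *ᵥ w₀) = lam (e * c) := by
      intro c e
      rw [← h.sa e e.2, ← Hyp.mul_mulVec, E1]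
    have I4 : ∀ c e : ↥K, f ((c : Matrix ι ι F) *ᵥ w₀) ((e : Matrix ι ι F) *ᵥ u₀) = - lam (c * e) := by
      intro c e
      rw [h.swap, I3]
    -- the orthogonal complement of the pair inside `W`
    let W' : Submodule F (ι → F) :=
      { carrier := {x | x ∈ W ∧ ∀ c : ↥K, f ((c : Matrix ι ι F) *ᵥ u₀) x = 0 ∧
          f ((c : Matrix ι ι F) *ᵥ w₀) x = 0}
        add_mem' := by
          rintro x y ⟨hx, hx'⟩ ⟨hy, hy'⟩
          refine ⟨W.add_mem hx hy, fun c => ?_⟩
          rw [h.add_right, h.add_right, (hx' c).1, (hx' c).2, (hy' c).1, (hy' c).2, add_zero]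
          exact ⟨rfl, rfl⟩
        zero_mem' := ⟨W.zero_mem, fun c => ⟨h.zero_right _, h.zero_right _⟩⟩
        smul_mem' := by
          rintro r x ⟨hx, hx'⟩
          refine ⟨W.smul_mem r hx, fun c => ?_⟩
          rw [h.smul_right, h.smul_right, (hx' c).1, (hx' c).2, mul_zero]
          exact ⟨rfl, rfl⟩ }
    have hW'mem : ∀ x, x ∈ W' ↔ (x ∈ W ∧ ∀ c : ↥K, f ((c : Matrix ι ι F) *ᵥ u₀) x = 0 ∧
        f ((c : Matrix ι ι F) *ᵥ w₀) x = 0) := fun x => Iff.rfl
    have hW'le : W' ≤ W := fun x hx => hx.1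
    -- `u₀ ∉ W'`
    have hu₀W' : u₀ ∉ W' := by
      intro hmem
      obtain ⟨c, hc⟩ : ∃ c : ↥K, lam c ≠ 0 := by
        by_contra hall
        push Not at hall
        exact hlam (LinearMap.ext hall)
      have h1 := ((hW'mem u₀).mp hmem).2 c
      have h2 := I4 c 1
      rw [Subalgebra.coe_one, Matrix.one_mulVec, mul_one] at h2
      rw [h2, neg_eq_zero] at h1
      exact hc h1.2
    have hlt : W' < W := lt_of_le_of_ne hW'le (fun heq => hu₀W' (heq ▸ hu₀W))
    have hfr : Module.finrank F W' < n := hn ▸ Submodule.finrank_lt_finrank_of_lt hlt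
    -- `K`-invariance of `W'`
    have hinv' : ∀ a ∈ K, ∀ x ∈ W', a *ᵥ x ∈ W' := by
      intro a ha x hx
      refine ⟨hinv a ha x hx.1, fun c => ?_⟩
      have e1 : f ((c : Matrix ι ι F) *ᵥ u₀) (a *ᵥ x) = f (((⟨a, ha⟩ * c : ↥K) : Matrix ι ι F) *ᵥ u₀) x := by
        rw [← h.sa a ha, Hyp.mul_mulVec]
      have e2 : f ((c : Matrix ι ι F) *ᵥ w₀) (a *ᵥ x) = f (((⟨a, ha⟩ * c : ↥K) : Matrix ι ι F) *ᵥ w₀) x := by
        rw [← h.sa a ha, Hyp.mul_mulVec]
      rw [e1, e2]
      exact hx.2 _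
    -- the decomposition
    have hdec : ∀ z ∈ W, ∃ a₀ b₀ : ↥K,
        z - ((a₀ : Matrix ι ι F) *ᵥ u₀ + (b₀ : Matrix ι ι F) *ᵥ w₀) ∈ W' := by
      intro z hz
      obtain ⟨p, hp⟩ := h.exists_rep lam (h.fn u₀ z) hlam
      obtain ⟨q, hq⟩ := h.exists_rep lam (h.fn w₀ z) hlam
      refine ⟨-q, p, ?_, fun c => ⟨?_, ?_⟩⟩
      · exact W.sub_mem hz (W.add_mem (hinv _ (-q).2 _ hu₀W) (hinv _ p.2 _ hw₀W))
      · have e1 := hp c
        rw [Hyp.fn_apply] at e1
        rw [h.sub_right, h.add_right, h.line_iso, I3, e1]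
        ring
      · have e1 := hq c
        rw [Hyp.fn_apply] at e1
        rw [h.sub_right, h.add_right, h.line_iso, I4, e1, h.mul_comm' c (-q)]
        have hneg0 : (-q) * c = -(q * c) := neg_mul q c
        rw [hneg0, map_neg]
        ring
    -- non-degeneracy of `W'`
    have hnd' : ∀ x ∈ W', (∀ y ∈ W', f x y = 0) → x = 0 := by
      intro x hx hall
      apply hnd x hx.1
      intro z hz
      obtain ⟨a₀, b₀, hz'⟩ := hdec z hz
      have e1 : z = (z - ((a₀ : Matrix ι ι F) *ᵥ u₀ + (b₀ : Matrix ι ι F) *ᵥ w₀)) +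
          ((a₀ : Matrix ι ι F) *ᵥ u₀ + (b₀ : Matrix ι ι F) *ᵥ w₀) := by abel
      rw [e1, h.add_right, hall _ hz', h.add_right, h.swap x, h.swap x ((b₀ : Matrix ι ι F) *ᵥ w₀),
        (hx.2 a₀).1, (hx.2 b₀).2]
      ring
    obtain ⟨m', u', w', hu', hw', hinj', hsurj', hform'⟩ := ih _ hfr W' rfl hinv' hnd'
    -- the new frame
    have hcmb : ∀ a b : Fin (m' + 1) → ↥K,
        cmb K (Fin.cons u₀ u') (Fin.cons w₀ w') a b =
          ((a 0 : Matrix ι ι F) *ᵥ u₀ + (b 0 : Matrix ι ι F) *ᵥ w₀) +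
            cmb K u' w' (Fin.tail a) (Fin.tail b) := by
      intro a b
      unfold cmb
      rw [Fin.sum_univ_succ, Fin.sum_univ_succ]
      simp only [Fin.cons_zero, Fin.cons_succ, Fin.tail]
      abel
    have hY : ∀ a b : Fin m' → ↥K, cmb K u' w' a b ∈ W' := by
      intro a b
      unfold cmb
      apply W'.add_mem
      · exact W'.sum_mem (fun j _ => hinv' _ (a j).2 _ (hu' j))
      · exact W'.sum_mem (fun j _ => hinv' _ (b j).2 _ (hw' j))
    -- pairing with the new pair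
    have hpairU : ∀ (a b : Fin (m' + 1) → ↥K) (c : ↥K),
        f ((c : Matrix ι ι F) *ᵥ u₀) (cmb K (Fin.cons u₀ u') (Fin.cons w₀ w') a b) = lam (b 0 * c) := by
      intro a b c
      rw [hcmb, h.add_right, h.add_right, h.line_iso, I3, ((hY _ _).2 c).1]
      ring
    have hpairW : ∀ (a b : Fin (m' + 1) → ↥K) (c : ↥K),
        f ((c : Matrix ι ι F) *ᵥ w₀) (cmb K (Fin.cons u₀ u') (Fin.cons w₀ w') a b) = - lam (c * a 0) := by
      intro a b c
      rw [hcmb, h.add_right, h.add_right, h.line_iso, I4, ((hY _ _).2 c).2]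
      ring
    refine ⟨m' + 1, Fin.cons u₀ u', Fin.cons w₀ w', ?_, ?_, ?_, ?_, ?_⟩
    · intro j
      refine Fin.cases ?_ (fun i => ?_) j
      · rw [Fin.cons_zero]; exact hu₀W
      · rw [Fin.cons_succ]; exact hW'le (hu' i)
    · intro j
      refine Fin.cases ?_ (fun i => ?_) j
      · rw [Fin.cons_zero]; exact hw₀W
      · rw [Fin.cons_succ]; exact hW'le (hw' i)
    · -- injectivity
      intro a b a' b' heq
      have hb0 : b 0 = b' 0 := by
        by_contra hne
        obtain ⟨c, hc⟩ := h.exists_lam_ne lam hlam (b 0 - b' 0) (sub_ne_zero.mpr hne)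
        apply hc
        have e1 := hpairU a b c
        rw [heq, hpairU] at e1
        rw [h.mul_comm' c, sub_mul, map_sub, e1, sub_self]
      have ha0 : a 0 = a' 0 := by
        by_contra hne
        obtain ⟨c, hc⟩ := h.exists_lam_ne lam hlam (a 0 - a' 0) (sub_ne_zero.mpr hne)
        apply hc
        have e1 := hpairW a b c
        rw [heq, hpairW] at e1
        rw [mul_sub, map_sub]
        linear_combination e1
      have htail : cmb K u' w' (Fin.tail a) (Fin.tail b) = cmb K u' w' (Fin.tail a') (Fin.tail b') := by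
        have e1 := heq
        rw [hcmb, hcmb, ha0, hb0] at e1
        exact add_left_cancel e1
      obtain ⟨hta, htb⟩ := hinj' _ _ _ _ htail
      constructor
      · funext j
        refine Fin.cases ha0 (fun i => ?_) j
        exact congrFun hta i
      · funext j
        refine Fin.cases hb0 (fun i => ?_) j
        exact congrFun htb i
    · -- surjectivity
      intro z hz
      obtain ⟨a₀, b₀, hz'⟩ := hdec z hz
      obtain ⟨a', b', hab⟩ := hsurj' _ hz'
      refine ⟨Fin.cons a₀ a', Fin.cons b₀ b', ?_⟩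
      rw [hcmb]
      simp only [Fin.cons_zero, Fin.tail_cons]
      rw [hab]
      abel
    · -- the form
      intro a b a' b'
      have hYY := hform' (Fin.tail a) (Fin.tail b) (Fin.tail a') (Fin.tail b')
      have hY1 := hY (Fin.tail a) (Fin.tail b)
      have hY2 := hY (Fin.tail a') (Fin.tail b')
      rw [hcmb a b, hcmb a' b', h.add_left, h.add_left, h.add_right, h.add_right, h.add_right,
        h.add_right, h.add_right, h.add_right, h.line_iso, h.line_iso, I3, I4,
        (hY2.2 (a 0)).1, (hY2.2 (b 0)).2,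
        h.swap (cmb K u' w' (Fin.tail a) (Fin.tail b)) ((a' 0 : Matrix ι ι F) *ᵥ u₀),
        h.swap (cmb K u' w' (Fin.tail a) (Fin.tail b)) ((b' 0 : Matrix ι ι F) *ᵥ w₀),
        (hY1.2 (a' 0)).1, (hY1.2 (b' 0)).2, hYY, Fin.sum_univ_succ, map_add, map_sub,
        h.mul_comm' (b' 0) (a 0)]
      simp only [Fin.tail]
      ring

end

section symp
variable {F : Type*} [Field F]

theorem sympForm_sum (d : ℕ) (u v : Fin d ⊕ Fin d → F) :
    sympForm d F u v = ∑ i, (u (Sum.inr i) * v (Sum.inl i) - u (Sum.inl i) * v (Sum.inr i)) := by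
  unfold sympForm
  rw [Matrix.J, dotProduct, Fintype.sum_sum_type]
  simp only [Matrix.fromBlocks_mulVec, Sum.elim_inl, Sum.elim_inr, Matrix.zero_mulVec, Matrix.neg_mulVec,
    Matrix.one_mulVec, zero_add, add_zero, Pi.neg_apply, Function.comp_apply]
  rw [Finset.sum_sub_distrib]
  simp only [mul_neg, Finset.sum_neg_distrib]
  ring

theorem hyp_sympForm (d k : ℕ) (K : Subalgebra F (Matrix (Fin d ⊕ Fin d) (Fin d ⊕ Fin d) F))
    (hS : IsSType d k K) : Hyp (sympForm d F) K where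
  add_left u u' v := by unfold sympForm; rw [add_dotProduct]
  smul_left c u v := by unfold sympForm; rw [smul_dotProduct, smul_eq_mul]
  add_right u v v' := by unfold sympForm; rw [Matrix.mulVec_add, dotProduct_add]
  smul_right c u v := by unfold sympForm; rw [Matrix.mulVec_smul, dotProduct_smul, smul_eq_mul]
  comm := hS.field.comm
  inv := hS.field.inv
  sa := hS.sa
  alt := hS.alt

theorem sympForm_nondeg (d : ℕ) (u : Fin d ⊕ Fin d → F) (hu : ∀ w, sympForm d F u w = 0) : u = 0 := by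
  classical
  funext x
  rcases x with i | i
  · have := hu (Pi.single (Sum.inr i) 1)
    rw [sympForm_sum] at this
    simp only [Pi.single_apply, reduceCtorEq, if_false, mul_zero, zero_sub, Sum.inr.injEq] at this
    rw [Finset.sum_eq_single i] at this
    · simpa using this
    · intro j _ hj
      simp [hj]
    · intro h; exact absurd (Finset.mem_univ i) h
  · have := hu (Pi.single (Sum.inl i) 1)
    rw [sympForm_sum] at this
    simp only [Pi.single_apply, reduceCtorEq, if_false, mul_zero, sub_zero, Sum.inl.injEq] at this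
    rw [Finset.sum_eq_single i] at this
    · simpa using this
    · intro j _ hj
      simp [hj]
    · intro h; exact absurd (Finset.mem_univ i) h

/-- **K-SpF-FR** (keystone 597504), with the (necessary) hypothesis `0 < d`. -/
theorem exists_frame [Finite F] (d k : ℕ) (hd : 0 < d)
    (K : Subalgebra F (Matrix (Fin d ⊕ Fin d) (Fin d ⊕ Fin d) F)) (hS : IsSType d k K) :
    ∃ (m : ℕ) (lam : ↥K →ₗ[F] F) (u w : Fin m → (Fin d ⊕ Fin d → F)),
      d = k * m ∧ IsFrame d m K lam u w := by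
  classical
  have h := hyp_sympForm d k K hS
  have _ : Nonempty (Fin d ⊕ Fin d) := ⟨Sum.inl ⟨0, hd⟩⟩
  -- a non-zero functional
  have h1 : (1 : ↥K) ≠ 0 := by
    intro h0
    have := congrArg (fun x : ↥K => (x : Matrix (Fin d ⊕ Fin d) (Fin d ⊕ Fin d) F)) h0
    simp only [Subalgebra.coe_one, Subalgebra.coe_zero] at this
    exact one_ne_zero this
  obtain ⟨lam, hlam1⟩ : ∃ lam : ↥K →ₗ[F] F, lam 1 ≠ 0 := by
    by_contra hall
    push Not at hall
    exact h1 ((Module.forall_dual_apply_eq_zero_iff F (1 : ↥K)).mp hall)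
  have hlam : lam ≠ 0 := fun h0 => hlam1 (by rw [h0]; rfl)
  obtain ⟨m, u, w, _, _, hinj, hsurj, hform⟩ :=
    exists_frame_aux h lam hlam _ ⊤ rfl (fun _ _ _ _ => Submodule.mem_top)
      (fun u _ hu => sympForm_nondeg d u (fun w => hu w Submodule.mem_top))
  have hbij : Function.Bijective
      (fun ab : (Fin m → ↥K) × (Fin m → ↥K) => comb K u w ab.1 ab.2) := by
    constructor
    · rintro ⟨a, b⟩ ⟨a', b'⟩ hab
      obtain ⟨h1, h2⟩ := hinj a b a' b' hab
      rw [h1, h2]
    · intro x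
      obtain ⟨a, b, hab⟩ := hsurj x Submodule.mem_top
      exact ⟨(a, b), hab⟩
  refine ⟨m, lam, u, w, ?_, ⟨hlam, hbij, hform⟩⟩
  -- the dimension count
  have _ : Fintype F := Fintype.ofFinite F
  have hcard := Nat.card_congr (Equiv.ofBijective _ hbij)
  have hK : Nat.card ↥K = Nat.card F ^ k := by
    rw [Module.natCard_eq_pow_finrank (K := F) (V := ↥K), hS.field.finrank_eq]
  rw [Nat.card_prod, Nat.card_fun, Nat.card_fun, hK] at hcard
  simp only [Nat.card_eq_fintype_card, Fintype.card_fin, Fintype.card_sum] at hcard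
  have hq : 1 < Fintype.card F := Fintype.one_lt_card
  rw [← pow_mul, ← pow_add] at hcard
  have := Nat.pow_right_injective hq hcard
  omega

end symp

end Cfsg.Agent.Lib.Helper53.SpF
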