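import Cfsg.Agent.Lib.Helper53.StOmDefs
import Cfsg.Agent.Lib.Helper43.OmegaCount
import Cfsg.Agent.Lib.Helper50.MinusTwoB

/-!
# K-StOm-E1 (keystone 254924, pack S2549): characteristic two, `Ω T = O⁻`
-/

set_option autoImplicit false
set_option linter.unusedSectionVars false
set_option linter.unusedVariables false

namespace Cfsg.Agent.Lib.Helper53.StOm

open Cfsg

variable {m : ℕ} {F : Type*} [Field F] {a b : F}

/-- `Ω` has index two in `O⁻_{2m+2}(F)`, characteristic two, every `m` -/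
theorem index_Omega_minus_char_two [Fintype F] [CharP F 2]
    (hab : ∀ z₁ z₂ : F, z₁ ^ 2 + a * z₁ * z₂ + b * z₂ ^ 2 = 0 → z₁ = 0 ∧ z₂ = 0) :
    (Cfsg.Omega F (Cfsg.quadFormMinus m F a b)).index = 2 := by
  have hc := Cfsg.Agent.Lib.Helper43.middle_ne_zero' a b hab
  have hQ := Cfsg.Agent.Lib.Helper43.qfMinus_nondegenerate m F a b hc
  have hgen := Cfsg.Agent.Lib.Helper43.reflGenerated_minus m a b hc hab
  haveI : Nonempty ((Fin m ⊕ Fin m) ⊕ Fin 2) := ⟨Sum.inr 0⟩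
  have h := Cfsg.Agent.Lib.Helper43.index_ker_dickson (Cfsg.Agent.Lib.Helper43.qfMinus m F a b) hQ hgen
  rw [← Cfsg.Agent.Lib.Helper43.Omega_eq_ker_dickson (Cfsg.Agent.Lib.Helper43.qfMinus m F a b) hQ hgen] at h
  exact h

theorem mat_wIso : mat (Cfsg.Agent.Lib.Helper50.wIso m a b) =
    Cfsg.reflectionMatrix (Cfsg.quadFormMinus m F a b) (Pi.single (Sum.inr 0) 1) := rfl

theorem polar_z0 (y : MI m) (hy : pos m y ≠ m) :
    QuadraticMap.polar (Cfsg.quadFormMinus m F a b) (Pi.single (Sum.inr 0) 1) (Pi.single y 1) = 0 := by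
  rcases y with (y | y) | y
  · unfold QuadraticMap.polar Cfsg.quadFormMinus
    simp [Pi.single_apply]
  · unfold QuadraticMap.polar Cfsg.quadFormMinus
    simp [Pi.single_apply]
  · exact absurd rfl hy

theorem wIso_mem_T : Cfsg.Agent.Lib.Helper50.wIso m a b ∈ Tsub m F a b := by
  rw [mem_Tsub_iff]
  intro x y hxy
  rw [mat_wIso]
  unfold Cfsg.reflectionMatrix
  have hne : x ≠ y := fun h => hxy (by rw [h])
  rw [Matrix.sub_apply, Matrix.one_apply_ne hne, Matrix.smul_apply, Matrix.vecMulVec_apply, zero_sub,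
    neg_eq_zero, smul_eq_mul]
  by_cases hx : x = Sum.inr 0
  · subst hx
    have hy : pos m y ≠ m := fun h => hxy (by rw [h]; rfl)
    have : Cfsg.polarVec (Cfsg.quadFormMinus m F a b) (Pi.single (Sum.inr 0) 1) y = 0 := polar_z0 y hy
    rw [this, mul_zero, mul_zero]
  · rw [Pi.single_eq_of_ne hx, zero_mul, mul_zero]

/-- LEAF E1, verbatim spec signature -/
theorem omega_sup_T_char_two [Fintype F] [CharP F 2]
    (hab : ∀ z₁ z₂ : F, z₁ ^ 2 + a * z₁ * z₂ + b * z₂ ^ 2 = 0 → z₁ = 0 ∧ z₂ = 0) :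
    Cfsg.Omega F (Cfsg.quadFormMinus m F a b) ⊔ Tsub m F a b = ⊤ := by
  have hidx := index_Omega_minus_char_two (m := m) hab
  have hw := Cfsg.Agent.Lib.Helper50.wIso_not_mem_Omega' m a b hab
  have hwT := wIso_mem_T (m := m) (a := a) (b := b)
  rw [eq_top_iff]
  intro x _
  by_cases hx : x ∈ Cfsg.Omega F (Cfsg.quadFormMinus m F a b)
  · exact (le_sup_left : Cfsg.Omega F (Cfsg.quadFormMinus m F a b) ≤ _) hx
  · have hwi : (Cfsg.Agent.Lib.Helper50.wIso m a b)⁻¹ ∉ Cfsg.Omega F (Cfsg.quadFormMinus m F a b) :=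
      fun h => hw (by simpa using inv_mem h)
    have h1 : x * (Cfsg.Agent.Lib.Helper50.wIso m a b)⁻¹ ∈ Cfsg.Omega F (Cfsg.quadFormMinus m F a b) := by
      rw [Subgroup.mul_mem_iff_of_index_two hidx]
      exact ⟨fun h => absurd h hx, fun h => absurd h hwi⟩
    have e : x = x * (Cfsg.Agent.Lib.Helper50.wIso m a b)⁻¹ * Cfsg.Agent.Lib.Helper50.wIso m a b := by
      group
    rw [e]
    exact mul_mem ((le_sup_left : Cfsg.Omega F (Cfsg.quadFormMinus m F a b) ≤ _) h1)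
      ((le_sup_right : Tsub m F a b ≤ _) hwT)

end Cfsg.Agent.Lib.Helper53.StOm
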