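import Cfsg.Agent.Lib.Helper53.StOmDefs
import Cfsg.Agent.Lib.Helper43.OmegaCount

/-!
# K-StOm-E2 (keystone 254925, pack S2549): characteristic two, `T ∩ Ω` has odd order
-/

set_option autoImplicit false
set_option linter.unusedSectionVars false
set_option linter.unusedVariables false

namespace Cfsg.Agent.Lib.Helper53.StOm

open Cfsg

variable {m : ℕ} {F : Type*} [Field F] {a b : F}

theorem e2_sq_eq_one [CharP F 2] (c : F) (h : c * c = 1) : c = 1 := by
  have h2 : (2 : F) = 0 := CharTwo.two_eq_zero
  have h1 : (c - 1) * (c - 1) = 0 := by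
    have : (c - 1) * (c - 1) = c * c - 2 * c + 1 := by ring
    rw [this, h, h2]; ring_nf
    exact h2
  have := mul_self_eq_zero.1 h1
  exact sub_eq_zero.1 this

theorem e2_notZ (x y : MI m) (hx : pos m x ≠ m) (h : pos m y = pos m x) : y = x := by
  rcases pos_eq_imp m y x h with h1 | ⟨_, h2⟩
  · exact h1
  · exact absurd h2 hx

/-- the diagonal entries of an involution in `T` away from the plane are `1` -/
theorem e2_diag [CharP F 2] (g : OG m F a b) (hgT : g ∈ Tsub m F a b) (hgg : g * g = 1)
    (x : MI m) (hx : pos m x ≠ m) : mat g x x = 1 := by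
  apply e2_sq_eq_one
  have h1 : (mat g * mat g) x x = 1 := by
    rw [← mat_mul, hgg, mat_one, Matrix.one_apply_eq]
  rw [Matrix.mul_apply, Finset.sum_eq_single x] at h1
  · exact h1
  · intro y _ hy
    have : pos m x ≠ pos m y := fun h => hy (e2_notZ x y hx h.symm)
    rw [(mem_Tsub_iff g).1 hgT x y this, zero_mul]
  · intro h; exact absurd (Finset.mem_univ x) h

/-- `mat g - 1` vanishes outside the plane block -/
theorem e2_supp [CharP F 2] (g : OG m F a b) (hgT : g ∈ Tsub m F a b) (hgg : g * g = 1)
    (x y : MI m) (h : pos m x ≠ m ∨ pos m y ≠ m) : (mat g - 1) x y = 0 := by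
  rw [Matrix.sub_apply]
  by_cases hxy : pos m x = pos m y
  · have e : x = y := by
      rcases h with h | h
      · exact (e2_notZ x y h hxy.symm).symm
      · exact e2_notZ y x h hxy
    subst e
    have hx : pos m x ≠ m := by rcases h with h | h <;> exact h
    rw [e2_diag g hgT hgg x hx, Matrix.one_apply_eq, sub_self]
  · have hne : x ≠ y := fun e => hxy (by rw [e])
    rw [(mem_Tsub_iff g).1 hgT x y hxy, Matrix.one_apply_ne hne, sub_self]

theorem e2_isZ (x : MI m) (h : pos m x = m) : x = zI 0 ∨ x = zI 1 := by
  rcases x with (x | x) | x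
  · have := x.2; simp only [pos] at h; omega
  · have := x.2; simp only [pos] at h; omega
  · fin_cases x
    · left; rfl
    · right; rfl

/-- the rank of `mat g - 1` is at most one for an involution `g ∈ T` (characteristic two) -/
theorem e2_rank_le [CharP F 2] (g : OG m F a b) (hgT : g ∈ Tsub m F a b) (hgg : g * g = 1) :
    (mat g - 1).rank ≤ 1 := by
  have h2 : (2 : F) = 0 := CharTwo.two_eq_zero
  set N := mat g - 1 with hN
  have hNN : N * N = 0 := by
    have : N * N = mat g * mat g - 2 • mat g + 1 := by
      rw [hN]; noncomm_ring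
    rw [this, ← mat_mul, hgg, mat_one]
    have : (2 : ℕ) • mat g = 0 := by
      ext x y
      rw [Matrix.smul_apply, nsmul_eq_mul]
      have : ((2 : ℕ) : F) = 0 := by exact_mod_cast h2
      rw [this, zero_mul, Matrix.zero_apply]
    rw [this, sub_zero]
    ext x y
    rw [Matrix.add_apply, Matrix.zero_apply, ← two_mul, h2, zero_mul]
  have hsupp := e2_supp g hgT hgg
  rw [← hN] at hsupp
  -- entries of the block
  set p := N (zI 0) (zI 0) with hp
  set q := N (zI 0) (zI 1) with hq
  set r := N (zI 1) (zI 0) with hr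
  set s := N (zI 1) (zI 1) with hs
  have hsum : ∀ x y, (N * N) x y = N x (zI 0) * N (zI 0) y + N x (zI 1) * N (zI 1) y := by
    intro x y
    rw [Matrix.mul_apply]
    have hsub : ∀ z ∈ (Finset.univ : Finset (MI m)), z ∉ ({zI 0, zI 1} : Finset (MI m)) →
        N x z * N z y = 0 := by
      intro z _ hz
      have hzm : pos m z ≠ m := by
        intro hzm
        rcases e2_isZ z hzm with e | e
        · exact hz (by rw [e]; simp)
        · exact hz (by rw [e]; simp)
      rw [hsupp x z (Or.inr hzm), zero_mul]
    rw [← Finset.sum_subset (Finset.subset_univ _) hsub, Finset.sum_pair]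
    intro e
    have := Sum.inr.inj e
    exact absurd this (by decide)
  have e00 : p * p + q * r = 0 := by
    have := hsum (zI 0) (zI 0); rw [hNN, Matrix.zero_apply] at this; exact this.symm
  have e01 : p * q + q * s = 0 := by
    have := hsum (zI 0) (zI 1); rw [hNN, Matrix.zero_apply] at this; exact this.symm
  have e10 : r * p + s * r = 0 := by
    have := hsum (zI 1) (zI 0); rw [hNN, Matrix.zero_apply] at this; exact this.symm
  have e11 : r * q + s * s = 0 := by
    have := hsum (zI 1) (zI 1); rw [hNN, Matrix.zero_apply] at this; exact this.symm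
  have hneg : ∀ c : F, -c = c := fun c => by
    have : c + c = 0 := by rw [← two_mul, h2, zero_mul]
    exact neg_eq_of_add_eq_zero_left this
  -- `s = p`
  have hsp : s = p := by
    have h1 : (s - p) * (s - p) = 0 := by
      have : (s - p) * (s - p) = (r * q + s * s) + (p * p + q * r) - 2 * (s * p) - 2 * (q * r) := by ring
      rw [this, e11, e00, h2]; ring
    exact sub_eq_zero.1 (mul_self_eq_zero.1 h1)
  have hpp : p * p = q * r := by
    have := e00
    have h3 : p * p = -(q * r) := eq_neg_of_add_eq_zero_left this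
    rw [h3, hneg]
  by_cases hq0 : q = 0
  · -- then `p = 0`, block `[[0,0],[r,0]]`
    have hp0 : p = 0 := by
      have : p * p = 0 := by rw [hpp, hq0, zero_mul]
      exact mul_self_eq_zero.1 this
    have hs0 : s = 0 := by rw [hsp, hp0]
    have hmat : N = Matrix.vecMulVec (fun x => if x = zI 1 then (1 : F) else 0)
        (fun y => if y = zI 0 then r else 0) := by
      ext x y
      rw [Matrix.vecMulVec_apply]
      by_cases hx : pos m x = m
      · by_cases hy : pos m y = m
        · rcases e2_isZ x hx with rfl | rfl <;> rcases e2_isZ y hy with rfl | rfl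
          · change p = _; rw [hp0]; simp
          · change q = _; rw [hq0]; simp
          · change r = _; simp
          · change s = _; rw [hs0]; simp
        · rw [hsupp x y (Or.inr hy)]
          have : y ≠ zI 0 := fun e => hy (by rw [e]; rfl)
          rw [if_neg this, mul_zero]
      · rw [hsupp x y (Or.inl hx)]
        have : x ≠ zI 1 := fun e => hx (by rw [e]; rfl)
        rw [if_neg this, zero_mul]
    rw [hmat]
    exact Matrix.rank_vecMulVec_le _ _
  · have hmat : N = Matrix.vecMulVec (fun x => if x = zI 0 then (1 : F) else if x = zI 1 then p / q else 0)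
        (fun y => if y = zI 0 then p else if y = zI 1 then q else 0) := by
      ext x y
      rw [Matrix.vecMulVec_apply]
      have h01 : (zI 1 : MI m) ≠ zI 0 := by
        intro e
        have := Sum.inr.inj e
        exact absurd this (by decide)
      by_cases hx : pos m x = m
      · by_cases hy : pos m y = m
        · rcases e2_isZ x hx with rfl | rfl <;> rcases e2_isZ y hy with rfl | rfl
          · change p = _; simp
          · change q = _; simp [h01]
          · change r = _
            rw [if_neg h01, if_pos rfl, if_pos rfl]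
            field_simp
            rw [mul_comm r q, ← hpp]; ring
          · change s = _
            rw [if_neg h01, if_pos rfl, if_neg h01, if_pos rfl, hsp]
            field_simp
        · rw [hsupp x y (Or.inr hy)]
          have h0 : y ≠ zI 0 := fun e => hy (by rw [e]; rfl)
          have h1 : y ≠ zI 1 := fun e => hy (by rw [e]; rfl)
          rw [if_neg h0, if_neg h1, mul_zero]
      · rw [hsupp x y (Or.inl hx)]
        have h0 : x ≠ zI 0 := fun e => hx (by rw [e]; rfl)
        have h1 : x ≠ zI 1 := fun e => hx (by rw [e]; rfl)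
        rw [if_neg h0, if_neg h1, zero_mul]
    rw [hmat]
    exact Matrix.rank_vecMulVec_le _ _

/-- LEAF E2, verbatim spec signature -/
theorem not_two_dvd_card_T_inf_Omega [Fintype F] [CharP F 2]
    (hab : ∀ z₁ z₂ : F, z₁ ^ 2 + a * z₁ * z₂ + b * z₂ ^ 2 = 0 → z₁ = 0 ∧ z₂ = 0) :
    ¬ 2 ∣ Nat.card ↥(Tsub m F a b ⊓ Cfsg.Omega F (Cfsg.quadFormMinus m F a b)) := by
  intro hdvd
  have hc := Cfsg.Agent.Lib.Helper43.middle_ne_zero' a b hab
  have hQ := Cfsg.Agent.Lib.Helper43.qfMinus_nondegenerate m F a b hc
  have hgen := Cfsg.Agent.Lib.Helper43.reflGenerated_minus m a b hc hab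
  have hfin : Finite (OG m F a b) := by
    unfold OG
    infer_instance
  haveI : Fact (Nat.Prime 2) := ⟨Nat.prime_two⟩
  obtain ⟨x, hx⟩ := exists_prime_orderOf_dvd_card' (G := ↥(Tsub m F a b ⊓ Cfsg.Omega F (Cfsg.quadFormMinus m F a b))) 2 hdvd
  have hx2 : x ^ 2 = 1 := by
    have h := pow_orderOf_eq_one x
    rwa [hx] at h
  have hx1 : x ≠ 1 := by
    intro h
    rw [h, orderOf_one] at hx
    omega
  set g : OG m F a b := (x : OG m F a b) with hg
  have hgT : g ∈ Tsub m F a b := x.2.1
  have hgO : g ∈ Cfsg.Omega F (Cfsg.quadFormMinus m F a b) := x.2.2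
  have hgg : g * g = 1 := by
    have := congrArg (fun y : ↥(Tsub m F a b ⊓ Cfsg.Omega F (Cfsg.quadFormMinus m F a b)) => (y : OG m F a b)) hx2
    simpa [pow_two] using this
  have hg1 : g ≠ 1 := fun h => hx1 (Subtype.ext h)
  have hev := (Cfsg.Agent.Lib.Helper43.mem_Omega_iff_even_rank (Cfsg.Agent.Lib.Helper43.qfMinus m F a b)
    hQ hgen g).1 hgO
  have hpos := Cfsg.Agent.Lib.Helper43.rank_pos_of_ne_one (Cfsg.Agent.Lib.Helper43.qfMinus m F a b) g hg1
  have hle : (mat g - 1).rank ≤ 1 := e2_rank_le g hgT hgg
  have hle' : (((g : Matrix.GeneralLinearGroup (MI m) F) : Matrix (MI m) (MI m) F) - 1).rank ≤ 1 := hle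
  obtain ⟨k, hk⟩ := hev
  omega

end Cfsg.Agent.Lib.Helper53.StOm
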