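import Cfsg.Agent.Lib.Helper53.StOmLeaves
import Cfsg.Agent.Lib.Helper49.StGeneric
import Cfsg.Agent.Lib.Helper28.StSUA4p
import Cfsg.Agent.Lib.Helper48.StORestrict
import Cfsg.Agent.Lib.Helper82.StOO12
import Cfsg.Agent.Lib.Helper62.StSUA6
import Cfsg.Agent.Lib.Helper50.SpinorIndex
import Cfsg.Agent.Lib.Helper50.MinusLang

set_option autoImplicit false
set_option linter.unusedSectionVars false
set_option linter.unusedVariables false

namespace Cfsg.Agent.Lib.Helper53.StOmGlue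

open Cfsg Cfsg.Agent.Lib.Helper53.StOm
open Cfsg.Agent.Lib.Helper53.StOmL

/-- the generic endgame for a (B,N)-pair restricted to a normal subgroup, with the `p'`-hypothesis only on
`T ∩ H` -/
theorem steinberg_of_restrict' {G : Type*} [Group G] [Finite G] (P : Cfsg.BNPair G)
    (H : Subgroup G) [H.Normal] (T : Subgroup G) (hBN : P.B ⊓ P.N = T) (hHT : H ⊔ T = ⊤)
    (p : ℕ) [Fact p.Prime] (w : G) (hw : w ∈ P.N)
    (hwB : ∀ b ∈ P.B, w⁻¹ * b * w ∈ P.B → b ∈ T)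
    (a : ℕ) (ha : T.relIndex P.B = p ^ a) (hTp : ¬ p ∣ Nat.card ↥(T.subgroupOf H)) :
    ∃ χ : ↥H ⧸ Subgroup.center ↥H → ℂ, Cfsg.IsIrrCharacter (↥H ⧸ Subgroup.center ↥H) χ ∧
      ∀ Q : Sylow p (↥H ⧸ Subgroup.center ↥H), χ 1 = Nat.card Q ∧
        ∀ x : ↥H ⧸ Subgroup.center ↥H, x ∈ Q → x ≠ 1 → χ x = 0 := by
  have hTB : T ≤ P.B := hBN ▸ inf_le_left
  have hTN : T ≤ P.N := hBN ▸ inf_le_right
  obtain ⟨P', hB', hN'⟩ :=
    Cfsg.Agent.Lib.Helper92.StO.exists_bnPair_subgroupOf P H (by rw [hBN]; exact hHT)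
  have hBN' : P'.B ⊓ P'.N = T.subgroupOf H := by
    rw [hB', hN', Cfsg.Agent.Lib.Helper48.StO.inf_subgroupOf, hBN]
  have hw' : w ∈ H ⊔ T := by rw [hHT]; trivial
  have hw'' : w ∈ ((H ⊔ T : Subgroup G) : Set G) := hw'
  rw [Subgroup.normal_mul] at hw''
  obtain ⟨ω, hω, t, ht, hωt⟩ := Set.mem_mul.1 hw''
  simp only [SetLike.mem_coe] at hω ht
  have hωN : ω ∈ P.N := by
    have : ω = w * t⁻¹ := by rw [← hωt]; group
    rw [this]
    exact mul_mem hw (inv_mem (hTN ht))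
  have h1 : (⟨ω, hω⟩ : ↥H) ∈ P'.N := by rw [hN']; exact hωN
  have h2 : ∀ b ∈ P'.B, (⟨ω, hω⟩ : ↥H)⁻¹ * b * ⟨ω, hω⟩ ∈ P'.B → b ∈ P'.N := by
    intro b hb hc
    rw [hB'] at hb hc
    rw [hN']
    have hb1 : (b : G) ∈ P.B := hb
    have hc1 : ω⁻¹ * (b : G) * ω ∈ P.B := hc
    have hc2 : w⁻¹ * (b : G) * w ∈ P.B := by
      have e : w⁻¹ * (b : G) * w = t⁻¹ * (ω⁻¹ * (b : G) * ω) * t := by
        rw [← hωt]; group
      rw [e]
      exact mul_mem (mul_mem (inv_mem (hTB ht)) hc1) (hTB ht)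
    exact hTN (hwB _ hb1 hc2)
  refine Cfsg.Agent.Lib.Helper49.StGeneric.exists_steinberg P' p ⟨ω, hω⟩ h1 h2 a ?_ ?_
    (Cfsg.Agent.Lib.Helper62.StSU.center_le_B_inf_N P' ⟨ω, hω⟩ h1 h2)
  · rw [hBN', hB', Cfsg.Agent.Lib.Helper64.StO.relIndex_subgroupOf_eq H P.B T hTB hHT]
    exact ha
  · rw [hBN']
    exact hTp

variable {m : ℕ} {F : Type*} [Field F] {a b : F}

theorem T_le_B : Tsub m F a b ≤ Bsub m F a b := inf_le_left

theorem T_le_Bminus : Tsub m F a b ≤ Bminus m F a b := inf_le_right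

theorem T_le_N : Tsub m F a b ≤ Nsub m F a b := le_sup_right

theorem S_subset_N : Sset m F a b ⊆ (Nsub m F a b : Set (OG m F a b)) := fun s hs =>
  (le_sup_left : Subgroup.closure (Sset m F a b) ≤ Nsub m F a b) (Subgroup.subset_closure hs)

theorem B_inf_N : Bsub m F a b ⊓ Nsub m F a b = Tsub m F a b := by
  apply le_antisymm
  · rintro g ⟨hgB, hgN⟩
    obtain ⟨σ, hσ⟩ := exists_monWith g hgN
    exact mem_T_of_monWith g σ hσ hgB
  · exact le_inf T_le_B T_le_N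

section gen

variable (hab : ∀ z₁ z₂ : F, z₁ ^ 2 + a * z₁ * z₂ + b * z₂ ^ 2 = 0 → z₁ = 0 ∧ z₂ = 0)
include hab

theorem flagStab_le : ∀ d j : ℕ, j + d = m →
    FlagStab m F a b j ⊆
      ((Bsub m F a b ⊔ Bminus m F a b : Subgroup (OG m F a b)) : Set (OG m F a b)) := by
  intro d
  induction d with
  | zero =>
    intro j hj g hg
    rw [Nat.add_zero] at hj
    subst hj
    exact (le_sup_left : Bsub j F a b ≤ _) (flagStab_top_subset_B hg)
  | succ d ih =>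
    intro j hj g hg
    obtain ⟨h, hh, hhg⟩ := flagStab_step hab j (by omega) g hg
    have h2 := ih (j + 1) (by omega) hhg
    have e : g = h⁻¹ * (h * g) := by group
    rw [e]
    exact mul_mem (inv_mem hh) h2

theorem B_sup_Bminus : Bsub m F a b ⊔ Bminus m F a b = ⊤ := by
  rw [eq_top_iff]
  intro g _
  apply flagStab_le hab m 0 (by omega)
  intro i hi
  exact absurd hi (Nat.not_lt_zero _)

theorem sup_eq_top : Bsub m F a b ⊔ Nsub m F a b = ⊤ := by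
  rw [eq_top_iff, ← B_sup_Bminus hab]
  apply sup_le le_sup_left
  intro g hg
  have h1 := (conj_w0_mem_B_iff g).2 hg
  have hJ : w0 m F a b ∈ Bsub m F a b ⊔ Nsub m F a b :=
    (le_sup_right : Nsub m F a b ≤ _) w0_mem_N
  have h2 : (w0 m F a b)⁻¹ * g * w0 m F a b ∈ Bsub m F a b ⊔ Nsub m F a b :=
    (le_sup_left : Bsub m F a b ≤ _) h1
  have e : g = w0 m F a b * ((w0 m F a b)⁻¹ * g * w0 m F a b) * (w0 m F a b)⁻¹ := by group
  rw [e]
  exact mul_mem (mul_mem hJ h2) (inv_mem hJ)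

end gen

theorem conj_T_mem_B (g : OG m F a b) (hg : g ∈ Nsub m F a b) (t : OG m F a b)
    (ht : t ∈ Tsub m F a b) : g * t * g⁻¹ ∈ Bsub m F a b := by
  obtain ⟨σ, hσ⟩ := exists_monWith g hg
  exact T_le_B (conj_mem_T g σ hσ t ht)

theorem phi_ne_zero (hab : ∀ z₁ z₂ : F, z₁ ^ 2 + a * z₁ * z₂ + b * z₂ ^ 2 = 0 → z₁ = 0 ∧ z₂ = 0)
    (k : Fin m) (s t : F) (h : xZ m F a b k s t ≠ 1) : phi a b s t ≠ 0 := by
  intro h0
  obtain ⟨rfl, rfl⟩ := hab s t h0
  exact h (xZ_zero k)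

theorem mul_mem_union
    (hab : ∀ z₁ z₂ : F, z₁ ^ 2 + a * z₁ * z₂ + b * z₂ ^ 2 = 0 → z₁ = 0 ∧ z₂ = 0)
    (s : OG m F a b) (hs : s ∈ Sset m F a b) (g : OG m F a b)
    (hg : g ∈ Nsub m F a b) (c : OG m F a b) (hc : c ∈ Bsub m F a b) :
    s * c * g ∈ DoubleCoset.doubleCoset (s * g) (Bsub m F a b : Set (OG m F a b)) (Bsub m F a b) ∪
      DoubleCoset.doubleCoset g (Bsub m F a b : Set (OG m F a b)) (Bsub m F a b) := by
  obtain ⟨σ, hσ⟩ := exists_monWith g hg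
  have hgT : ∀ h ∈ Tsub m F a b, g⁻¹ * h * g ∈ Bsub m F a b := by
    intro h hh
    have := conj_T_mem_B g⁻¹ (inv_mem hg) h hh
    rwa [inv_inv] at this
  rcases hs with ⟨i, hi, rfl⟩ | ⟨hm, rfl⟩
  · refine Cfsg.Agent.Lib.Helper28.StSU.mul_mem_union_of' (Bsub m F a b) (Tsub m F a b) T_le_B _ g
      (Set.range (xPerm m F a b i (nxt i hi))) (Set.range (xPerm m F a b (nxt i hi) i))
      ?_ ?_ ?_ ?_ hgT c hc
    · rintro _ ⟨t, rfl⟩
      exact xPerm_mem_B i (nxt i hi) (by change i.val < i.val + 1; omega) t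
    · intro c hc
      obtain ⟨c', hc', t, h1, h2⟩ := decomp_perm i hi c hc
      exact ⟨c', hc', _, ⟨t, rfl⟩, h1, h2⟩
    · rcases dich_perm i hi g σ hσ with h | h
      · left
        rintro _ ⟨t, rfl⟩
        exact h t
      · right
        rintro _ ⟨t, rfl⟩
        exact h t
    · rintro _ ⟨t, rfl⟩ hne
      have ht : t ≠ 0 := by
        rintro rfl
        exact hne (xPerm_zero i (nxt i hi) (ne_nxt i hi))
      obtain ⟨t', t'', h, hh, e⟩ := rank_one_perm (a := a) (b := b) i hi t ht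
      exact ⟨_, ⟨t', rfl⟩, h, hh, _, ⟨t'', rfl⟩, e⟩
  · refine Cfsg.Agent.Lib.Helper28.StSU.mul_mem_union_of' (Bsub m F a b) (Tsub m F a b) T_le_B _ g
      {x | ∃ s t : F, x = xZ m F a b (lastF hm) s t} {y | ∃ s t : F, y = yZ m F a b (lastF hm) s t}
      ?_ ?_ ?_ ?_ hgT c hc
    · rintro _ ⟨s, t, rfl⟩
      exact xZ_mem_B _ s t
    · intro c hc
      obtain ⟨c', hc', s, t, h1, h2⟩ := decomp_last hab hm c hc
      exact ⟨c', hc', _, ⟨s, t, rfl⟩, h1, h2⟩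
    · rcases dich_last hm g σ hσ with h | h
      · left
        rintro _ ⟨s, t, rfl⟩
        exact h s t
      · right
        rintro _ ⟨s, t, rfl⟩
        exact h s t
    · rintro _ ⟨s, t, rfl⟩ hne
      obtain ⟨s', t', s'', t'', h, hh, e⟩ :=
        rank_one_flip (lastF hm) s t (phi_ne_zero hab _ s t hne)
      exact ⟨_, ⟨s', t', rfl⟩, h, hh, _, ⟨s'', t'', rfl⟩, e⟩

/-- the (B,N)-pair of `O⁻_{2m+2}(F)` -/
def bnPair (hab : ∀ z₁ z₂ : F, z₁ ^ 2 + a * z₁ * z₂ + b * z₂ ^ 2 = 0 → z₁ = 0 ∧ z₂ = 0) :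
    Cfsg.BNPair (OG m F a b) where
  B := Bsub m F a b
  N := Nsub m F a b
  S := Sset m F a b
  sup_eq_top := sup_eq_top hab
  conj_mem := fun g hg t ht => by
    rw [B_inf_N] at ht
    exact conj_T_mem_B g hg t ht
  subset := S_subset_N
  sq_mem := sq_mem_B
  inj := S_inj
  closure_sup := by rw [B_inf_N]; rfl
  mul_mem_union := fun s hs g hg c hc => mul_mem_union hab s hs g hg c hc
  conj_ne := S_conj_ne

theorem finite_OG [Fintype F] : Finite (OG m F a b) := by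
  unfold OG
  infer_instance

theorem index_omega_odd [Fintype F] (h2 : (2 : F) ≠ 0)
    (hab : ∀ z₁ z₂ : F, z₁ ^ 2 + a * z₁ * z₂ + b * z₂ ^ 2 = 0 → z₁ = 0 ∧ z₂ = 0) :
    (Cfsg.Omega F (Cfsg.quadFormMinus m F a b)).index = 4 := by
  have h := Cfsg.Agent.Lib.Helper50.index_commutator h2 (Cfsg.Agent.Lib.Helper50.QMinus m F a b)
    (Cfsg.Agent.Lib.Helper50.QMinus_nondeg_of_anis m a b hab)
    (by rw [Cfsg.Agent.Lib.Helper50.card_minus_index]; omega)
  exact h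

theorem main [Fintype F] (p : ℕ) [Fact p.Prime] [CharP F p]
    (hab : ∀ z₁ z₂ : F, z₁ ^ 2 + a * z₁ * z₂ + b * z₂ ^ 2 = 0 → z₁ = 0 ∧ z₂ = 0) :
    ∃ χ : Cfsg.POmega F (Cfsg.quadFormMinus m F a b) → ℂ,
      Cfsg.IsIrrCharacter (Cfsg.POmega F (Cfsg.quadFormMinus m F a b)) χ ∧
      ∀ P : Sylow p (Cfsg.POmega F (Cfsg.quadFormMinus m F a b)), χ 1 = Nat.card P ∧
        ∀ x : Cfsg.POmega F (Cfsg.quadFormMinus m F a b), x ∈ P → x ≠ 1 → χ x = 0 := by
  have hfin : Finite (OG m F a b) := finite_OG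
  obtain ⟨k, hk⟩ := relIndex_T_B (m := m) (F := F) (a := a) (b := b) p
  have hBN : (bnPair (m := m) hab).B ⊓ (bnPair (m := m) hab).N = Tsub m F a b := B_inf_N
  have hwB : ∀ c ∈ (bnPair (m := m) hab).B,
      (w0 m F a b)⁻¹ * c * w0 m F a b ∈ (bnPair (m := m) hab).B → c ∈ Tsub m F a b := by
    intro c hc hcc
    exact ⟨hc, (conj_w0_mem_B_iff c).1 hcc⟩
  have hp : p.Prime := Fact.out
  by_cases hp2 : p = 2
  · subst hp2
    have hHT : Cfsg.Omega F (Cfsg.quadFormMinus m F a b) ⊔ Tsub m F a b = ⊤ :=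
      StOmL.omega_sup_T_char_two hab
    refine steinberg_of_restrict' (bnPair (m := m) hab) (Cfsg.Omega F (Cfsg.quadFormMinus m F a b))
      (Tsub m F a b) hBN hHT 2 (w0 m F a b) w0_mem_N hwB k hk ?_
    have h := StOmL.not_two_dvd_card_T_inf_Omega (m := m) (F := F) hab
    have e : Nat.card ↥((Tsub m F a b).subgroupOf (Cfsg.Omega F (Cfsg.quadFormMinus m F a b))) =
        Nat.card ↥(Tsub m F a b ⊓ Cfsg.Omega F (Cfsg.quadFormMinus m F a b)) := by
      rw [← Subgroup.inf_subgroupOf_right]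
      exact Nat.card_congr (Subgroup.subgroupOfEquivOfLe inf_le_right).toEquiv
    rw [e]
    exact h
  · have h2 : (2 : F) ≠ 0 := by
      intro h
      have : ((2 : ℕ) : F) = 0 := by exact_mod_cast h
      rw [CharP.cast_eq_zero_iff F p] at this
      exact hp2 ((Nat.prime_dvd_prime_iff_eq hp Nat.prime_two).1 this)
    have hidx := index_omega_odd (m := m) h2 hab
    have hHT : Cfsg.Omega F (Cfsg.quadFormMinus m F a b) ⊔ Tsub m F a b = ⊤ :=
      Cfsg.Agent.Lib.Helper82.StO.sup_eq_top_of_index_four _ (Tsub m F a b) (Bsub m F a b)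
        (Bminus m F a b) hidx p hp hp2 (fun c hc => exists_diag_unip p c hc)
        (fun c hc => exists_diag_unip_minus p c hc) (B_sup_Bminus hab)
    refine steinberg_of_restrict' (bnPair (m := m) hab) (Cfsg.Omega F (Cfsg.quadFormMinus m F a b))
      (Tsub m F a b) hBN hHT p (w0 m F a b) w0_mem_N hwB k hk ?_
    intro hdvd
    exact not_dvd_card_T p hp2 hab
      (dvd_trans hdvd (Cfsg.Agent.Lib.Helper48.StO.card_subgroupOf_dvd _ _))

end Cfsg.Agent.Lib.Helper53.StOmGlue
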