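import Cfsg.Agent.Lib.Helper53.StOmDefs
import Cfsg.Agent.Lib.Helper26.StOmM5
import Cfsg.Agent.Lib.Helper27.StOmC4
import Cfsg.Agent.Lib.Helper28.StOmF2ZMain
import Cfsg.Agent.Lib.Helper45.StOmR0c
import Cfsg.Agent.Lib.Helper46.StOmF1Z
import Cfsg.Agent.Lib.Helper46.StOmF3Z
import Cfsg.Agent.Lib.Helper53.StOmE1
import Cfsg.Agent.Lib.Helper53.StOmE2
import Cfsg.Agent.Lib.Helper61.StOmC3c
import Cfsg.Agent.Lib.Helper63.StOmF1P
import Cfsg.Agent.Lib.Helper63.StOmM1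
import Cfsg.Agent.Lib.Helper65.StOmF2P
import Cfsg.Agent.Lib.Helper68.StOmC3b
import Cfsg.Agent.Lib.Helper74.StOmC5a1
import Cfsg.Agent.Lib.Helper79.StOmC9
import Cfsg.Agent.Lib.Helper79.StOmM4
import Cfsg.Agent.Lib.Helper80.StOmF3P
import Cfsg.Agent.Lib.Helper80.StOmR0b
import Cfsg.Agent.Lib.Helper85.StOmC5b
import Cfsg.Agent.Lib.Helper90.StOmC8
import Cfsg.Agent.Lib.Helper90.StOmC8a
import Cfsg.Agent.Lib.Helper90.StOmR0a
import Cfsg.Agent.Lib.Helper91.StOmR1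
import Cfsg.Agent.Lib.Helper97.StOmC3a


set_option autoImplicit false
set_option linter.unusedSectionVars false
set_option linter.unusedVariables false

namespace Cfsg.Agent.Lib.Helper53.StOmL

open Cfsg Cfsg.Agent.Lib.Helper53.StOm

variable {m : ℕ} {F : Type*} [Field F] {a b : F}


theorem mat_sPerm (i j : Fin m) : mat (sPerm m F a b i j) = sPermMat m F i j := 
  Cfsg.Agent.Lib.Helper90.StOm.mat_sPerm i j

theorem mat_sFlip (k : Fin m) : mat (sFlip m F a b k) = sFlipMat m F k := 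
  Cfsg.Agent.Lib.Helper90.StOm.mat_sFlip k

theorem mat_w0 : mat (w0 m F a b) = w0Mat m F := 
  Cfsg.Agent.Lib.Helper90.StOm.mat_w0


theorem mat_xPerm (i j : Fin m) (hij : i ≠ j) (t : F) :
    mat (xPerm m F a b i j t) = xPermMat m F i j t := 
  Cfsg.Agent.Lib.Helper80.StOm.mat_xPerm i j hij t


theorem mat_xZ (k : Fin m) (s t : F) : mat (xZ m F a b k s t) = xZMat m F a b k s t := 
  Cfsg.Agent.Lib.Helper45.StOm.mat_xZ k s t

theorem mat_yZ (k : Fin m) (s t : F) : mat (yZ m F a b k s t) = yZMat m F a b k s t := 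
  Cfsg.Agent.Lib.Helper45.StOm.mat_yZ k s t


theorem xPerm_mem_B (i j : Fin m) (hij : i < j) (t : F) : xPerm m F a b i j t ∈ Bsub m F a b := 
  Cfsg.Agent.Lib.Helper91.StOm.xPerm_mem_B i j hij t

theorem xZ_mem_B (k : Fin m) (s t : F) : xZ m F a b k s t ∈ Bsub m F a b := 
  Cfsg.Agent.Lib.Helper91.StOm.xZ_mem_B k s t

theorem xPerm_zero (i j : Fin m) (hij : i ≠ j) : xPerm m F a b i j 0 = 1 := 
  Cfsg.Agent.Lib.Helper91.StOm.xPerm_zero i j hij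

theorem xZ_zero (k : Fin m) : xZ m F a b k 0 0 = 1 := 
  Cfsg.Agent.Lib.Helper91.StOm.xZ_zero k


theorem decomp_perm (i : Fin m) (hi : i.val + 1 < m) (g : OG m F a b) (hg : g ∈ Bsub m F a b) :
    ∃ g' ∈ Bsub m F a b, ∃ t : F, g = g' * xPerm m F a b i (nxt i hi) t ∧
      sPerm m F a b i (nxt i hi) * g' * (sPerm m F a b i (nxt i hi))⁻¹ ∈ Bsub m F a b := 
  Cfsg.Agent.Lib.Helper63.StOm.decomp_perm i hi g hg


theorem decomp_last (hab : ∀ z₁ z₂ : F, z₁ ^ 2 + a * z₁ * z₂ + b * z₂ ^ 2 = 0 → z₁ = 0 ∧ z₂ = 0)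
    (hm : 0 < m) (g : OG m F a b) (hg : g ∈ Bsub m F a b) :
    ∃ g' ∈ Bsub m F a b, ∃ s t : F, g = g' * xZ m F a b (lastF hm) s t ∧
      sFlip m F a b (lastF hm) * g' * (sFlip m F a b (lastF hm))⁻¹ ∈ Bsub m F a b := 
  Cfsg.Agent.Lib.Helper46.StOm.decomp_last hab hm g hg


theorem dich_perm (i : Fin m) (hi : i.val + 1 < m) (n : OG m F a b)
    (σ : Equiv.Perm (MI m)) (hn : MonWith m F a b n σ) :
    (∀ t : F, n⁻¹ * xPerm m F a b i (nxt i hi) t * n ∈ Bsub m F a b) ∨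
      (∀ t : F, n⁻¹ * xPerm m F a b (nxt i hi) i t * n ∈ Bsub m F a b) := 
  Cfsg.Agent.Lib.Helper65.StOm.dich_perm i hi n σ hn


theorem dich_last (hm : 0 < m) (n : OG m F a b)
    (σ : Equiv.Perm (MI m)) (hn : MonWith m F a b n σ) :
    (∀ s t : F, n⁻¹ * xZ m F a b (lastF hm) s t * n ∈ Bsub m F a b) ∨
      (∀ s t : F, n⁻¹ * yZ m F a b (lastF hm) s t * n ∈ Bsub m F a b) := 
  Cfsg.Agent.Lib.Helper28.StOm.dich_last hm n σ hn


theorem rank_one_perm (i : Fin m) (hi : i.val + 1 < m) (t : F) (ht : t ≠ 0) :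
    ∃ t' t'' : F, ∃ h ∈ Tsub m F a b,
      sPerm m F a b i (nxt i hi) * xPerm m F a b i (nxt i hi) t =
        xPerm m F a b i (nxt i hi) t' * h * xPerm m F a b (nxt i hi) i t'' := 
  Cfsg.Agent.Lib.Helper80.StOm.rank_one_perm i hi t ht


theorem rank_one_flip (k : Fin m) (s t : F) (hst : phi a b s t ≠ 0) :
    ∃ s' t' s'' t'' : F, ∃ h ∈ Tsub m F a b,
      sFlip m F a b k * xZ m F a b k s t = xZ m F a b k s' t' * h * yZ m F a b k s'' t'' := 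
  Cfsg.Agent.Lib.Helper46.StOm.rank_one_flip k s t hst


theorem exists_monWith (n : OG m F a b) (hn : n ∈ Nsub m F a b) :
    ∃ σ : Equiv.Perm (MI m), MonWith m F a b n σ := 
  Cfsg.Agent.Lib.Helper63.StOm.exists_monWith n hn


theorem mem_T_of_monWith (g : OG m F a b) (σ : Equiv.Perm (MI m)) (h : MonWith m F a b g σ)
    (hg : g ∈ Bsub m F a b) : g ∈ Tsub m F a b := 
  Cfsg.Agent.Lib.Helper79.StOm.mem_T_of_monWith g σ h hg


theorem conj_mem_T (n : OG m F a b) (σ : Equiv.Perm (MI m)) (h : MonWith m F a b n σ)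
    (t : OG m F a b) (ht : t ∈ Tsub m F a b) : n * t * n⁻¹ ∈ Tsub m F a b := 
  Cfsg.Agent.Lib.Helper26.StOm.conj_mem_T n σ h t ht


theorem sq_mem_B (s : OG m F a b) (hs : s ∈ Sset m F a b) : s * s ∈ Bsub m F a b := 
  Cfsg.Agent.Lib.Helper97.StOm.sq_mem_B s hs


theorem S_inj (s : OG m F a b) (hs : s ∈ Sset m F a b) (s' : OG m F a b) (hs' : s' ∈ Sset m F a b)
    (h : s⁻¹ * s' ∈ Bsub m F a b) : s = s' := 
  Cfsg.Agent.Lib.Helper68.StOm.S_inj s hs s' hs' h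


theorem S_conj_ne (s : OG m F a b) (hs : s ∈ Sset m F a b) :
    (fun g : OG m F a b => s * g * s) '' (Bsub m F a b : Set (OG m F a b)) ≠
      (Bsub m F a b : Set (OG m F a b)) := 
  Cfsg.Agent.Lib.Helper61.StOm.S_conj_ne s hs


theorem w0_mem_N : w0 m F a b ∈ Nsub m F a b := 
  Cfsg.Agent.Lib.Helper27.StOm.w0_mem_N


theorem flagStab_top_subset_B :
    FlagStab m F a b m ⊆ (Bsub m F a b : Set (OG m F a b)) := 
  Cfsg.Agent.Lib.Helper74.StOm.flagStab_top_subset_B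


theorem flagStab_step (hab : ∀ z₁ z₂ : F, z₁ ^ 2 + a * z₁ * z₂ + b * z₂ ^ 2 = 0 → z₁ = 0 ∧ z₂ = 0)
    (j : ℕ) (hj : j < m) (g : OG m F a b) (hg : g ∈ FlagStab m F a b j) :
    ∃ h ∈ Bsub m F a b ⊔ Bminus m F a b, h * g ∈ FlagStab m F a b (j + 1) := 
  Cfsg.Agent.Lib.Helper74.StOm.flagStab_step hab j hj g hg


theorem conj_w0_mem_B_iff (g : OG m F a b) :
    (w0 m F a b)⁻¹ * g * w0 m F a b ∈ Bsub m F a b ↔ g ∈ Bminus m F a b := 
  Cfsg.Agent.Lib.Helper85.StOm.conj_w0_mem_B_iff g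


theorem exists_diag_unip [Fintype F] (p : ℕ) [Fact p.Prime] [CharP F p] (g : OG m F a b)
    (hg : g ∈ Bsub m F a b) : ∃ d ∈ Tsub m F a b, ∃ k : ℕ, (g * d⁻¹) ^ (p ^ k) = 1 := 
  Cfsg.Agent.Lib.Helper90.StOm.exists_diag_unip p g hg

theorem exists_diag_unip_minus [Fintype F] (p : ℕ) [Fact p.Prime] [CharP F p] (g : OG m F a b)
    (hg : g ∈ Bminus m F a b) : ∃ d ∈ Tsub m F a b, ∃ k : ℕ, (g * d⁻¹) ^ (p ^ k) = 1 := 
  Cfsg.Agent.Lib.Helper90.StOm.exists_diag_unip_minus p g hg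


theorem relIndex_T_B [Fintype F] (p : ℕ) [Fact p.Prime] [CharP F p] :
    ∃ k : ℕ, (Tsub m F a b).relIndex (Bsub m F a b) = p ^ k := 
  Cfsg.Agent.Lib.Helper90.StOm.relIndex_T_B p


theorem not_dvd_card_T [Fintype F] (p : ℕ) [Fact p.Prime] [CharP F p] (hp2 : p ≠ 2)
    (hab : ∀ z₁ z₂ : F, z₁ ^ 2 + a * z₁ * z₂ + b * z₂ ^ 2 = 0 → z₁ = 0 ∧ z₂ = 0) :
    ¬ p ∣ Nat.card (Tsub m F a b) := 
  Cfsg.Agent.Lib.Helper79.StOm.not_dvd_card_T p hp2 hab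


theorem omega_sup_T_char_two [Fintype F] [CharP F 2]
    (hab : ∀ z₁ z₂ : F, z₁ ^ 2 + a * z₁ * z₂ + b * z₂ ^ 2 = 0 → z₁ = 0 ∧ z₂ = 0) :
    Cfsg.Omega F (Cfsg.quadFormMinus m F a b) ⊔ Tsub m F a b = ⊤ := 
  Cfsg.Agent.Lib.Helper53.StOm.omega_sup_T_char_two hab


theorem not_two_dvd_card_T_inf_Omega [Fintype F] [CharP F 2]
    (hab : ∀ z₁ z₂ : F, z₁ ^ 2 + a * z₁ * z₂ + b * z₂ ^ 2 = 0 → z₁ = 0 ∧ z₂ = 0) :
    ¬ 2 ∣ Nat.card ↥(Tsub m F a b ⊓ Cfsg.Omega F (Cfsg.quadFormMinus m F a b)) := 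
  Cfsg.Agent.Lib.Helper53.StOm.not_two_dvd_card_T_inf_Omega hab

end Cfsg.Agent.Lib.Helper53.StOmL
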