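import Mathlib
import Cfsg.Prelude.Def_LieExceptional
import Cfsg.Prelude.Def_Classical
import Cfsg.Agent.Lib.Helper40.GUConj

/-!
# K-StSU pack (S2546): shared definitions

A (B,N)-pair on the special unitary group `SUJ n F φ` of the ANTIDIAGONAL hermitian Gram matrix
`gramA n F` (`J i j = 1` iff `j = Fin.rev i`), for every `n`:
`g ∈ SUJ  ↔  adj φ g * J * g = J`, `adj φ g = (g.map φ)ᵀ` (`Helper40.GUConj.adj`), `det g = 1`.
The form is `H(x, y) = ∑ i, φ (x i) * y (rev i)`; `H(e_a, e_b) = 1` iff `b = rev a`.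
`B` = upper triangular elements, `Bm` = lower triangular ones, `T = B ⊓ Bm` (diagonal),
`S` = the simple reflections, `N = ⟨S⟩ T`.  With `k = n / 2`:
* `sP i (i+1)` (`i + 1 < k`): permutation matrix of `(i i+1)(rev i  rev (i+1))`; root elements `xP`;
* `n = 2k`: `sL (k-1) ε`: `e_{k-1} ↦ -ε⁻¹ e_k`, `e_k ↦ ε e_{k-1}` (`φ ε = -ε ≠ 0`); root elements `xL`;
* `n = 2k+1`: `sA (k-1) k`: `e_{k-1} ↔ e_{k+1}`, `e_k ↦ -e_k`; root elements `xA` (non-abelian, order `q^3`).
-/

set_option autoImplicit false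
set_option linter.unusedSectionVars false

namespace Cfsg.Agent.Lib.Helper53.StSU

open Matrix
open Cfsg.Agent.Lib.Helper40.GUConj (adj adj_mul adj_one)

variable (n : ℕ) (F : Type*) [Field F] (φ : F →+* F)

/-- the antidiagonal Gram matrix: `J i j = 1` iff `j = Fin.rev i` -/
def gramA : Matrix (Fin n) (Fin n) F := Matrix.of fun i j => if j = Fin.rev i then 1 else 0

theorem gramA_apply (i j : Fin n) : gramA n F i j = if j = Fin.rev i then 1 else 0 := rfl

variable {n F}

theorem sl_inv_mul_coe (g : SpecialLinearGroup (Fin n) F) :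
    ((g⁻¹ : SpecialLinearGroup (Fin n) F) : Matrix (Fin n) (Fin n) F) *
      (g : Matrix (Fin n) (Fin n) F) = 1 := by
  simp [Matrix.adjugate_mul]

theorem sl_mul_inv_coe (g : SpecialLinearGroup (Fin n) F) :
    (g : Matrix (Fin n) (Fin n) F) *
      ((g⁻¹ : SpecialLinearGroup (Fin n) F) : Matrix (Fin n) (Fin n) F) = 1 := by
  simp [Matrix.mul_adjugate]

variable (n F)

/-- the special unitary group of the antidiagonal form -/
def SUJ : Subgroup (SpecialLinearGroup (Fin n) F) where
  carrier := {g | adj φ (g : Matrix (Fin n) (Fin n) F) * gramA n F *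
    (g : Matrix (Fin n) (Fin n) F) = gramA n F}
  mul_mem' := by
    intro g h hg hh
    change adj φ ((g * h : SpecialLinearGroup (Fin n) F) : Matrix (Fin n) (Fin n) F) * gramA n F *
      ((g * h : SpecialLinearGroup (Fin n) F) : Matrix (Fin n) (Fin n) F) = gramA n F
    rw [Matrix.SpecialLinearGroup.coe_mul, adj_mul]
    calc adj φ (h : Matrix (Fin n) (Fin n) F) * adj φ (g : Matrix (Fin n) (Fin n) F) * gramA n F *
          ((g : Matrix (Fin n) (Fin n) F) * (h : Matrix (Fin n) (Fin n) F))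
        = adj φ (h : Matrix (Fin n) (Fin n) F) * (adj φ (g : Matrix (Fin n) (Fin n) F) *
            gramA n F * (g : Matrix (Fin n) (Fin n) F)) * (h : Matrix (Fin n) (Fin n) F) := by
          simp only [Matrix.mul_assoc]
      _ = gramA n F := by rw [hg, hh]
  one_mem' := by
    change adj φ ((1 : SpecialLinearGroup (Fin n) F) : Matrix (Fin n) (Fin n) F) * gramA n F *
      ((1 : SpecialLinearGroup (Fin n) F) : Matrix (Fin n) (Fin n) F) = gramA n F
    rw [Matrix.SpecialLinearGroup.coe_one, adj_one, Matrix.one_mul, Matrix.mul_one]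
  inv_mem' := by
    intro g hg
    change adj φ ((g⁻¹ : SpecialLinearGroup (Fin n) F) : Matrix (Fin n) (Fin n) F) * gramA n F *
      ((g⁻¹ : SpecialLinearGroup (Fin n) F) : Matrix (Fin n) (Fin n) F) = gramA n F
    have h1 : adj φ ((g⁻¹ : SpecialLinearGroup (Fin n) F) : Matrix (Fin n) (Fin n) F) *
        adj φ (g : Matrix (Fin n) (Fin n) F) = 1 := by
      rw [← adj_mul, sl_mul_inv_coe, adj_one]
    calc adj φ ((g⁻¹ : SpecialLinearGroup (Fin n) F) : Matrix (Fin n) (Fin n) F) * gramA n F *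
          ((g⁻¹ : SpecialLinearGroup (Fin n) F) : Matrix (Fin n) (Fin n) F)
        = adj φ ((g⁻¹ : SpecialLinearGroup (Fin n) F) : Matrix (Fin n) (Fin n) F) *
            (adj φ (g : Matrix (Fin n) (Fin n) F) * gramA n F * (g : Matrix (Fin n) (Fin n) F)) *
            ((g⁻¹ : SpecialLinearGroup (Fin n) F) : Matrix (Fin n) (Fin n) F) := by rw [hg]
      _ = (adj φ ((g⁻¹ : SpecialLinearGroup (Fin n) F) : Matrix (Fin n) (Fin n) F) *
            adj φ (g : Matrix (Fin n) (Fin n) F)) * gramA n F *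
            ((g : Matrix (Fin n) (Fin n) F) *
              ((g⁻¹ : SpecialLinearGroup (Fin n) F) : Matrix (Fin n) (Fin n) F)) := by
          simp only [Matrix.mul_assoc]
      _ = gramA n F := by rw [h1, sl_mul_inv_coe, Matrix.one_mul, Matrix.mul_one]

/-- the group `SU(J)` as a type -/
abbrev UG : Type _ := ↥(SUJ n F φ)

variable {n F φ}

/-- the matrix of an element of `UG` -/
abbrev mat (g : UG n F φ) : Matrix (Fin n) (Fin n) F :=
  ((g : SpecialLinearGroup (Fin n) F) : Matrix (Fin n) (Fin n) F)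

theorem mat_mul (g h : UG n F φ) : mat (g * h) = mat g * mat h := by
  simp [mat]

theorem mat_one : mat (1 : UG n F φ) = 1 := by
  simp [mat]

theorem mat_inv_mul (g : UG n F φ) : mat g⁻¹ * mat g = 1 := by
  rw [← mat_mul, inv_mul_cancel, mat_one]

theorem mat_mul_inv (g : UG n F φ) : mat g * mat g⁻¹ = 1 := by
  rw [← mat_mul, mul_inv_cancel, mat_one]

theorem mat_injective : Function.Injective (mat : UG n F φ → Matrix (Fin n) (Fin n) F) :=
  fun _ _ h => Subtype.ext (Subtype.ext h)

theorem mat_form (g : UG n F φ) : adj φ (mat g) * gramA n F * mat g = gramA n F := g.2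

theorem det_mat (g : UG n F φ) : (mat g).det = 1 := g.1.2

theorem mat_inv_eq (g : UG n F φ) : mat g⁻¹ = (mat g)⁻¹ :=
  (Matrix.inv_eq_left_inv (mat_inv_mul g)).symm

theorem blockTriangular_inv {α : Type*} [LinearOrder α] (b : Fin n → α) (g : UG n F φ)
    (h : (mat g).BlockTriangular b) : (mat g⁻¹).BlockTriangular b := by
  rw [mat_inv_eq]
  have : Invertible (mat g) :=
    Matrix.invertibleOfIsUnitDet _ (by rw [det_mat]; exact isUnit_one)
  exact Matrix.blockTriangular_inv_of_blockTriangular h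

variable (n F φ)

/-- the subgroup of elements whose matrix is block triangular for `b` -/
def triSub {α : Type*} [LinearOrder α] (b : Fin n → α) : Subgroup (UG n F φ) where
  carrier := {g | (mat g).BlockTriangular b}
  mul_mem' := fun {g h} hg hh => by
    change (mat (g * h)).BlockTriangular b
    rw [mat_mul]
    exact Matrix.BlockTriangular.mul hg hh
  one_mem' := by
    change (mat (1 : UG n F φ)).BlockTriangular b
    rw [mat_one]
    exact Matrix.blockTriangular_one
  inv_mem' := fun {g} hg => blockTriangular_inv b g hg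

/-- `B`: the upper triangular elements -/
def Bsub : Subgroup (UG n F φ) := triSub n F φ (fun a : Fin n => a)

/-- `B⁻`: the lower triangular elements -/
def Bminus : Subgroup (UG n F φ) := triSub n F φ (fun a : Fin n => OrderDual.toDual a)

/-- `T = B ⊓ B⁻`: the diagonal elements -/
def Tsub : Subgroup (UG n F φ) := Bsub n F φ ⊓ Bminus n F φ

variable {n F φ}

theorem mem_Bsub_iff (g : UG n F φ) : g ∈ Bsub n F φ ↔ ∀ a b : Fin n, b < a → mat g a b = 0 :=
  ⟨fun h _ _ hab => h hab, fun h a b hab => h a b hab⟩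

theorem mem_Bminus_iff (g : UG n F φ) :
    g ∈ Bminus n F φ ↔ ∀ a b : Fin n, a < b → mat g a b = 0 :=
  ⟨fun h a b hab => h (show OrderDual.toDual b < OrderDual.toDual a from hab),
    fun h a b hab => h a b hab⟩

theorem mem_Tsub_iff (g : UG n F φ) : g ∈ Tsub n F φ ↔ ∀ a b : Fin n, a ≠ b → mat g a b = 0 := by
  constructor
  · rintro ⟨h1, h2⟩ a b hab
    rcases lt_or_gt_of_ne hab with h | h
    · exact (mem_Bminus_iff g).1 h2 a b h
    · exact (mem_Bsub_iff g).1 h1 a b h
  · intro h
    exact ⟨(mem_Bsub_iff g).2 fun a b hab => h a b (ne_of_gt hab),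
      (mem_Bminus_iff g).2 fun a b hab => h a b (ne_of_lt hab)⟩

variable (n F φ)

/-! ### the elements: matrices -/

/-- `e_i ↔ e_j`, `e_{rev i} ↔ e_{rev j}` -/
def sPMat (i j : Fin n) : Matrix (Fin n) (Fin n) F :=
  (Equiv.swap i j * Equiv.swap (Fin.rev i) (Fin.rev j)).permMatrix F

/-- `e_a ↦ -ε⁻¹ e_{rev a}`, `e_{rev a} ↦ ε e_a`, identity on the other basis vectors -/
def sLMat (a : Fin n) (ε : F) : Matrix (Fin n) (Fin n) F :=
  1 - Matrix.single a a 1 - Matrix.single (Fin.rev a) (Fin.rev a) 1 +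
    Matrix.single a (Fin.rev a) ε - Matrix.single (Fin.rev a) a ε⁻¹

/-- `e_a ↔ e_{rev a}`, `e_c ↦ -e_c` (`c` the middle index), identity on the other basis vectors -/
def sAMat (a c : Fin n) : Matrix (Fin n) (Fin n) F :=
  (Equiv.swap a (Fin.rev a)).permMatrix F - Matrix.single c c 2

/-- pair type root element: `e_b ↦ e_b + t e_a`, `e_{rev a} ↦ e_{rev a} - φ t e_{rev b}` -/
def xPMat (a b : Fin n) (t : F) : Matrix (Fin n) (Fin n) F :=
  1 + Matrix.single a b t - Matrix.single (Fin.rev b) (Fin.rev a) (φ t)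

/-- long type root element: `e_{rev a} ↦ e_{rev a} + u e_a` (`φ u = -u`) -/
def xLMat (a : Fin n) (u : F) : Matrix (Fin n) (Fin n) F :=
  1 + Matrix.single a (Fin.rev a) u

/-- `A₂` type root element (`c` the middle index): `e_c ↦ e_c + t e_a`,
`e_{rev a} ↦ e_{rev a} - φ t e_c + u e_a` (`u + φ u + t φ t = 0`) -/
def xAMat (a c : Fin n) (t u : F) : Matrix (Fin n) (Fin n) F :=
  1 + Matrix.single a c t - Matrix.single c (Fin.rev a) (φ t) + Matrix.single a (Fin.rev a) u

/-- the condition for a matrix to define an element of `UG` -/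
def IsUG (M : Matrix (Fin n) (Fin n) F) : Prop :=
  M.det = 1 ∧ adj φ M * gramA n F * M = gramA n F

open Classical in
/-- the element of `UG` with matrix `M` (`1` if `M` is not special unitary) -/
noncomputable def mk (M : Matrix (Fin n) (Fin n) F) : UG n F φ :=
  if h : IsUG n F φ M then ⟨⟨M, h.1⟩, h.2⟩ else 1

variable {n F φ}

theorem mat_mk {M : Matrix (Fin n) (Fin n) F} (h : IsUG n F φ M) : mat (mk n F φ M) = M := by
  unfold mk
  rw [dif_pos h]

variable (n F φ)

/-- trace zero type elements: `φ u = -u` -/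
def trZero : AddSubgroup F where
  carrier := {u | φ u = -u}
  add_mem' := by
    intro a b ha hb
    change φ (a + b) = -(a + b)
    rw [map_add, ha, hb, neg_add]
  zero_mem' := by
    change φ 0 = -0
    rw [map_zero, neg_zero]
  neg_mem' := by
    intro a ha
    change φ (-a) = - -a
    rw [map_neg, ha]

/-- parameters of the `A₂` type root groups -/
def PA : Type _ := {p : F × F // p.2 + φ p.2 + p.1 * φ p.1 = 0}

instance : Zero (PA F φ) := ⟨⟨(0, 0), by simp⟩⟩

theorem PA.zero_val : (0 : PA F φ).1 = (0, 0) := rfl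

/-- the reflection `e_i ↔ e_j`, `e_{rev i} ↔ e_{rev j}` -/
noncomputable def sP (i j : Fin n) : UG n F φ := mk n F φ (sPMat n F i j)

/-- the long type reflection -/
noncomputable def sL (a : Fin n) (ε : F) : UG n F φ := mk n F φ (sLMat n F a ε)

/-- the `A₂` type reflection -/
noncomputable def sA (a c : Fin n) : UG n F φ := mk n F φ (sAMat n F a c)

/-- pair type root element -/
noncomputable def xP (a b : Fin n) (t : F) : UG n F φ := mk n F φ (xPMat n F φ a b t)

/-- long type root element -/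
noncomputable def xL (a : Fin n) (u : trZero F φ) : UG n F φ := mk n F φ (xLMat n F a u.1)

/-- `A₂` type root element -/
noncomputable def xA (a c : Fin n) (p : PA F φ) : UG n F φ :=
  mk n F φ (xAMat n F φ a c p.1.1 p.1.2)

variable {n}

/-- the index `i`, as an element of `Fin n` -/
def ix (i : ℕ) (h : i < n) : Fin n := ⟨i, h⟩

variable (n)

/-- the simple reflections -/
def Sset (ε : F) : Set (UG n F φ) :=
  {s | (∃ (i : ℕ) (hi : i + 1 < n / 2),
      s = sP n F φ (ix i (by omega)) (ix (i + 1) (by omega))) ∨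
    (∃ (_ : Even n) (hk : 0 < n / 2), s = sL n F φ (ix (n / 2 - 1) (by omega)) ε) ∨
    (∃ (_ : Odd n) (hk : 0 < n / 2),
      s = sA n F φ (ix (n / 2 - 1) (by omega)) (ix (n / 2) (by omega)))}

/-- `N = ⟨S⟩ T` -/
def Nsub (ε : F) : Subgroup (UG n F φ) := Subgroup.closure (Sset n F φ ε) ⊔ Tsub n F φ

/-- `g` is monomial with permutation `σ` (`g e_b ∈ F^× e_{σ b}`), and `σ` commutes with `Fin.rev` -/
def MonWith (g : UG n F φ) (σ : Equiv.Perm (Fin n)) : Prop :=
  (∀ a b, mat g a b ≠ 0 ↔ a = σ b) ∧ ∀ a, σ (Fin.rev a) = Fin.rev (σ a)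

/-- the `J`-transvection `x ↦ x + c H(w, x) w`, `H(w, x) = ∑ i, φ (w i) * x (rev i)` -/
def tvMat (w : Fin n → F) (c : F) : Matrix (Fin n) (Fin n) F :=
  1 + c • Matrix.vecMulVec w (fun j => φ (w (Fin.rev j)))

end Cfsg.Agent.Lib.Helper53.StSU
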