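import Cfsg.Agent.Lib.Helper53.StrongFusion

set_option autoImplicit false

namespace Cfsg.Agent.Lib.Helper53

open Cfsg

section main

variable {G : Type*} [Group G] [Finite G] {p : ℕ} [Fact p.Prime]

/-- Some conjugate of `B` inside `S` is fully normalized. -/
theorem exists_fully_normalized (S : Sylow p G) (B : Subgroup G) (hBS : B ≤ S) :
    ∃ h : G, B.map (MulAut.conj h).toMonoidHom ≤ S ∧
      ∃ R : Sylow p ↥(Subgroup.normalizer ((B.map (MulAut.conj h).toMonoidHom : Subgroup G) : Set G)),
        (R : Subgroup ↥(Subgroup.normalizer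
            ((B.map (MulAut.conj h).toMonoidHom : Subgroup G) : Set G))) =
          ((S : Subgroup G) ⊓ Subgroup.normalizer
            ((B.map (MulAut.conj h).toMonoidHom : Subgroup G) : Set G)).subgroupOf
            (Subgroup.normalizer ((B.map (MulAut.conj h).toMonoidHom : Subgroup G) : Set G)) := by
  set F : Set G := {h | B.map (MulAut.conj h).toMonoidHom ≤ S} with hF
  have h1F : (1 : G) ∈ F := by
    show B.map (MulAut.conj (1 : G)).toMonoidHom ≤ S
    rw [map_conj_one]; exact hBS
  obtain ⟨h, hhF, hmax⟩ := Set.exists_max_image F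
    (fun h => Nat.card ↥((S : Subgroup G) ⊓
      Subgroup.normalizer ((B.map (MulAut.conj h).toMonoidHom : Subgroup G) : Set G)))
    (Set.toFinite F) ⟨1, h1F⟩
  refine ⟨h, hhF, ?_⟩
  set B' := B.map (MulAut.conj h).toMonoidHom with hB'
  set M := Subgroup.normalizer (B' : Set G) with hM
  set R' := (S : Subgroup G) ⊓ M with hR'
  have hR'p : IsPGroup p (R'.subgroupOf M) := (S.isPGroup'.to_le inf_le_left).comap_subtype
  obtain ⟨R'', hR''⟩ := hR'p.exists_le_sylow
  refine ⟨R'', ?_⟩
  set P := (R'' : Subgroup M).map M.subtype with hP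
  have hPp : IsPGroup p P := R''.isPGroup'.map _
  have hPM : P ≤ M := Subgroup.map_subtype_le _
  have hR'P : R' ≤ P := by
    intro x hx
    exact ⟨⟨x, hx.2⟩, hR'' (Subgroup.mem_subgroupOf.2 hx), rfl⟩
  obtain ⟨Q, hQ⟩ := hPp.exists_le_sylow
  obtain ⟨k, hk⟩ := MulAction.exists_smul_eq G Q S
  have hPk : P.map (MulAut.conj k).toMonoidHom ≤ S := by
    rw [← hk, coe_smul_sylow_eq_map]
    exact Subgroup.map_mono hQ
  have hB'P : B' ≤ P := (le_inf hhF Subgroup.le_normalizer).trans hR'P
  have hkhF : k * h ∈ F := by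
    show B.map (MulAut.conj (k * h)).toMonoidHom ≤ S
    rw [map_conj_mul]
    exact (Subgroup.map_mono hB'P).trans hPk
  have hPk2 : P.map (MulAut.conj k).toMonoidHom ≤ (S : Subgroup G) ⊓
      Subgroup.normalizer ((B.map (MulAut.conj (k * h)).toMonoidHom : Subgroup G) : Set G) := by
    refine le_inf hPk ?_
    rintro _ ⟨x, hx, rfl⟩
    rw [map_conj_mul]
    exact conj_mem_normalizer_map_conj (hPM hx)
  have hc1 : Nat.card P ≤ Nat.card R' := by
    calc Nat.card P = Nat.card ↥(P.map (MulAut.conj k).toMonoidHom) := (card_map_conj P k).symm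
      _ ≤ Nat.card ↥((S : Subgroup G) ⊓ Subgroup.normalizer
            ((B.map (MulAut.conj (k * h)).toMonoidHom : Subgroup G) : Set G)) :=
          Nat.le_of_dvd Nat.card_pos (Subgroup.card_dvd_of_le hPk2)
      _ ≤ Nat.card R' := hmax _ hkhF
  have hRP : R' = P := Subgroup.eq_of_le_of_card_ge hR'P hc1
  rw [hRP, hP, Subgroup.subgroupOf, Subgroup.comap_map_eq_self_of_injective]
  exact Subtype.coe_injective

/-- Main induction: a strongly closed abelian subgroup controls strong fusion (subgroup form). -/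
theorem controls_aux (S : Sylow p G) (A : Subgroup G)
    (hAc : A ≤ Subgroup.centralizer (A : Set G)) (hAS : A ≤ S)
    (hsc : ∀ a ∈ A, ∀ g : G, g * a * g⁻¹ ∈ (S : Subgroup G) → g * a * g⁻¹ ∈ A) :
    ∀ (n : ℕ) (B : Subgroup G), B ≤ S → Nat.card (S : Subgroup G) - Nat.card B = n →
      ∀ g : G, B.map (MulAut.conj g).toMonoidHom ≤ S →
        ∃ x ∈ Subgroup.normalizer (A : Set G), Agree B g x := by
  intro n
  induction n using Nat.strong_induction_on with
  | _ n ih =>
  intro B hBS hn g hg
  set N := Subgroup.normalizer (A : Set G) with hN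
  have hSN : (S : Subgroup G) ≤ N := by
    intro s hs
    apply mem_normalizer_of_conj_mem
    intro a ha
    exact hsc a ha s (Subgroup.mul_mem _ (Subgroup.mul_mem _ hs (hAS ha)) (Subgroup.inv_mem _ hs))
  have IH : ∀ D : Subgroup G, D ≤ S → Nat.card B < Nat.card D →
      ∀ g : G, D.map (MulAut.conj g).toMonoidHom ≤ S → ∃ x ∈ N, Agree D g x := by
    intro D hDS hlt
    have hDle : Nat.card D ≤ Nat.card (S : Subgroup G) :=
      Nat.le_of_dvd Nat.card_pos (Subgroup.card_dvd_of_le hDS)
    exact ih (Nat.card (S : Subgroup G) - Nat.card D) (by omega) D hDS rfl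
  by_cases hBeq : B = S
  · refine ⟨g, ?_, Agree.refl B g⟩
    apply mem_normalizer_of_conj_mem
    intro a ha
    apply hsc a ha g
    apply hg
    exact ⟨a, hBeq ▸ hAS ha, rfl⟩
  · have hBlt : B < S := lt_of_le_of_ne hBS hBeq
    have hcardlt : Nat.card B < Nat.card (S : Subgroup G) := card_lt_card_of_lt' hBlt
    obtain ⟨h, hB'S, hex⟩ := exists_fully_normalized S B hBS
    set B' := B.map (MulAut.conj h).toMonoidHom with hB'
    set M := Subgroup.normalizer (B' : Set G) with hM
    obtain ⟨R'', hR''⟩ := hex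
    have hcardB' : Nat.card B' = Nat.card B := card_map_conj B h
    have hB'M : B' ≤ M := Subgroup.le_normalizer
    have hR''map : (R'' : Subgroup M).map M.subtype = (S : Subgroup G) ⊓ M := by
      rw [hR'', Subgroup.subgroupOf_map_subtype, inf_assoc, inf_idem]
    -- Step 2
    have step2 : ∀ (D : Subgroup G) (u : G), D ≤ S → D.map (MulAut.conj u).toMonoidHom = B' →
        ∃ m ∈ M, ∃ x ∈ N, Agree D (m * u) x := by
      intro D u hDS hDu
      have hcardD : Nat.card D = Nat.card B := by rw [← card_map_conj D u, hDu, hcardB']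
      have hDlt : D < S := by
        refine lt_of_le_of_ne hDS ?_
        intro h'
        rw [h'] at hcardD
        omega
      obtain ⟨y, hyS, hyD, hyN⟩ := exists_mem_normalizer_not_mem_of_lt S.isPGroup' hDlt
      set ND := (S : Subgroup G) ⊓ Subgroup.normalizer (D : Set G) with hND
      have hDND : D < ND := by
        refine lt_of_le_of_ne (le_inf hDS Subgroup.le_normalizer) ?_
        intro h'
        apply hyD
        rw [h']
        exact ⟨hyS, hyN⟩
      have hcardND : Nat.card B < Nat.card ND := hcardD ▸ card_lt_card_of_lt' hDND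
      set P := ND.map (MulAut.conj u).toMonoidHom with hP
      have hPM : P ≤ M := by
        rintro _ ⟨x, hx, rfl⟩
        have := conj_mem_normalizer_map_conj (g := u) hx.2
        rw [hDu] at this
        exact this
      have hPp : IsPGroup p P := (S.isPGroup'.to_le inf_le_left).map _
      obtain ⟨m, hm, hle⟩ := exists_conj_le_sylow_subgroup R'' hPM hPp
      rw [hR''map] at hle
      have hle' : ND.map (MulAut.conj (m * u)).toMonoidHom ≤ S := by
        rw [map_conj_mul]
        exact hle.trans inf_le_left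
      obtain ⟨x, hx, hag⟩ := IH ND inf_le_left hcardND (m * u) hle'
      exact ⟨m, hm, x, hx, hag.mono hDND.le⟩
    -- Step 3
    have step3 : ∀ m ∈ M, ∃ x ∈ N, Agree B' m x := by
      intro m hm
      by_cases hAB : A ≤ B'
      · refine ⟨m, ?_, Agree.refl B' m⟩
        apply mem_normalizer_of_conj_mem
        intro a ha
        apply hsc a ha m
        exact hB'S (conj_mem_of_le_normalizer (le_refl _) hm (hAB ha))
      · have hAM : ¬ (A ⊓ M ≤ B') := by
          intro hle
          apply hAB
          by_contra hnot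
          set E := A ⊔ B' with hE
          have hES : E ≤ S := sup_le hAS hB'S
          have hlt : B' < E := by
            refine lt_of_le_of_ne le_sup_right ?_
            intro h'
            apply hnot
            rw [h']
            exact le_sup_left
          obtain ⟨y, hyE, hyB', hyN⟩ :=
            exists_mem_normalizer_not_mem_of_lt (S.isPGroup'.to_le hES) hlt
          have hyE' : y ∈ ((A ⊔ B' : Subgroup G) : Set G) := hyE
          rw [Subgroup.coe_mul_of_right_le_normalizer_left A B' (hB'S.trans hSN)] at hyE'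
          obtain ⟨a, ha, b, hb, rfl⟩ := hyE'
          have haM : a ∈ M := by
            have := M.mul_mem hyN (M.inv_mem (hB'M hb))
            simpa using this
          have haB' : a ∈ B' := hle ⟨ha, haM⟩
          exact hyB' (B'.mul_mem haB' hb)
        -- local control in M
        have hBn : (B'.subgroupOf M).Normal := Subgroup.normal_in_normalizer
        have hBR : B'.subgroupOf M ≤ R'' := by
          rw [hR'']
          intro x hx
          rw [Subgroup.mem_subgroupOf] at hx ⊢
          exact ⟨hB'S hx, x.2⟩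
        have hA₀R : A.subgroupOf M ≤ R'' := by
          rw [hR'']
          intro x hx
          rw [Subgroup.mem_subgroupOf] at hx ⊢
          exact ⟨hAS hx, x.2⟩
        have hA₀c : A.subgroupOf M ≤ Subgroup.centralizer ((A.subgroupOf M : Subgroup M) : Set M) := by
          intro x hx y hy
          apply Subtype.ext
          exact hAc hx (y : G) hy
        have hsc' : ∀ a ∈ A.subgroupOf M, ∀ m' : M, m' * a * m'⁻¹ ∈ (R'' : Subgroup M) →
            m' * a * m'⁻¹ ∈ A.subgroupOf M := by
          intro a ha m' hm'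
          rw [hR'', Subgroup.mem_subgroupOf] at hm'
          rw [Subgroup.mem_subgroupOf] at ha ⊢
          exact hsc (a : G) ha (m' : G) hm'.1
        obtain ⟨x, hx, c, hc, hmxc⟩ := local_control R'' _ hBn hBR _ hA₀R hA₀c hsc' ⟨m, hm⟩
        have hmxc' : m = (x : G) * (c : G) := by
          have := congrArg Subtype.val hmxc
          simpa using this
        have hcG : (c : G) ∈ Subgroup.centralizer (B' : Set G) := by
          rw [Subgroup.mem_centralizer_iff]
          intro b hb
          have := hc ⟨b, hB'M hb⟩ (Subgroup.mem_subgroupOf.2 hb)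
          exact congrArg Subtype.val this
        have hxA : ∀ a ∈ A ⊓ M, (x : G) * a * (x : G)⁻¹ ∈ A ⊓ M := by
          intro a ha
          have h1 : (⟨a, ha.2⟩ : M) ∈ A.subgroupOf M := Subgroup.mem_subgroupOf.2 ha.1
          have h2 := (Subgroup.mem_normalizer_iff.1 hx _).1 h1
          rw [Subgroup.mem_subgroupOf] at h2
          exact ⟨h2, (x * ⟨a, ha.2⟩ * x⁻¹).2⟩
        set D := B' ⊔ (A ⊓ M) with hD
        have hDS : D ≤ S := sup_le hB'S (inf_le_left.trans hAS)
        have hDx : D.map (MulAut.conj (x : G)).toMonoidHom ≤ D := by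
          rw [hD, Subgroup.map_sup]
          apply sup_le_sup
          · rw [map_conj_eq_of_mem_normalizer x.2]
          · rintro _ ⟨a, ha, rfl⟩
            exact hxA a ha
        have hB'D : B' < D := by
          refine lt_of_le_of_ne le_sup_left ?_
          intro h'
          apply hAM
          rw [h']
          exact le_sup_right
        have hcardD : Nat.card B < Nat.card D := hcardB' ▸ card_lt_card_of_lt' hB'D
        obtain ⟨x', hx', hag⟩ := IH D hDS hcardD (x : G) (hDx.trans hDS)
        refine ⟨x', hx', ?_⟩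
        have h1 : Agree B' m (x : G) := by
          rw [hmxc']
          exact agree_mul_centralizer hcG
        exact h1.trans (hag.mono hB'D.le)
    -- combine
    obtain ⟨m₁, hm₁, x₁, hx₁, ha₁⟩ := step2 B h hBS rfl
    have hD₂ : (B.map (MulAut.conj g).toMonoidHom).map (MulAut.conj (h * g⁻¹)).toMonoidHom = B' := by
      rw [← map_conj_mul]
      have : h * g⁻¹ * g = h := by group
      rw [this]
    obtain ⟨m₂, hm₂, x₂, hx₂, ha₂⟩ := step2 (B.map (MulAut.conj g).toMonoidHom) (h * g⁻¹) hg hD₂
    obtain ⟨x₃, hx₃, ha₃⟩ := step3 (m₂ * m₁⁻¹) (M.mul_mem hm₂ (M.inv_mem hm₁))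
    have e1 : B.map (MulAut.conj (m₁ * h)).toMonoidHom = B' := by
      rw [map_conj_mul]
      exact map_conj_eq_of_mem_normalizer hm₁
    have c1 : Agree B ((m₂ * m₁⁻¹) * (m₁ * h)) (x₃ * x₁) := by
      apply Agree.comp ha₁
      rw [e1]
      exact ha₃
    have e2 : (B.map (MulAut.conj g).toMonoidHom).map (MulAut.conj (m₂ * (h * g⁻¹))).toMonoidHom
        = B' := by
      rw [map_conj_mul, hD₂]
      exact map_conj_eq_of_mem_normalizer hm₂
    have c2 : Agree B' (m₂ * (h * g⁻¹))⁻¹ x₂⁻¹ := by
      have := ha₂.inv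
      rw [e2] at this
      exact this
    have e3 : B.map (MulAut.conj ((m₂ * m₁⁻¹) * (m₁ * h))).toMonoidHom = B' := by
      rw [map_conj_mul, e1]
      exact map_conj_eq_of_mem_normalizer (M.mul_mem hm₂ (M.inv_mem hm₁))
    have c3 : Agree B ((m₂ * (h * g⁻¹))⁻¹ * ((m₂ * m₁⁻¹) * (m₁ * h))) (x₂⁻¹ * (x₃ * x₁)) := by
      apply Agree.comp c1
      rw [e3]
      exact c2
    have e4 : (m₂ * (h * g⁻¹))⁻¹ * ((m₂ * m₁⁻¹) * (m₁ * h)) = g := by group
    rw [e4] at c3
    exact ⟨x₂⁻¹ * (x₃ * x₁), N.mul_mem (N.inv_mem hx₂) (N.mul_mem hx₃ hx₁), c3⟩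

end main

end Cfsg.Agent.Lib.Helper53

namespace Cfsg.Agent.Lib.Helper53

open Cfsg

theorem controlsStrongFusion_of_stronglyClosed_abelian {G : Type*} [Group G] [Finite G] {p : ℕ}
    [Fact p.Prime] (S : Sylow p G) (A : Subgroup G) (hA : IsMulCommutative ↥A)
    (hsc : IsStronglyClosed A (S : Subgroup G)) : ControlsStrongFusion p A := by
  obtain ⟨hAS, hsc'⟩ := hsc
  have hAc : A ≤ Subgroup.centralizer (A : Set G) :=
    Subgroup.le_centralizer_iff_isMulCommutative.mpr hA
  refine ⟨S, hAS, fun B hB => ⟨hB, fun g hg => ?_⟩⟩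
  set Bc := Subgroup.closure B with hBc
  have hBcS : Bc ≤ S := (Subgroup.closure_le _).mpr hB
  have hmap : Bc.map (MulAut.conj g).toMonoidHom ≤ S := by
    rw [hBc, MonoidHom.map_closure, Subgroup.closure_le]
    rintro _ ⟨a, ha, rfl⟩
    exact hg ⟨a, ha, rfl⟩
  obtain ⟨x, hx, hag⟩ := controls_aux S A hAc hAS hsc' _ Bc hBcS rfl g hmap
  exact ⟨x, hx, fun a ha => hag a (Subgroup.subset_closure ha)⟩

end Cfsg.Agent.Lib.Helper53
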