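import Mathlib
import Cfsg.Agent.Lib.Helper40.T1904Defs

/-!
# S1904 keystone K12: the abelian 2-group `B` (rank at most two, fixed-point-free action) is
homocyclic
-/

set_option autoImplicit false

namespace Cfsg.Agent.Lib.Helper53.T1904

open Cfsg.Agent.Lib.Helper40.T1904

universe u_1

variable {X : Type u_1} [Group X]

/-- Key step: an element of `B` killed by `2^(c-1)` is a square in `B`. -/
theorem sq_of_pow_eq_one [Finite X] {A : Subgroup (MulAut X)} (B : Subgroup X)
    (h2 : IsPGroup 2 B) (hBa : Ab B) (hBi : Inv A B) (hfpf : Fpf A B)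
    (h4 : Nat.card {t : X // t ∈ B ∧ t * t = 1} ≤ 4) (c : ℕ) (hc : ∀ b ∈ B, b ^ (2 ^ c) = 1)
    (hc' : ∃ b ∈ B, b ^ (2 ^ (c - 1)) ≠ 1) :
    ∀ b ∈ B, b ^ (2 ^ (c - 1)) = 1 → ∃ d ∈ B, b = d ^ 2 := by
  have hc1 : 1 ≤ c := by
    by_contra hlt
    have h0 : c = 0 := by omega
    obtain ⟨b, hb, hb'⟩ := hc'
    apply hb'
    have := hc b hb
    rw [h0] at this ⊢
    exact this
  have hpow : 2 ^ (c - 1) * 2 = 2 ^ c := by
    rw [← pow_succ]
    congr 1
    omega
  let _ : CommGroup ↥B :=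
    { (inferInstance : Group ↥B) with mul_comm := fun a b => Subtype.ext (hBa a a.2 b b.2) }
  let f : ↥B →* ↥B := powMonoidHom (2 ^ (c - 1))
  let g : ↥B →* ↥B := powMonoidHom 2
  have hf : ∀ b : ↥B, f b = b ^ (2 ^ (c - 1)) := fun b => rfl
  have hg : ∀ b : ↥B, g b = b ^ 2 := fun b => rfl
  have hBc : ∀ b : ↥B, b ^ (2 ^ c) = 1 := by
    intro b
    apply Subtype.ext
    rw [Subgroup.coe_pow]
    exact hc b b.2
  -- range f ≤ ker g
  have h_fg : f.range ≤ g.ker := by
    rintro _ ⟨b, rfl⟩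
    rw [MonoidHom.mem_ker, hg, hf, ← pow_mul, hpow, hBc]
  -- range g ≤ ker f
  have h_gf : g.range ≤ f.ker := by
    rintro _ ⟨b, rfl⟩
    rw [MonoidHom.mem_ker, hg, hf, ← pow_mul, mul_comm, hpow, hBc]
  -- card ker g ≤ 4
  have hker4 : Nat.card g.ker ≤ 4 := by
    refine le_trans ?_ h4
    apply Nat.card_le_card_of_injective
      (fun t : g.ker => (⟨(t : ↥B), (t : ↥B).2, by
        have := t.2
        rw [MonoidHom.mem_ker, hg] at this
        have h3 : ((t : ↥B) : X) ^ 2 = 1 := by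
          rw [← Subgroup.coe_pow, this]; rfl
        rw [← pow_two]; exact h3⟩ : {t : X // t ∈ B ∧ t * t = 1}))
    intro s t hst
    apply Subtype.ext
    apply Subtype.ext
    simp only [Subtype.mk.injEq] at hst
    exact hst
  -- range f is nontrivial
  have hR1 : f.range ≠ ⊥ := by
    obtain ⟨b, hb, hb'⟩ := hc'
    intro hbot
    have hmem : f ⟨b, hb⟩ ∈ f.range := ⟨_, rfl⟩
    rw [hbot, Subgroup.mem_bot, hf] at hmem
    apply hb'
    have := congrArg Subtype.val hmem
    rwa [Subgroup.coe_pow] at this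
  -- card of range f is a power of two
  have h2R : IsPGroup 2 f.range := h2.to_subgroup f.range
  obtain ⟨k, hk⟩ := h2R.exists_card_eq
  have hk0 : k ≠ 0 := by
    intro h0
    rw [h0, pow_zero] at hk
    exact hR1 ((Subgroup.card_eq_one).mp hk)
  have hk1 : k ≠ 1 := by
    intro h1
    rw [h1, pow_one] at hk
    obtain ⟨t, ht, htu⟩ := (Nat.card_eq_two_iff' (1 : f.range)).mp hk
    -- `t` is fixed by `A`
    have htB : ((t : ↥B) : X) ∈ B := (t : ↥B).2
    have hfix : ∀ φ ∈ A, φ ((t : ↥B) : X) = ((t : ↥B) : X) := by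
      intro φ hφ
      obtain ⟨b, hb⟩ := t.2
      have hφb : φ (b : X) ∈ B := hBi φ hφ _ b.2
      have hmem : f ⟨φ (b : X), hφb⟩ ∈ f.range := ⟨_, rfl⟩
      have hval : ((f ⟨φ (b : X), hφb⟩ : ↥B) : X) = φ ((t : ↥B) : X) := by
        rw [hf, Subgroup.coe_pow, ← hb, hf, Subgroup.coe_pow, map_pow]
      have hne : (⟨f ⟨φ (b : X), hφb⟩, hmem⟩ : f.range) ≠ 1 := by
        intro h1
        have h3 : ((f ⟨φ (b : X), hφb⟩ : ↥B) : X) = 1 := by
          have := congrArg (fun z : f.range => ((z : ↥B) : X)) h1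
          simpa using this
        rw [hval] at h3
        have h5 : ((t : ↥B) : X) = 1 := by
          have := φ.injective (h3.trans (map_one φ).symm)
          exact this
        apply ht
        apply Subtype.ext
        apply Subtype.ext
        exact h5
      have := htu _ hne
      have h6 := congrArg (fun z : f.range => ((z : ↥B) : X)) this
      simp only at h6
      rw [← hval]
      exact h6
    have := hfpf _ htB hfix
    apply ht
    apply Subtype.ext
    apply Subtype.ext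
    exact this
  have hR4 : 4 ≤ Nat.card f.range := by
    rw [hk]
    have : 2 ≤ k := by omega
    calc 4 = 2 ^ 2 := by norm_num
      _ ≤ 2 ^ k := Nat.pow_le_pow_right (by norm_num) this
  have hReq : f.range = g.ker := Subgroup.eq_of_le_of_card_ge h_fg (hker4.trans hR4)
  -- counting
  have e1 : Nat.card f.ker * Nat.card f.range = Nat.card ↥B := by
    rw [← Subgroup.index_ker]; exact Subgroup.card_mul_index _
  have e2 : Nat.card g.ker * Nat.card g.range = Nat.card ↥B := by
    rw [← Subgroup.index_ker]; exact Subgroup.card_mul_index _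
  have e3 : Nat.card g.range = Nat.card f.ker := by
    rw [← hReq] at e2
    have hpos : 0 < Nat.card f.range := Nat.card_pos
    have : Nat.card f.range * Nat.card g.range = Nat.card f.range * Nat.card f.ker := by
      rw [e2, mul_comm, e1]
    exact Nat.eq_of_mul_eq_mul_left hpos this
  have hKer : g.range = f.ker := Subgroup.eq_of_le_of_card_ge h_gf (le_of_eq e3.symm)
  intro b hb hb1
  have hbk : (⟨b, hb⟩ : ↥B) ∈ f.ker := by
    rw [MonoidHom.mem_ker, hf]
    apply Subtype.ext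
    rw [Subgroup.coe_pow]
    exact hb1
  rw [← hKer] at hbk
  obtain ⟨d, hd⟩ := hbk
  refine ⟨(d : X), d.2, ?_⟩
  have := congrArg Subtype.val hd
  rw [hg, Subgroup.coe_pow] at this
  exact this.symm

/-- K12.  `B` is homocyclic: `B^(2^j) = Ω_(c-j)(B)`. -/
theorem homocyclic [Finite X] {A : Subgroup (MulAut X)} (hodd : Odd (Nat.card A)) (B : Subgroup X)
    (h2 : IsPGroup 2 B) (hBa : Ab B) (hBi : Inv A B) (hfpf : Fpf A B)
    (h4 : Nat.card {t : X // t ∈ B ∧ t * t = 1} ≤ 4) (c : ℕ) (hc : ∀ b ∈ B, b ^ (2 ^ c) = 1)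
    (hc' : ∃ b ∈ B, b ^ (2 ^ (c - 1)) ≠ 1) (j : ℕ) (hj : j ≤ c) (y : X) (hy : y ∈ B) :
    (∃ b ∈ B, y = b ^ (2 ^ j)) ↔ y ^ (2 ^ (c - j)) = 1 := by
  have _ := hodd
  constructor
  · rintro ⟨b, hb, rfl⟩
    rw [← pow_mul, ← pow_add, Nat.add_sub_cancel' hj]
    exact hc b hb
  · have key := sq_of_pow_eq_one (A := A) B h2 hBa hBi hfpf h4 c hc hc'
    have main : ∀ j : ℕ, j ≤ c → ∀ y ∈ B, y ^ (2 ^ (c - j)) = 1 → ∃ b ∈ B, y = b ^ (2 ^ j) := by
      intro j
      induction j with
      | zero =>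
        intro _ y hy _
        exact ⟨y, hy, by simp⟩
      | succ j ih =>
        intro hj y hy hy1
        have hj' : j ≤ c := by omega
        have hy2 : y ^ (2 ^ (c - j)) = 1 := by
          have : c - j = (c - (j + 1)) + 1 := by omega
          rw [this, pow_succ, pow_mul, hy1, one_pow]
        obtain ⟨b, hb, hyb⟩ := ih hj' y hy hy2
        have hb1 : b ^ (2 ^ (c - 1)) = 1 := by
          have : c - 1 = j + (c - (j + 1)) := by omega
          rw [this, pow_add, pow_mul, ← hyb, hy1]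
        obtain ⟨d, hd, hbd⟩ := key b hb hb1
        refine ⟨d, hd, ?_⟩
        rw [hyb, hbd, ← pow_mul, ← pow_succ']
    exact main j hj y hy

end Cfsg.Agent.Lib.Helper53.T1904
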