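import Mathlib
import Cfsg.Agent.Lib.Helper53.Tr1
import Cfsg.Agent.Lib.Helper88.FusionRS1

/-!
# Control of transfer, part 2: the tower argument (systems without normal subgroups)
-/

set_option autoImplicit false

namespace Cfsg.Agent.Lib.Helper53.Tr

open Cfsg Cfsg.FusionSystem Cfsg.Agent.Lib.Helper87 Cfsg.Agent.Lib.Helper53.FusWC

universe u

variable {Ω : Type u} [Group Ω] {S : Subgroup Ω}

/-- Every map of `N_F(V)` is `K`-good. -/
def GoodN (F : FusionSystem S) (K V : Subgroup Ω) : Prop :=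
  ∀ (R : Subgroup Ω) (ψ : R →* Ω), ψ ∈ F.normalizerHom V R → Good K ψ

theorem card_lt_of_le_of_ne {A B : Subgroup Ω} [Finite B] (hAB : A ≤ B) (hne : A ≠ B) :
    Nat.card A < Nat.card B := by
  by_contra hcon
  push Not at hcon
  exact hne (Subgroup.eq_of_le_of_card_ge hAB hcon)

/-- Transport of `GoodN` backwards along a good map defined on `N_S(V)`. -/
theorem goodN_transport [Finite S] (F : FusionSystem S) (K : Subgroup Ω) {V V' : Subgroup Ω} (hV : V ≤ S)
    (β : ↥(normalizerIn S V) →* Ω) (hβ : β ∈ F.Hom (normalizerIn S V))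
    (hβN : ∀ x, β x ∈ normalizerIn S V')
    (hmap : (V.subgroupOf (normalizerIn S V)).map β = V')
    (hβg : Good K β) (h' : GoodN F K V') : GoodN F K V := by
  intro R ψ hψ
  obtain ⟨hψF, hRN, hψN, ψ', hψ', hext, hmapψ⟩ := hψ
  have hβinj := F.injective_of_mem hβ
  have hVN : V ≤ normalizerIn S V := le_normalizerIn hV
  have hA : R ⊔ V ≤ normalizerIn S V := sup_le hRN hVN
  set βA : ↥(R ⊔ V) →* Ω := β.comp (Subgroup.inclusion hA) with hβA_def
  have hβA : βA ∈ F.Hom (R ⊔ V) := restrict_mem F hA hβ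
  obtain ⟨χ', hχ', hχ'inv, hχ'r⟩ := inv_mem' F hβA rfl
  have hχ'A : ∀ y : βA.range, χ' y ∈ R ⊔ V := fun y => hχ'r.le ⟨y, rfl⟩
  have hψ'V : ∀ v : V, ψ' (Subgroup.inclusion le_sup_right v) ∈ V := fun v =>
    hmapψ.le ⟨_, v.2, rfl⟩
  have hψ'N : ∀ y : ↥(R ⊔ V), ψ' y ∈ normalizerIn S V := by
    refine sup_hom_mem ψ' (fun x => ?_) (fun v => hVN (hψ'V v))
    rw [hext]; exact hψN x
  have h1 : β.comp (ψ'.codRestrict (normalizerIn S V) hψ'N) ∈ F.Hom (R ⊔ V) := F.comp_mem hψ' hβ hψ'N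
  set χ : ↥βA.range →* Ω :=
    (β.comp (ψ'.codRestrict (normalizerIn S V) hψ'N)).comp (χ'.codRestrict (R ⊔ V) hχ'A) with hχ_def
  have hχ : χ ∈ F.Hom βA.range := F.comp_mem hχ' h1 hχ'A
  -- the value of `χ`
  have hχval : ∀ a : ↥(R ⊔ V), χ ⟨βA a, ⟨a, rfl⟩⟩ = β ⟨ψ' a, hψ'N a⟩ := by
    intro a
    have h2 : χ' ⟨βA a, ⟨a, rfl⟩⟩ = (a : Ω) := hχ'inv a ⟨βA a, ⟨a, rfl⟩⟩ rfl
    show β ⟨ψ' ⟨χ' ⟨βA a, _⟩, _⟩, _⟩ = _
    congr 2
    exact congrArg ψ' (Subtype.ext h2)
  -- `V'` is the image of `V`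
  have hV'mem : ∀ y, y ∈ V' ↔ ∃ v : V, β ⟨v, hVN v.2⟩ = y := by
    intro y
    rw [← hmap]
    constructor
    · rintro ⟨x, hx, rfl⟩
      exact ⟨⟨x, hx⟩, rfl⟩
    · rintro ⟨v, rfl⟩
      exact ⟨⟨v, hVN v.2⟩, v.2, rfl⟩
  have hV'A : V' ≤ βA.range := by
    intro y hy
    obtain ⟨v, rfl⟩ := (hV'mem y).mp hy
    exact ⟨Subgroup.inclusion le_sup_right v, rfl⟩
  have hA'N : βA.range ≤ normalizerIn S V' := by
    rintro _ ⟨a, rfl⟩
    exact hβN _
  have hχN : χ ∈ F.normalizerHom V' βA.range := by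
    apply Cfsg.Agent.Lib.Helper90.GT.mem_normalizerHom_of_le F hχ hV'A hA'N
    ext y
    constructor
    · rintro ⟨z, hz, rfl⟩
      have hz' : (z : Ω) ∈ V' := hz
      obtain ⟨a, ha⟩ := z.2
      obtain ⟨v, hv⟩ := (hV'mem _).mp hz'
      have hav : (a : Ω) = v := by
        have : β (Subgroup.inclusion hA a) = β ⟨v, hVN v.2⟩ := by rw [hv]; exact ha
        exact congrArg (fun t : ↥(normalizerIn S V) => (t : Ω)) (hβinj this)
      have hza : z = ⟨βA a, ⟨a, rfl⟩⟩ := Subtype.ext ha.symm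
      rw [hza, hχval a]
      have ha' : a = Subgroup.inclusion le_sup_right v := Subtype.ext hav
      rw [(hV'mem _)]
      refine ⟨⟨ψ' a, ?_⟩, rfl⟩
      rw [ha']; exact hψ'V v
    · intro hy
      obtain ⟨v, rfl⟩ := (hV'mem y).mp hy
      obtain ⟨v₀, hv₀, hv₀v⟩ := hmapψ.ge v.2
      have hv₀V : (v₀ : Ω) ∈ V := hv₀
      refine ⟨⟨βA v₀, ⟨v₀, rfl⟩⟩, ?_, ?_⟩
      · show βA v₀ ∈ V'
        rw [hV'mem]
        exact ⟨⟨v₀, hv₀V⟩, rfl⟩
      · rw [hχval v₀]
        congr 1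
        exact Subtype.ext hv₀v
  have hχg : Good K χ := h' _ χ hχN
  intro x
  set x₁ : ↥(R ⊔ V) := Subgroup.inclusion le_sup_left x with hx₁
  have e1 := hβg ⟨x, hRN x.2⟩
  have e2 := hχg ⟨βA x₁, ⟨x₁, rfl⟩⟩
  rw [hχval x₁] at e2
  have e3 := K.inv_mem (hβg ⟨ψ x, hψN x⟩)
  have hψ'x : ψ' x₁ = ψ x := hext x
  have e4 : β ⟨ψ' x₁, hψ'N x₁⟩ = β ⟨ψ x, hψN x⟩ := by
    congr 1
    exact Subtype.ext hψ'x
  rw [e4] at e2
  have e5 : ((⟨βA x₁, ⟨x₁, rfl⟩⟩ : βA.range) : Ω) = β ⟨x, hRN x.2⟩ := rfl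
  rw [e5] at e2
  have : (x : Ω)⁻¹ * ψ x = ((x : Ω)⁻¹ * β ⟨x, hRN x.2⟩) * ((β ⟨x, hRN x.2⟩)⁻¹ * β ⟨ψ x, hψN x⟩) *
      ((ψ x)⁻¹ * β ⟨ψ x, hψN x⟩)⁻¹ := by group
  rw [this]
  exact K.mul_mem (K.mul_mem e1 e2) e3

/-- From the theorem for `N_F(V)`: the maps of `N_F(V)` are good as soon as those of
`N_F(W(N_S(V)))` are. -/
theorem goodN_of_ih [Finite S] (W : ∀ (Q : Type u) [Group Q], Subgroup Q) (F : FusionSystem S)
    (K : Subgroup Ω) {V : Subgroup Ω} (hV : V ≤ S)
    (IH : (normalizerSystem F V hV).focalSubgroup ≤ focN W (normalizerSystem F V hV))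
    (h2 : GoodN F K (subFunctor W (normalizerIn S V))) : GoodN F K V := by
  intro R ψ hψ x
  have h1 : (x : Ω)⁻¹ * ψ x ∈ (normalizerSystem F V hV).focalSubgroup :=
    Subgroup.subset_closure ⟨R, ψ, x, hψ, rfl⟩
  have h3 : focN W (normalizerSystem F V hV) ≤ K := by
    unfold focN
    rw [Subgroup.closure_le]
    rintro y ⟨P', χ, x', hχ, rfl⟩
    obtain ⟨hχE, hP', hval, χ', hχ', hext, hmap⟩ := hχ
    have hle : normalizerIn (normalizerIn S V) (subFunctor W (normalizerIn S V)) ≤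
        normalizerIn S (subFunctor W (normalizerIn S V)) := by
      intro g hg
      exact ⟨normalizerIn_le S V hg.1, hg.2⟩
    have hχE' : χ ∈ F.normalizerHom V P' := hχE
    have hχ'' : χ' ∈ F.normalizerHom V (P' ⊔ subFunctor W (normalizerIn S V)) := hχ'
    exact h2 P' χ ⟨hχE'.1, hP'.trans hle, fun z => hle (hval z), χ', hχ''.1, hext, hmap⟩ x'
  exact h3 (IH h1)

/-- One step of the tower. -/
theorem goodN_aux [Finite S] (p : ℕ) [Fact p.Prime] (hS : IsPGroup p S)
    (W : ∀ (Q : Type u) [Group Q], Subgroup Q)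
    (hW1 : ∀ (Q : Type u) [Group Q] [Finite Q], IsPGroup p Q → Nontrivial Q → W Q ≠ ⊥)
    (hW2 : ∀ (Q R : Type u) [Group Q] [Group R] [Finite Q], IsPGroup p Q → ∀ φ : Q ≃* R,
      (W Q).map φ.toMonoidHom = W R)
    (F : FusionSystem S) (hF : F.IsSaturated p)
    (IH : ∀ (V : Subgroup Ω) (hV : V ≤ S), F.IsFullyNormalized V → V ≠ ⊥ →
      (normalizerSystem F V hV).focalSubgroup ≤ focN W (normalizerSystem F V hV))
    (k : ℕ) (hM : ∀ (A : Subgroup Ω) (φ : A →* Ω), φ ∈ F.Hom A → k ≤ Nat.card A → Good (focN W F) φ)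
    (V : Subgroup Ω) (hV : V ≤ S) (hVne : V ≠ ⊥) (hk : k ≤ Nat.card (normalizerIn S V))
    (hrec : ∀ V₂ : Subgroup Ω, V₂ ≤ S → V₂ ≠ ⊥ → k ≤ Nat.card (normalizerIn S V₂) →
      Nat.card (normalizerIn S V) < Nat.card (normalizerIn S V₂) → GoodN F (focN W F) V₂) :
    GoodN F (focN W F) V := by
  obtain ⟨V', hconj, hfn⟩ := exists_isFullyNormalized F hV
  obtain ⟨hfc, hfa⟩ := fullyNormalized_props p hS F hF V' hfn
  have hrec' := isReceptive_of_isFullyCentralized p hS F hF V' hfc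
  obtain ⟨β, hβ, hβN, hmap, -⟩ := exists_normalizer_hom p hS F V' V hfa hrec' hconj
  have hβg := hM _ β hβ hk
  have hcard := hfn.2 V (isConj_symm F hconj)
  have hV'S : V' ≤ S := hfn.1
  have : Finite V := finite_of_le hV
  have : Finite V' := finite_of_le hV'S
  have hV'ne : V' ≠ ⊥ := by
    intro h0
    apply hVne
    have hc : Nat.card V' = Nat.card V := Cfsg.Agent.Lib.Helper89.isConj_card_eq F hconj
    rw [h0, Subgroup.card_bot] at hc
    exact (Subgroup.card_eq_one).mp hc.symm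
  apply goodN_transport F _ hV β hβ hβN hmap hβg
  apply goodN_of_ih W F _ hV'S (IH V' hV'S hfn hV'ne)
  -- the next level
  set T' := normalizerIn S V' with hT'
  have hT'S : T' ≤ S := normalizerIn_le S V'
  have : Finite T' := finite_of_le hT'S
  by_cases hTS : T' = S
  · rw [subFunctor_congr W hTS]
    intro R ψ hψ
    exact good_of_mem_normalizerHom W F hψ
  · have hV'T' : V' ≤ T' := le_normalizerIn hV'S
    have hT'nt : Nontrivial ↥T' := by
      obtain ⟨v, hv⟩ := (Subgroup.ne_bot_iff_exists_ne_one).mp hV'ne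
      refine ⟨⟨⟨(v : Ω), hV'T' v.2⟩, 1, fun h => hv ?_⟩⟩
      exact Subtype.ext (congrArg (fun t : ↥T' => (t : Ω)) h)
    have hV₂ne : subFunctor W T' ≠ ⊥ := by
      intro h0
      apply hW1 ↥T' (hS.to_le hT'S) hT'nt
      unfold subFunctor at h0
      exact (Subgroup.map_eq_bot_iff_of_injective _ T'.subtype_injective).mp h0
    have hV₂S : subFunctor W T' ≤ S := (subFunctor_le W T').trans hT'S
    -- `N_S(T') ≤ N_S(W(T'))`
    have hNN : normalizerIn S T' ≤ normalizerIn S (subFunctor W T') := by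
      intro g hg
      exact ⟨hg.1, subFunctor_normalizer hS W hW2 T' hT'S g hg.2⟩
    obtain ⟨s, hs, hsT'⟩ := Cfsg.Agent.Lib.Helper88.exists_mem_normalizerIn_not_mem hS hT'S hTS
    have hT'N : T' ≤ normalizerIn S T' := le_normalizerIn hT'S
    have : Finite ↥(normalizerIn S T') := finite_of_le (normalizerIn_le S T')
    have : Finite ↥(normalizerIn S (subFunctor W T')) := finite_of_le (normalizerIn_le S _)
    have hlt1 : Nat.card T' < Nat.card (normalizerIn S T') := by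
      apply card_lt_of_le_of_ne hT'N
      intro h
      apply hsT'
      rw [h]; exact hs
    have hle2 : Nat.card (normalizerIn S T') ≤ Nat.card (normalizerIn S (subFunctor W T')) :=
      Subgroup.card_le_of_le hNN
    apply hrec _ hV₂S hV₂ne
    · omega
    · omega

/-- The tower: `GoodN` for all nontrivial subgroups with big normalizers. -/
theorem goodN_of_big [Finite S] (p : ℕ) [Fact p.Prime] (hS : IsPGroup p S)
    (W : ∀ (Q : Type u) [Group Q], Subgroup Q)
    (hW1 : ∀ (Q : Type u) [Group Q] [Finite Q], IsPGroup p Q → Nontrivial Q → W Q ≠ ⊥)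
    (hW2 : ∀ (Q R : Type u) [Group Q] [Group R] [Finite Q], IsPGroup p Q → ∀ φ : Q ≃* R,
      (W Q).map φ.toMonoidHom = W R)
    (F : FusionSystem S) (hF : F.IsSaturated p)
    (IH : ∀ (V : Subgroup Ω) (hV : V ≤ S), F.IsFullyNormalized V → V ≠ ⊥ →
      (normalizerSystem F V hV).focalSubgroup ≤ focN W (normalizerSystem F V hV))
    (k : ℕ) (hM : ∀ (A : Subgroup Ω) (φ : A →* Ω), φ ∈ F.Hom A → k ≤ Nat.card A → Good (focN W F) φ) :
    ∀ (m : ℕ) (V : Subgroup Ω), V ≤ S → V ≠ ⊥ → k ≤ Nat.card (normalizerIn S V) →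
      Nat.card S - Nat.card (normalizerIn S V) ≤ m → GoodN F (focN W F) V := by
  intro m
  induction m with
  | zero =>
    intro V hV hVne hk hm
    -- `N_S(V) = S`
    exact goodN_aux p hS W hW1 hW2 F hF IH k hM V hV hVne hk (fun V₂ _ _ _ hlt => by
        have := card_le_of_le (normalizerIn_le S V₂)
        omega)
  | succ m ih =>
    intro V hV hVne hk hm
    exact goodN_aux p hS W hW1 hW2 F hF IH k hM V hV hVne hk
      (fun V₂ hV₂ hV₂ne hk₂ hlt => ih V₂ hV₂ hV₂ne hk₂ (by omega))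

/-- The key step: automorphisms of a fully normalized centric subgroup of order `k`, when all maps
on larger subgroups are good. -/
theorem good_aut_of_big [Finite S] (p : ℕ) [Fact p.Prime] (hS : IsPGroup p S)
    (W : ∀ (Q : Type u) [Group Q], Subgroup Q)
    (hW1 : ∀ (Q : Type u) [Group Q] [Finite Q], IsPGroup p Q → Nontrivial Q → W Q ≠ ⊥)
    (hW2 : ∀ (Q R : Type u) [Group Q] [Group R] [Finite Q], IsPGroup p Q → ∀ φ : Q ≃* R,
      (W Q).map φ.toMonoidHom = W R)
    (F : FusionSystem S) (hF : F.IsSaturated p)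
    (IH : ∀ (V : Subgroup Ω) (hV : V ≤ S), F.IsFullyNormalized V → V ≠ ⊥ →
      (normalizerSystem F V hV).focalSubgroup ≤ focN W (normalizerSystem F V hV))
    (P : Subgroup Ω) (hfn : F.IsFullyNormalized P) (hPc : F.IsCentric P)
    (hM : ∀ (A : Subgroup Ω) (φ : A →* Ω), φ ∈ F.Hom A → Nat.card P + 1 ≤ Nat.card A →
      Good (focN W F) φ)
    (φ : P →* Ω) (hφ : φ ∈ F.Hom P) (hr : φ.range = P) : Good (focN W F) φ := by
  have hPS : P ≤ S := hfn.1
  have : Finite P := finite_of_le hPS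
  have hmapφ : (P.subgroupOf P).map φ = P := by
    ext y
    constructor
    · rintro ⟨x, -, rfl⟩
      exact hr.le ⟨x, rfl⟩
    · intro hy
      obtain ⟨x, rfl⟩ := hr.ge hy
      exact ⟨x, Subgroup.mem_subgroupOf.mpr x.2, rfl⟩
  by_cases hPeq : P = S
  · subst hPeq
    have hN : normalizerIn P (subFunctor W P) = P := normalizerIn_subFunctor_self hS W hW2
    apply good_of_mem_normalizerHom W F
    apply Cfsg.Agent.Lib.Helper90.GT.mem_normalizerHom_of_le F hφ (subFunctor_le W P) hN.ge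
    exact map_subFunctor W hW2 hS φ (F.injective_of_mem hφ) hr
  · have hPne : P ≠ ⊥ := by
      intro h0
      apply hPeq
      have h1 := hPc.2 P ⟨P.subtype, subtype_mem F hPS, by simp⟩
      apply le_antisymm hPS
      intro s hs
      apply h1
      refine ⟨hs, ?_⟩
      rw [h0]
      intro y hy
      rw [Subgroup.coe_bot, Set.mem_singleton_iff] at hy
      rw [hy]; simp
    have hφN : φ ∈ F.normalizerHom P P :=
      Cfsg.Agent.Lib.Helper90.GT.mem_normalizerHom_of_le F hφ le_rfl (le_normalizerIn hPS) hmapφ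
    refine goodN_of_ih W F _ hPS (IH P hPS hfn hPne) ?_ P φ hφN
    set T := normalizerIn S P with hT
    have hTS : T ≤ S := normalizerIn_le S P
    have : Finite T := finite_of_le hTS
    have hPT : P ≤ T := le_normalizerIn hPS
    obtain ⟨s, hs, hsP⟩ := Cfsg.Agent.Lib.Helper88.exists_mem_normalizerIn_not_mem hS hPS hPeq
    have hlt : Nat.card P < Nat.card T := by
      apply card_lt_of_le_of_ne hPT
      intro h
      apply hsP
      rw [h]; exact hs
    have hTnt : Nontrivial ↥T := by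
      obtain ⟨v, hv⟩ := (Subgroup.ne_bot_iff_exists_ne_one).mp hPne
      refine ⟨⟨⟨(v : Ω), hPT v.2⟩, 1, fun h => hv ?_⟩⟩
      exact Subtype.ext (congrArg (fun t : ↥T => (t : Ω)) h)
    have hV₁ne : subFunctor W T ≠ ⊥ := by
      intro h0
      apply hW1 ↥T (hS.to_le hTS) hTnt
      unfold subFunctor at h0
      exact (Subgroup.map_eq_bot_iff_of_injective _ T.subtype_injective).mp h0
    have hV₁S : subFunctor W T ≤ S := (subFunctor_le W T).trans hTS
    have hTN : T ≤ normalizerIn S (subFunctor W T) := by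
      intro g hg
      exact ⟨hTS hg, subFunctor_normalizer hS W hW2 T hTS g (Subgroup.le_normalizer hg)⟩
    have : Finite ↥(normalizerIn S (subFunctor W T)) := finite_of_le (normalizerIn_le S _)
    have hle : Nat.card T ≤ Nat.card (normalizerIn S (subFunctor W T)) := Subgroup.card_le_of_le hTN
    exact goodN_of_big p hS W hW1 hW2 F hF IH (Nat.card P + 1) hM (Nat.card S) _ hV₁S hV₁ne
      (by omega) (Nat.sub_le _ _)

/-- **Control of transfer when all normalizers of nontrivial fully normalized subgroups satisfy the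
theorem** (in use: when the system has no nontrivial normal subgroup). -/
theorem focal_le_of_ih [Finite S] (p : ℕ) [Fact p.Prime] (hS : IsPGroup p S)
    (W : ∀ (Q : Type u) [Group Q], Subgroup Q)
    (hW1 : ∀ (Q : Type u) [Group Q] [Finite Q], IsPGroup p Q → Nontrivial Q → W Q ≠ ⊥)
    (hW2 : ∀ (Q R : Type u) [Group Q] [Group R] [Finite Q], IsPGroup p Q → ∀ φ : Q ≃* R,
      (W Q).map φ.toMonoidHom = W R)
    (F : FusionSystem S) (hF : F.IsSaturated p)
    (IH : ∀ (V : Subgroup Ω) (hV : V ≤ S), F.IsFullyNormalized V → V ≠ ⊥ →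
      (normalizerSystem F V hV).focalSubgroup ≤ focN W (normalizerSystem F V hV)) :
    F.focalSubgroup ≤ focN W F := by
  have hK := commIn_focN hS W hW2 F
  have claim : ∀ j : ℕ, ∀ (A : Subgroup Ω) (φ : A →* Ω), φ ∈ F.Hom A →
      Nat.card S + 1 - j ≤ Nat.card A → Good (focN W F) φ := by
    intro j
    induction j with
    | zero =>
      intro A φ hφ hc
      have := card_le_of_le (hom_le F hφ)
      omega
    | succ j ih =>
      apply good_of_goodAut p hS F hF _ hK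
      intro P hfn hPc hkP φ hφ hr
      by_cases hj : Nat.card S + 1 - j ≤ Nat.card P
      · exact ih P φ hφ hj
      · apply good_aut_of_big p hS W hW1 hW2 F hF IH P hfn hPc _ φ hφ hr
        intro A ψ hψ hA
        apply ih A ψ hψ
        omega
  rw [focal_le_iff]
  intro P φ hφ
  exact claim (Nat.card S + 1) P φ hφ (by omega)

end Cfsg.Agent.Lib.Helper53.Tr
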