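import Mathlib
import Cfsg.Agent.Lib.Helper53.Tr2
import Cfsg.Agent.Lib.Helper87.KNormalizer2
import Cfsg.Agent.Lib.Helper87.ModelEmbed0

/-!
# Control of transfer, part 3: the `K`-normalizer system as a fusion system, and the decomposition
`F = ⟨S C_F(Q), N_F(Q C_S(Q))⟩` for a subgroup `Q` normal in `F`
-/

set_option autoImplicit false

namespace Cfsg.Agent.Lib.Helper53.Tr

open Cfsg Cfsg.FusionSystem Cfsg.Agent.Lib.Helper87 Cfsg.Agent.Lib.Helper53.FusWC

universe u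

variable {Ω : Type u} [Group Ω] {S : Subgroup Ω}

/-- The `K`-normalizer system `N^K_F(Q)` as an honest fusion system over `N^K_S(Q)`. -/
def normKSystem [Finite S] (F : FusionSystem S) (Q : Subgroup Ω) (hQ : Q ≤ S) (K : Subgroup (MulAut Q)) :
    FusionSystem (normK S Q K) where
  Hom P := homK F Q K (normK S Q K) P
  le_of_mem h := ⟨h.2.1, h.2.2.1⟩
  injective_of_mem h := F.injective_of_mem h.1
  conj_mem := by
    intro P g hP hg
    obtain ⟨hgS, κ, hκ, hκx⟩ := mem_normK.mp hg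
    have hPS : P ≤ S := hP.trans (normK_le Q K)
    refine ⟨F.conj_mem hPS hgS, hP, fun x => ?_, conjHom (P ⊔ Q) g,
      F.conj_mem (sup_le hPS hQ) hgS, fun x => rfl, κ, hκ, fun x => ?_⟩
    · exact Subgroup.mul_mem _ (Subgroup.mul_mem _ hg (hP x.2)) (Subgroup.inv_mem _ hg)
    · exact (hκx x).symm
  comp_mem := by
    rintro P R φ ψ ⟨hφ, hPN, hφN, φ', hφ', hφ'φ, κ, hκ, hφ'κ⟩ ⟨hψ, hRN, hψN, ψ', hψ', hψ'ψ, μ, hμ, hψ'μ⟩ h
    refine ⟨F.comp_mem hφ hψ h, hPN, fun x => hψN _, ?_⟩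
    have hmem : ∀ y : ↥(P ⊔ Q), φ' y ∈ R ⊔ Q := by
      refine sup_hom_mem φ' (fun x => ?_) (fun x => ?_)
      · have : φ' (Subgroup.inclusion le_sup_left x) = φ x := hφ'φ x
        rw [this]; exact (le_sup_left : R ≤ R ⊔ Q) (h x)
      · have : φ' (Subgroup.inclusion le_sup_right x) = ((κ x : Q) : Ω) := hφ'κ x
        rw [this]; exact (le_sup_right : Q ≤ R ⊔ Q) (κ x).2
    refine ⟨ψ'.comp (φ'.codRestrict (R ⊔ Q) hmem), F.comp_mem hφ' hψ' hmem, fun x => ?_,
      μ * κ, K.mul_mem hμ hκ, fun x => ?_⟩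
    · show ψ' ⟨φ' (Subgroup.inclusion le_sup_left x), _⟩ = ψ ⟨φ x, _⟩
      rw [← hψ'ψ]
      congr 1
      exact Subtype.ext (hφ'φ x)
    · show ψ' ⟨φ' (Subgroup.inclusion le_sup_right x), _⟩ = _
      rw [MulAut.mul_apply, ← hψ'μ (κ x)]
      congr 1
      exact Subtype.ext (hφ'κ x)
  inv_mem := by
    rintro P φ ⟨hφ, hPN, hφN, φ', hφ', hφ'φ, κ, hκ, hφ'κ⟩
    obtain ⟨χ, hχ, hχφ', hχr⟩ := inv_mem' F hφ' rfl
    have hQr : ∀ q : Q, φ' (Subgroup.inclusion le_sup_right (κ⁻¹ q)) = (q : Ω) := by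
      intro q
      have := hφ'κ (κ⁻¹ q)
      rw [this]
      simp
    have hle : φ.range ⊔ Q ≤ φ'.range := by
      refine sup_le ?_ ?_
      · rintro _ ⟨x, rfl⟩
        exact ⟨Subgroup.inclusion le_sup_left x, hφ'φ x⟩
      · intro q hq
        exact ⟨_, hQr ⟨q, hq⟩⟩
    have hle₁ : φ.range ≤ φ'.range := le_sup_left.trans hle
    refine ⟨χ.comp (Subgroup.inclusion hle₁), ⟨restrict_mem F hle₁ hχ, ?_, ?_,
      χ.comp (Subgroup.inclusion hle), restrict_mem F hle hχ, fun x => rfl, κ⁻¹, K.inv_mem hκ,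
      fun x => ?_⟩, ?_⟩
    · rintro _ ⟨x, rfl⟩
      exact hφN x
    · rintro ⟨_, x, rfl⟩
      show χ ⟨φ x, _⟩ ∈ normK S Q K
      rw [hχφ' (Subgroup.inclusion le_sup_left x) ⟨φ x, hle₁ ⟨x, rfl⟩⟩ (hφ'φ x)]
      exact hPN x.2
    · exact hχφ' (Subgroup.inclusion le_sup_right (κ⁻¹ x)) _ (hQr x)
    · intro x
      show χ ⟨φ x, _⟩ = x
      rw [hχφ' (Subgroup.inclusion le_sup_left x) ⟨φ x, hle₁ ⟨x, rfl⟩⟩ (hφ'φ x)]
      rfl

theorem normKSystem_hom [Finite S] (F : FusionSystem S) (Q : Subgroup Ω) (hQ : Q ≤ S)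
    (K : Subgroup (MulAut Q)) (P : Subgroup Ω) :
    (normKSystem F Q hQ K).Hom P = homK F Q K (normK S Q K) P := rfl

/-- `N^K_S(Q) = N_S(Q)` for `K = Aut_S(Q)`. -/
theorem normK_autInducedBy (Q : Subgroup Ω) : normK S Q (autInducedBy S Q) = normalizerIn S Q := by
  ext g
  rw [mem_normK]
  constructor
  · rintro ⟨hgS, κ, -, hκx⟩
    exact ⟨hgS, mem_normalizer_of_conj_eq hκx⟩
  · intro hg
    refine ⟨hg.1, conjAut Q g hg.2, conjAut_mem_autInducedBy hg.1 hg.2, fun x => ?_⟩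
    exact conjAut_apply Q g hg.2 x

/-- The pair `(Q, Aut_S(Q))` is good as soon as `Q` is receptive. -/
theorem isGoodK_autInducedBy [Finite S] {p : ℕ} [Fact p.Prime] (hS : IsPGroup p S) (F : FusionSystem S)
    {Q : Subgroup Ω} (hQ : Q ≤ S) (hrec : F.IsReceptive Q) : IsGoodK F p Q (autInducedBy S Q) := by
  refine ⟨hrec, ?_⟩
  have : Finite Q := finite_of_le hQ
  rw [inf_idem, inf_eq_right.mpr (autInducedBy_le_autGroup F hQ)]
  rw [isSylowIn_iff_card le_rfl]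
  have hp : IsPGroup p (autInducedBy S Q) := isPGroup_autInducedBy hS Q
  obtain ⟨n, hn⟩ := IsPGroup.iff_card.mp hp
  rw [hn, Nat.Prime.factorization_pow (Fact.out : p.Prime)]
  simp

/-- Membership in `homK` for `K = Aut_S(Q)`, from a map which is the identity on `Q`. -/
theorem mem_homK_of_fix [Finite S] (F : FusionSystem S) {Q B : Subgroup Ω} (hQB : Q ≤ B)
    (hBN : B ≤ normalizerIn S Q)
    (γ : B →* Ω) (hγ : γ ∈ F.Hom B) (hγN : ∀ y : B, γ y ∈ normalizerIn S Q)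
    (hfix : ∀ q : Q, γ (Subgroup.inclusion hQB q) = (q : Ω)) :
    γ ∈ homK F Q (autInducedBy S Q) (normK S Q (autInducedBy S Q)) B := by
  rw [normK_autInducedBy]
  have hle : B ⊔ Q ≤ B := sup_le le_rfl hQB
  refine ⟨hγ, hBN, hγN, γ.comp (Subgroup.inclusion hle), restrict_mem F hle hγ, fun x => ?_, 1,
    Subgroup.one_mem _, fun x => ?_⟩
  · show γ (Subgroup.inclusion hle (Subgroup.inclusion le_sup_left x)) = γ x
    congr 1
  · show γ (Subgroup.inclusion hle (Subgroup.inclusion le_sup_right x)) = _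
    rw [MulAut.one_apply]
    exact hfix x

/-- The decomposition, for maps defined on overgroups of `Q` and normalizing `Q`. -/
theorem good_of_good_parts_aux [Finite S] (p : ℕ) [Fact p.Prime] (hS : IsPGroup p S) (F : FusionSystem S)
    (hF : F.IsSaturated p) {Q : Subgroup Ω} (hQn : F.IsNormal Q) (K : Subgroup Ω)
    (h1 : GoodN F K (Q ⊔ centralizerIn S Q))
    (h2 : ∀ (P : Subgroup Ω) (φ : P →* Ω),
      φ ∈ homK F Q (autInducedBy S Q) (normK S Q (autInducedBy S Q)) P → Good K φ)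
    (A : Subgroup Ω) (α : A →* Ω) (hα : α ∈ F.Hom A) (hQA : Q ≤ A)
    (hαQ : (Q.subgroupOf A).map α = Q) : Good K α := by
  have hQS : Q ≤ S := hQn.1
  have hSn : S ≤ Subgroup.normalizer (Q : Set Ω) := Cfsg.Agent.Lib.Helper90.GT.normal_le_normalizer F hQn
  have hNQ : normalizerIn S Q = S := le_antisymm (normalizerIn_le S Q) (fun s hs => ⟨hs, hSn hs⟩)
  have hfn : F.IsFullyNormalized Q :=
    Cfsg.Agent.Lib.Helper90.GT.isFullyNormalized_of_normalizerIn_eq F hQS hNQ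
  obtain ⟨hfc, -⟩ := fullyNormalized_props p hS F hF Q hfn
  have hrec := isReceptive_of_isFullyCentralized p hS F hF Q hfc
  have hAS : A ≤ S := hom_le F hα
  have hαS : ∀ x : A, α x ∈ S := hom_mem F hα
  have hαinj := F.injective_of_mem hα
  have hαQmem : ∀ q : Q, α (Subgroup.inclusion hQA q) ∈ Q := fun q =>
    hαQ.le ⟨_, Subgroup.mem_subgroupOf.mpr q.2, rfl⟩
  -- the restriction to `Q`
  set φQ : Q →* Ω := α.comp (Subgroup.inclusion hQA) with hφQ
  have hφQF : φQ ∈ F.Hom Q := restrict_mem F hQA hα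
  have hφQr : φQ.range = Q := by
    apply le_antisymm
    · rintro _ ⟨q, rfl⟩
      exact hαQmem q
    · intro y hy
      obtain ⟨z, hz, rfl⟩ := hαQ.ge hy
      have hz' : (z : Ω) ∈ Q := hz
      exact ⟨⟨z, hz'⟩, rfl⟩
  obtain ⟨ψ₀, hψ₀, hψ₀φ⟩ := hrec.2 Q φQ hφQF hφQr
  -- `A` lies in the extender
  have hAext : A ≤ extender S Q φQ := by
    intro g hg
    rw [mem_extender_iff]
    refine ⟨hAS hg, hSn (hAS hg), α ⟨g, hg⟩, hαS _, fun x hx => ?_⟩
    have : (Subgroup.inclusion hQA ⟨g * (x : Ω) * g⁻¹, hx⟩ : A) =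
        ⟨g, hg⟩ * Subgroup.inclusion hQA x * ⟨g, hg⟩⁻¹ := Subtype.ext rfl
    show α (Subgroup.inclusion hQA ⟨g * (x : Ω) * g⁻¹, hx⟩) = _
    rw [this, map_mul, map_mul, map_inv]
    rfl
  have hCext : centralizerIn S Q ≤ extender S Q φQ := centralizerIn_le_extender S Q φQ
  set R := Q ⊔ centralizerIn S Q with hR
  have hRS : R ≤ S := sup_le hQS (centralizerIn_le S Q)
  have hRext : R ≤ extender S Q φQ := sup_le (hQA.trans hAext) hCext
  have hle : A ⊔ R ≤ extender S Q φQ := sup_le hAext hRext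
  set ψ : ↥(A ⊔ R) →* Ω := ψ₀.comp (Subgroup.inclusion hle) with hψdef
  have hψ : ψ ∈ F.Hom (A ⊔ R) := restrict_mem F hle hψ₀
  have hψinj := F.injective_of_mem hψ
  have hQAR : Q ≤ A ⊔ R := hQA.trans le_sup_left
  have hψQ : ∀ q : Q, ψ (Subgroup.inclusion hQAR q) = α (Subgroup.inclusion hQA q) := by
    intro q
    exact hψ₀φ q q.2 (hle (hQAR q.2))
  -- `ψ` maps `R` onto `R`
  have hRAR : R ≤ A ⊔ R := le_sup_right
  have hψR : ∀ y : ↥(A ⊔ R), (y : Ω) ∈ R → ψ y ∈ R := by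
    intro y hy
    set ψR : ↥(Q ⊔ centralizerIn S Q) →* Ω := ψ.comp (Subgroup.inclusion hRAR) with hψRdef
    have key : ∀ z : ↥(Q ⊔ centralizerIn S Q), ψR z ∈ R := by
      refine sup_hom_mem ψR (fun q => ?_) (fun c => ?_)
      · have e : ψR (Subgroup.inclusion le_sup_left q) = ψ (Subgroup.inclusion hQAR q) := rfl
        rw [e, hψQ q]
        exact (le_sup_left : Q ≤ R) (hαQmem q)
      · apply (le_sup_right : centralizerIn S Q ≤ R)
        rw [mem_centralizerIn]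
        refine ⟨hom_mem F hψ _, fun t ht => ?_⟩
        obtain ⟨t', ht'⟩ : ∃ t' : Q, φQ t' = t := hφQr.ge ht
        have e1 : ψ (Subgroup.inclusion hQAR t') = t := by rw [hψQ t']; exact ht'
        have e2 : ψR (Subgroup.inclusion le_sup_right c) =
            ψ (Subgroup.inclusion hRAR (Subgroup.inclusion le_sup_right c)) := rfl
        rw [e2, ← e1, ← map_mul, ← map_mul]
        congr 1
        apply Subtype.ext
        show (t' : Ω) * (c : Ω) = (c : Ω) * (t' : Ω)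
        exact (mem_centralizerIn.mp c.2).2 t' t'.2
    have : ψ y = ψR ⟨y, hy⟩ := by
      show ψ y = ψ (Subgroup.inclusion hRAR ⟨y, hy⟩)
      congr 1
    rw [this]
    exact key _
  have : Finite R := finite_of_le hRS
  have hψRmap : (R.subgroupOf (A ⊔ R)).map ψ = R :=
    Cfsg.Agent.Lib.Helper87.map_subgroupOf_eq_of_forall_mem hRAR ψ hψinj hψR
  -- `R` is normalized by `S`
  have hRn : S ≤ Subgroup.normalizer (R : Set Ω) := by
    intro s hs
    have hsQ := hSn hs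
    have hsC : s ∈ Subgroup.normalizer (centralizerIn S Q : Set Ω) := by
      rw [Subgroup.mem_normalizer_iff]
      intro c
      constructor
      · intro hc
        rw [mem_centralizerIn] at hc ⊢
        refine ⟨S.mul_mem (S.mul_mem hs hc.1) (S.inv_mem hs), fun t ht => ?_⟩
        have ht' : s⁻¹ * t * s ∈ Q := (Subgroup.mem_normalizer_iff''.mp hsQ t).mp ht
        have := hc.2 _ ht'
        calc t * (s * c * s⁻¹) = s * ((s⁻¹ * t * s) * c) * s⁻¹ := by group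
          _ = s * (c * (s⁻¹ * t * s)) * s⁻¹ := by rw [this]
          _ = s * c * s⁻¹ * t := by group
      · intro hc
        rw [mem_centralizerIn] at hc ⊢
        refine ⟨?_, fun t ht => ?_⟩
        · have := S.mul_mem (S.mul_mem (S.inv_mem hs) hc.1) hs
          have e : s⁻¹ * (s * c * s⁻¹) * s = c := by group
          rw [e] at this
          exact this
        · have ht' : s * t * s⁻¹ ∈ Q := (Subgroup.mem_normalizer_iff.mp hsQ t).mp ht
          have := hc.2 _ ht'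
          calc t * c = s⁻¹ * ((s * t * s⁻¹) * (s * c * s⁻¹)) * s := by group
            _ = s⁻¹ * ((s * c * s⁻¹) * (s * t * s⁻¹)) * s := by rw [this]
            _ = c * t := by group
    exact Cfsg.Agent.Lib.Helper87.normalizer_sup_mem hsQ hsC
  have hARS : A ⊔ R ≤ S := sup_le hAS hRS
  have hARN : A ⊔ R ≤ normalizerIn S R := fun y hy => ⟨hARS hy, hRn (hARS hy)⟩
  have hψN : ψ ∈ F.normalizerHom R (A ⊔ R) :=
    Cfsg.Agent.Lib.Helper90.GT.mem_normalizerHom_of_le F hψ hRAR hARN hψRmap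
  have hψg : Good K ψ := h1 _ ψ hψN
  -- the second factor
  have hAAR : A ≤ A ⊔ R := le_sup_left
  set ψA : A →* Ω := ψ.comp (Subgroup.inclusion hAAR) with hψAdef
  have hψA : ψA ∈ F.Hom A := restrict_mem F hAAR hψ
  obtain ⟨χ, hχ, hχinv, hχr⟩ := inv_mem' F hψA rfl
  have hχA : ∀ y : ψA.range, χ y ∈ A := fun y => hχr.le ⟨y, rfl⟩
  set γ : ↥ψA.range →* Ω := α.comp (χ.codRestrict A hχA) with hγdef
  have hγ : γ ∈ F.Hom ψA.range := F.comp_mem hχ hα hχA
  have hγval : ∀ a : A, γ ⟨ψA a, ⟨a, rfl⟩⟩ = α a := by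
    intro a
    have : χ ⟨ψA a, ⟨a, rfl⟩⟩ = (a : Ω) := hχinv a ⟨ψA a, ⟨a, rfl⟩⟩ rfl
    show α ⟨χ ⟨ψA a, _⟩, _⟩ = α a
    congr 1
    exact Subtype.ext this
  have hQB : Q ≤ ψA.range := by
    intro y hy
    obtain ⟨q, hq⟩ : ∃ q : Q, φQ q = y := hφQr.ge hy
    refine ⟨Subgroup.inclusion hQA q, ?_⟩
    show ψ (Subgroup.inclusion hAAR (Subgroup.inclusion hQA q)) = y
    have : Subgroup.inclusion hAAR (Subgroup.inclusion hQA q) = Subgroup.inclusion hQAR q := rfl
    rw [this, hψQ q]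
    exact hq
  have hBS : ψA.range ≤ S := hom_le F hγ
  have hγfix : ∀ q : Q, γ (Subgroup.inclusion hQB q) = (q : Ω) := by
    intro q
    obtain ⟨q', hq'⟩ : ∃ q' : Q, φQ q' = (q : Ω) := hφQr.ge q.2
    have e1 : ψA (Subgroup.inclusion hQA q') = (q : Ω) := by
      show ψ (Subgroup.inclusion hAAR (Subgroup.inclusion hQA q')) = _
      have : Subgroup.inclusion hAAR (Subgroup.inclusion hQA q') = Subgroup.inclusion hQAR q' := rfl
      rw [this, hψQ q']
      exact hq'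
    have e2 : Subgroup.inclusion hQB q = ⟨ψA (Subgroup.inclusion hQA q'), ⟨_, rfl⟩⟩ :=
      Subtype.ext e1.symm
    rw [e2, hγval]
    exact hq'
  have hγK : γ ∈ homK F Q (autInducedBy S Q) (normK S Q (autInducedBy S Q)) ψA.range := by
    apply mem_homK_of_fix F hQB _ γ hγ _ hγfix
    · rw [hNQ]; exact hBS
    · intro y
      rw [hNQ]; exact hom_mem F hγ y
  have hγg : Good K γ := h2 _ γ hγK
  -- conclusion
  intro x
  have e1 := hψg (Subgroup.inclusion hAAR x)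
  have e2 := hγg ⟨ψA x, ⟨x, rfl⟩⟩
  rw [hγval x] at e2
  have e4 : ((⟨ψA x, ⟨x, rfl⟩⟩ : ψA.range) : Ω) = ψ (Subgroup.inclusion hAAR x) := rfl
  rw [e4] at e2
  have e5 : ((Subgroup.inclusion hAAR x : ↥(A ⊔ R)) : Ω) = (x : Ω) := rfl
  rw [e5] at e1
  have : (x : Ω)⁻¹ * α x = ((x : Ω)⁻¹ * ψ (Subgroup.inclusion hAAR x)) *
      ((ψ (Subgroup.inclusion hAAR x))⁻¹ * α x) := by group
  rw [this]
  exact K.mul_mem e1 e2

/-- **The decomposition.** For `Q` normal in the saturated system `F` and `R = Q C_S(Q)`: if the maps of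
`N_F(R)` and the maps of `S C_F(Q)` are `K`-good, then all maps of `F` are `K`-good. -/
theorem good_of_good_parts [Finite S] (p : ℕ) [Fact p.Prime] (hS : IsPGroup p S) (F : FusionSystem S)
    (hF : F.IsSaturated p) {Q : Subgroup Ω} (hQn : F.IsNormal Q) (K : Subgroup Ω)
    (h1 : GoodN F K (Q ⊔ centralizerIn S Q))
    (h2 : ∀ (P : Subgroup Ω) (φ : P →* Ω),
      φ ∈ homK F Q (autInducedBy S Q) (normK S Q (autInducedBy S Q)) P → Good K φ) :
    ∀ (A : Subgroup Ω) (α : A →* Ω), α ∈ F.Hom A → Good K α := by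
  intro A₀ α₀ hα₀
  obtain ⟨α, hα, hαext, hαQ⟩ := hQn.2 A₀ α₀ hα₀
  have hg := good_of_good_parts_aux p hS F hF hQn K h1 h2 (A₀ ⊔ Q) α hα le_sup_right hαQ
  intro x
  have := hg (Subgroup.inclusion le_sup_left x)
  rw [hαext x] at this
  exact this

end Cfsg.Agent.Lib.Helper53.Tr
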