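import Mathlib
import Cfsg.Agent.Lib.Helper53.Tr3
import Cfsg.Agent.Lib.Helper90.QuotModel4
import Cfsg.Agent.S5134

/-!
# Control of transfer, part 4: passage to a factor system
-/

set_option autoImplicit false

namespace Cfsg.Agent.Lib.Helper53.Tr

open Cfsg Cfsg.FusionSystem Cfsg.Agent.Lib.Helper87 Cfsg.Agent.Lib.Helper53.FusWC
open Cfsg.Agent.Lib.Helper88 (mem_preimageAlong preimageAlong_le kernel_le_preimageAlong exists_preimage)

universe u v

variable {Ω : Type u} [Group Ω] {S : Subgroup Ω}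

/-- `focN` of a subsystem over the same group lies in `focN` of the system. -/
theorem focN_le_of_sub (W : ∀ (Q : Type u) [Group Q], Subgroup Q) {T : Subgroup Ω} (E : FusionSystem T)
    (F : FusionSystem S) (hTS : T = S) (hsub : ∀ P : Subgroup Ω, E.Hom P ⊆ F.Hom P) :
    focN W E ≤ focN W F := by
  subst hTS
  unfold focN
  apply Subgroup.closure_mono
  rintro y ⟨P, φ, x, hφ, rfl⟩
  obtain ⟨hφE, hP, hval, ψ, hψE, hext, hmap⟩ := hφ
  exact ⟨P, φ, x, ⟨hsub _ hφE, hP, hval, ψ, hsub _ hψE, hext, hmap⟩, rfl⟩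

theorem focal_le_of_sub {T : Subgroup Ω} (E : FusionSystem T) (F : FusionSystem S)
    (hsub : ∀ P : Subgroup Ω, E.Hom P ⊆ F.Hom P) : E.focalSubgroup ≤ F.focalSubgroup := by
  unfold focalSubgroup
  apply Subgroup.closure_mono
  rintro y ⟨P, φ, x, hφ, rfl⟩
  exact ⟨P, φ, x, hsub _ hφ, rfl⟩

theorem focal_le (F : FusionSystem S) : F.focalSubgroup ≤ S := by
  unfold focalSubgroup
  rw [Subgroup.closure_le]
  rintro y ⟨P, φ, x, hφ, rfl⟩
  exact S.mul_mem (S.inv_mem (hom_le F hφ x.2)) (hom_mem F hφ x)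

section Factor

variable {Ω' : Type v} [Group Ω'] {S' : Subgroup Ω'}

/-- The image of the focal subgroup lies in the focal subgroup of the factor system. -/
theorem map_focal_le [Finite S] (p : ℕ) [Fact p.Prime] (hS : IsPGroup p S) (F : FusionSystem S)
    (hF : F.IsSaturated p) {Q : Subgroup Ω} (hQ : F.StronglyClosed Q) (θ : S →* Ω') (E : FusionSystem S')
    (hE : F.IsFactorSystem Q θ E) (x : Ω) (hx : x ∈ F.focalSubgroup) (hxS : x ∈ S) :
    θ ⟨x, hxS⟩ ∈ E.focalSubgroup := by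
  have hmor := (Cfsg.Agent.S5134.result p hS F hF Q hQ θ E hE).1
  have key : F.focalSubgroup ≤ (E.focalSubgroup.comap θ).map S.subtype := by
    unfold focalSubgroup
    rw [Subgroup.closure_le]
    rintro y ⟨P, φ, z, hφ, rfl⟩
    obtain ⟨φ', hφ', hP, hφS, hP', hind⟩ := hmor.2 P φ hφ
    have hmem : (z : Ω)⁻¹ * φ z ∈ S := S.mul_mem (S.inv_mem (hP z.2)) (hφS z)
    refine ⟨⟨(z : Ω)⁻¹ * φ z, hmem⟩, ?_, rfl⟩
    show θ ⟨(z : Ω)⁻¹ * φ z, hmem⟩ ∈ Subgroup.closure _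
    have e : (⟨(z : Ω)⁻¹ * φ z, hmem⟩ : S) = (⟨z, hP z.2⟩ : S)⁻¹ * ⟨φ z, hφS z⟩ := rfl
    rw [e, map_mul, map_inv, ← hind z]
    exact Subgroup.subset_closure ⟨_, φ', ⟨θ ⟨z, hP z.2⟩, hP' z⟩, hφ', rfl⟩
  obtain ⟨s, hs, hsx⟩ := key hx
  have : s = ⟨x, hxS⟩ := Subtype.ext hsx
  rw [← this]
  exact hs

/-- **Passage to the factor system.** If the focal subgroup of `F/Q` is generated by the maps of the
normalizer of `U'`, then modulo `Q` the focal subgroup of `F` lies in the focal subgroup of the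
normalizer of the full preimage of `U'`. -/
theorem stepA [Finite S] (p : ℕ) [Fact p.Prime] (hS : IsPGroup p S) (F : FusionSystem S)
    (hF : F.IsSaturated p) {Q : Subgroup Ω} (hQ : F.StronglyClosed Q) (θ : S →* Ω') (E : FusionSystem S')
    (hE : F.IsFactorSystem Q θ E) (U' : Subgroup Ω') (hU' : U' ≤ S')
    (hEfoc : E.focalSubgroup ≤ Subgroup.closure {y : Ω' | ∃ (P' : Subgroup Ω') (χ : P' →* Ω') (z : P'),
      χ ∈ E.normalizerHom U' P' ∧ y = (z : Ω')⁻¹ * χ z})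
    (x : Ω) (hx : x ∈ F.focalSubgroup) :
    ∃ y ∈ (normalizerSystem F (preimageAlong θ U') (preimageAlong_le θ U')).focalSubgroup,
      y⁻¹ * x ∈ Q := by
  have hxS : x ∈ S := focal_le F hx
  set U := preimageAlong θ U' with hU
  have hUS : U ≤ S := preimageAlong_le θ U'
  set N := normalizerSystem F U hUS with hN
  set N' := normalizerSystem E U' hU' with hN'
  have hfac := Cfsg.Agent.Lib.Helper90.QM.isFactorSystem_normalizer F θ E hQ hE hU' N
    (normalizerSystem_isNormalizerSystem F U hUS) N' (normalizerSystem_isNormalizerSystem E U' hU')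
  have hE' := hE
  obtain ⟨-, hker, hrange, -⟩ := hE
  have hNS : N.focalSubgroup ≤ S := (focal_le N).trans (normalizerIn_le S U)
  -- the image of the focal subgroup of `N`
  have h1 : θ ⟨x, hxS⟩ ∈ E.focalSubgroup := map_focal_le p hS F hF hQ θ E hE' x hx hxS
  have h2 : Subgroup.closure {y : Ω' | ∃ (P' : Subgroup Ω') (χ : P' →* Ω') (z : P'),
      χ ∈ E.normalizerHom U' P' ∧ y = (z : Ω')⁻¹ * χ z} ≤ (N.focalSubgroup.subgroupOf S).map θ := by
    rw [Subgroup.closure_le]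
    rintro y ⟨P', χ', z', hχ', rfl⟩
    have hχN' : χ' ∈ N'.Hom P' := hχ'
    obtain ⟨hP'le, χ, hχ, hP, hχS, hP'mem, hind⟩ := (hfac.2.2.2 P' χ').mp hχN'
    -- lift `z'`
    have hz'r : (z' : Ω') ∈ (θ.comp (Subgroup.inclusion (normalizerIn_le S U))).range := by
      rw [hfac.2.2.1]; exact hP'le z'.2
    obtain ⟨z₀, hz₀⟩ := hz'r
    have hz₀mem : (z₀ : Ω) ∈ preimageAlong (θ.comp (Subgroup.inclusion (normalizerIn_le S U))) P' := by
      rw [mem_preimageAlong]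
      refine ⟨z₀.2, ?_⟩
      have : (⟨(z₀ : Ω), z₀.2⟩ : ↥(normalizerIn S U)) = z₀ := rfl
      rw [this, hz₀]; exact z'.2
    set z : ↥(preimageAlong (θ.comp (Subgroup.inclusion (normalizerIn_le S U))) P') := ⟨z₀, hz₀mem⟩ with hz
    have e1 := hind z
    have hzz' : (⟨(θ.comp (Subgroup.inclusion (normalizerIn_le S U))) ⟨(z : Ω), hP z.2⟩, hP'mem z⟩ : P') = z' := by
      apply Subtype.ext
      show (θ.comp (Subgroup.inclusion (normalizerIn_le S U))) ⟨(z₀ : Ω), _⟩ = _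
      exact hz₀
    rw [hzz'] at e1
    -- the element of `N.focalSubgroup`
    have hgen : (z : Ω)⁻¹ * χ z ∈ N.focalSubgroup := Subgroup.subset_closure ⟨_, χ, z, hχ, rfl⟩
    have hgenS : (z : Ω)⁻¹ * χ z ∈ S := hNS hgen
    refine ⟨⟨(z : Ω)⁻¹ * χ z, hgenS⟩, Subgroup.mem_subgroupOf.mpr hgen, ?_⟩
    have hzS : (z : Ω) ∈ S := normalizerIn_le S U (hP z.2)
    have hχzS : χ z ∈ S := normalizerIn_le S U (hχS z)
    have e : (⟨(z : Ω)⁻¹ * χ z, hgenS⟩ : S) = (⟨z, hzS⟩ : S)⁻¹ * ⟨χ z, hχzS⟩ := rfl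
    rw [e, map_mul, map_inv, e1]
    have e2 : θ ⟨(z : Ω), hzS⟩ = (z' : Ω') := hz₀
    rw [e2]
    rfl
  obtain ⟨y, hy, hyx⟩ := h2 (hEfoc h1)
  refine ⟨(y : Ω), Subgroup.mem_subgroupOf.mp hy, ?_⟩
  have h3 : θ (y⁻¹ * ⟨x, hxS⟩) = 1 := by rw [map_mul, map_inv, hyx, inv_mul_cancel]
  exact (hker _).mp h3

end Factor

/-- The case where `S` itself is normal in the system. -/
theorem focal_le_of_normal_top [Finite S] {p : ℕ} (hS : IsPGroup p S)
    (W : ∀ (Q : Type u) [Group Q], Subgroup Q)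
    (hW2 : ∀ (Q R : Type u) [Group Q] [Group R] [Finite Q], IsPGroup p Q → ∀ φ : Q ≃* R,
      (W Q).map φ.toMonoidHom = W R)
    (F : FusionSystem S) (hSn : F.IsNormal S) : F.focalSubgroup ≤ focN W F := by
  rw [focal_le_iff]
  intro P φ hφ x
  obtain ⟨ψ, hψ, hext, hmap⟩ := hSn.2 P φ hφ
  set ψS : S →* Ω := ψ.comp (Subgroup.inclusion (le_sup_right : S ≤ P ⊔ S)) with hψS
  have hψSF : ψS ∈ F.Hom S := restrict_mem F le_sup_right hψ
  have hr : ψS.range = S := by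
    apply le_antisymm
    · rintro _ ⟨s, rfl⟩
      exact hom_mem F hψSF s
    · intro y hy
      obtain ⟨z, hz, rfl⟩ := hmap.ge hy
      have hz' : (z : Ω) ∈ S := hz
      exact ⟨⟨z, hz'⟩, rfl⟩
  have hN : normalizerIn S (subFunctor W S) = S := normalizerIn_subFunctor_self hS W hW2
  have hmem : ψS ∈ F.normalizerHom (subFunctor W S) S := by
    apply Cfsg.Agent.Lib.Helper90.GT.mem_normalizerHom_of_le F hψSF (subFunctor_le W S) hN.ge
    exact map_subFunctor W hW2 hS ψS (F.injective_of_mem hψSF) hr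
  have hPS : P ≤ S := hom_le F hφ
  have := good_of_mem_normalizerHom W F hmem ⟨x, hPS x.2⟩
  have e : ψS ⟨x, hPS x.2⟩ = φ x := by
    rw [← hext x]
    rfl
  rw [e] at this
  exact this

end Cfsg.Agent.Lib.Helper53.Tr
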