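import Mathlib
import Cfsg.Agent.Lib.Helper53.Tr4
import Cfsg.Agent.Lib.Helper03.PGroupNormal
import Cfsg.Agent.S5329

/-!
# Control of transfer, part 5: subgroups on which the system acts through `S`

If every map of the saturated system `F` sends each element of the normal subgroup `Q` of `S` to an
`S`-conjugate of it, then `Q ∩ foc(F) ≤ S'`.  (Induction along a central series, using the theorem
`Z(F) ∩ foc(F) ≤ S'`.)
-/

set_option autoImplicit false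

namespace Cfsg.Agent.Lib.Helper53.Tr

open Cfsg Cfsg.FusionSystem Cfsg.Agent.Lib.Helper87 Cfsg.Agent.Lib.Helper53.FusWC
open Cfsg.Agent.Lib.Helper88 (mem_preimageAlong preimageAlong_le kernel_le_preimageAlong exists_preimage
  factorSystem isFactorSystem_factorSystem isSaturated_of_isFactorSystem)

universe u

/-- Every map of the system sends each element of `Q` to an `S`-conjugate of it. -/
def ActsThroughS {Ω : Type u} [Group Ω] {S : Subgroup Ω} (F : FusionSystem S) (Q : Subgroup Ω) : Prop :=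
  ∀ (A : Subgroup Ω) (φ : A →* Ω), φ ∈ F.Hom A → ∀ x : A, (x : Ω) ∈ Q → ∃ s ∈ S, φ x = s * x * s⁻¹

theorem inf_focal_le_commutator_aux (p : ℕ) [Fact p.Prime] :
    ∀ n : ℕ, ∀ (Ω : Type u) [Group Ω] (S : Subgroup Ω) [Finite S], IsPGroup p S → Nat.card S = n →
      ∀ F : FusionSystem S, F.IsSaturated p → ∀ Q : Subgroup Ω, Q ≤ S →
        S ≤ Subgroup.normalizer (Q : Set Ω) → ActsThroughS F Q →
        ∀ x ∈ Q, x ∈ F.focalSubgroup → x ∈ ⁅(S : Subgroup Ω), (S : Subgroup Ω)⁆ := by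
  intro n
  induction n using Nat.strong_induction_on with
  | _ n ih =>
  intro Ω _ S _ hS hn F hF Q hQS hQn hstar x hxQ hxf
  by_cases hQbot : Q = ⊥
  · rw [hQbot, Subgroup.mem_bot] at hxQ
    rw [hxQ]; exact Subgroup.one_mem _
  -- a nontrivial central element of `S` in `Q`
  have hQ'n : (Q.subgroupOf S).Normal := by
    constructor
    intro a ha g
    rw [Subgroup.mem_subgroupOf] at ha ⊢
    exact (Subgroup.mem_normalizer_iff.mp (hQn g.2) _).mp ha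
  have hQ'ne : Q.subgroupOf S ≠ ⊥ := by
    intro h0
    apply hQbot
    rw [eq_bot_iff]
    intro y hy
    have : (⟨y, hQS hy⟩ : S) ∈ Q.subgroupOf S := Subgroup.mem_subgroupOf.mpr hy
    rw [h0, Subgroup.mem_bot] at this
    rw [Subgroup.mem_bot]
    exact congrArg (fun t : S => (t : Ω)) this
  obtain ⟨z₀, hz₀Q, hz₀c, hz₀1⟩ :=
    Cfsg.Agent.Lib.Helper03.exists_mem_center_of_normal_ne_bot hS (Q.subgroupOf S) hQ'ne
  set Z : Subgroup Ω := Q ⊓ Subgroup.centralizer (S : Set Ω) with hZ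
  have hZQ : Z ≤ Q := inf_le_left
  have hZS : Z ≤ S := hZQ.trans hQS
  have hz₀Z : (z₀ : Ω) ∈ Z := by
    refine ⟨Subgroup.mem_subgroupOf.mp hz₀Q, ?_⟩
    show (z₀ : Ω) ∈ Subgroup.centralizer (S : Set Ω)
    rw [Subgroup.mem_centralizer_iff]
    intro s hs
    have := Subgroup.mem_center_iff.mp hz₀c ⟨s, hs⟩
    exact congrArg (fun t : S => (t : Ω)) this
  -- the elements of `Z` are fixed by all maps
  have hZfix : ∀ y ∈ Z, ∀ (A : Subgroup Ω) (φ : A →* Ω), φ ∈ F.Hom A → ∀ hy : y ∈ A, φ ⟨y, hy⟩ = y := by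
    intro y hyZ A φ hφ hyA
    obtain ⟨s, hs, hsφ⟩ := hstar A φ hφ ⟨y, hyA⟩ (hZQ hyZ)
    rw [hsφ]
    have := Subgroup.mem_centralizer_iff.mp hyZ.2 s hs
    show s * y * s⁻¹ = y
    rw [this]; group
  have hZcen : Z ≤ F.center := le_center_of_fixMaps p hS F hF Z hZS hZfix
  have hZsc : F.StronglyClosed Z := by
    refine ⟨hZS, fun R hRZ φ hφ y => ?_⟩
    rw [hZfix y (hRZ y.2) R φ hφ y.2]
    exact hRZ y.2
  have hZ'n : (Z.subgroupOf S).Normal := by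
    constructor
    intro a ha g
    rw [Subgroup.mem_subgroupOf] at ha ⊢
    have hc := Subgroup.mem_centralizer_iff.mp ha.2 g g.2
    have : ((g * a * g⁻¹ : S) : Ω) = a := by
      show (g : Ω) * a * (g : Ω)⁻¹ = a
      rw [hc]; group
    rw [this]; exact ha
  -- the factor system
  set θ : ↥S →* ↥S ⧸ Z.subgroupOf S := QuotientGroup.mk' (Z.subgroupOf S) with hθ
  have hker : ∀ s : S, θ s = 1 ↔ (s : Ω) ∈ Z := by
    intro s
    rw [hθ, QuotientGroup.mk'_apply, QuotientGroup.eq_one_iff, Subgroup.mem_subgroupOf]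
  have hsurj : Function.Surjective θ := QuotientGroup.mk'_surjective _
  have hrange : θ.range = (⊤ : Subgroup (↥S ⧸ Z.subgroupOf S)) := MonoidHom.range_eq_top.mpr hsurj
  set E := factorSystem F Z hZsc θ hker hrange with hEdef
  have hE : F.IsFactorSystem Z θ E := isFactorSystem_factorSystem F Z hZsc θ hker hrange
  have hEsat : E.IsSaturated p := isSaturated_of_isFactorSystem p hS F hF hZsc θ E hE
  have hfinT : Finite ↥(⊤ : Subgroup (↥S ⧸ Z.subgroupOf S)) := inferInstance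
  have hpT : IsPGroup p ↥(⊤ : Subgroup (↥S ⧸ Z.subgroupOf S)) :=
    (hS.to_quotient (Z.subgroupOf S)).of_equiv Subgroup.topEquiv.symm
  -- the order decreases
  have hcardlt : Nat.card ↥(⊤ : Subgroup (↥S ⧸ Z.subgroupOf S)) < n := by
    rw [Subgroup.card_top, ← hn, Subgroup.card_eq_card_quotient_mul_card_subgroup (Z.subgroupOf S)]
    have h2 : 1 < Nat.card (Z.subgroupOf S) := by
      rw [Finite.one_lt_card_iff_nontrivial]
      refine ⟨⟨⟨z₀, Subgroup.mem_subgroupOf.mpr hz₀Z⟩, 1, fun h => hz₀1 ?_⟩⟩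
      exact congrArg (fun t : ↥(Z.subgroupOf S) => (t : S)) h
    have h3 : 0 < Nat.card (↥S ⧸ Z.subgroupOf S) := Nat.card_pos
    nlinarith
  -- the image of `Q`
  set Qb : Subgroup (↥S ⧸ Z.subgroupOf S) := (Q.subgroupOf S).map θ with hQb
  have hQbn : Qb.Normal := Subgroup.Normal.map hQ'n θ hsurj
  have hQbN : (⊤ : Subgroup (↥S ⧸ Z.subgroupOf S)) ≤ Subgroup.normalizer (Qb : Set _) := by
    rw [Subgroup.normalizer_eq_top]
  have hstar' : ActsThroughS E Qb := by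
    intro A' φ' hφ' x' hx'
    obtain ⟨-, φ, hφ, hP, hφS, hP', hind⟩ := (hE.2.2.2 A' φ').mp hφ'
    obtain ⟨q, hq, hqx⟩ := hx'
    have hqQ : (q : Ω) ∈ Q := Subgroup.mem_subgroupOf.mp hq
    have hqpre : (q : Ω) ∈ preimageAlong θ A' := by
      rw [mem_preimageAlong]
      refine ⟨q.2, ?_⟩
      have : (⟨(q : Ω), q.2⟩ : S) = q := rfl
      rw [this, hqx]; exact x'.2
    obtain ⟨s, hs, hsφ⟩ := hstar _ φ hφ ⟨q, hqpre⟩ hqQ
    refine ⟨θ ⟨s, hs⟩, Subgroup.mem_top _, ?_⟩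
    have e1 := hind ⟨q, hqpre⟩
    have e2 : (⟨θ ⟨((⟨q, hqpre⟩ : ↥(preimageAlong θ A')) : Ω), hP hqpre⟩, hP' ⟨q, hqpre⟩⟩ : A') = x' := by
      apply Subtype.ext
      show θ ⟨(q : Ω), _⟩ = _
      exact hqx
    rw [e2] at e1
    rw [e1, ← hqx]
    have e3 : (⟨φ ⟨q, hqpre⟩, hφS ⟨q, hqpre⟩⟩ : S) = ⟨s, hs⟩ * q * ⟨s, hs⟩⁻¹ := Subtype.ext hsφ
    rw [e3, map_mul, map_mul, map_inv]
  have hxS : x ∈ S := hQS hxQ
  have h1 : θ ⟨x, hxS⟩ ∈ Qb := ⟨⟨x, hxS⟩, Subgroup.mem_subgroupOf.mpr hxQ, rfl⟩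
  have h2 : θ ⟨x, hxS⟩ ∈ E.focalSubgroup := map_focal_le p hS F hF hZsc θ E hE x hxf hxS
  have h3 := ih _ hcardlt (↥S ⧸ Z.subgroupOf S) ⊤ hpT rfl E hEsat Qb le_top hQbN hstar' _ h1 h2
  -- pull back
  have h4 : ⁅(⊤ : Subgroup (↥S ⧸ Z.subgroupOf S)), (⊤ : Subgroup (↥S ⧸ Z.subgroupOf S))⁆ =
      (⁅(⊤ : Subgroup ↥S), (⊤ : Subgroup ↥S)⁆ : Subgroup ↥S).map θ := by
    rw [Subgroup.map_commutator, ← MonoidHom.range_eq_map, hrange]
  rw [h4] at h3
  obtain ⟨c, hc, hcx⟩ := h3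
  have hcS : (c : Ω) ∈ ⁅(S : Subgroup Ω), (S : Subgroup Ω)⁆ := by
    have hmap : (⁅(⊤ : Subgroup ↥S), (⊤ : Subgroup ↥S)⁆ : Subgroup ↥S).map S.subtype =
        ⁅(S : Subgroup Ω), (S : Subgroup Ω)⁆ := by
      rw [Subgroup.map_commutator, ← MonoidHom.range_eq_map, Subgroup.range_subtype]
    rw [← hmap]
    exact ⟨c, hc, rfl⟩
  have h5 : θ (c⁻¹ * ⟨x, hxS⟩) = 1 := by rw [map_mul, map_inv, hcx, inv_mul_cancel]
  have h6 : (c : Ω)⁻¹ * x ∈ Z := (hker _).mp h5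
  have hcf : (c : Ω) ∈ F.focalSubgroup := Cfsg.Agent.S5329.commutator_le_focal F hcS
  have h7 : (c : Ω)⁻¹ * x ∈ F.focalSubgroup ⊓ F.center :=
    ⟨F.focalSubgroup.mul_mem (F.focalSubgroup.inv_mem hcf) hxf, hZcen h6⟩
  rw [Cfsg.Agent.S5329.result p hS F hF] at h7
  have : x = (c : Ω) * ((c : Ω)⁻¹ * x) := by group
  rw [this]
  exact Subgroup.mul_mem _ hcS h7.1

/-- If the saturated system `F` acts on the normal subgroup `Q` of `S` through `S`, then
`Q ∩ foc(F) ≤ S'`. -/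
theorem inf_focal_le_commutator {Ω : Type u} [Group Ω] {S : Subgroup Ω} [Finite S] (p : ℕ) [Fact p.Prime]
    (hS : IsPGroup p S) (F : FusionSystem S) (hF : F.IsSaturated p) (Q : Subgroup Ω) (hQS : Q ≤ S)
    (hQn : S ≤ Subgroup.normalizer (Q : Set Ω)) (hstar : ActsThroughS F Q) :
    ∀ x ∈ Q, x ∈ F.focalSubgroup → x ∈ ⁅(S : Subgroup Ω), (S : Subgroup Ω)⁆ :=
  inf_focal_le_commutator_aux p _ Ω S hS rfl F hF Q hQS hQn hstar

end Cfsg.Agent.Lib.Helper53.Tr
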