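import Mathlib
import Cfsg.Agent.Lib.Helper53.Tr5

/-!
# Control of transfer, part 6: the constrained case, through a model and the local hypothesis
-/

set_option autoImplicit false

namespace Cfsg.Agent.Lib.Helper53.Tr

open Cfsg Cfsg.FusionSystem Cfsg.Agent.Lib.Helper87 Cfsg.Agent.Lib.Helper53.FusWC

universe u

open scoped commutatorElement

variable {Ω : Type u} [Group Ω] {S : Subgroup Ω}

/-- The images of the generators of the focal subgroup are commutators. -/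
theorem map_focal_le_commutator (F : FusionSystem S) {G : Type*} [Group G] (ι : S →* G)
    (hreal : F.IsRealizedBy ι) (x : Ω) (hx : x ∈ F.focalSubgroup) (hxS : x ∈ S) :
    ι ⟨x, hxS⟩ ∈ commutator G := by
  have key : F.focalSubgroup ≤ ((commutator G).comap ι).map S.subtype := by
    unfold focalSubgroup
    rw [Subgroup.closure_le]
    rintro y ⟨P, φ, z, hφ, rfl⟩
    have hP := hom_le F hφ
    have hφS := hom_mem F hφ
    obtain ⟨g, hg⟩ := exists_conj_of_mem_hom F hreal hφ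
    have hmem : (z : Ω)⁻¹ * φ z ∈ S := S.mul_mem (S.inv_mem (hP z.2)) (hφS z)
    refine ⟨⟨(z : Ω)⁻¹ * φ z, hmem⟩, ?_, rfl⟩
    show ι ⟨(z : Ω)⁻¹ * φ z, hmem⟩ ∈ commutator G
    have e : (⟨(z : Ω)⁻¹ * φ z, hmem⟩ : S) = (⟨z, hP z.2⟩ : S)⁻¹ * ⟨φ z, hφS z⟩ := rfl
    rw [e, map_mul, map_inv, hg z]
    have e2 : (ι ⟨z, hP z.2⟩)⁻¹ * (g * ι ⟨z, hP z.2⟩ * g⁻¹) = ⁅(ι ⟨z, hP z.2⟩)⁻¹, g⁆ := by
      rw [commutatorElement_def]; group
    rw [e2, commutator_def]
    exact Subgroup.commutator_mem_commutator (Subgroup.mem_top _) (Subgroup.mem_top _)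
  obtain ⟨s, hs, hsx⟩ := key hx
  have : s = ⟨x, hxS⟩ := Subtype.ext hsx
  rw [← this]
  exact hs

/-- Conjugation by an element of the normalizer of the image of `W(S)`, on the cyclic group generated
by `y`, is a map of the normalizer of `W(S)`. -/
theorem mem_focN_of_conj [Finite S] {p : ℕ} [Fact p.Prime] (hS : IsPGroup p S)
    (W : ∀ (Q : Type u) [Group Q], Subgroup Q)
    (hW2 : ∀ (Q R : Type u) [Group Q] [Group R] [Finite Q], IsPGroup p Q → ∀ φ : Q ≃* R,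
      (W Q).map φ.toMonoidHom = W R)
    (F : FusionSystem S) {G : Type u} [Group G] (ι : S →* G) (hreal : F.IsRealizedBy ι)
    (u : G) (hu : u ∈ Subgroup.normalizer ((push ι (subFunctor W S) : Subgroup G) : Set G))
    (y : Ω) (hyS : y ∈ S) (hconj : u * ι ⟨y, hyS⟩ * u⁻¹ ∈ ι.range) :
    ∃ w ∈ focN W F, ∃ hw : w ∈ S, ι ⟨w, hw⟩ = (ι ⟨y, hyS⟩)⁻¹ * (u * ι ⟨y, hyS⟩ * u⁻¹) := by
  have hinj := hreal.1
  set V := subFunctor W S with hV
  have hVS : V ≤ S := subFunctor_le W S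
  -- the subgroup of `S` carried into the image of `S` by `u`
  set D : Subgroup Ω := pull ι ((ι.range).map (MulAut.conj u⁻¹).toMonoidHom) with hD
  have hDmem : ∀ x : Ω, x ∈ D ↔ ∃ h : x ∈ S, u * ι ⟨x, h⟩ * u⁻¹ ∈ ι.range := by
    intro x
    rw [hD, mem_pull]
    constructor
    · rintro ⟨h, hx⟩
      refine ⟨h, ?_⟩
      rw [mem_map_conj_iff] at hx
      simpa using hx
    · rintro ⟨h, hx⟩
      refine ⟨h, ?_⟩
      rw [mem_map_conj_iff]
      simpa using hx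
  have hDS : D ≤ S := pull_le ι _
  have hyD : y ∈ D := (hDmem y).mpr ⟨hyS, hconj⟩
  have hVD : V ≤ D := by
    intro v hv
    rw [hDmem]
    refine ⟨hVS hv, ?_⟩
    have h1 : ι ⟨v, hVS hv⟩ ∈ push ι V := mem_push.mpr ⟨⟨v, hVS hv⟩, hv, rfl⟩
    have h2 := (Subgroup.mem_normalizer_iff.mp hu _).mp h1
    exact push_le_range ι V h2
  set A : Subgroup Ω := Subgroup.zpowers y ⊔ V with hA
  have hAD : A ≤ D := sup_le (by rw [Subgroup.zpowers_le]; exact hyD) hVD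
  have hAS : A ≤ S := hAD.trans hDS
  have hcond : ∀ x : A, u * ι ⟨x, hAS x.2⟩ * u⁻¹ ∈ ι.range := by
    intro x
    obtain ⟨_, hx⟩ := (hDmem x).mp (hAD x.2)
    exact hx
  set φ : A →* Ω := pullConj ι hinj A hAS u hcond with hφ
  have hφF : φ ∈ F.Hom A := pullConj_mem_hom F hreal A hAS u hcond
  have hφι : ∀ x : A, ι ⟨φ x, pullConj_mem ι hinj A hAS u hcond x⟩ = u * ι ⟨x, hAS x.2⟩ * u⁻¹ :=
    ι_pullConj ι hinj A hAS u hcond
  have hVA : V ≤ A := le_sup_right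
  have hN : normalizerIn S V = S := normalizerIn_subFunctor_self hS W hW2
  have : Finite V := finite_of_le hVS
  have hφV : ∀ x : A, (x : Ω) ∈ V → φ x ∈ V := by
    intro x hx
    have h1 : ι ⟨x, hAS x.2⟩ ∈ push ι V := mem_push.mpr ⟨⟨x, hAS x.2⟩, hx, rfl⟩
    have h2 := (Subgroup.mem_normalizer_iff.mp hu _).mp h1
    rw [← hφι x] at h2
    obtain ⟨s, hs, hsι⟩ := mem_push.mp h2
    have : s = ⟨φ x, pullConj_mem ι hinj A hAS u hcond x⟩ := hinj hsι
    rw [this] at hs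
    exact hs
  have hmap : (V.subgroupOf A).map φ = V :=
    Cfsg.Agent.Lib.Helper87.map_subgroupOf_eq_of_forall_mem hVA φ (F.injective_of_mem hφF) hφV
  have hφN : φ ∈ F.normalizerHom V A :=
    Cfsg.Agent.Lib.Helper90.GT.mem_normalizerHom_of_le F hφF hVA (by rw [hN]; exact hAS) hmap
  have hyA : y ∈ A := (le_sup_left : Subgroup.zpowers y ≤ A) (Subgroup.mem_zpowers y)
  have hgood := good_of_mem_normalizerHom W F hφN ⟨y, hyA⟩
  have hwS : y⁻¹ * φ ⟨y, hyA⟩ ∈ S := S.mul_mem (S.inv_mem hyS) (hom_mem F hφF _)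
  refine ⟨y⁻¹ * φ ⟨y, hyA⟩, hgood, hwS, ?_⟩
  have e : (⟨y⁻¹ * φ ⟨y, hyA⟩, hwS⟩ : S) = (⟨y, hyS⟩ : S)⁻¹ * ⟨φ ⟨y, hyA⟩, hom_mem F hφF _⟩ := rfl
  rw [e, map_mul, map_inv]
  congr 1
  exact hφι ⟨y, hyA⟩

/-- **The constrained case.** If `F` has a model and `Q` is normal in `F`, the local hypothesis gives
`Q ∩ foc(F) ≤ foc(N_F(W(S)))`. -/
theorem inf_focal_le_of_model [Finite S] {p : ℕ} [Fact p.Prime] (hS : IsPGroup p S)
    (W : ∀ (Q : Type u) [Group Q], Subgroup Q)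
    (hW2 : ∀ (Q R : Type u) [Group Q] [Group R] [Finite Q], IsPGroup p Q → ∀ φ : Q ≃* R,
      (W Q).map φ.toMonoidHom = W R)
    (hT : ∀ (G : Type u) [Group G] [Finite G] (P : Sylow p G),
      Subgroup.centralizer ((Cfsg.pCore p G : Subgroup G) : Set G) ≤ Cfsg.pCore p G →
      Cfsg.pCore p G ⊓ commutator G = Cfsg.pCore p G ⊓
        (commutator ↥(Subgroup.normalizer (((W ↥(P : Subgroup G)).map (P : Subgroup G).subtype :
          Subgroup G) : Set G))).map (Subgroup.normalizer (((W ↥(P : Subgroup G)).map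
            (P : Subgroup G).subtype : Subgroup G) : Set G)).subtype)
    (F : FusionSystem S) {G : Type u} [Group G] (ι : S →* G) (hmodel : F.IsModel p G ι)
    (Q : Subgroup Ω) (hQn : F.IsNormal Q) :
    ∀ x ∈ Q, x ∈ F.focalSubgroup → x ∈ focN W F := by
  intro x hxQ hxf
  have hpush := push_normal_of_isNormal p hS F ι hmodel Q hQn
  obtain ⟨hfin, hreal, ⟨T, hTr⟩, hcent⟩ := hmodel
  have hinj := hreal.1
  have hQS : Q ≤ S := hQn.1
  have hxS : x ∈ S := hQS hxQ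
  set N : Subgroup G := Subgroup.normalizer (((W ↥(T : Subgroup G)).map (T : Subgroup G).subtype :
    Subgroup G) : Set G) with hNdef
  have hTG : Cfsg.pCore p G ⊓ commutator G = Cfsg.pCore p G ⊓ (commutator ↥N).map N.subtype :=
    hT G T hcent
  -- `ι x` lies in `O_p(G) ∩ G'`
  have hpQ : IsPGroup p (push ι Q) := by
    unfold push
    exact (hS.to_subgroup (Q.subgroupOf S)).map ι
  have h1 : ι ⟨x, hxS⟩ ∈ Cfsg.pCore p G := by
    have hle : push ι Q ≤ Cfsg.pCore p G := le_sSup ⟨hpush, hpQ⟩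
    exact hle (mem_push.mpr ⟨⟨x, hxS⟩, hxQ, rfl⟩)
  have h2 : ι ⟨x, hxS⟩ ∈ commutator G := map_focal_le_commutator F ι hreal x hxf hxS
  have h3 : ι ⟨x, hxS⟩ ∈ Cfsg.pCore p G ⊓ commutator G := ⟨h1, h2⟩
  rw [hTG] at h3
  obtain ⟨n, hn, hnx⟩ := h3.2
  have hnx' : ((n : ↥N) : G) = ι ⟨x, hxS⟩ := hnx
  -- the normalizer and its Sylow subgroup
  have hfinT : Finite ↥(T : Subgroup G) := inferInstance
  have hpT : IsPGroup p ↥(T : Subgroup G) := T.2
  have hpushV : push ι (subFunctor W S) = (W ↥(T : Subgroup G)).map (T : Subgroup G).subtype :=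
    push_subFunctor W hW2 hS ι hinj (T : Subgroup G) hTr
  have hTN : (T : Subgroup G) ≤ N := by
    intro t ht
    exact subFunctor_normalizer (S := (T : Subgroup G)) hpT W hW2 (T : Subgroup G) le_rfl t
      (Subgroup.le_normalizer ht)
  set TN : Sylow p ↥N := T.subtype hTN with hTNdef
  have hTNcoe : (TN : Subgroup ↥N) = (T : Subgroup G).subgroupOf N := rfl
  have hnT : n ∈ (TN : Subgroup ↥N) := by
    rw [hTNcoe, Subgroup.mem_subgroupOf, hnx', hTr]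
    exact ⟨_, rfl⟩
  have hnfoc : n ∈ (TN : Subgroup ↥N).focalSubgroup := by
    rw [← Subgroup.commutator_inf_eq_focalSubgroup TN]
    exact ⟨hn, hnT⟩
  -- the focal subgroup of `T` in `N` comes from `focN`
  have key : (TN : Subgroup ↥N).focalSubgroup ≤
      ((((focN W F).subgroupOf S).map ι).comap N.subtype) := by
    rw [Subgroup.focalSubgroup_def, Subgroup.closure_le]
    rintro g ⟨hgT, a, haT, v, rfl⟩
    rw [hTNcoe, Subgroup.mem_subgroupOf] at haT hgT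
    rw [hTr] at haT hgT
    obtain ⟨a₀, ha₀⟩ := haT
    -- `y = a₀⁻¹`
    have hvN : (v : G) ∈ Subgroup.normalizer ((push ι (subFunctor W S) : Subgroup G) : Set G) := by
      rw [hpushV]; exact v.2
    have hconj : (v : G) * ι ⟨((a₀⁻¹ : S) : Ω), (a₀⁻¹).2⟩ * (v : G)⁻¹ ∈ ι.range := by
      have e1 : ι ⟨((a₀⁻¹ : S) : Ω), (a₀⁻¹).2⟩ = ((a : ↥N) : G)⁻¹ := by
        rw [← ha₀, ← map_inv]
      rw [e1]
      have e2 : (v : G) * ((a : ↥N) : G)⁻¹ * (v : G)⁻¹ = ((a : ↥N) : G)⁻¹ * ((⁅a, v⁆ : ↥N) : G) := by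
        rw [commutatorElement_def]
        push_cast
        group
      rw [e2]
      exact ι.range.mul_mem (ι.range.inv_mem ⟨a₀, ha₀⟩) hgT
    obtain ⟨w, hwf, hwS, hwι⟩ := mem_focN_of_conj hS W hW2 F ι hreal (v : G) hvN _ (a₀⁻¹).2 hconj
    show ((⁅a, v⁆ : ↥N) : G) ∈ ((focN W F).subgroupOf S).map ι
    refine ⟨⟨w, hwS⟩, Subgroup.mem_subgroupOf.mpr hwf, ?_⟩
    rw [hwι]
    have e1 : ι ⟨((a₀⁻¹ : S) : Ω), (a₀⁻¹).2⟩ = ((a : ↥N) : G)⁻¹ := by
      rw [← ha₀, ← map_inv]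
    rw [e1, commutatorElement_def]
    push_cast
    group
  obtain ⟨w, hw, hwn⟩ := key hnfoc
  have hwx : w = ⟨x, hxS⟩ := by
    apply hinj
    rw [hwn]
    exact hnx'
  rw [hwx] at hw
  exact Subgroup.mem_subgroupOf.mp hw

end Cfsg.Agent.Lib.Helper53.Tr
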