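import Cfsg.Agent.Lib.Helper53.Basic

set_option autoImplicit false

namespace Cfsg.Agent.Lib.Helper53

open scoped IsMulCommutative

section trace

variable {G : Type*} [Group G]

theorem le_normalizer_sup {K A B : Subgroup G} (hA : K ≤ Subgroup.normalizer (A : Set G))
    (hB : K ≤ Subgroup.normalizer (B : Set G)) :
    K ≤ Subgroup.normalizer ((A ⊔ B : Subgroup G) : Set G) := by
  apply le_normalizer_of_conj_mem
  intro g hg n hn
  have h : A ⊔ B ≤ (A ⊔ B).comap (MulAut.conj g).toMonoidHom := by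
    apply sup_le
    · intro a ha
      exact Subgroup.mem_sup_left (conj_mem_of_le_normalizer hA hg ha)
    · intro b hb
      exact Subgroup.mem_sup_right (conj_mem_of_le_normalizer hB hg hb)
  exact h hn

theorem le_normalizer_inf {K A B : Subgroup G} (hA : K ≤ Subgroup.normalizer (A : Set G))
    (hB : K ≤ Subgroup.normalizer (B : Set G)) :
    K ≤ Subgroup.normalizer ((A ⊓ B : Subgroup G) : Set G) := by
  apply le_normalizer_of_conj_mem
  intro g hg n hn
  exact ⟨conj_mem_of_le_normalizer hA hg hn.1, conj_mem_of_le_normalizer hB hg hn.2⟩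

theorem le_normalizer_centralizer {K A : Subgroup G} (hA : K ≤ Subgroup.normalizer (A : Set G)) :
    K ≤ Subgroup.normalizer ((Subgroup.centralizer (A : Set G) : Subgroup G) : Set G) := by
  apply le_normalizer_of_conj_mem
  intro g hg c hc
  rw [Subgroup.mem_centralizer_iff] at hc ⊢
  intro a ha
  have h1 : g⁻¹ * a * g⁻¹⁻¹ ∈ A := conj_mem_of_le_normalizer hA (K.inv_mem hg) ha
  have h2 := hc _ h1
  have h3 : a = g * (g⁻¹ * a * g⁻¹⁻¹) * g⁻¹ := by group
  rw [h3]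
  calc g * (g⁻¹ * a * g⁻¹⁻¹) * g⁻¹ * (g * c * g⁻¹)
      = g * ((g⁻¹ * a * g⁻¹⁻¹) * c) * g⁻¹ := by group
    _ = g * (c * (g⁻¹ * a * g⁻¹⁻¹)) * g⁻¹ := by rw [h2]
    _ = g * c * g⁻¹ * (g * (g⁻¹ * a * g⁻¹⁻¹) * g⁻¹) := by group

/-- The relative trace: if `v ∈ C_V(T)` with `V` abelian and normalized by `R ≥ T`, then
`v ^ |R : T| ∈ [V, R] C_V(R)`. -/
theorem pow_index_mem_commutator_sup_centralizer [Finite G] {V R T : Subgroup G}
    (hVc : IsMulCommutative V) (hRV : R ≤ Subgroup.normalizer (V : Set G))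
    {v : G} (hv : v ∈ V) (hvT : v ∈ Subgroup.centralizer (T : Set G)) :
    v ^ (T.subgroupOf R).index ∈ ⁅V, R⁆ ⊔ (V ⊓ Subgroup.centralizer (R : Set G)) := by
  classical
  have := hVc
  have : Fintype (↥R ⧸ T.subgroupOf R) := Fintype.ofFinite _
  let f : ↥R ⧸ T.subgroupOf R → ↥V := fun q =>
    ⟨(q.out : G) * v * (q.out : G)⁻¹, conj_mem_of_le_normalizer hRV q.out.2 hv⟩
  have hf : ∀ r : ↥R, ((f (r : ↥R ⧸ T.subgroupOf R) : ↥V) : G) = (r : G) * v * (r : G)⁻¹ := by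
    intro r
    show (((r : ↥R ⧸ T.subgroupOf R).out : ↥R) : G) * v * (((r : ↥R ⧸ T.subgroupOf R).out : ↥R) : G)⁻¹ = _
    have h1 : ((r : ↥R ⧸ T.subgroupOf R).out)⁻¹ * r ∈ T.subgroupOf R :=
      QuotientGroup.eq.1 (QuotientGroup.out_eq' _)
    set o : ↥R := (r : ↥R ⧸ T.subgroupOf R).out with ho
    have h2 : (o : G)⁻¹ * (r : G) ∈ T := h1
    have h3 := Subgroup.mem_centralizer_iff.1 hvT _ h2
    have h4 : ((o : G)⁻¹ * (r : G)) * v * ((o : G)⁻¹ * (r : G))⁻¹ = v := by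
      rw [h3, mul_inv_cancel_right]
    calc (o : G) * v * (o : G)⁻¹
        = (o : G) * (((o : G)⁻¹ * (r : G)) * v * ((o : G)⁻¹ * (r : G))⁻¹) * (o : G)⁻¹ := by rw [h4]
      _ = (r : G) * v * (r : G)⁻¹ := by group
  have hcR : ((∏ q, f q : ↥V) : G) ∈ Subgroup.centralizer (R : Set G) := by
    rw [Subgroup.mem_centralizer_iff]
    intro r hr
    let cj : ↥V →* ↥V :=
      { toFun := fun x => ⟨r * x * r⁻¹, conj_mem_of_le_normalizer hRV hr x.2⟩
        map_one' := by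
          apply Subtype.ext
          simp
        map_mul' := fun x y => by
          apply Subtype.ext
          simp }
    have hq : ∀ q, cj (f q) = f ((⟨r, hr⟩ : ↥R) • q) := by
      intro q
      apply Subtype.ext
      have h5 := hf (⟨r, hr⟩ * q.out)
      have e : (((⟨r, hr⟩ * q.out : ↥R)) : ↥R ⧸ T.subgroupOf R) = (⟨r, hr⟩ : ↥R) • q := by
        conv_rhs => rw [← QuotientGroup.out_eq' q]
        rfl
      rw [e] at h5
      rw [h5]
      show r * ((q.out : G) * v * (q.out : G)⁻¹) * r⁻¹ = _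
      simp [mul_assoc]
    have h6 : cj (∏ q, f q) = ∏ q, f q := by
      rw [map_prod]
      simp_rw [hq]
      exact Equiv.prod_comp (MulAction.toPerm (⟨r, hr⟩ : ↥R)) f
    have h7 : r * ((∏ q, f q : ↥V) : G) * r⁻¹ = ((∏ q, f q : ↥V) : G) := congrArg Subtype.val h6
    calc r * ((∏ q, f q : ↥V) : G) = r * ((∏ q, f q : ↥V) : G) * r⁻¹ * r := by group
      _ = ((∏ q, f q : ↥V) : G) * r := by rw [h7]
  have hprod : (∏ q, f q) = (∏ q, f q * (⟨v, hv⟩ : ↥V)⁻¹) *
      (⟨v, hv⟩ : ↥V) ^ (Fintype.card (↥R ⧸ T.subgroupOf R)) := by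
    rw [Finset.prod_mul_distrib, Finset.prod_const, Finset.card_univ, inv_pow, inv_mul_cancel_right]
  have hd : (∏ q, f q * (⟨v, hv⟩ : ↥V)⁻¹) ∈ (⁅V, R⁆).subgroupOf V := by
    apply Subgroup.prod_mem
    intro q _
    rw [Subgroup.mem_subgroupOf]
    show (q.out : G) * v * (q.out : G)⁻¹ * v⁻¹ ∈ ⁅V, R⁆
    rw [Subgroup.commutator_comm]
    exact Subgroup.commutator_mem_commutator q.out.2 hv
  have hidx : (T.subgroupOf R).index = Fintype.card (↥R ⧸ T.subgroupOf R) := by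
    rw [Subgroup.index_eq_card, Nat.card_eq_fintype_card]
  rw [hidx]
  have hfin : v ^ (Fintype.card (↥R ⧸ T.subgroupOf R)) =
      (((∏ q, f q * (⟨v, hv⟩ : ↥V)⁻¹ : ↥V) : G))⁻¹ * ((∏ q, f q : ↥V) : G) := by
    have h8 := congrArg Subtype.val hprod
    rw [Subgroup.coe_mul, Subgroup.coe_pow] at h8
    rw [h8]
    simp
  rw [hfin]
  apply Subgroup.mul_mem_sup
  · exact Subgroup.inv_mem _ (Subgroup.mem_subgroupOf.1 hd)
  · exact ⟨(∏ q, f q : ↥V).2, hcR⟩

end trace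

end Cfsg.Agent.Lib.Helper53
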