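import Mathlib
import Cfsg.Agent.Lib.Helper53.Tr6
import Cfsg.Agent.Lib.Helper53.Transfer
import Cfsg.Agent.S5090
import Cfsg.Agent.S5098

/-!
# Control of transfer, part 7: the main induction
-/

set_option autoImplicit false

namespace Cfsg.Agent.Lib.Helper53.Tr

open Cfsg Cfsg.FusionSystem Cfsg.Agent.Lib.Helper87 Cfsg.Agent.Lib.Helper53.FusWC
open Cfsg.Agent.Lib.Helper88 (mem_preimageAlong preimageAlong_le kernel_le_preimageAlong exists_preimage
  factorSystem isFactorSystem_factorSystem isSaturated_of_isFactorSystem)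

universe u

open scoped commutatorElement

variable {Ω : Type u} [Group Ω] {S : Subgroup Ω}

theorem focN_le_focal (W : ∀ (Q : Type u) [Group Q], Subgroup Q) (F : FusionSystem S) :
    focN W F ≤ F.focalSubgroup := by
  unfold focN focalSubgroup
  apply Subgroup.closure_mono
  rintro y ⟨P, φ, x, hφ, rfl⟩
  exact ⟨P, φ, x, hφ.1, rfl⟩

theorem commutator_le_focN [Finite S] {p : ℕ} (hS : IsPGroup p S)
    (W : ∀ (Q : Type u) [Group Q], Subgroup Q)
    (hW2 : ∀ (Q R : Type u) [Group Q] [Group R] [Finite Q], IsPGroup p Q → ∀ φ : Q ≃* R,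
      (W Q).map φ.toMonoidHom = W R) (F : FusionSystem S) :
    ⁅(S : Subgroup Ω), (S : Subgroup Ω)⁆ ≤ focN W F := by
  have hK := commIn_focN hS W hW2 F
  rw [Subgroup.commutator_le]
  intro a ha b hb
  have h1 := (focN W F).inv_mem (hK b⁻¹ (S.inv_mem hb) a ha)
  have : ⁅a, b⁆ = (b⁻¹⁻¹ * (a * b⁻¹ * a⁻¹))⁻¹ := by
    rw [commutatorElement_def]; group
  rw [this]
  exact h1

theorem exists_not_mem_normalizerSystem (F : FusionSystem S) (V : Subgroup Ω) (hV : V ≤ S)
    (hnot : ¬ F.IsNormal V) :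
    ∃ (P : Subgroup Ω) (φ : P →* Ω), φ ∈ F.Hom P ∧ φ ∉ (normalizerSystem F V hV).Hom P := by
  by_contra hcon
  push Not at hcon
  apply hnot
  refine ⟨hV, fun P φ hφ => ?_⟩
  obtain ⟨-, -, -, ψ, hψ, hext, hmap⟩ := hcon P φ hφ
  exact ⟨ψ, hψ, hext, hmap⟩

theorem actsThroughS_of_homK [Finite S] (F : FusionSystem S) (Q : Subgroup Ω)
    (h : ∀ (P : Subgroup Ω) (φ : P →* Ω), φ ∈ F.Hom P →
      φ ∈ homK F Q (autInducedBy S Q) (normK S Q (autInducedBy S Q)) P) : ActsThroughS F Q := by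
  intro A φ hφ x hx
  obtain ⟨-, -, -, θ', -, hθφ, κ, hκ, hθκ⟩ := h A φ hφ
  obtain ⟨g, hg, hgκ⟩ := mem_autInducedBy_iff.mp hκ
  refine ⟨g, hg, ?_⟩
  have e1 : (inL x : ↥(A ⊔ Q)) = inR (⟨(x : Ω), hx⟩ : Q) := Subtype.ext rfl
  rw [← hθφ x, e1, hθκ ⟨(x : Ω), hx⟩, hgκ ⟨(x : Ω), hx⟩]

section Main

variable {p : ℕ} [Fact p.Prime]

/-- The inductive hypothesis for smaller groups. -/
def IHq (p : ℕ) (W : ∀ (Q : Type u) [Group Q], Subgroup Q) (n : ℕ) : Prop :=
  ∀ (Ω' : Type u) [Group Ω'] (S' : Subgroup Ω') [Finite S'], IsPGroup p S' → Nat.card S' < n →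
    ∀ E : FusionSystem S', E.IsSaturated p → E.focalSubgroup ≤ focN W E

/-- The inductive hypothesis for proper subsystems. -/
def IHsub (p : ℕ) (W : ∀ (Q : Type u) [Group Q], Subgroup Q) (F : FusionSystem S) : Prop :=
  ∀ (T : Subgroup Ω) (_ : T ≤ S) (E : FusionSystem T), E.IsSaturated p →
    (∀ P : Subgroup Ω, E.Hom P ⊆ F.Hom P) →
    (∃ (P : Subgroup Ω) (φ : P →* Ω), φ ∈ F.Hom P ∧ φ ∉ E.Hom P) → E.focalSubgroup ≤ focN W E

theorem ih_normalizer [Finite S] (hS : IsPGroup p S) (W : ∀ (Q : Type u) [Group Q], Subgroup Q)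
    (F : FusionSystem S) (hF : F.IsSaturated p) (ih : IHsub p W F)
    (V : Subgroup Ω) (hV : V ≤ S) (hfn : F.IsFullyNormalized V) (hnn : ¬ F.IsNormal V) :
    (normalizerSystem F V hV).focalSubgroup ≤ focN W (normalizerSystem F V hV) := by
  apply ih _ (normalizerIn_le S V) _
    (Cfsg.Agent.S5098.result p hS F hF V hfn _ (normalizerSystem_isNormalizerSystem F V hV))
    (fun P φ hφ => hφ.1)
  exact exists_not_mem_normalizerSystem F V hV hnn

/-- Step A: reduction modulo a maximal normal subgroup. -/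
theorem reduce_to_Q [Finite S] (hS : IsPGroup p S) (W : ∀ (Q : Type u) [Group Q], Subgroup Q)
    (hW1 : ∀ (Q : Type u) [Group Q] [Finite Q], IsPGroup p Q → Nontrivial Q → W Q ≠ ⊥)
    (hW2 : ∀ (Q R : Type u) [Group Q] [Group R] [Finite Q], IsPGroup p Q → ∀ φ : Q ≃* R,
      (W Q).map φ.toMonoidHom = W R)
    (F : FusionSystem S) (hF : F.IsSaturated p) (ihq : IHq p W (Nat.card S)) (ih : IHsub p W F)
    (Q : Subgroup Ω) (hQn : F.IsNormal Q) (hQmax : ∀ Q' : Subgroup Ω, F.IsNormal Q' → Nat.card Q' ≤ Nat.card Q)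
    (hQbot : Q ≠ ⊥) (hQtop : Q ≠ S) :
    ∀ x ∈ F.focalSubgroup, ∃ y ∈ focN W F, y⁻¹ * x ∈ Q := by
  have hQS : Q ≤ S := hQn.1
  have hSnorm : S ≤ Subgroup.normalizer (Q : Set Ω) := Cfsg.Agent.Lib.Helper90.GT.normal_le_normalizer F hQn
  have hQ'n : (Q.subgroupOf S).Normal := by
    constructor
    intro a ha g
    rw [Subgroup.mem_subgroupOf] at ha ⊢
    exact (Subgroup.mem_normalizer_iff.mp (hSnorm g.2) _).mp ha
  have hQsc : F.StronglyClosed Q := Cfsg.Agent.Lib.Helper90.IsNormal.stronglyClosed F hQn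
  set θ : ↥S →* ↥S ⧸ Q.subgroupOf S := QuotientGroup.mk' (Q.subgroupOf S) with hθ
  have hker : ∀ s : S, θ s = 1 ↔ (s : Ω) ∈ Q := by
    intro s
    rw [hθ, QuotientGroup.mk'_apply, QuotientGroup.eq_one_iff, Subgroup.mem_subgroupOf]
  have hsurj : Function.Surjective θ := QuotientGroup.mk'_surjective _
  have hrange : θ.range = (⊤ : Subgroup (↥S ⧸ Q.subgroupOf S)) := MonoidHom.range_eq_top.mpr hsurj
  set E := factorSystem F Q hQsc θ hker hrange with hEdef
  have hE : F.IsFactorSystem Q θ E := isFactorSystem_factorSystem F Q hQsc θ hker hrange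
  have hEsat : E.IsSaturated p := isSaturated_of_isFactorSystem p hS F hF hQsc θ E hE
  have hfinT : Finite ↥(⊤ : Subgroup (↥S ⧸ Q.subgroupOf S)) := inferInstance
  have hpT : IsPGroup p ↥(⊤ : Subgroup (↥S ⧸ Q.subgroupOf S)) :=
    (hS.to_quotient (Q.subgroupOf S)).of_equiv Subgroup.topEquiv.symm
  have hQ'ne : Q.subgroupOf S ≠ ⊥ := by
    intro h0
    apply hQbot
    rw [eq_bot_iff]
    intro y hy
    have : (⟨y, hQS hy⟩ : S) ∈ Q.subgroupOf S := Subgroup.mem_subgroupOf.mpr hy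
    rw [h0, Subgroup.mem_bot] at this
    rw [Subgroup.mem_bot]
    exact congrArg (fun t : S => (t : Ω)) this
  have hcardlt : Nat.card ↥(⊤ : Subgroup (↥S ⧸ Q.subgroupOf S)) < Nat.card S := by
    rw [Subgroup.card_top, Subgroup.card_eq_card_quotient_mul_card_subgroup (Q.subgroupOf S)]
    have h2 : 1 < Nat.card (Q.subgroupOf S) := by
      rw [Finite.one_lt_card_iff_nontrivial]
      exact (Subgroup.nontrivial_iff_ne_bot _).mpr hQ'ne
    have h3 : 0 < Nat.card (↥S ⧸ Q.subgroupOf S) := Nat.card_pos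
    nlinarith
  have hEfoc : E.focalSubgroup ≤ focN W E := ihq _ ⊤ hpT hcardlt E hEsat
  set U' : Subgroup (↥S ⧸ Q.subgroupOf S) := subFunctor W (⊤ : Subgroup (↥S ⧸ Q.subgroupOf S)) with hU'
  -- the quotient is nontrivial
  have hTnt : Nontrivial ↥(⊤ : Subgroup (↥S ⧸ Q.subgroupOf S)) := by
    rw [← Finite.one_lt_card_iff_nontrivial, Subgroup.card_top]
    by_contra hcon
    push Not at hcon
    have h3 : 0 < Nat.card (↥S ⧸ Q.subgroupOf S) := Nat.card_pos
    have h1 : (Q.subgroupOf S).index = 1 := by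
      rw [Subgroup.index_eq_card]; omega
    rw [Subgroup.index_eq_one] at h1
    apply hQtop
    apply le_antisymm hQS
    intro s hs
    have : (⟨s, hs⟩ : S) ∈ Q.subgroupOf S := by rw [h1]; exact Subgroup.mem_top _
    exact Subgroup.mem_subgroupOf.mp this
  have hU'ne : U' ≠ ⊥ := by
    intro h0
    apply hW1 ↥(⊤ : Subgroup (↥S ⧸ Q.subgroupOf S)) hpT hTnt
    rw [hU'] at h0
    unfold subFunctor at h0
    exact (Subgroup.map_eq_bot_iff_of_injective _ (⊤ : Subgroup (↥S ⧸ Q.subgroupOf S)).subtype_injective).mp h0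
  set U := preimageAlong θ U' with hU
  have hUS : U ≤ S := preimageAlong_le θ U'
  have hNU : normalizerIn S U = S := by
    rw [hU, Cfsg.Agent.Lib.Helper90.QM.normalizerIn_preimageAlong θ hrange le_top, hU',
      normalizerIn_subFunctor_self hpT W hW2]
    apply le_antisymm (preimageAlong_le θ _)
    intro s hs
    rw [mem_preimageAlong]
    exact ⟨hs, Subgroup.mem_top _⟩
  have hUfn : F.IsFullyNormalized U :=
    Cfsg.Agent.Lib.Helper90.GT.isFullyNormalized_of_normalizerIn_eq F hUS hNU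
  have hUnn : ¬ F.IsNormal U := by
    intro hUn
    have h1 := hQmax U hUn
    have h2 : Nat.card U = Nat.card Q * Nat.card U' :=
      Cfsg.Agent.Lib.Helper90.QM.card_preimageAlong θ hQS hker hrange le_top
    have : Finite Q := finite_of_le hQS
    have h3 : 0 < Nat.card Q := Nat.card_pos
    have h4 : 1 < Nat.card U' := by
      rw [Finite.one_lt_card_iff_nontrivial]
      exact (Subgroup.nontrivial_iff_ne_bot _).mpr hU'ne
    rw [h2] at h1
    nlinarith
  have hIHU := ih_normalizer hS W F hF ih U hUS hUfn hUnn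
  have hle : focN W (normalizerSystem F U hUS) ≤ focN W F :=
    focN_le_of_sub W _ F hNU (fun P φ hφ => hφ.1)
  intro x hx
  obtain ⟨y, hy, hyx⟩ := stepA p hS F hF hQsc θ E hE U' le_top hEfoc x hx
  exact ⟨y, hle (hIHU hy), hyx⟩

/-- Case B3: the whole system is `S C_F(Q)`. -/
theorem case_B3 [Finite S] (hS : IsPGroup p S) (W : ∀ (Q : Type u) [Group Q], Subgroup Q)
    (hW2 : ∀ (Q R : Type u) [Group Q] [Group R] [Finite Q], IsPGroup p Q → ∀ φ : Q ≃* R,
      (W Q).map φ.toMonoidHom = W R)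
    (F : FusionSystem S) (hF : F.IsSaturated p) (Q : Subgroup Ω) (hQn : F.IsNormal Q)
    (h : ∀ (P : Subgroup Ω) (φ : P →* Ω), φ ∈ F.Hom P →
      φ ∈ homK F Q (autInducedBy S Q) (normK S Q (autInducedBy S Q)) P) :
    ∀ q ∈ Q, q ∈ F.focalSubgroup → q ∈ focN W F := by
  intro q hq hqf
  have hSnorm : S ≤ Subgroup.normalizer (Q : Set Ω) := Cfsg.Agent.Lib.Helper90.GT.normal_le_normalizer F hQn
  exact commutator_le_focN hS W hW2 F
    (inf_focal_le_commutator p hS F hF Q hQn.1 hSnorm (actsThroughS_of_homK F Q h) q hq hqf)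

/-- Case B2: `Q` is centric, so the system is constrained. -/
theorem case_B2 [Finite S] (hS : IsPGroup p S) (W : ∀ (Q : Type u) [Group Q], Subgroup Q)
    (hW2 : ∀ (Q R : Type u) [Group Q] [Group R] [Finite Q], IsPGroup p Q → ∀ φ : Q ≃* R,
      (W Q).map φ.toMonoidHom = W R)
    (hT : ∀ (G : Type u) [Group G] [Finite G] (P : Sylow p G),
      Subgroup.centralizer ((Cfsg.pCore p G : Subgroup G) : Set G) ≤ Cfsg.pCore p G →
      Cfsg.pCore p G ⊓ commutator G = Cfsg.pCore p G ⊓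
        (commutator ↥(Subgroup.normalizer (((W ↥(P : Subgroup G)).map (P : Subgroup G).subtype : Subgroup G) : Set G))).map
          (Subgroup.normalizer (((W ↥(P : Subgroup G)).map (P : Subgroup G).subtype : Subgroup G) : Set G)).subtype)
    (F : FusionSystem S) (hF : F.IsSaturated p) (Q : Subgroup Ω) (hQn : F.IsNormal Q)
    (hCQ : centralizerIn S Q ≤ Q) :
    ∀ q ∈ Q, q ∈ F.focalSubgroup → q ∈ focN W F := by
  intro q hq hqf
  have hQc : F.IsCentric Q := by
    refine ⟨hQn.1, fun Q' hconj => ?_⟩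
    have := Cfsg.Agent.Lib.Helper91.eq_of_isConj_of_isNormal F hQn hconj
    rw [this]; exact hCQ
  have hcons : F.IsConstrained p := ⟨hF, Q, hQn, hQc⟩
  obtain ⟨G, _, ι, hmodel⟩ := Cfsg.Agent.S5090.result p hS F hcons
  exact inf_focal_le_of_model hS W hW2 hT F ι hmodel Q hQn q hq hqf

/-- Case B1: both parts of the decomposition are proper subsystems. -/
theorem case_B1 [Finite S] (hS : IsPGroup p S) (W : ∀ (Q : Type u) [Group Q], Subgroup Q)
    (F : FusionSystem S) (hF : F.IsSaturated p) (ih : IHsub p W F)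
    (Q : Subgroup Ω) (hQn : F.IsNormal Q)
    (hR : ¬ F.IsNormal (Q ⊔ centralizerIn S Q))
    (h : ¬ ∀ (P : Subgroup Ω) (φ : P →* Ω), φ ∈ F.Hom P →
      φ ∈ homK F Q (autInducedBy S Q) (normK S Q (autInducedBy S Q)) P) :
    F.focalSubgroup ≤ focN W F := by
  have hQS : Q ≤ S := hQn.1
  have hSnorm : S ≤ Subgroup.normalizer (Q : Set Ω) := Cfsg.Agent.Lib.Helper90.GT.normal_le_normalizer F hQn
  have hNQ : normalizerIn S Q = S := inf_eq_left.mpr hSnorm
  set R := Q ⊔ centralizerIn S Q with hRdef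
  have hRS : R ≤ S := sup_le hQS inf_le_left
  have hSR : S ≤ Subgroup.normalizer (R : Set Ω) := by
    apply Cfsg.Agent.Lib.Helper53.le_normalizer_sup hSnorm
    exact Cfsg.Agent.Lib.Helper53.le_normalizer_inf Subgroup.le_normalizer
      (Cfsg.Agent.Lib.Helper53.le_normalizer_centralizer hSnorm)
  have hNR : normalizerIn S R = S := inf_eq_left.mpr hSR
  have hRfn : F.IsFullyNormalized R :=
    Cfsg.Agent.Lib.Helper90.GT.isFullyNormalized_of_normalizerIn_eq F hRS hNR
  have hIHR := ih_normalizer hS W F hF ih R hRS hRfn hR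
  have h1 : GoodN F (focN W F) R := by
    apply goodN_of_ih W F _ hRS hIHR
    rw [subFunctor_congr W hNR]
    intro R' ψ hψ
    exact good_of_mem_normalizerHom W F hψ
  -- the second part
  have hQfn : F.IsFullyNormalized Q :=
    Cfsg.Agent.Lib.Helper90.GT.isFullyNormalized_of_normalizerIn_eq F hQS hNQ
  have hrec : F.IsReceptive Q :=
    isReceptive_of_isFullyCentralized p hS F hF Q (fullyNormalized_props p hS F hF Q hQfn).1
  set E₂ := normKSystem F Q hQS (autInducedBy S Q) with hE₂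
  have hE₂sat : E₂.IsSaturated p :=
    isSaturated_normK p hS F hF Q (autInducedBy S Q) (isGoodK_autInducedBy hS F hQS hrec) E₂ (fun P => rfl)
  have hT₂S : normK S Q (autInducedBy S Q) = S := by rw [normK_autInducedBy, hNQ]
  have hsub : ∀ P : Subgroup Ω, E₂.Hom P ⊆ F.Hom P := fun P φ hφ => hφ.1
  have hne : ∃ (P : Subgroup Ω) (φ : P →* Ω), φ ∈ F.Hom P ∧ φ ∉ E₂.Hom P := by
    by_contra hcon
    push Not at hcon
    exact h hcon
  have hIH₂ := ih _ (normK_le Q (autInducedBy S Q)) E₂ hE₂sat hsub hne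
  have hle₂ : focN W E₂ ≤ focN W F := focN_le_of_sub W E₂ F hT₂S hsub
  have h2 : ∀ (P : Subgroup Ω) (φ : P →* Ω),
      φ ∈ homK F Q (autInducedBy S Q) (normK S Q (autInducedBy S Q)) P → Good (focN W F) φ := by
    intro P φ hφ x
    have hφ' : φ ∈ E₂.Hom P := hφ
    exact hle₂ (hIH₂ (Subgroup.subset_closure ⟨P, φ, x, hφ', rfl⟩))
  rw [focal_le_iff]
  exact good_of_good_parts p hS F hF hQn (focN W F) h1 h2

/-- The main induction, on the order of `S` and then on the number of maps of the system. -/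
theorem main_aux (W : ∀ (Q : Type u) [Group Q], Subgroup Q)
    (hW1 : ∀ (Q : Type u) [Group Q] [Finite Q], IsPGroup p Q → Nontrivial Q → W Q ≠ ⊥)
    (hW2 : ∀ (Q R : Type u) [Group Q] [Group R] [Finite Q], IsPGroup p Q → ∀ φ : Q ≃* R,
      (W Q).map φ.toMonoidHom = W R)
    (hT : ∀ (G : Type u) [Group G] [Finite G] (P : Sylow p G),
      Subgroup.centralizer ((Cfsg.pCore p G : Subgroup G) : Set G) ≤ Cfsg.pCore p G →
      Cfsg.pCore p G ⊓ commutator G = Cfsg.pCore p G ⊓
        (commutator ↥(Subgroup.normalizer (((W ↥(P : Subgroup G)).map (P : Subgroup G).subtype : Subgroup G) : Set G))).map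
          (Subgroup.normalizer (((W ↥(P : Subgroup G)).map (P : Subgroup G).subtype : Subgroup G) : Set G)).subtype) :
    ∀ n m : ℕ, ∀ (Ω : Type u) [Group Ω] (S : Subgroup Ω) [Finite S], IsPGroup p S → Nat.card S = n →
      ∀ F : FusionSystem S, F.IsSaturated p → mu F = m → F.focalSubgroup ≤ focN W F := by
  intro n
  induction n using Nat.strong_induction_on with
  | _ n ihn =>
  intro m
  induction m using Nat.strong_induction_on with
  | _ m ihm =>
  intro Ω _ S _ hS hcard F hF hmu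
  have ihq : IHq p W (Nat.card S) := by
    intro Ω' _ S' _ hS' hlt E hE
    exact ihn (Nat.card S') (hcard ▸ hlt) (mu E) Ω' S' hS' rfl E hE rfl
  have ih : IHsub p W F := by
    intro T hTS E hE hsub hne
    have : Finite T := finite_of_le hTS
    have hlt := mu_lt_of_subset E F hsub hne
    have hle := card_le_of_le hTS
    rcases Nat.lt_or_ge (Nat.card T) n with h | h
    · exact ihn (Nat.card T) h (mu E) Ω T (hS.to_le hTS) rfl E hE rfl
    · have hc : Nat.card T = n := by omega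
      exact ihm (mu E) (hmu ▸ hlt) Ω T (hS.to_le hTS) hc E hE rfl
  obtain ⟨Q, hQn, hQmax⟩ := Cfsg.Agent.Lib.Helper87.exists_max_nat (fun Q : Subgroup Ω => F.IsNormal Q)
    (fun Q => Nat.card Q) (Nat.card S) ⟨⊥, Cfsg.Agent.Lib.Helper88.isNormal_bot F⟩
    (fun Q hQ => card_le_of_le hQ.1)
  have hQn' : F.IsNormal Q := hQn
  have hQmax' : ∀ Q' : Subgroup Ω, F.IsNormal Q' → Nat.card Q' ≤ Nat.card Q := hQmax
  have hQS : Q ≤ S := hQn'.1
  by_cases hQbot : Q = ⊥
  · apply focal_le_of_ih p hS W hW1 hW2 F hF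
    intro V hV hfn hVne
    apply ih_normalizer hS W F hF ih V hV hfn
    intro hVn
    have h1 := hQmax' V hVn
    rw [hQbot, Subgroup.card_bot] at h1
    have : Finite V := finite_of_le hV
    apply hVne
    have h2 : 0 < Nat.card V := Nat.card_pos
    exact Subgroup.card_eq_one.mp (by omega)
  by_cases hQtop : Q = S
  · exact focal_le_of_normal_top hS W hW2 F (hQtop ▸ hQn')
  have hred := reduce_to_Q hS W hW1 hW2 F hF ihq ih Q hQn' hQmax' hQbot hQtop
  have key : (∀ q ∈ Q, q ∈ F.focalSubgroup → q ∈ focN W F) → F.focalSubgroup ≤ focN W F := by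
    intro hQf x hx
    obtain ⟨y, hy, hyx⟩ := hred x hx
    have hq : y⁻¹ * x ∈ F.focalSubgroup :=
      F.focalSubgroup.mul_mem (F.focalSubgroup.inv_mem (focN_le_focal W F hy)) hx
    have h3 := hQf _ hyx hq
    have e : x = y * (y⁻¹ * x) := by group
    rw [e]; exact (focN W F).mul_mem hy h3
  by_cases hB3 : ∀ (P : Subgroup Ω) (φ : P →* Ω), φ ∈ F.Hom P →
      φ ∈ homK F Q (autInducedBy S Q) (normK S Q (autInducedBy S Q)) P
  · exact key (case_B3 hS W hW2 F hF Q hQn' hB3)
  by_cases hRn : F.IsNormal (Q ⊔ centralizerIn S Q)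
  · apply key
    apply case_B2 hS W hW2 hT F hF Q hQn'
    have h1 := hQmax' _ hRn
    have hRS : Q ⊔ centralizerIn S Q ≤ S := hRn.1
    have : Finite ↥(Q ⊔ centralizerIn S Q) := finite_of_le hRS
    have h2 : Q = Q ⊔ centralizerIn S Q := Subgroup.eq_of_le_of_card_ge le_sup_left h1
    exact le_sup_right.trans h2.ge
  · exact case_B1 hS W F hF ih Q hQn' hRn hB3

/-- **Control of transfer** for saturated fusion systems. -/
theorem main (W : ∀ (Q : Type u) [Group Q], Subgroup Q)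
    (hW1 : ∀ (Q : Type u) [Group Q] [Finite Q], IsPGroup p Q → Nontrivial Q → W Q ≠ ⊥)
    (hW2 : ∀ (Q R : Type u) [Group Q] [Group R] [Finite Q], IsPGroup p Q → ∀ φ : Q ≃* R,
      (W Q).map φ.toMonoidHom = W R)
    (hT : ∀ (G : Type u) [Group G] [Finite G] (P : Sylow p G),
      Subgroup.centralizer ((Cfsg.pCore p G : Subgroup G) : Set G) ≤ Cfsg.pCore p G →
      Cfsg.pCore p G ⊓ commutator G = Cfsg.pCore p G ⊓
        (commutator ↥(Subgroup.normalizer (((W ↥(P : Subgroup G)).map (P : Subgroup G).subtype : Subgroup G) : Set G))).map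
          (Subgroup.normalizer (((W ↥(P : Subgroup G)).map (P : Subgroup G).subtype : Subgroup G) : Set G)).subtype)
    [Finite S] (hS : IsPGroup p S) (F : FusionSystem S) (hF : F.IsSaturated p) :
    F.focalSubgroup ≤ focN W F :=
  main_aux W hW1 hW2 hT _ _ Ω S hS rfl F hF rfl

end Main

end Cfsg.Agent.Lib.Helper53.Tr
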