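import Mathlib
import Cfsg.Agent.Lib.Helper53.Tr7
import Cfsg.Agent.Lib.Helper53.PReduced2
import Cfsg.Agent.Lib.Helper41.Sections

/-!
# Control of transfer, part 8: from control of transfer in groups to the local hypothesis;
systems whose top automizer is a `p`-group
-/

set_option autoImplicit false

namespace Cfsg.Agent.Lib.Helper53.Tr

open Cfsg Cfsg.FusionSystem Cfsg.Agent.Lib.Helper87 Cfsg.Agent.Lib.Helper53.FusWC
open Cfsg.Agent.Lib.Helper88 (mem_preimageAlong preimageAlong_le kernel_le_preimageAlong exists_preimage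
  factorSystem isFactorSystem_factorSystem isSaturated_of_isFactorSystem)

universe u

open scoped commutatorElement

/-- A functor controlling transfer in `G` does so with respect to every Sylow subgroup. -/
theorem controlsTransfer_sylow {G : Type u} [Group G] [Finite G] {p : ℕ} [Fact p.Prime]
    (W : ∀ (Q : Type u) [Group Q], Subgroup Q) (hW : IsCharPFunctor.{u} p W)
    (h : ControlsTransferIn p (inducedFunctor (G := G) W) ⊤) (P : Sylow p G) :
    (P : Subgroup G) ⊓ commutator G = (P : Subgroup G) ⊓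
      (commutator ↥(Subgroup.normalizer ((inducedFunctor W (P : Subgroup G) : Subgroup G) : Set G))).map
        (Subgroup.normalizer ((inducedFunctor W (P : Subgroup G) : Subgroup G) : Set G)).subtype := by
  obtain ⟨T, -, hTp, hidx, heq⟩ := h
  rw [Subgroup.relIndex_top_right] at hidx
  simp only [top_inf_eq] at heq
  obtain ⟨g, hg⟩ := MulAction.exists_smul_eq G (hTp.toSylow hidx) P
  set e : G ≃* G := MulAut.conj g with he
  have hPT : (P : Subgroup G) = T.map e.toMonoidHom := by
    rw [← hg, Sylow.coe_subgroup_smul, IsPGroup.toSylow_coe]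
    rfl
  have hcomm : ∀ N : Subgroup G, (commutator ↥N).map N.subtype = ⁅N, N⁆ := by
    intro N
    rw [commutator_def, Subgroup.map_commutator, ← MonoidHom.range_eq_map, Subgroup.range_subtype]
  rw [hcomm, commutator_def]
  have htop : (⊤ : Subgroup G) = (⊤ : Subgroup G).map e.toMonoidHom := by
    rw [← MonoidHom.range_eq_map]
    exact (MonoidHom.range_eq_top.mpr e.surjective).symm
  have hfinT : Finite T := inferInstance
  rw [hPT, Cfsg.Agent.Lib.Helper41.inducedFunctor_map_equiv W hW e T hTp,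
    ← Subgroup.map_equiv_normalizer_eq, htop, ← Subgroup.map_commutator, ← Subgroup.map_commutator,
    ← Subgroup.map_inf _ _ _ e.injective, ← Subgroup.map_inf _ _ _ e.injective, heq]

/-- The local hypothesis of the control-of-transfer theorem, from control of transfer in all finite
groups. -/
theorem local_of_controls {p : ℕ} [Fact p.Prime]
    (W : ∀ (Q : Type u) [Group Q], Subgroup Q) (hW : IsCharPFunctor.{u} p W)
    (h : ∀ (G : Type u) [Group G] [Finite G], ControlsTransferIn p (inducedFunctor (G := G) W) ⊤) :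
    ∀ (G : Type u) [Group G] [Finite G] (P : Sylow p G),
      Subgroup.centralizer ((Cfsg.pCore p G : Subgroup G) : Set G) ≤ Cfsg.pCore p G →
      Cfsg.pCore p G ⊓ commutator G = Cfsg.pCore p G ⊓
        (commutator ↥(Subgroup.normalizer (((W ↥(P : Subgroup G)).map (P : Subgroup G).subtype : Subgroup G) : Set G))).map
          (Subgroup.normalizer (((W ↥(P : Subgroup G)).map (P : Subgroup G).subtype : Subgroup G) : Set G)).subtype := by
  intro G _ _ P _
  have h1 := controlsTransfer_sylow W hW (h G) P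
  have h2 : Cfsg.pCore p G ≤ (P : Subgroup G) := Cfsg.Agent.Lib.Helper53.pCore_le_sylow P
  unfold inducedFunctor at h1
  ext x
  simp only [Subgroup.mem_inf]
  constructor
  · rintro ⟨hx1, hx2⟩
    have h4 : x ∈ (P : Subgroup G) ⊓ commutator G := ⟨h2 hx1, hx2⟩
    rw [h1] at h4
    exact ⟨hx1, h4.2⟩
  · rintro ⟨hx1, hx2⟩
    have h4 : x ∈ (P : Subgroup G) ⊓ commutator G := by
      rw [h1]
      exact ⟨h2 hx1, hx2⟩
    exact ⟨hx1, h4.2⟩

variable {Ω : Type u} [Group Ω] {S : Subgroup Ω}

/-- If `S` is normal in the saturated system `F` and `Aut_F(S)` is a `p`-group, the focal subgroup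
is the derived subgroup of `S`. -/
theorem focal_le_commutator_of_normal_top [Finite S] (p : ℕ) [Fact p.Prime] (hS : IsPGroup p S)
    (F : FusionSystem S) (hF : F.IsSaturated p) (hSn : F.IsNormal S)
    (haut : IsPGroup p ↥(F.autGroup S)) :
    F.focalSubgroup ≤ ⁅(S : Subgroup Ω), (S : Subgroup Ω)⁆ := by
  have hNS : normalizerIn S S = S := inf_eq_left.mpr Subgroup.le_normalizer
  have hfn : F.IsFullyNormalized S :=
    Cfsg.Agent.Lib.Helper90.GT.isFullyNormalized_of_normalizerIn_eq F le_rfl hNS
  obtain ⟨-, -, R, hR⟩ := fullyNormalized_props p hS F hF S hfn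
  have hRtop : (⊤ : Subgroup ↥(F.autGroup S)) = (R : Subgroup ↥(F.autGroup S)) :=
    R.is_maximal' (haut.to_subgroup ⊤) le_top
  rw [focal_le_iff]
  intro P φ hφ x
  obtain ⟨ψ, hψ, hext, hmap⟩ := hSn.2 P φ hφ
  set ψS : S →* Ω := ψ.comp (Subgroup.inclusion (le_sup_right : S ≤ P ⊔ S)) with hψS
  have hψSF : ψS ∈ F.Hom S := restrict_mem F le_sup_right hψ
  have hr : ψS.range = S := by
    apply le_antisymm
    · rintro _ ⟨s, rfl⟩
      exact hom_mem F hψSF s
    · intro y hy
      obtain ⟨z, hz, rfl⟩ := hmap.ge hy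
      have hz' : (z : Ω) ∈ S := hz
      exact ⟨⟨z, hz'⟩, rfl⟩
  set α : MulAut ↥S := equivOfHom ψS (F.injective_of_mem hψSF) hr with hα
  have hαF : α ∈ F.autGroup S := by
    rw [mem_autGroup_iff F le_rfl]
    exact hom_congr F hψSF (fun y => rfl)
  have hαR : (⟨α, hαF⟩ : ↥(F.autGroup S)) ∈ (R : Subgroup ↥(F.autGroup S)) := by
    rw [← hRtop]; exact Subgroup.mem_top _
  rw [hR, Subgroup.mem_subgroupOf] at hαR
  obtain ⟨g, hg, hgα⟩ := mem_autInducedBy_iff.mp hαR
  have hPS : P ≤ S := hom_le F hφ
  have e : φ x = g * (x : Ω) * g⁻¹ := by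
    rw [← hext x, ← hgα ⟨x, hPS x.2⟩]
    rfl
  rw [e]
  have e2 : (x : Ω)⁻¹ * (g * (x : Ω) * g⁻¹) = ⁅(x : Ω)⁻¹, g⁆ := by
    rw [commutatorElement_def]; group
  rw [e2]
  exact Subgroup.commutator_mem_commutator (S.inv_mem (hPS x.2)) hg

/-- A nontrivial finite `p`-group is not perfect. -/
theorem not_le_commutator_self [Finite S] {p : ℕ} [Fact p.Prime] (hS : IsPGroup p S) (hne : S ≠ ⊥) :
    ¬ S ≤ ⁅(S : Subgroup Ω), (S : Subgroup Ω)⁆ := by
  intro hle
  have : Nontrivial S := (Subgroup.nontrivial_iff_ne_bot S).mpr hne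
  have : Group.IsNilpotent ↥S := hS.isNilpotent
  have hlt := Group.IsSolvable.commutator_lt_top_of_nontrivial ↥S
  apply hlt.ne
  rw [eq_top_iff]
  intro s _
  have hmap : (commutator ↥S).map S.subtype = ⁅(S : Subgroup Ω), (S : Subgroup Ω)⁆ := by
    rw [commutator_def, Subgroup.map_commutator, ← MonoidHom.range_eq_map, Subgroup.range_subtype]
  have h1 := hle s.2
  rw [← hmap] at h1
  obtain ⟨c, hc, hcs⟩ := h1
  have : c = s := Subtype.ext hcs
  rw [← this]; exact hc

theorem isPGroup_autGroup_of_sub {p : ℕ} {T : Subgroup Ω} (E : FusionSystem T) (F : FusionSystem S)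
    (hTS : T = S) (hsub : ∀ P : Subgroup Ω, E.Hom P ⊆ F.Hom P) (haut : IsPGroup p ↥(F.autGroup S)) :
    IsPGroup p ↥(E.autGroup T) := by
  subst hTS
  apply haut.to_le
  unfold autGroup
  apply Subgroup.closure_mono
  intro α hα
  exact hsub _ hα

/-- The top automizer of a factor system of a system with `p`-group top automizer is a `p`-group. -/
theorem isPGroup_autGroup_factor [Finite S] {p : ℕ} {Ω' : Type*} [Group Ω'] {S' : Subgroup Ω'}
    (F : FusionSystem S) {Q : Subgroup Ω} (θ : S →* Ω') (E : FusionSystem S')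
    (hE : F.IsFactorSystem Q θ E) (haut : IsPGroup p ↥(F.autGroup S)) :
    IsPGroup p ↥(E.autGroup S') := by
  obtain ⟨-, -, hrange, hhom⟩ := hE
  rintro ⟨α', hα'⟩
  have h1 : S'.subtype.comp α'.toMonoidHom ∈ E.Hom S' := (mem_autGroup_iff E le_rfl).mp hα'
  obtain ⟨-, φ, hφ, hP, hφS, hP', hind⟩ := (hhom S' _).mp h1
  have hSle : S ≤ preimageAlong θ S' := by
    intro s hs
    rw [mem_preimageAlong]
    refine ⟨hs, ?_⟩
    rw [← hrange]; exact ⟨_, rfl⟩
  set φS : S →* Ω := φ.comp (Subgroup.inclusion hSle) with hφS_def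
  have hφSF : φS ∈ F.Hom S := restrict_mem F hSle hφ
  have hinj : Function.Injective φS := F.injective_of_mem hφSF
  have hr : φS.range = S := by
    apply le_antisymm
    · rintro _ ⟨s, rfl⟩
      exact hom_mem F hφSF s
    · intro y hy
      have hinj' : Function.Injective (φS.codRestrict S (fun s => hom_mem F hφSF s)) := by
        intro a b hab
        exact hinj (congrArg (fun t : S => (t : Ω)) hab)
      obtain ⟨s, hs⟩ := (Finite.injective_iff_surjective.mp hinj') ⟨y, hy⟩
      exact ⟨s, congrArg (fun t : S => (t : Ω)) hs⟩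
  set a : MulAut ↥S := equivOfHom φS hinj hr with ha
  have haF : a ∈ F.autGroup S := by
    rw [mem_autGroup_iff F le_rfl]
    exact hom_congr F hφSF (fun y => rfl)
  -- the relation between `a` and `α'`
  have hrel : ∀ s : S, ∀ hs' : θ s ∈ S', θ (a s) = ((α' ⟨θ s, hs'⟩ : S') : Ω') := by
    intro s hs'
    have e1 := hind (Subgroup.inclusion hSle s)
    have e2 : (⟨θ ⟨((Subgroup.inclusion hSle s : ↥(preimageAlong θ S')) : Ω), hP (Subgroup.inclusion hSle s).2⟩,
        hP' (Subgroup.inclusion hSle s)⟩ : S') = ⟨θ s, hs'⟩ := Subtype.ext rfl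
    rw [e2] at e1
    have e3 : a s = ⟨φ (Subgroup.inclusion hSle s), hφS (Subgroup.inclusion hSle s)⟩ := Subtype.ext rfl
    rw [e3]
    exact e1.symm
  have hθS' : ∀ s : S, θ s ∈ S' := fun s => by rw [← hrange]; exact ⟨s, rfl⟩
  have hpow : ∀ n : ℕ, ∀ s : S, θ ((a ^ n) s) = (((α' ^ n) ⟨θ s, hθS' s⟩ : S') : Ω') := by
    intro n
    induction n with
    | zero => intro s; simp
    | succ n ih =>
      intro s
      rw [pow_succ', pow_succ', MulAut.mul_apply, MulAut.mul_apply, hrel _ (hθS' _)]
      congr 2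
      exact Subtype.ext (ih s)
  obtain ⟨k, hk⟩ := haut ⟨a, haF⟩
  have hk' : a ^ p ^ k = 1 := by
    have := congrArg (fun t : ↥(F.autGroup S) => (t : MulAut ↥S)) hk
    simpa using this
  refine ⟨k, Subtype.ext ?_⟩
  show α' ^ p ^ k = 1
  ext y
  obtain ⟨s, hs⟩ : (y : Ω') ∈ θ.range := by rw [hrange]; exact y.2
  have e1 := hpow (p ^ k) s
  rw [hk', MulAut.one_apply] at e1
  have e2 : (⟨θ s, hθS' s⟩ : S') = y := Subtype.ext hs
  rw [e2] at e1
  rw [MulAut.one_apply, ← e1, hs]

/-- For a functor `W` controlling transfer: a saturated system over `S ≠ 1` whose top automizer is a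
`p`-group has a proper focal subgroup. -/
theorem not_le_focal_aux {p : ℕ} [Fact p.Prime] (W : ∀ (Q : Type u) [Group Q], Subgroup Q)
    (hW1 : ∀ (Q : Type u) [Group Q] [Finite Q], IsPGroup p Q → Nontrivial Q → W Q ≠ ⊥)
    (hW2 : ∀ (Q R : Type u) [Group Q] [Group R] [Finite Q], IsPGroup p Q → ∀ φ : Q ≃* R,
      (W Q).map φ.toMonoidHom = W R)
    (hT : ∀ (G : Type u) [Group G] [Finite G] (P : Sylow p G),
      Subgroup.centralizer ((Cfsg.pCore p G : Subgroup G) : Set G) ≤ Cfsg.pCore p G →
      Cfsg.pCore p G ⊓ commutator G = Cfsg.pCore p G ⊓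
        (commutator ↥(Subgroup.normalizer (((W ↥(P : Subgroup G)).map (P : Subgroup G).subtype : Subgroup G) : Set G))).map
          (Subgroup.normalizer (((W ↥(P : Subgroup G)).map (P : Subgroup G).subtype : Subgroup G) : Set G)).subtype) :
    ∀ n m : ℕ, ∀ (Ω : Type u) [Group Ω] (S : Subgroup Ω) [Finite S], IsPGroup p S → Nat.card S = n →
      ∀ F : FusionSystem S, F.IsSaturated p → mu F = m → S ≠ ⊥ → IsPGroup p ↥(F.autGroup S) →
      ¬ S ≤ F.focalSubgroup := by
  intro n
  induction n using Nat.strong_induction_on with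
  | _ n ihn =>
  intro m
  induction m using Nat.strong_induction_on with
  | _ m ihm =>
  intro Ω _ S _ hS hcard F hF hmu hne haut hle
  have hVS : subFunctor W S ≤ S := subFunctor_le W S
  have hNV : normalizerIn S (subFunctor W S) = S := normalizerIn_subFunctor_self hS W hW2
  have hSnt : Nontrivial S := (Subgroup.nontrivial_iff_ne_bot S).mpr hne
  have hVne : subFunctor W S ≠ ⊥ := by
    intro h0
    apply hW1 ↥S hS hSnt
    unfold subFunctor at h0
    exact (Subgroup.map_eq_bot_iff_of_injective _ S.subtype_injective).mp h0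
  by_cases hVn : F.IsNormal (subFunctor W S)
  · by_cases hVtop : subFunctor W S = S
    · rw [hVtop] at hVn
      exact not_le_commutator_self hS hne
        (hle.trans (focal_le_commutator_of_normal_top p hS F hF hVn haut))
    · -- the factor system
      set Q := subFunctor W S with hQdef
      have hQS : Q ≤ S := hVS
      have hSnorm : S ≤ Subgroup.normalizer (Q : Set Ω) :=
        Cfsg.Agent.Lib.Helper90.GT.normal_le_normalizer F hVn
      have hQ'n : (Q.subgroupOf S).Normal := by
        constructor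
        intro a ha g
        rw [Subgroup.mem_subgroupOf] at ha ⊢
        exact (Subgroup.mem_normalizer_iff.mp (hSnorm g.2) _).mp ha
      have hQsc : F.StronglyClosed Q := Cfsg.Agent.Lib.Helper90.IsNormal.stronglyClosed F hVn
      set θ : ↥S →* ↥S ⧸ Q.subgroupOf S := QuotientGroup.mk' (Q.subgroupOf S) with hθ
      have hker : ∀ s : S, θ s = 1 ↔ (s : Ω) ∈ Q := by
        intro s
        rw [hθ, QuotientGroup.mk'_apply, QuotientGroup.eq_one_iff, Subgroup.mem_subgroupOf]
      have hsurj : Function.Surjective θ := QuotientGroup.mk'_surjective _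
      have hrange : θ.range = (⊤ : Subgroup (↥S ⧸ Q.subgroupOf S)) := MonoidHom.range_eq_top.mpr hsurj
      set E := factorSystem F Q hQsc θ hker hrange with hEdef
      have hE : F.IsFactorSystem Q θ E := isFactorSystem_factorSystem F Q hQsc θ hker hrange
      have hEsat : E.IsSaturated p := isSaturated_of_isFactorSystem p hS F hF hQsc θ E hE
      have hfinT : Finite ↥(⊤ : Subgroup (↥S ⧸ Q.subgroupOf S)) := inferInstance
      have hpT : IsPGroup p ↥(⊤ : Subgroup (↥S ⧸ Q.subgroupOf S)) :=
        (hS.to_quotient (Q.subgroupOf S)).of_equiv Subgroup.topEquiv.symm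
      have hQ'ne : Q.subgroupOf S ≠ ⊥ := by
        intro h0
        apply hVne
        rw [eq_bot_iff]
        intro y hy
        have : (⟨y, hQS hy⟩ : S) ∈ Q.subgroupOf S := Subgroup.mem_subgroupOf.mpr hy
        rw [h0, Subgroup.mem_bot] at this
        rw [Subgroup.mem_bot]
        exact congrArg (fun t : S => (t : Ω)) this
      have hcardlt : Nat.card ↥(⊤ : Subgroup (↥S ⧸ Q.subgroupOf S)) < n := by
        rw [Subgroup.card_top, ← hcard, Subgroup.card_eq_card_quotient_mul_card_subgroup (Q.subgroupOf S)]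
        have h2 : 1 < Nat.card (Q.subgroupOf S) := by
          rw [Finite.one_lt_card_iff_nontrivial]
          exact (Subgroup.nontrivial_iff_ne_bot _).mpr hQ'ne
        have h3 : 0 < Nat.card (↥S ⧸ Q.subgroupOf S) := Nat.card_pos
        nlinarith
      have hTne : (⊤ : Subgroup (↥S ⧸ Q.subgroupOf S)) ≠ ⊥ := by
        intro h0
        apply hVtop
        apply le_antisymm hQS
        intro s hs
        have h1 : θ ⟨s, hs⟩ ∈ (⊤ : Subgroup (↥S ⧸ Q.subgroupOf S)) := Subgroup.mem_top _
        rw [h0, Subgroup.mem_bot] at h1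
        exact (hker _).mp h1
      have hEaut : IsPGroup p ↥(E.autGroup ⊤) := isPGroup_autGroup_factor F θ E hE haut
      apply ihn _ hcardlt (mu E) _ ⊤ hpT rfl E hEsat rfl hTne hEaut
      intro y _
      obtain ⟨s, rfl⟩ := hsurj y
      exact map_focal_le p hS F hF hQsc θ E hE s (hle s.2) s.2
  · -- the normalizer of `W(S)` is a proper subsystem
    set N := normalizerSystem F (subFunctor W S) hVS with hNdef
    have hNN := normalizerSystem_isNormalizerSystem F (subFunctor W S) hVS
    have hfn : F.IsFullyNormalized (subFunctor W S) :=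
      Cfsg.Agent.Lib.Helper90.GT.isFullyNormalized_of_normalizerIn_eq F hVS hNV
    have hNsat : N.IsSaturated p := Cfsg.Agent.S5098.result p hS F hF _ hfn N hNN
    have hsub : ∀ P : Subgroup Ω, N.Hom P ⊆ F.Hom P := fun P φ hφ => hφ.1
    have hlt : mu N < mu F := mu_normalizerSystem_lt F _ hVS hVn
    have hfin : Finite ↥(normalizerIn S (subFunctor W S)) := finite_of_le (normalizerIn_le S _)
    have hcardN : Nat.card ↥(normalizerIn S (subFunctor W S)) = n := by rw [hNV]; exact hcard
    have hNne : normalizerIn S (subFunctor W S) ≠ ⊥ := by rw [hNV]; exact hne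
    have hNaut := isPGroup_autGroup_of_sub N F hNV hsub haut
    apply ihm (mu N) (hmu ▸ hlt) Ω (normalizerIn S (subFunctor W S))
      (hS.to_le (normalizerIn_le S _)) hcardN N hNsat rfl hNne hNaut
    have h5 : N.focalSubgroup = focN W F := focN_eq_of_isNormalizerSystem W F N hNN
    rw [h5]
    exact hNV.le.trans (hle.trans (main W hW1 hW2 hT hS F hF))

/-- For `p ≥ 5`: a saturated system over `S ≠ 1` whose top automizer is a `p`-group has a proper focal
subgroup, given that `W` controls transfer in all finite groups. -/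
theorem not_le_focal {p : ℕ} [Fact p.Prime] (W : ∀ (Q : Type u) [Group Q], Subgroup Q)
    (hW : IsCharPFunctor.{u} p W)
    (h : ∀ (G : Type u) [Group G] [Finite G], ControlsTransferIn p (inducedFunctor (G := G) W) ⊤)
    [Finite S] (hS : IsPGroup p S) (F : FusionSystem S) (hF : F.IsSaturated p) (hne : S ≠ ⊥)
    (haut : IsPGroup p ↥(F.autGroup S)) : ¬ S ≤ F.focalSubgroup :=
  not_le_focal_aux W hW.1 hW.2 (local_of_controls W hW h) _ _ Ω S hS rfl F hF rfl hne haut

end Cfsg.Agent.Lib.Helper53.Tr
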