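import Mathlib
import Cfsg.Prelude.Def_JordanBlocks
import Cfsg.Prelude.Def_LieClassical
import Cfsg.Agent.Lib.Helper73.UCDefs

set_option autoImplicit false

/-!
# Keystone 264619 K-UC-K9 of helper73's pack K-UC (S2646): `|GL_a(q²)| = |GU_a(q)| · #(invertible hermitian matrices)`

`card_GL_eq_card_GU_mul_hermUnits_of` takes LEAF K1 (264601, orbit-stabiliser) at `n = a` as a hypothesis.
-/

namespace Cfsg.Agent.Lib.Helper53.UC

open Matrix Cfsg.Agent.Lib.Helper73.UC

variable {K : Type*} [Field K]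

theorem hadj_one {ι : Type*} [Fintype ι] [DecidableEq ι] (φ : K →+* K) :
    hadj φ (1 : Matrix ι ι K) = 1 := by
  unfold hadj
  rw [Matrix.map_one φ (map_zero φ) (map_one φ), Matrix.transpose_one]

/-- **K-UC-K9 (264619)** with LEAF K1 as a hypothesis -/
theorem card_GL_eq_card_GU_mul_hermUnits_of [Fintype K] {q : ℕ} (hK : Fintype.card K = q ^ 2)
    (φ : K →+* K) (a : ℕ)
    (HK1 : ∀ u : ↥(Cfsg.GU a K q),
      Nat.card {g : GL (Fin a) K // g * (u : GL (Fin a) K) = (u : GL (Fin a) K) * g} =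
        Nat.card ↥(Subgroup.centralizer ({u} : Set ↥(Cfsg.GU a K q))) *
          Nat.card (FormsInv φ ((u : GL (Fin a) K) : Matrix (Fin a) (Fin a) K))) :
    (∏ j : Fin a, ((q ^ 2) ^ a - (q ^ 2) ^ (j : ℕ))) =
      Nat.card ↥(Cfsg.GU a K q) * hermUnits φ a := by
  have h1 := HK1 1
  have e1 : Nat.card {g : GL (Fin a) K //
      g * ((1 : ↥(Cfsg.GU a K q)) : GL (Fin a) K) = ((1 : ↥(Cfsg.GU a K q)) : GL (Fin a) K) * g} =
      Nat.card (GL (Fin a) K) := by
    apply Nat.card_congr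
    refine Equiv.subtypeUnivEquiv ?_
    intro g
    rw [Subgroup.coe_one, mul_one, one_mul]
  have e2 : Nat.card ↥(Subgroup.centralizer ({(1 : ↥(Cfsg.GU a K q))} : Set ↥(Cfsg.GU a K q))) =
      Nat.card ↥(Cfsg.GU a K q) := by
    have : Subgroup.centralizer ({(1 : ↥(Cfsg.GU a K q))} : Set ↥(Cfsg.GU a K q)) = ⊤ := by
      rw [eq_top_iff]
      intro g _
      rw [Subgroup.mem_centralizer_iff]
      intro h hh
      rw [Set.mem_singleton_iff.1 hh, one_mul, mul_one]
    rw [this]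
    exact Nat.card_congr Subgroup.topEquiv.toEquiv
  have e3 : Nat.card (FormsInv φ ((((1 : ↥(Cfsg.GU a K q)) : GL (Fin a) K)) :
      Matrix (Fin a) (Fin a) K)) = hermUnits φ a := by
    unfold hermUnits
    apply Nat.card_congr
    refine Equiv.subtypeEquivRight ?_
    intro M
    change (hadj φ M = M ∧ IsUnit M.det ∧ hadj φ _ * M * _ = M) ↔ _
    rw [Subgroup.coe_one, Units.val_one, hadj_one, one_mul, mul_one]
    constructor
    · rintro ⟨h1, h2, -⟩
      exact ⟨h1, h2⟩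
    · rintro ⟨h1, h2⟩
      exact ⟨h1, h2, rfl⟩
  rw [e1, e2, e3, Matrix.card_GL_field, hK] at h1
  exact h1

end Cfsg.Agent.Lib.Helper53.UC
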