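import Mathlib
import Cfsg.Prelude.Def_JordanBlocks
import Cfsg.Prelude.Def_LieClassical
import Cfsg.Agent.Lib.Helper73.UCDefs
import Cfsg.Agent.Lib.Helper40.GUConj
import Cfsg.Agent.Lib.Helper53.UCK9

set_option autoImplicit false

/-!
# Keystone 264601 K-UC-K1 (parallel hand) and 264619 K-UC-K9 of helper73's pack K-UC (S2646)

`C = C_GL(u)` maps onto the `u`-invariant nondegenerate hermitian matrices by `x ↦ hadj x * x`, with fibres the
cosets of `C ∩ GU`: an explicit bijection `C ≃ C_GU(u) × FormsInv φ u` (choice of a section).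
-/

namespace Cfsg.Agent.Lib.Helper53.UC

open Matrix Cfsg.Agent.Lib.Helper73.UC Cfsg.Agent.Lib.Helper40.GUConj

section basic

variable {K : Type*} [Field K] {n : ℕ} (φ : K →+* K)

theorem hadj_eq_adj (M : Matrix (Fin n) (Fin n) K) : hadj φ M = adj φ M := rfl

theorem hadj_mul (M N : Matrix (Fin n) (Fin n) K) : hadj φ (M * N) = hadj φ N * hadj φ M :=
  adj_mul φ M N

theorem hadj_hadj (hφφ : ∀ x, φ (φ x) = x) (M : Matrix (Fin n) (Fin n) K) :
    hadj φ (hadj φ M) = M :=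
  adj_adj φ hφφ M

theorem det_hadj (M : Matrix (Fin n) (Fin n) K) : (hadj φ M).det = φ M.det :=
  det_adj φ M

theorem hadj_one' : hadj φ (1 : Matrix (Fin n) (Fin n) K) = 1 := adj_one φ

/-- `hadj x * x` is hermitian -/
theorem hadj_gram (hφφ : ∀ x, φ (φ x) = x) (M : Matrix (Fin n) (Fin n) K) :
    hadj φ (hadj φ M * M) = hadj φ M * M := by
  rw [hadj_mul, hadj_hadj φ hφφ]

end basic

section main

variable {K : Type*} [Field K]

/-- the Gram matrix of an element of `C_GL(u)` lies in `FormsInv φ u` -/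
theorem gram_mem_formsInv {q n : ℕ} (φ : K →+* K) (hφ : ∀ x, φ x = x ^ q)
    (hφφ : ∀ x, φ (φ x) = x) (u : ↥(Cfsg.GU n K q)) (g : GL (Fin n) K)
    (hg : g * (u : GL (Fin n) K) = (u : GL (Fin n) K) * g) :
    hadj φ (g : Matrix (Fin n) (Fin n) K) * (g : Matrix (Fin n) (Fin n) K) ∈
      FormsInv φ ((u : GL (Fin n) K) : Matrix (Fin n) (Fin n) K) := by
  have hu := (mem_GU_iff_adj φ hφ (u : GL (Fin n) K)).1 u.2
  have hgm : (g : Matrix (Fin n) (Fin n) K) * ((u : GL (Fin n) K) : Matrix (Fin n) (Fin n) K) =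
      ((u : GL (Fin n) K) : Matrix (Fin n) (Fin n) K) * (g : Matrix (Fin n) (Fin n) K) := by
    rw [← Units.val_mul, ← Units.val_mul, hg]
  refine ⟨hadj_gram φ hφφ _, ?_, ?_⟩
  · rw [Matrix.det_mul, det_hadj]
    have hd : IsUnit (g : Matrix (Fin n) (Fin n) K).det := by
      rw [← Matrix.isUnit_iff_isUnit_det]
      exact Units.isUnit g
    exact (hd.map φ).mul hd
  · have h1 : hadj φ ((u : GL (Fin n) K) : Matrix (Fin n) (Fin n) K) *
        (hadj φ (g : Matrix (Fin n) (Fin n) K) * (g : Matrix (Fin n) (Fin n) K)) *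
        ((u : GL (Fin n) K) : Matrix (Fin n) (Fin n) K) =
        hadj φ ((g : Matrix (Fin n) (Fin n) K) * ((u : GL (Fin n) K) : Matrix (Fin n) (Fin n) K)) *
          ((g : Matrix (Fin n) (Fin n) K) * ((u : GL (Fin n) K) : Matrix (Fin n) (Fin n) K)) := by
      rw [hadj_mul]
      simp only [Matrix.mul_assoc]
    rw [h1, hgm, hadj_mul, Matrix.mul_assoc,
      ← Matrix.mul_assoc (hadj φ ((u : GL (Fin n) K) : Matrix (Fin n) (Fin n) K)),
      hadj_eq_adj φ ((u : GL (Fin n) K) : Matrix (Fin n) (Fin n) K), hu, Matrix.one_mul]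

/-- every element of `FormsInv φ u` is the Gram matrix of an element of `C_GL(u)` -/
theorem exists_gram_eq [Fintype K] {q n : ℕ} (hK : Fintype.card K = q ^ 2) (φ : K →+* K)
    (hφ : ∀ x, φ x = x ^ q) (hφφ : ∀ x, φ (φ x) = x) (u : ↥(Cfsg.GU n K q))
    (M : Matrix (Fin n) (Fin n) K)
    (hM : M ∈ FormsInv φ ((u : GL (Fin n) K) : Matrix (Fin n) (Fin n) K)) :
    ∃ g : GL (Fin n) K, g * (u : GL (Fin n) K) = (u : GL (Fin n) K) * g ∧
      hadj φ (g : Matrix (Fin n) (Fin n) K) * (g : Matrix (Fin n) (Fin n) K) = M := by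
  obtain ⟨hMh, hMd, hMu⟩ := hM
  have hu := (mem_GU_iff_adj φ hφ (u : GL (Fin n) K)).1 u.2
  obtain ⟨φ', hφ', -, θ₀, hθ₀⟩ := exists_frob (K := K) (q := q) hK
  have hθ : φ θ₀ ≠ θ₀ := by
    rw [hφ, ← hφ']
    exact hθ₀
  have hMd0 : M.det ≠ 0 := hMd.ne_zero
  obtain ⟨Cm, hCm, hcomm⟩ := exists_sqrt φ hφφ θ₀ hθ M hMh hMd0
  -- `u` commutes with `M`
  have hUM : Commute ((u : GL (Fin n) K) : Matrix (Fin n) (Fin n) K) M := by
    have h1 : ((u : GL (Fin n) K) : Matrix (Fin n) (Fin n) K) *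
        hadj φ ((u : GL (Fin n) K) : Matrix (Fin n) (Fin n) K) = 1 :=
      mul_eq_one_comm.1 hu
    change ((u : GL (Fin n) K) : Matrix (Fin n) (Fin n) K) * M =
      M * ((u : GL (Fin n) K) : Matrix (Fin n) (Fin n) K)
    calc ((u : GL (Fin n) K) : Matrix (Fin n) (Fin n) K) * M
        = ((u : GL (Fin n) K) : Matrix (Fin n) (Fin n) K) *
            (hadj φ ((u : GL (Fin n) K) : Matrix (Fin n) (Fin n) K) * M *
              ((u : GL (Fin n) K) : Matrix (Fin n) (Fin n) K)) := by rw [hMu]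
      _ = (((u : GL (Fin n) K) : Matrix (Fin n) (Fin n) K) *
            hadj φ ((u : GL (Fin n) K) : Matrix (Fin n) (Fin n) K)) * M *
              ((u : GL (Fin n) K) : Matrix (Fin n) (Fin n) K) := by
          simp only [Matrix.mul_assoc]
      _ = M * ((u : GL (Fin n) K) : Matrix (Fin n) (Fin n) K) := by rw [h1, Matrix.one_mul]
  have hUC := hcomm _ hUM
  have hCd : IsUnit Cm.det := by
    have h1 : M.det = φ Cm.det * Cm.det := by
      rw [← hCm, Matrix.det_mul, det_adj]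
    rw [isUnit_iff_ne_zero]
    intro h0
    apply hMd0
    rw [h1, h0, mul_zero]
  refine ⟨Matrix.GeneralLinearGroup.mk'' Cm hCd, ?_, hCm⟩
  apply Units.ext
  rw [Units.val_mul, Units.val_mul]
  exact hUC.eq.symm

/-- `g g₀⁻¹` is unitary when `g`, `g₀` have the same Gram matrix -/
theorem mul_inv_mem_GU {q n : ℕ} (φ : K →+* K) (hφ : ∀ x, φ x = x ^ q) (g g0 : GL (Fin n) K)
    (h : hadj φ (g : Matrix (Fin n) (Fin n) K) * (g : Matrix (Fin n) (Fin n) K) =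
      hadj φ (g0 : Matrix (Fin n) (Fin n) K) * (g0 : Matrix (Fin n) (Fin n) K)) :
    g * g0⁻¹ ∈ Cfsg.GU n K q := by
  rw [mem_GU_iff_adj φ hφ, Units.val_mul, ← hadj_eq_adj, hadj_mul]
  have h1 : hadj φ ((g0⁻¹ : GL (Fin n) K) : Matrix (Fin n) (Fin n) K) *
      hadj φ (g : Matrix (Fin n) (Fin n) K) *
      ((g : Matrix (Fin n) (Fin n) K) * ((g0⁻¹ : GL (Fin n) K) : Matrix (Fin n) (Fin n) K)) =
      hadj φ ((g0⁻¹ : GL (Fin n) K) : Matrix (Fin n) (Fin n) K) *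
        (hadj φ (g : Matrix (Fin n) (Fin n) K) * (g : Matrix (Fin n) (Fin n) K)) *
        ((g0⁻¹ : GL (Fin n) K) : Matrix (Fin n) (Fin n) K) := by
    simp only [Matrix.mul_assoc]
  rw [h1, h]
  have h2 : hadj φ ((g0⁻¹ : GL (Fin n) K) : Matrix (Fin n) (Fin n) K) *
      (hadj φ (g0 : Matrix (Fin n) (Fin n) K) * (g0 : Matrix (Fin n) (Fin n) K)) *
      ((g0⁻¹ : GL (Fin n) K) : Matrix (Fin n) (Fin n) K) =
      hadj φ ((g0 : Matrix (Fin n) (Fin n) K) *
        ((g0⁻¹ : GL (Fin n) K) : Matrix (Fin n) (Fin n) K)) *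
      ((g0 : Matrix (Fin n) (Fin n) K) * ((g0⁻¹ : GL (Fin n) K) : Matrix (Fin n) (Fin n) K)) := by
    rw [hadj_mul]
    simp only [Matrix.mul_assoc]
  rw [h2, ← Units.val_mul, mul_inv_cancel, Units.val_one, hadj_one', Matrix.one_mul]

/-- multiplying by a unitary matrix on the left does not change the Gram matrix -/
theorem gram_mul_of_mem_GU {q n : ℕ} (φ : K →+* K) (hφ : ∀ x, φ x = x ^ q) (h g0 : GL (Fin n) K)
    (hh : h ∈ Cfsg.GU n K q) :
    hadj φ ((h * g0 : GL (Fin n) K) : Matrix (Fin n) (Fin n) K) *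
      ((h * g0 : GL (Fin n) K) : Matrix (Fin n) (Fin n) K) =
      hadj φ (g0 : Matrix (Fin n) (Fin n) K) * (g0 : Matrix (Fin n) (Fin n) K) := by
  have hu := (mem_GU_iff_adj φ hφ h).1 hh
  rw [Units.val_mul, hadj_mul, Matrix.mul_assoc,
    ← Matrix.mul_assoc (hadj φ (h : Matrix (Fin n) (Fin n) K))]
  change hadj φ (g0 : Matrix (Fin n) (Fin n) K) *
    (adj φ (h : Matrix (Fin n) (Fin n) K) * (h : Matrix (Fin n) (Fin n) K) *
      (g0 : Matrix (Fin n) (Fin n) K)) = _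
  rw [hu, Matrix.one_mul]

/-- **K-UC-K1 (264601)**: orbit-stabiliser for `C_GL(u)` acting on the `u`-invariant hermitian forms -/
theorem card_centralizer_GL_eq_mul [Fintype K] {q n : ℕ} (hK : Fintype.card K = q ^ 2)
    (φ : K →+* K) (hφ : ∀ x, φ x = x ^ q) (hφφ : ∀ x, φ (φ x) = x) (u : ↥(Cfsg.GU n K q)) :
    Nat.card {g : GL (Fin n) K // g * (u : GL (Fin n) K) = (u : GL (Fin n) K) * g} =
      Nat.card ↥(Subgroup.centralizer ({u} : Set ↥(Cfsg.GU n K q))) *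
        Nat.card (FormsInv φ ((u : GL (Fin n) K) : Matrix (Fin n) (Fin n) K)) := by
  classical
  have hsec : ∀ M : FormsInv φ ((u : GL (Fin n) K) : Matrix (Fin n) (Fin n) K),
      ∃ g : GL (Fin n) K, g * (u : GL (Fin n) K) = (u : GL (Fin n) K) * g ∧
        hadj φ (g : Matrix (Fin n) (Fin n) K) * (g : Matrix (Fin n) (Fin n) K) = M.1 :=
    fun M => exists_gram_eq hK φ hφ hφφ u M.1 M.2
  choose s hs1 hs2 using hsec
  -- the Gram map
  let F : {g : GL (Fin n) K // g * (u : GL (Fin n) K) = (u : GL (Fin n) K) * g} →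
      FormsInv φ ((u : GL (Fin n) K) : Matrix (Fin n) (Fin n) K) :=
    fun g => ⟨_, gram_mem_formsInv φ hφ hφφ u g.1 g.2⟩
  have hF : ∀ g, hadj φ ((g.1 : GL (Fin n) K) : Matrix (Fin n) (Fin n) K) *
      ((g.1 : GL (Fin n) K) : Matrix (Fin n) (Fin n) K) =
      hadj φ ((s (F g) : GL (Fin n) K) : Matrix (Fin n) (Fin n) K) *
        ((s (F g) : GL (Fin n) K) : Matrix (Fin n) (Fin n) K) := fun g => (hs2 (F g)).symm
  have hmem : ∀ g, g.1 * (s (F g))⁻¹ ∈ Cfsg.GU n K q :=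
    fun g => mul_inv_mem_GU φ hφ g.1 (s (F g)) (hF g)
  have hcent : ∀ g, (⟨g.1 * (s (F g))⁻¹, hmem g⟩ : ↥(Cfsg.GU n K q)) ∈
      Subgroup.centralizer ({u} : Set ↥(Cfsg.GU n K q)) := by
    intro g
    rw [Subgroup.mem_centralizer_iff]
    intro h hh
    rw [Set.mem_singleton_iff.1 hh]
    apply Subtype.ext
    rw [Subgroup.coe_mul, Subgroup.coe_mul]
    change (u : GL (Fin n) K) * (g.1 * (s (F g))⁻¹) = g.1 * (s (F g))⁻¹ * (u : GL (Fin n) K)
    have h1 := g.2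
    have h2 := hs1 (F g)
    have h3 : (s (F g))⁻¹ * (u : GL (Fin n) K) = (u : GL (Fin n) K) * (s (F g))⁻¹ := by
      rw [inv_mul_eq_iff_eq_mul, ← mul_assoc, h2, mul_inv_cancel_right]
    rw [mul_assoc, h3, ← mul_assoc, ← mul_assoc, h1]
  have hinv : ∀ p : ↥(Subgroup.centralizer ({u} : Set ↥(Cfsg.GU n K q))) ×
      FormsInv φ ((u : GL (Fin n) K) : Matrix (Fin n) (Fin n) K),
      ((p.1 : ↥(Cfsg.GU n K q)) : GL (Fin n) K) * s p.2 * (u : GL (Fin n) K) =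
        (u : GL (Fin n) K) * (((p.1 : ↥(Cfsg.GU n K q)) : GL (Fin n) K) * s p.2) := by
    intro p
    have h1 := (Subgroup.mem_centralizer_iff.1 p.1.2) u (Set.mem_singleton u)
    have h1' : (u : GL (Fin n) K) * ((p.1 : ↥(Cfsg.GU n K q)) : GL (Fin n) K) =
        ((p.1 : ↥(Cfsg.GU n K q)) : GL (Fin n) K) * (u : GL (Fin n) K) := by
      rw [← Subgroup.coe_mul, ← Subgroup.coe_mul, h1]
    rw [mul_assoc, hs1 p.2, ← mul_assoc, ← h1', mul_assoc]
  rw [← Nat.card_prod]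
  apply Nat.card_congr
  refine ⟨fun g => (⟨⟨g.1 * (s (F g))⁻¹, hmem g⟩, hcent g⟩, F g),
    fun p => ⟨((p.1 : ↥(Cfsg.GU n K q)) : GL (Fin n) K) * s p.2, hinv p⟩, ?_, ?_⟩
  · intro g
    apply Subtype.ext
    change g.1 * (s (F g))⁻¹ * s (F g) = g.1
    rw [inv_mul_cancel_right]
  · intro p
    have hFp : F ⟨((p.1 : ↥(Cfsg.GU n K q)) : GL (Fin n) K) * s p.2, hinv p⟩ = p.2 := by
      apply Subtype.ext
      change hadj φ ((((p.1 : ↥(Cfsg.GU n K q)) : GL (Fin n) K) * s p.2 : GL (Fin n) K) :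
          Matrix (Fin n) (Fin n) K) *
        ((((p.1 : ↥(Cfsg.GU n K q)) : GL (Fin n) K) * s p.2 : GL (Fin n) K) :
          Matrix (Fin n) (Fin n) K) = p.2.1
      rw [gram_mul_of_mem_GU φ hφ _ _ (p.1 : ↥(Cfsg.GU n K q)).2, hs2]
    apply Prod.ext
    · apply Subtype.ext
      apply Subtype.ext
      change ((p.1 : ↥(Cfsg.GU n K q)) : GL (Fin n) K) * s p.2 *
        (s (F ⟨((p.1 : ↥(Cfsg.GU n K q)) : GL (Fin n) K) * s p.2, hinv p⟩))⁻¹ =
        ((p.1 : ↥(Cfsg.GU n K q)) : GL (Fin n) K)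
      rw [hFp, mul_inv_cancel_right]
    · exact hFp

/-- **K-UC-K9 (264619)**, exact spec signature -/
theorem card_GL_eq_card_GU_mul_hermUnits [Fintype K] {q : ℕ} (hK : Fintype.card K = q ^ 2)
    (φ : K →+* K) (hφ : ∀ x, φ x = x ^ q) (hφφ : ∀ x, φ (φ x) = x) (a : ℕ) :
    (∏ j : Fin a, ((q ^ 2) ^ a - (q ^ 2) ^ (j : ℕ))) =
      Nat.card ↥(Cfsg.GU a K q) * hermUnits φ a :=
  card_GL_eq_card_GU_mul_hermUnits_of hK φ a (fun u => card_centralizer_GL_eq_mul hK φ hφ hφφ u)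

end main

end Cfsg.Agent.Lib.Helper53.UC
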