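import Mathlib
import Cfsg.Agent.Lib.Helper87.BisetFocal
import Cfsg.Agent.Lib.Helper14.TransferX

set_option autoImplicit false
set_option linter.style.haveILetI false

/-!
The transfer of a biset `BSet m` over `T × T` (with free second factor), evaluated at an element of the first factor,
is the product over the components `(T × T) ⧸ D` of the group transfers `T → imgL D`.
-/

namespace Cfsg.Agent.Lib.Helper53.Yo

open Cfsg.Agent.Lib.Helper87

section Graph

variable {T : Type*} [Group T] {A : Type*} [CommGroup A]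

/-- The first projection on a subgroup of `T × T`. -/
def fstOn (D : Subgroup (T × T)) : D →* T := (MonoidHom.fst T T).comp D.subtype

/-- The second projection on a subgroup of `T × T`. -/
def sndOn (D : Subgroup (T × T)) : D →* T := (MonoidHom.snd T T).comp D.subtype

/-- The image of the first projection. -/
abbrev imgL (D : Subgroup (T × T)) : Subgroup T := (fstOn D).range

theorem mem_imgL {D : Subgroup (T × T)} {a : T} : a ∈ imgL D ↔ ∃ b : T, (a, b) ∈ D := by
  constructor
  · rintro ⟨⟨⟨a', b⟩, h⟩, rfl⟩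
    exact ⟨b, h⟩
  · rintro ⟨b, h⟩
    exact ⟨⟨(a, b), h⟩, rfl⟩

/-- `D` meets `1 × T` trivially. -/
def IsGraph (D : Subgroup (T × T)) : Prop := ∀ t : T, ((1 : T), t) ∈ D → t = 1

theorem fstOn_injective {D : Subgroup (T × T)} (hD : IsGraph D) : Function.Injective (fstOn D) := by
  rw [injective_iff_map_eq_one]
  rintro ⟨⟨a, b⟩, h⟩ h1
  have ha : a = 1 := h1
  subst ha
  have hb := hD b h
  subst hb
  rfl

/-- The homomorphism `a ↦ κ(b)⁻¹` for `(a, b) ∈ D`. -/
noncomputable def phiD (κ : T →* A) (D : Subgroup (T × T)) : imgL D →* A := by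
  classical
  exact if hD : IsGraph D then
    ((κ.comp (sndOn D)).comp (MonoidHom.ofInjective (fstOn_injective hD)).symm.toMonoidHom)⁻¹
  else 1

theorem phiD_apply (κ : T →* A) {D : Subgroup (T × T)} (hD : IsGraph D) {a b : T} (hab : (a, b) ∈ D)
    (ha : a ∈ imgL D) : phiD κ D ⟨a, ha⟩ = (κ b)⁻¹ := by
  unfold phiD
  rw [dif_pos hD]
  have h1 : (MonoidHom.ofInjective (fstOn_injective hD)).symm ⟨a, ha⟩ = ⟨(a, b), hab⟩ := by
    rw [MulEquiv.symm_apply_eq]
    apply Subtype.ext
    rfl
  show (κ (sndOn D ((MonoidHom.ofInjective (fstOn_injective hD)).symm ⟨a, ha⟩)))⁻¹ = _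
  rw [h1]
  rfl

end Graph

section Bridge

variable {T : Type*} [Group T] {A : Type*} [CommGroup A] (m : Subgroup (T × T) → ℕ)

/-- The component of a right orbit of `BSet m`. -/
def lab : RightOrb T (BSet m) → BIdx m :=
  Quotient.lift (fun x : BSet m => x.1) (by rintro x y ⟨t, rfl⟩; rfl)

theorem lab_orbOf (x : BSet m) : lab m (orbOf (S := T) x) = x.1 := rfl

variable {m}

/-- The point `(a, b) D` of the component `j`. -/
def pt (j : BIdx m) (a b : T) : BSet m := ⟨j, (((a, b) : T × T) : (T × T) ⧸ j.1)⟩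

theorem smul_right_pt (j : BIdx m) (a b t : T) :
    (((1 : T), t) : T × T) • pt j a b = pt j a (t * b) := by
  show (⟨j, (((1 : T), t) : T × T) • ((((a, b) : T × T)) : (T × T) ⧸ j.1)⟩ : BSet m) = _
  rw [MulAction.Quotient.smul_mk]
  show (⟨j, ((((1 : T) * a, t * b) : T × T) : (T × T) ⧸ j.1)⟩ : BSet m) = _
  rw [one_mul]
  rfl

theorem smul_left_pt (j : BIdx m) (a b s : T) :
    ((s, (1 : T)) : T × T) • pt j a b = pt j (s * a) b := by
  show (⟨j, ((s, (1 : T)) : T × T) • ((((a, b) : T × T)) : (T × T) ⧸ j.1)⟩ : BSet m) = _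
  rw [MulAction.Quotient.smul_mk]
  show (⟨j, (((s * a, (1 : T) * b) : T × T) : (T × T) ⧸ j.1)⟩ : BSet m) = _
  rw [one_mul]
  rfl

theorem pt_mul_right (j : BIdx m) {h r : T} (hr : (h, r) ∈ j.1) (a b : T) :
    pt j (a * h) b = pt j a (b * r⁻¹) := by
  unfold pt
  congr 1
  rw [QuotientGroup.eq]
  have : ((a * h, b) : T × T)⁻¹ * (a, b * r⁻¹) = ((h, r) : T × T)⁻¹ := by
    apply Prod.ext
    · show (a * h)⁻¹ * a = h⁻¹
      group
    · show b⁻¹ * (b * r⁻¹) = r⁻¹
      group
  rw [this]
  exact j.1.inv_mem hr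

theorem exists_pt (x : BSet m) : ∃ a b : T, x = pt x.1 a b := by
  obtain ⟨j, q⟩ := x
  obtain ⟨⟨a, b⟩, rfl⟩ := QuotientGroup.mk_surjective q
  exact ⟨a, b, rfl⟩

theorem pt_eq_iff (j : BIdx m) (a b a' b' : T) :
    pt j a b = pt j a' b' ↔ (a⁻¹ * a', b⁻¹ * b') ∈ j.1 := by
  unfold pt
  constructor
  · intro h
    have h2 : ((((a, b) : T × T)) : (T × T) ⧸ j.1) = (((a', b') : T × T) : (T × T) ⧸ j.1) :=
      eq_of_heq (Sigma.mk.inj h).2
    rw [QuotientGroup.eq] at h2
    exact h2
  · intro h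
    congr 1
    rw [QuotientGroup.eq]
    exact h

/-- The base point of the right orbit attached to a coset of `imgL D`. -/
noncomputable def xq (j : BIdx m) (q : T ⧸ imgL j.1) : BSet m := pt j q.out 1

theorem orbOf_pt (j : BIdx m) (a b : T) : orbOf (S := T) (pt j a b) = orbOf (pt j a 1) := by
  have : pt j a b = (((1 : T), b) : T × T) • pt j a 1 := by
    rw [smul_right_pt, mul_one]
  rw [this, orbOf_smul]

theorem orbOf_pt_eq_xq (j : BIdx m) (a : T) :
    orbOf (S := T) (pt j a 1) = orbOf (xq j (a : T ⧸ imgL j.1)) := by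
  obtain ⟨h, hh⟩ := QuotientGroup.mk_out_eq_mul (imgL j.1) a
  obtain ⟨r, hr⟩ := mem_imgL.mp h.2
  unfold xq
  rw [hh, pt_mul_right j hr, orbOf_pt j a (1 * r⁻¹)]

theorem xq_injective (j : BIdx m) : Function.Injective (fun q : T ⧸ imgL j.1 => orbOf (S := T) (xq j q)) := by
  intro q q' h
  obtain ⟨t, ht⟩ := orbOf_eq_iff.mp h
  unfold xq at ht
  rw [smul_right_pt, pt_eq_iff] at ht
  have h1 : q.out⁻¹ * q'.out ∈ imgL j.1 := mem_imgL.mpr ⟨_, ht⟩
  have h2 : ((q.out : T) : T ⧸ imgL j.1) = ((q'.out : T) : T ⧸ imgL j.1) := QuotientGroup.eq.mpr h1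
  rwa [QuotientGroup.out_eq', QuotientGroup.out_eq'] at h2

theorem exists_xq_of_lab {j : BIdx m} {i : RightOrb T (BSet m)} (h : lab m i = j) :
    ∃ q : T ⧸ imgL j.1, orbOf (S := T) (xq j q) = i := by
  induction i using Quotient.inductionOn with
  | _ x =>
    have hx : x.1 = j := h
    subst hx
    obtain ⟨a, b, hab⟩ := exists_pt x
    refine ⟨(a : T ⧸ imgL x.1.1), ?_⟩
    rw [← orbOf_pt_eq_xq, ← orbOf_pt x.1 a b, ← hab]
    rfl

end Bridge

section Main

variable {T : Type*} [Group T] {A : Type*} [CommGroup A] {m : Subgroup (T × T) → ℕ}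
  (hfree : ∀ (t : T) (x : BSet m), (((1 : T), t) : T × T) • x = x → t = 1)
  {σ : RightOrb T (BSet m) → BSet m} (hσ : IsSection σ)

include hfree in
theorem isGraph_of_free (j : BIdx m) : IsGraph j.1 := by
  intro t ht
  apply hfree t (pt j 1 1)
  rw [smul_right_pt, pt_eq_iff]
  have : (((1 : T)⁻¹ * 1, (t * 1)⁻¹ * 1) : T × T) = ((1, t) : T × T)⁻¹ := by simp
  rw [this]
  exact j.1.inv_mem ht

include hfree in
theorem coc_left_section (v : T) (x : BSet m) :
    coc hσ ((leftHom T (BSet m) v : Equiv.Perm (BSet m)) (σ (orbOf x))) =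
      (coc hσ x)⁻¹ * coc hσ (((v, (1 : T)) : T × T) • x) := by
  have h1 : σ (orbOf x) = (((1 : T), (coc hσ x)⁻¹) : T × T) • x := by
    calc σ (orbOf x)
        = (((1 : T), (coc hσ x)⁻¹) : T × T) • ((((1 : T), coc hσ x) : T × T) • σ (orbOf x)) := by
          rw [smul_smul]
          have : ((((1 : T), (coc hσ x)⁻¹) : T × T) * (((1 : T), coc hσ x) : T × T)) = 1 := by simp
          rw [this, one_smul]
      _ = (((1 : T), (coc hσ x)⁻¹) : T × T) • x := by rw [coc_spec]
  rw [leftHom_apply, h1, smul_smul]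
  have h2 : (((v, (1 : T)) : T × T) * (((1 : T), (coc hσ x)⁻¹) : T × T)) =
      (((1 : T), (coc hσ x)⁻¹) : T × T) * ((v, (1 : T)) : T × T) := by simp
  rw [h2, mul_smul, coc_smul hσ hfree]

theorem out_conj_mem (Q : Subgroup T) (v : T) (q : T ⧸ Q) : (v • q).out⁻¹ * v * q.out ∈ Q := by
  have h1 : (((v • q).out : T) : T ⧸ Q) = ((v * q.out : T) : T ⧸ Q) := by
    rw [QuotientGroup.out_eq']
    have : ((v * q.out : T) : T ⧸ Q) = v • ((q.out : T) : T ⧸ Q) := rfl
    rw [this, QuotientGroup.out_eq']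
  have h2 := QuotientGroup.eq.mp h1
  rwa [← mul_assoc] at h2

include hfree in
theorem coc_left_xq (j : BIdx m) (κ : T →* A) (v : T) (q : T ⧸ imgL j.1) :
    κ (coc hσ (((v, (1 : T)) : T × T) • xq j q)) =
      phiD κ j.1 ⟨(v • q).out⁻¹ * v * q.out, out_conj_mem (imgL j.1) v q⟩ * κ (coc hσ (xq j (v • q))) := by
  have hmem := out_conj_mem (imgL j.1) v q
  obtain ⟨r, hr⟩ := mem_imgL.mp hmem
  have h1 : ((v, (1 : T)) : T × T) • xq j q = (((1 : T), r⁻¹) : T × T) • xq j (v • q) := by
    unfold xq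
    rw [smul_left_pt, smul_right_pt]
    have h2 : v * q.out = (v • q).out * ((v • q).out⁻¹ * v * q.out) := by group
    rw [h2, pt_mul_right j hr, one_mul, mul_one]
  rw [h1, coc_smul hσ hfree, map_mul, map_inv, phiD_apply κ (isGraph_of_free hfree j) hr]

include hfree in
/-- The contribution of a component is a group transfer. -/
theorem comp_prod [Finite T] (j : BIdx m) (κ : T →* A) (v : T) [Fintype (T ⧸ imgL j.1)] :
    ∏ q : T ⧸ imgL j.1,
      κ (coc hσ ((leftHom T (BSet m) v : Equiv.Perm (BSet m)) (σ (orbOf (xq j q))))) =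
      MonoidHom.transfer (phiD κ j.1) v := by
  classical
  have h1 : ∀ q : T ⧸ imgL j.1,
      κ (coc hσ ((leftHom T (BSet m) v : Equiv.Perm (BSet m)) (σ (orbOf (xq j q))))) =
        (κ (coc hσ (xq j q)))⁻¹ *
          (phiD κ j.1 ⟨(v • q).out⁻¹ * v * q.out, out_conj_mem (imgL j.1) v q⟩ *
            κ (coc hσ (xq j (v • q)))) := by
    intro q
    rw [coc_left_section hfree hσ, map_mul, map_inv, coc_left_xq hfree hσ]
  rw [Finset.prod_congr rfl (fun q _ => h1 q), Finset.prod_mul_distrib, Finset.prod_mul_distrib]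
  have h2 : ∏ q : T ⧸ imgL j.1, κ (coc hσ (xq j (v • q))) = ∏ q : T ⧸ imgL j.1, κ (coc hσ (xq j q)) :=
    Fintype.prod_equiv (MulAction.toPerm v) _ _ (fun q => rfl)
  rw [h2, Finset.prod_inv_distrib, mul_comm, mul_assoc, mul_inv_cancel, mul_one]
  rw [Cfsg.Agent.Lib.Helper14.transfer_eq_prod_of_equiv (phiD κ j.1) (Equiv.refl _) Quotient.out
    (fun q => QuotientGroup.out_eq' q) v (fun q => v • q) (fun q => out_conj_mem (imgL j.1) v q)]

theorem filter_lab_eq_image [Finite T] [Fintype (RightOrb T (BSet m))] [DecidableEq (BIdx m)]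
    [DecidableEq (RightOrb T (BSet m))] (j : BIdx m) [Fintype (T ⧸ imgL j.1)] :
    Finset.univ.filter (fun i : RightOrb T (BSet m) => lab m i = j) =
      Finset.univ.image (fun q : T ⧸ imgL j.1 => orbOf (S := T) (xq j q)) := by
  ext i
  simp only [Finset.mem_filter, Finset.mem_univ, true_and, Finset.mem_image]
  constructor
  · intro h
    exact exists_xq_of_lab h
  · rintro ⟨q, rfl⟩
    rfl

include hfree in
/-- **The bridge.**  The biset transfer at an element of the first factor is the product of the group transfers of the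
components. -/
theorem bridge [Finite T] [Fintype (RightOrb T (BSet m))] [Fintype (Subgroup (T × T))] (κ : T →* A) (v : T) :
    transferHom hσ hfree κ (leftHom T (BSet m) v) =
      ∏ D : Subgroup (T × T), (MonoidHom.transfer (phiD κ D) v) ^ m D := by
  classical
  rw [transferHom_apply]
  rw [← Finset.prod_fiberwise (s := Finset.univ) (g := lab m)
    (f := fun i => κ (coc hσ ((leftHom T (BSet m) v : Equiv.Perm (BSet m)) (σ i))))]
  have hcomp : ∀ j : BIdx m,
      ∏ i ∈ Finset.univ.filter (fun i : RightOrb T (BSet m) => lab m i = j),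
        κ (coc hσ ((leftHom T (BSet m) v : Equiv.Perm (BSet m)) (σ i))) =
        MonoidHom.transfer (phiD κ j.1) v := by
    intro j
    haveI : Fintype (T ⧸ imgL j.1) := Fintype.ofFinite _
    rw [filter_lab_eq_image j, Finset.prod_image (fun q _ q' _ h => xq_injective j h)]
    exact comp_prod hfree hσ j κ v
  rw [Finset.prod_congr rfl (fun j _ => hcomp j), Fintype.prod_sigma]
  apply Finset.prod_congr rfl
  intro D _
  show ∏ _y : Fin (m D), MonoidHom.transfer (phiD κ D) v = _
  rw [Finset.prod_const, Finset.card_univ, Fintype.card_fin]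

/-- The number of right orbits. -/
theorem card_rightOrb [Finite T] [Fintype (Subgroup (T × T))] :
    Nat.card (RightOrb T (BSet m)) = ∑ D : Subgroup (T × T), m D * (imgL D).index := by
  classical
  haveI : Fintype (RightOrb T (BSet m)) := Fintype.ofFinite _
  rw [Nat.card_eq_fintype_card, ← Finset.card_univ,
    Finset.card_eq_sum_card_fiberwise (f := lab m) (t := Finset.univ) (fun _ _ => Finset.mem_univ _)]
  have hcomp : ∀ j : BIdx m,
      (Finset.univ.filter (fun i : RightOrb T (BSet m) => lab m i = j)).card = (imgL j.1).index := by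
    intro j
    haveI : Fintype (T ⧸ imgL j.1) := Fintype.ofFinite _
    rw [filter_lab_eq_image j, Finset.card_image_of_injective _ (xq_injective j), Finset.card_univ,
      Subgroup.index_eq_card, Nat.card_eq_fintype_card]
  rw [Finset.sum_congr rfl (fun j _ => hcomp j), Fintype.sum_sigma]
  apply Finset.sum_congr rfl
  intro D _
  show ∑ _y : Fin (m D), (imgL D).index = _
  rw [Finset.sum_const, Finset.card_univ, Fintype.card_fin, smul_eq_mul]

end Main

end Cfsg.Agent.Lib.Helper53.Yo
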