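import Mathlib
import Cfsg.Agent.Lib.Helper53.Yo1
import Cfsg.Agent.Lib.Helper53.YoDefs
import Cfsg.Agent.Lib.Helper14.HallWielandt

set_option autoImplicit false
set_option linter.style.haveILetI false

/-!
Hall–Wielandt evaluation of the transfer into a proper subgroup of a `p`-group without bad configuration.
-/

namespace Cfsg.Agent.Lib.Helper53.Yo

open Cfsg.Agent.Lib.Helper14

section PGroup

variable {T : Type*} [Group T] [Finite T] {A : Type*} [CommGroup A] {p : ℕ} [Fact p.Prime]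

/-- The transfer into a subgroup is a class function. -/
theorem transfer_conj (Q : Subgroup T) (ϕ : Q →* A) (v y : T) :
    MonoidHom.transfer ϕ (y⁻¹ * v * y) = MonoidHom.transfer ϕ v := by
  rw [map_mul, map_mul, map_inv, mul_comm, mul_inv_cancel_left]

/-- If some conjugate of `v` lies in the proper subgroup `Q` and there is no bad configuration, the transfer into `Q` of
a homomorphism to a group of exponent `p` is trivial at `v`. -/
theorem transfer_eq_one_of_conj_mem (hT : IsPGroup p T) (hA : ∀ a : A, a ^ p = 1) (hnb : ¬ Bad p T)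
    (Q : Subgroup T) (hQ : Q ≠ ⊤) (ϕ : Q →* A) (v : T) (h : ∃ y : T, y⁻¹ * v * y ∈ Q) :
    MonoidHom.transfer ϕ v = 1 := by
  obtain ⟨y, hy⟩ := h
  rw [← transfer_conj Q ϕ v y]
  set v' := y⁻¹ * v * y with hv'
  have hgen : Subgroup.zpowers v' ⊔ (⊤ : Subgroup T) = ⊤ := sup_top_eq _
  have hWS : ¬ (⊤ : Subgroup T) ≤ Q := fun hle => hQ (top_le_iff.mp hle)
  obtain ⟨z, -, U₀, hn, hidx, hzU₀, hvU₀, hv₀, ν, heq⟩ :=
    exists_transfer_eq_iterate_comm hT hA Q ϕ hy ⊤ hgen hWS
  rw [heq]
  have hmem : (fun y : T => y⁻¹ * z⁻¹ * y * z)^[p - 1] v' ∈ (frattini ↥U₀).map U₀.subtype := by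
    by_contra hcon
    exact hnb ⟨v', z, U₀, hn, hidx, hzU₀, hvU₀, hcon⟩
  obtain ⟨w, hw, hww⟩ := hmem
  have hker := frattini_le_ker_of_exponent hA ν hw
  rw [MonoidHom.mem_ker] at hker
  rw [← hker]
  congr 1
  apply Subtype.ext
  exact hww.symm

end PGroup

end Cfsg.Agent.Lib.Helper53.Yo
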