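import Mathlib
import Cfsg.Agent.Lib.Helper53.Yo2
import Cfsg.Agent.Lib.Helper87.FusionAut

set_option autoImplicit false
set_option linter.style.haveILetI false

/-!
Yoshida's theorem for fusion systems, core: without a bad configuration in `S`, every homomorphism of `S` into a
commutative group of exponent `p` invariant under `Aut_F(S)` is stable under all maps of the saturated system `F`.
-/

namespace Cfsg.Agent.Lib.Helper53.Yo

open Cfsg Cfsg.FusionSystem Cfsg.Agent.Lib.Helper87 Cfsg.Agent.Lib.Helper14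

variable {Ω : Type*} [Group Ω] {S : Subgroup Ω} {A : Type*} [CommGroup A]

section Twisted

variable {F : FusionSystem S} {D : Subgroup (↥S × ↥S)} {R : Subgroup Ω} {ρ : R →* Ω}

theorem mem_imgL_of_twisted (h : IsTwistedBy F D R ρ) (a : ↥S) :
    a ∈ imgL D ↔ ∃ r : R, (a : Ω) = ρ r := by
  rw [mem_imgL]
  constructor
  · rintro ⟨b, hb⟩
    obtain ⟨r, h1, -⟩ := (h.2 (a, b)).mp hb
    exact ⟨r, h1⟩
  · rintro ⟨r, hr⟩
    exact ⟨⟨r, hom_le F h.1 r.2⟩, (h.2 _).mpr ⟨r, hr, rfl⟩⟩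

theorem isGraph_of_twisted (h : IsTwistedBy F D R ρ) : IsGraph D := by
  intro t ht
  obtain ⟨r, h1, h2⟩ := (h.2 _).mp ht
  have h1' : (1 : Ω) = ρ r := h1
  have hr : r = 1 := by
    apply F.injective_of_mem h.1
    rw [← h1', map_one]
  apply Subtype.ext
  have h2' : (t : Ω) = r := h2
  rw [h2', hr]
  rfl

theorem phiD_of_twisted (lam : ↥S →* A) (h : IsTwistedBy F D R ρ) (r : R) (a : ↥S) (har : (a : Ω) = ρ r)
    (ha : a ∈ imgL D) : phiD lam D ⟨a, ha⟩ = (lam ⟨r, hom_le F h.1 r.2⟩)⁻¹ :=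
  phiD_apply lam (isGraph_of_twisted h) ((h.2 (a, ⟨r, hom_le F h.1 r.2⟩)).mpr ⟨r, har, rfl⟩) ha

end Twisted

/-- On a top component the homomorphism is `lam⁻¹`, if `lam` is invariant under `Aut_F(S)`. -/
theorem phiD_top [Finite S] (F : FusionSystem S) (lam : ↥S →* A)
    (hinv : ∀ α ∈ F.autGroup S, ∀ s : ↥S, lam (α s) = lam s) {D : Subgroup (↥S × ↥S)}
    (hD : D ∈ twisted F) (htop : imgL D = ⊤) (a : ↥S) (ha : a ∈ imgL D) :
    phiD lam D ⟨a, ha⟩ = (lam a)⁻¹ := by
  obtain ⟨R, ρ, h⟩ := hD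
  have hRle : R ≤ S := hom_le F h.1
  haveI : Finite R := finite_of_le hRle
  have hrange : ρ.range = S := by
    apply le_antisymm
    · rintro _ ⟨r, rfl⟩
      exact hom_mem F h.1 r
    · intro s hs
      have hs' : (⟨s, hs⟩ : ↥S) ∈ imgL D := by rw [htop]; trivial
      obtain ⟨r, hr⟩ := (mem_imgL_of_twisted h _).mp hs'
      exact ⟨r, hr.symm⟩
  have hRS : R = S := by
    apply Subgroup.eq_of_le_of_card_ge hRle
    rw [← hrange]
    exact le_of_eq (Nat.card_congr (MonoidHom.ofInjective (F.injective_of_mem h.1)).toEquiv).symm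
  subst hRS
  obtain ⟨r, hr⟩ := (mem_imgL_of_twisted h a).mp ha
  rw [phiD_of_twisted lam h r a hr ha]
  congr 1
  have hα := homEquiv_mem_autGroup F h.1 hrange
  have h1 := hinv _ hα r
  have h2 : (homEquiv F h.1 hrange) r = a := Subtype.ext hr.symm
  have h3 : lam a = lam r := by
    rw [← h2]
    exact h1
  rw [h3]

/-- On a component that is not top the transfer vanishes at `v`, if `lam` is stable at the elements of smaller order. -/
theorem transfer_eq_one_of_ne_top [Finite S] (p : ℕ) [Fact p.Prime] (hS : IsPGroup p S) (F : FusionSystem S)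
    (hA : ∀ a : A, a ^ p = 1) (hnb : ¬ Bad p ↥S) (lam : ↥S →* A) {D : Subgroup (↥S × ↥S)}
    (hD : D ∈ twisted F) (hne : imgL D ≠ ⊤) (v : ↥S)
    (ih : ∀ (P : Subgroup Ω) (φ : P →* Ω) (hφ : φ ∈ F.Hom P) (u : P), orderOf (u : Ω) < orderOf (v : Ω) →
      lam ⟨φ u, hom_mem F hφ u⟩ = lam ⟨u, hom_le F hφ u.2⟩) :
    MonoidHom.transfer (phiD lam D) v = 1 := by
  have hp : p.Prime := Fact.out
  by_cases h : ∃ y : ↥S, y⁻¹ * v * y ∈ imgL D
  · exact transfer_eq_one_of_conj_mem hS hA hnb _ hne _ v h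
  · push Not at h
    obtain ⟨k, hk⟩ := IsPGroup.iff_orderOf.mp hS v
    apply transfer_eq_one_of_no_fixed (p := p) (imgL D) (phiD lam D) v ⟨k, hk⟩ h
    intro n y hmem hpn
    obtain ⟨R, ρ, hρ⟩ := hD
    obtain ⟨r, hr⟩ := (mem_imgL_of_twisted hρ _).mp hmem
    rw [phiD_of_twisted lam hρ r _ hr hmem, inv_eq_one]
    by_cases hvn : v ^ n = 1
    · have h1 : ρ r = 1 := by
        rw [← hr, hvn]
        simp
      have h2 : r = 1 := by
        apply F.injective_of_mem hρ.1
        rw [h1, map_one]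
      have h3 : (⟨r, hom_le F hρ.1 r.2⟩ : ↥S) = 1 := by
        apply Subtype.ext
        rw [h2]
        rfl
      rw [h3, map_one]
    · have hlt : orderOf (v ^ n) < orderOf v := orderOf_pow_lt_of_dvd hk hpn hvn
      have ho1 : orderOf ((r : R) : Ω) = orderOf (v ^ n) := by
        rw [Subgroup.orderOf_coe, ← orderOf_injective ρ (F.injective_of_mem hρ.1) r, ← hr,
          Subgroup.orderOf_coe]
        have := (MulAut.conj y⁻¹).orderOf_eq (v ^ n)
        rw [← this]
        simp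
      have ho2 : orderOf ((r : R) : Ω) < orderOf (v : Ω) := by
        rw [ho1, Subgroup.orderOf_coe]
        exact hlt
      have h1 := ih R ρ hρ.1 r ho2
      rw [← h1]
      have h2 : (⟨ρ r, hom_mem F hρ.1 r⟩ : ↥S) = y⁻¹ * v ^ n * y := Subtype.ext hr.symm
      rw [h2, map_mul, map_mul, map_inv, mul_comm, mul_inv_cancel_left, map_pow]
      obtain ⟨c, rfl⟩ := hpn
      rw [pow_mul, hA, one_pow]

end Cfsg.Agent.Lib.Helper53.Yo
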