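import Mathlib
import Cfsg.Agent.Lib.Helper53.Yo3

set_option autoImplicit false
set_option linter.style.haveILetI false

/-!
Yoshida's theorem for fusion systems, core: the induction.
-/

namespace Cfsg.Agent.Lib.Helper53.Yo

open Cfsg Cfsg.FusionSystem Cfsg.Agent.Lib.Helper87 Cfsg.Agent.Lib.Helper14

variable {Ω : Type*} [Group Ω] {S : Subgroup Ω} {A : Type*} [CommGroup A]

/-- Evaluation of the product of the component transfers. -/
theorem prod_transfer_eq [Finite S] [Fintype (Subgroup (↥S × ↥S))] [DecidablePred fun D : Subgroup (↥S × ↥S) => imgL D = ⊤]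
    (p : ℕ) [Fact p.Prime] (hS : IsPGroup p S) (F : FusionSystem S)
    (hA : ∀ a : A, a ^ p = 1) (hnb : ¬ Bad p ↥S) (lam : ↥S →* A)
    (hinv : ∀ α ∈ F.autGroup S, ∀ s : ↥S, lam (α s) = lam s)
    (m : Subgroup (↥S × ↥S) → ℕ) (hm : ∀ D, D ∉ twisted F → m D = 0) (v : ↥S)
    (ih : ∀ (P : Subgroup Ω) (φ : P →* Ω) (hφ : φ ∈ F.Hom P) (u : P), orderOf (u : Ω) < orderOf (v : Ω) →
      lam ⟨φ u, hom_mem F hφ u⟩ = lam ⟨u, hom_le F hφ u.2⟩) :
    ∏ D : Subgroup (↥S × ↥S), (MonoidHom.transfer (phiD lam D) v) ^ m D =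
      ((lam v)⁻¹) ^ ∑ D : Subgroup (↥S × ↥S), if imgL D = ⊤ then m D else 0 := by
  rw [← Finset.prod_pow_eq_pow_sum]
  apply Finset.prod_congr rfl
  intro D _
  by_cases hmD : m D = 0
  · rw [hmD, pow_zero]
    split_ifs <;> rw [pow_zero]
  · have hD : D ∈ twisted F := by
      by_contra h
      exact hmD (hm D h)
    by_cases htop : imgL D = ⊤
    · rw [if_pos htop, transfer_eq_of_eq_top (imgL D) htop (phiD lam D) v, phiD_top F lam hinv hD htop]
    · rw [if_neg htop, pow_zero, transfer_eq_one_of_ne_top p hS F hA hnb lam hD htop v ih, one_pow]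

/-- The number of top components is prime to `p` if the number of right orbits is. -/
theorem not_dvd_top_count [Finite S] [Fintype (Subgroup (↥S × ↥S))] [DecidablePred fun D : Subgroup (↥S × ↥S) => imgL D = ⊤]
    (p : ℕ) [Fact p.Prime] (hS : IsPGroup p S) (m : Subgroup (↥S × ↥S) → ℕ)
    (h : ¬ p ∣ Nat.card (RightOrb ↥S (BSet m))) :
    ¬ p ∣ ∑ D : Subgroup (↥S × ↥S), if imgL D = ⊤ then m D else 0 := by
  have hp : p.Prime := Fact.out
  intro hdvd
  apply h
  rw [card_rightOrb]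
  have hsplit : ∑ D : Subgroup (↥S × ↥S), m D * (imgL D).index =
      (∑ D : Subgroup (↥S × ↥S), if imgL D = ⊤ then m D else 0) +
        ∑ D : Subgroup (↥S × ↥S), if imgL D = ⊤ then 0 else m D * (imgL D).index := by
    rw [← Finset.sum_add_distrib]
    apply Finset.sum_congr rfl
    intro D _
    by_cases htop : imgL D = ⊤
    · rw [if_pos htop, if_pos htop, htop, Subgroup.index_top, mul_one, add_zero]
    · rw [if_neg htop, if_neg htop, zero_add]
  rw [hsplit]
  apply dvd_add hdvd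
  apply Finset.dvd_sum
  intro D _
  by_cases htop : imgL D = ⊤
  · rw [if_pos htop]
    exact dvd_zero p
  · rw [if_neg htop]
    apply Dvd.dvd.mul_left
    obtain ⟨n, hn⟩ := hS.index (imgL D)
    rw [hn]
    apply dvd_pow_self
    rintro rfl
    rw [pow_zero] at hn
    exact htop (Subgroup.index_eq_one.mp hn)

/-- **Yoshida's theorem for fusion systems, core.**  Without a bad configuration in `S`, a homomorphism of `S` into a
commutative group of exponent `p` which is invariant under `Aut_F(S)` is stable under all maps of `F`. -/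
theorem stable_of_not_bad [Finite S] (p : ℕ) [Fact p.Prime] (hS : IsPGroup p S) (F : FusionSystem S)
    (hF : F.IsSaturated p) (hA : ∀ a : A, a ^ p = 1) (lam : ↥S →* A)
    (hinv : ∀ α ∈ F.autGroup S, ∀ s : ↥S, lam (α s) = lam s) (hnb : ¬ Bad p ↥S) :
    ∀ (P : Subgroup Ω) (φ : P →* Ω) (hφ : φ ∈ F.Hom P) (u : P),
      lam ⟨φ u, (F.le_of_mem hφ).2 u⟩ = lam ⟨u, (F.le_of_mem hφ).1 u.2⟩ := by
  classical
  have hp : p.Prime := Fact.out
  haveI : Fintype (Subgroup (↥S × ↥S)) := Fintype.ofFinite _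
  obtain ⟨m, hm, hbal, k', hcard, hpk'⟩ := exists_characteristic_bset p hS F hF
  have hfree : ∀ (t : ↥S) (x : BSet m), (((1 : ↥S), t) : ↥S × ↥S) • x = x → t = 1 := bset_free F m hm
  obtain ⟨σ, hσ⟩ := exists_isSection (S := ↥S) (X := BSet m)
  haveI : Fintype (RightOrb ↥S (BSet m)) := Fintype.ofFinite _
  set τ := transferHom hσ hfree lam with hτ
  set t : ↥S →* A := τ.comp (leftHom ↥S (BSet m)) with ht
  -- stability of `t`
  have hstable : ∀ (P : Subgroup Ω) (φ : P →* Ω) (hφ : φ ∈ F.Hom P) (u : P),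
      t ⟨φ u, hom_mem F hφ u⟩ = t ⟨u, hom_le F hφ u.2⟩ := by
    intro P φ hφ u
    obtain ⟨g, hg⟩ := exists_conj_of_balanced F m hm hbal (hom_le F hφ) hφ (hom_mem F hφ)
    show τ (leftHom ↥S (BSet m) ⟨φ u, _⟩) = τ (leftHom ↥S (BSet m) ⟨u, _⟩)
    rw [hg u, map_mul, map_mul, map_inv, mul_comm, ← mul_assoc, inv_mul_cancel, one_mul]
  -- the count
  set k := ∑ D : Subgroup (↥S × ↥S), if imgL D = ⊤ then m D else 0 with hk
  have hpk : ¬ p ∣ k := by
    apply not_dvd_top_count p hS m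
    have h1 := card_eq_card_rightOrb_mul hσ hfree
    rw [hcard, mul_comm] at h1
    have h2 : k' = Nat.card (RightOrb ↥S (BSet m)) := Nat.eq_of_mul_eq_mul_right Nat.card_pos h1
    rw [← h2]
    exact hpk'
  -- evaluation
  have heval : ∀ v : ↥S,
      (∀ (P : Subgroup Ω) (φ : P →* Ω) (hφ : φ ∈ F.Hom P) (u : P), orderOf (u : Ω) < orderOf (v : Ω) →
        lam ⟨φ u, hom_mem F hφ u⟩ = lam ⟨u, hom_le F hφ u.2⟩) → t v = ((lam v)⁻¹) ^ k := by
    intro v ih
    show τ (leftHom ↥S (BSet m) v) = _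
    rw [hτ, bridge hfree hσ lam v]
    exact prod_transfer_eq p hS F hA hnb lam hinv m hm v ih
  -- the induction
  have key : ∀ n : ℕ, ∀ (P : Subgroup Ω) (φ : P →* Ω) (hφ : φ ∈ F.Hom P) (u : P), orderOf (u : Ω) = n →
      lam ⟨φ u, hom_mem F hφ u⟩ = lam ⟨u, hom_le F hφ u.2⟩ := by
    intro n
    induction n using Nat.strong_induction_on with
    | _ n ih =>
      intro P φ hφ u hn
      have ih' : ∀ (P' : Subgroup Ω) (φ' : P' →* Ω) (hφ' : φ' ∈ F.Hom P') (u' : P'),
          orderOf (u' : Ω) < n → lam ⟨φ' u', hom_mem F hφ' u'⟩ = lam ⟨u', hom_le F hφ' u'.2⟩ :=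
        fun P' φ' hφ' u' hlt => ih _ hlt P' φ' hφ' u' rfl
      have e1 := heval ⟨u, hom_le F hφ u.2⟩ (by
        intro P' φ' hφ' u' hlt
        exact ih' P' φ' hφ' u' (by rw [← hn]; exact hlt))
      have hord : orderOf (φ u) = n := by
        rw [orderOf_injective φ (F.injective_of_mem hφ) u, ← hn, Subgroup.orderOf_coe]
      have e2 := heval ⟨φ u, hom_mem F hφ u⟩ (by
        intro P' φ' hφ' u' hlt
        exact ih' P' φ' hφ' u' (by rw [← hord]; exact hlt))
      have e3 := hstable P φ hφ u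
      rw [e1, e2] at e3
      -- `(lam (φ u))⁻¹ ^ k = (lam u)⁻¹ ^ k`
      set a := lam ⟨φ u, hom_mem F hφ u⟩ with ha
      set b := lam ⟨u, hom_le F hφ u.2⟩ with hb
      have h1 : (a * b⁻¹) ^ k = 1 := by
        rw [mul_pow]
        rw [inv_pow, inv_pow] at e3
        rw [inv_pow, ← e3]
        exact mul_inv_cancel _
      have h2 : (a * b⁻¹) ^ p = 1 := hA _
      have h3 := pow_gcd_eq_one.mpr ⟨h1, h2⟩
      have hcop : Nat.gcd k p = 1 := by
        rw [Nat.gcd_comm]
        exact (Nat.Prime.coprime_iff_not_dvd hp).mpr hpk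
      rw [hcop, pow_one] at h3
      exact mul_inv_eq_one.mp h3
  intro P φ hφ u
  exact key _ P φ hφ u rfl

end Cfsg.Agent.Lib.Helper53.Yo
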